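import Groth.Agent.Lib.Helper89.SchFinLib
import Mathlib.LinearAlgebra.TensorProduct.Pi

/-!
# Criteria for `IsBCAlong`
-/

set_option autoImplicit false

open TensorProduct

namespace Groth.Agent.Lib.Helper89.SchFinBC

open _root_.SchFin

universe u

theorem subsingleton_tensor_right (R S M : Type*) [CommRing R] [AddCommGroup S] [Module R S]
    [AddCommGroup M] [Module R M] [Subsingleton M] : Subsingleton (S ⊗[R] M) := by
  refine ⟨fun a b => ?_⟩
  have h0 : ∀ t : S ⊗[R] M, t = 0 := by
    intro t
    induction t using TensorProduct.induction_on with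
    | zero => rfl
    | tmul s m => rw [Subsingleton.elim m 0, tmul_zero]
    | add x y hx hy => rw [hx, hy, add_zero]
  rw [h0 a, h0 b]

/-- general bijectivity criterion -/
theorem isBaseChange_of_bijective {R S M N : Type*} [CommRing R] [CommRing S] [Algebra R S]
    [AddCommGroup M] [Module R M] [AddCommGroup N] [Module R N] [Module S N]
    [IsScalarTower R S N] (f : M →ₗ[R] N)
    (Φ : S ⊗[R] M →+ N) (hΦ : ∀ s m, Φ (s ⊗ₜ m) = s • f m) (hb : Function.Bijective Φ) :
    IsBaseChange S f := by
  unfold IsBaseChange IsTensorProduct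
  have : ∀ t : S ⊗[R] M, (TensorProduct.lift
      (((Algebra.linearMap S <| Module.End S (M →ₗ[R] N)).flip f).restrictScalars R)) t = Φ t := by
    intro t
    induction t using TensorProduct.induction_on with
    | zero => rw [map_zero, map_zero]
    | tmul s m => rw [hΦ]; simp
    | add x y hx hy => rw [map_add, map_add, hx, hy]
  have e : ⇑(TensorProduct.lift
      (((Algebra.linearMap S <| Module.End S (M →ₗ[R] N)).flip f).restrictScalars R)) = ⇑Φ :=
    funext this
  rw [e]
  exact hb

/-- both sides trivial -/
theorem isBCAlong_of_subsingleton {R S : Type u} [CommRing R] [CommRing S] (g : R →+* S)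
    {M N : Type u} [AddCommGroup M] [AddCommGroup N] [Module R M] [Module S N] (f : M →ₛₗ[g] N)
    [Subsingleton M] [Subsingleton N] : IsBCAlong g f := by
  let alg : Algebra R S := g.toAlgebra
  let modN : Module R N := Module.compHom N g
  have tower : IsScalarTower R S N := IsScalarTower.of_algebraMap_smul fun _ _ => rfl
  have : Subsingleton (S ⊗[R] M) := subsingleton_tensor_right R S M
  let fL : M →ₗ[R] N := { toFun := f, map_add' := f.map_add, map_smul' := f.map_smulₛₗ }
  have h : IsBaseChange S fL :=
    isBaseChange_of_bijective fL 0 (fun s m => Subsingleton.elim _ _)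
      ⟨fun a b _ => Subsingleton.elim a b, fun n => ⟨0, Subsingleton.elim _ _⟩⟩
  exact h

/-- the target is trivial and so is the tensor product -/
theorem isBCAlong_of_subsingleton_tensor {R S : Type u} [CommRing R] [CommRing S] (g : R →+* S)
    {M N : Type u} [AddCommGroup M] [AddCommGroup N] [Module R M] [Module S N] (f : M →ₛₗ[g] N)
    [Subsingleton N]
    (h : letI : Algebra R S := g.toAlgebra; Subsingleton (S ⊗[R] M)) : IsBCAlong g f := by
  let alg : Algebra R S := g.toAlgebra
  let modN : Module R N := Module.compHom N g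
  have tower : IsScalarTower R S N := IsScalarTower.of_algebraMap_smul fun _ _ => rfl
  have : Subsingleton (S ⊗[R] M) := h
  let fL : M →ₗ[R] N := { toFun := f, map_add' := f.map_add, map_smul' := f.map_smulₛₗ }
  have h : IsBaseChange S fL :=
    isBaseChange_of_bijective fL 0 (fun s m => Subsingleton.elim _ _)
      ⟨fun a b _ => Subsingleton.elim a b, fun n => ⟨0, Subsingleton.elim _ _⟩⟩
  exact h

/-- Both modules are identified with a ring `K` on which `S` acts through a ring map, compatibly,
and `g` is an epimorphism. -/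
theorem isBCAlong_of_eval {R S : Type u} [CommRing R] [CommRing S] (g : R →+* S)
    (hepi : letI : Algebra R S := g.toAlgebra; Algebra.IsEpi R S)
    {M N : Type u} [AddCommGroup M] [AddCommGroup N] [Module R M] [Module S N] (f : M →ₛₗ[g] N)
    {K : Type u} [CommRing K] (ψS : S →+* K) (eM : M → K) (eN : N → K)
    (heM : Function.Bijective eM) (heN : Function.Bijective eN)
    (hMadd : ∀ m m', eM (m + m') = eM m + eM m')
    (hMsmul : ∀ (r : R) (m : M), eM (r • m) = ψS (g r) * eM m)
    (hNadd : ∀ n n', eN (n + n') = eN n + eN n')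
    (hNsmul : ∀ (s : S) (n : N), eN (s • n) = ψS s * eN n)
    (hcomp : ∀ m, eN (f m) = eM m) : IsBCAlong g f := by
  let alg : Algebra R S := g.toAlgebra
  have hepi' : Algebra.IsEpi R S := hepi
  let modN : Module R N := Module.compHom N g
  have tower : IsScalarTower R S N := IsScalarTower.of_algebraMap_smul fun _ _ => rfl
  let algK : Algebra S K := ψS.toAlgebra
  let algRK : Algebra R K := (ψS.comp g).toAlgebra
  have towerK : IsScalarTower R S K := IsScalarTower.of_algebraMap_eq fun _ => rfl
  let fL : M →ₗ[R] N := { toFun := f, map_add' := f.map_add, map_smul' := f.map_smulₛₗ }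
  -- eM as a linear equivalence
  let eML : M →ₗ[R] K :=
    { toFun := eM, map_add' := hMadd, map_smul' := fun r m => by
        rw [hMsmul]; rfl }
  let eME : M ≃ₗ[R] K := LinearEquiv.ofBijective eML heM
  -- the canonical map
  let Φ : S ⊗[R] M →ₗ[R] N := TensorProduct.lift
      (((Algebra.linearMap S <| Module.End S (M →ₗ[R] N)).flip fL).restrictScalars R)
  have hΦ : ∀ s m, Φ (s ⊗ₜ m) = s • fL m := fun s m => by simp [Φ]
  -- comparison with the multiplication S ⊗ K → K
  let μ : S ⊗[R] K →ₗ[R] K :=
    TensorProduct.lift (LinearMap.restrictScalars₁₂ R R (LinearMap.lsmul S K))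
  have hμ : Function.Injective μ := Algebra.injective_lift_lsmul R S K
  have hsq : ∀ t : S ⊗[R] M, eN (Φ t) = μ (eME.toLinearMap.lTensor S t) := by
    intro t
    induction t using TensorProduct.induction_on with
    | zero => 
      rw [map_zero, map_zero, map_zero]
      have := hNadd 0 0
      rw [add_zero] at this
      exact (add_eq_left.mp this.symm)
    | tmul s m =>
      rw [hΦ, hNsmul, LinearMap.lTensor_tmul]
      change _ = s • eM m
      rw [Algebra.smul_def]
      congr 1
      exact hcomp m
    | add x y hx hy => rw [map_add, hNadd, hx, hy, map_add, map_add]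
  have h : IsBaseChange S fL := by
    refine isBaseChange_of_bijective fL Φ.toAddMonoidHom hΦ ⟨?_, ?_⟩
    · intro t t' htt'
      have h1 : eN (Φ t) = eN (Φ t') := congrArg eN htt'
      rw [hsq, hsq] at h1
      have h2 := hμ h1
      exact (LinearEquiv.lTensor S eME).injective h2
    · intro n
      obtain ⟨m, hm⟩ := heM.2 (eN n)
      refine ⟨1 ⊗ₜ m, ?_⟩
      change Φ (1 ⊗ₜ m) = n
      rw [hΦ, one_smul]
      apply heN.1
      rw [← hm]
      exact hcomp m
  exact h

/-- finite products of base changes are base changes -/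
theorem isBCAlong_pi {R S : Type u} [CommRing R] [CommRing S] (g : R →+* S)
    {J : Type} [Finite J] {M N : J → Type u} [∀ j, AddCommGroup (M j)] [∀ j, AddCommGroup (N j)]
    [∀ j, Module R (M j)] [∀ j, Module S (N j)] (f : ∀ j, M j →ₛₗ[g] N j)
    (hf : ∀ j, IsBCAlong g (f j)) (F : (∀ j, M j) →ₛₗ[g] (∀ j, N j))
    (hF : ∀ m j, F m j = f j (m j)) : IsBCAlong g F := by
  classical
  cases nonempty_fintype J
  let alg : Algebra R S := g.toAlgebra
  let modN : ∀ j, Module R (N j) := fun j => Module.compHom (N j) g
  have tower : ∀ j, IsScalarTower R S (N j) :=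
    fun j => IsScalarTower.of_algebraMap_smul fun _ _ => rfl
  let modNpi : Module R (∀ j, N j) := Module.compHom _ g
  have towerpi : IsScalarTower R S (∀ j, N j) := IsScalarTower.of_algebraMap_smul fun _ _ => rfl
  let fL : ∀ j, M j →ₗ[R] N j := fun j =>
    { toFun := f j, map_add' := (f j).map_add, map_smul' := (f j).map_smulₛₗ }
  have hfL : ∀ j, IsBaseChange S (fL j) := fun j => hf j
  let FL : (∀ j, M j) →ₗ[R] (∀ j, N j) :=
    { toFun := F, map_add' := F.map_add, map_smul' := F.map_smulₛₗ }
  let e1 : S ⊗[R] (∀ j, M j) ≃ₗ[S] ∀ j, S ⊗[R] M j := TensorProduct.piRight R S S M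
  let e2 : (∀ j, S ⊗[R] M j) ≃ₗ[S] ∀ j, N j := LinearEquiv.piCongrRight fun j => (hfL j).equiv
  have h : IsBaseChange S FL := by
    refine isBaseChange_of_bijective FL (e1.trans e2).toLinearMap.toAddMonoidHom ?_
      (e1.trans e2).bijective
    intro s m
    funext j
    change (hfL j).equiv ((TensorProduct.piRight R S S M (s ⊗ₜ m)) j) = s • F m j
    rw [TensorProduct.piRight_apply, TensorProduct.piRightHom_tmul, IsBaseChange.equiv_tmul, hF]
    rfl
  exact h

end Groth.Agent.Lib.Helper89.SchFinBC
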