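import Mathlib.AlgebraicGeometry.Morphisms.FlatMono
import Mathlib.AlgebraicGeometry.Morphisms.UniversallyOpen
import Mathlib.AlgebraicGeometry.Morphisms.Flat
import Mathlib.AlgebraicGeometry.Morphisms.FinitePresentation
import Mathlib.AlgebraicGeometry.Sites.Fpqc
import Groth.Agent.S0113

/-!
# Properties that are fppf-local on the source

* `locallyOfFiniteType_of_fppf_comp`: `f` fppf cover, `f ≫ q` locally of finite type ⇒ `q` l.f.t.
  (scheme version of `Groth.Agent.S0113.result`; proof adapted from `Groth.Agent.S0114`).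
* `SingleDescent P`: `P` descends along single fppf covers of the source;
  `of_family`: then it descends along jointly surjective fppf families;
  `isLocalAtSource_fppf`: hence `P.IsLocalAtSource Scheme.fppfPrecoverage`.
-/

set_option autoImplicit false
set_option linter.style.haveILetI false
open CategoryTheory CategoryTheory.Limits AlgebraicGeometry Opposite MorphismProperty
universe u

namespace Groth.Agent.Lib.Helper89.FppfSource

set_option backward.isDefEq.respectTransparency.types false in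
/-- Local finite type descends along an fppf cover of the source. -/
theorem locallyOfFiniteType_of_fppf_comp {X Y S : Scheme.{u}} (f : X ⟶ Y) (q : Y ⟶ S)
    [Surjective f] [Flat f] [LocallyOfFinitePresentation f] [LocallyOfFiniteType (f ≫ q)] :
    LocallyOfFiniteType q := by
  haveI : MorphismProperty.RespectsRight @LocallyOfFiniteType @IsOpenImmersion :=
    ⟨fun i hi f hf => by
      haveI : IsOpenImmersion i := hi
      haveI : LocallyOfFiniteType f := hf
      exact (inferInstance : LocallyOfFiniteType (f ≫ i))⟩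
  rw [IsZariskiLocalAtSource.iff_exists_resLE (P := @LocallyOfFiniteType)]
  intro y
  obtain ⟨x, rfl⟩ := f.surjective y
  obtain ⟨U, hU, hqU, -⟩ := TopologicalSpace.Opens.isBasis_iff_nbhd.mp S.isBasis_affineOpens
    (TopologicalSpace.Opens.mem_top (q (f x)))
  obtain ⟨V, hV, hfV, eV⟩ := TopologicalSpace.Opens.isBasis_iff_nbhd.mp Y.isBasis_affineOpens
    (show f x ∈ q ⁻¹ᵁ U from hqU)
  obtain ⟨W, hW, hxW, eW⟩ := TopologicalSpace.Opens.isBasis_iff_nbhd.mp X.isBasis_affineOpens
    (show x ∈ f ⁻¹ᵁ V from hfV)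
  have hopen : IsOpen (f '' (W : Set X)) := f.isOpenMap _ W.isOpen
  let O : Y.Opens := ⟨f '' (W : Set X), hopen⟩ ⊓ V
  have hfxO : f x ∈ O := ⟨⟨x, hxW, rfl⟩, hfV⟩
  obtain ⟨b, hbO, hfxb⟩ := hV.exists_basicOpen_le ⟨f x, hfxO⟩ hfV
  have hV' : IsAffineOpen (Y.basicOpen b) := hV.basicOpen b
  have hW' : IsAffineOpen (X.basicOpen (f.appLE V W eW b)) := hW.basicOpen _
  have hW'eq : X.basicOpen (f.appLE V W eW b) = W ⊓ f ⁻¹ᵁ (Y.basicOpen b) :=
    Scheme.basicOpen_appLE f W V eW b
  have e₁ : X.basicOpen (f.appLE V W eW b) ≤ f ⁻¹ᵁ (Y.basicOpen b) := by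
    rw [hW'eq]; exact inf_le_right
  have e₂ : Y.basicOpen b ≤ q ⁻¹ᵁ U := (Y.basicOpen_le b).trans eV
  refine ⟨U, Y.basicOpen b, hfxb, e₂, ?_⟩
  haveI : IsAffine (U : Scheme) := hU
  haveI : IsAffine (Y.basicOpen b : Scheme) := hV'
  haveI : IsAffine (X.basicOpen (f.appLE V W eW b) : Scheme) := hW'
  have hg_flat : Flat (f.resLE _ _ e₁) := IsZariskiLocalAtSource.resLE _ inferInstance
  have hg_fp : LocallyOfFinitePresentation (f.resLE _ _ e₁) :=
    IsZariskiLocalAtSource.resLE _ inferInstance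
  have hg_surj : Surjective (f.resLE _ _ e₁) := by
    refine ⟨fun v => ?_⟩
    have hv : v.1 ∈ O := hbO v.2
    obtain ⟨x', hx'W, hx'⟩ := hv.1
    have hx'W' : x' ∈ X.basicOpen (f.appLE V W eW b) := by
      rw [hW'eq]
      refine ⟨hx'W, ?_⟩
      show f x' ∈ Y.basicOpen b
      rw [hx']
      exact v.2
    refine ⟨⟨x', hx'W'⟩, ?_⟩
    apply (Y.basicOpen b).ι.isOpenEmbedding.injective
    have h1 := congrArg (fun φ => φ.base ⟨x', hx'W'⟩) (Scheme.Hom.resLE_comp_ι f e₁)
    simp only [Scheme.Hom.comp_base, TopCat.comp_app] at h1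
    rw [h1]
    exact hx'
  have hcomp : f.resLE _ _ e₁ ≫ q.resLE U _ e₂ = (f ≫ q).resLE U _
      (e₁.trans ((TopologicalSpace.Opens.map f.base).map (homOfLE e₂)).le) :=
    Scheme.Hom.resLE_comp_resLE f e₁ q e₂
  have hgh_fp : LocallyOfFiniteType (f.resLE _ _ e₁ ≫ q.resLE U _ e₂) := by
    rw [hcomp]
    exact IsZariskiLocalAtSource.resLE _ inferInstance
  have h1 : (f.resLE _ _ e₁).appTop.hom.FaithfullyFlat :=
    (Flat.flat_and_surjective_iff_faithfullyFlat_of_isAffine (f.resLE _ _ e₁)).mp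
      ⟨hg_flat, hg_surj⟩
  have h2 : (f.resLE _ _ e₁).appTop.hom.FinitePresentation :=
    HasRingHomProperty.appTop (P := @LocallyOfFinitePresentation) _ hg_fp
  have h3 : (f.resLE _ _ e₁ ≫ q.resLE U _ e₂).appTop.hom.FiniteType :=
    HasRingHomProperty.appTop (P := @LocallyOfFiniteType) _ hgh_fp
  rw [HasRingHomProperty.iff_of_isAffine (P := @LocallyOfFiniteType)]
  letI algRA : Algebra Γ((U : Scheme), ⊤) Γ((Y.basicOpen b : Scheme), ⊤) :=
    (q.resLE U _ e₂).appTop.hom.toAlgebra
  letI algAB : Algebra Γ((Y.basicOpen b : Scheme), ⊤)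
      Γ((X.basicOpen (f.appLE V W eW b) : Scheme), ⊤) :=
    (f.resLE _ _ e₁).appTop.hom.toAlgebra
  letI algRB : Algebra Γ((U : Scheme), ⊤) Γ((X.basicOpen (f.appLE V W eW b) : Scheme), ⊤) :=
    (f.resLE _ _ e₁ ≫ q.resLE U _ e₂).appTop.hom.toAlgebra
  haveI : IsScalarTower Γ((U : Scheme), ⊤) Γ((Y.basicOpen b : Scheme), ⊤)
      Γ((X.basicOpen (f.appLE V W eW b) : Scheme), ⊤) :=
    IsScalarTower.of_algebraMap_eq (fun r => by
      show (f.resLE _ _ e₁ ≫ q.resLE U _ e₂).appTop.hom r =
        (f.resLE _ _ e₁).appTop.hom ((q.resLE U _ e₂).appTop.hom r)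
      rw [Scheme.Hom.comp_appTop]
      rfl)
  haveI : Algebra.FiniteType Γ((U : Scheme), ⊤)
      Γ((X.basicOpen (f.appLE V W eW b) : Scheme), ⊤) := h3
  haveI : Algebra.FinitePresentation Γ((Y.basicOpen b : Scheme), ⊤)
      Γ((X.basicOpen (f.appLE V W eW b) : Scheme), ⊤) := h2
  haveI : Module.FaithfullyFlat Γ((Y.basicOpen b : Scheme), ⊤)
      Γ((X.basicOpen (f.appLE V W eW b) : Scheme), ⊤) := h1
  exact (Groth.Agent.S0113.result (R := Γ((U : Scheme), ⊤))
    (A := Γ((Y.basicOpen b : Scheme), ⊤))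
    (B := Γ((X.basicOpen (f.appLE V W eW b) : Scheme), ⊤)) :
    Algebra.FiniteType Γ((U : Scheme), ⊤) Γ((Y.basicOpen b : Scheme), ⊤))

/-- `P` descends along single fppf covers of the source. -/
def SingleDescent (P : MorphismProperty Scheme.{u}) : Prop :=
  ∀ {X Y S : Scheme.{u}} (f : X ⟶ Y) (q : Y ⟶ S), Surjective f → Flat f →
    LocallyOfFinitePresentation f → P (f ≫ q) → P q

theorem singleDescent_locallyOfFiniteType : SingleDescent (@LocallyOfFiniteType : MorphismProperty Scheme.{u}) :=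
  fun f q _ _ _ _ ↦ locallyOfFiniteType_of_fppf_comp f q

set_option backward.isDefEq.respectTransparency.types false in
/-- If `g` is flat and locally of finite presentation and `P (g ≫ f)`, then `P` holds for `f`
restricted to the open image of `g`. -/
theorem exists_opens {P : MorphismProperty Scheme.{u}} (hP : SingleDescent P)
    {X' X Y : Scheme.{u}} (g : X' ⟶ X) (f : X ⟶ Y)
    [Flat g] [LocallyOfFinitePresentation g] (h : P (g ≫ f)) :
    ∃ V : X.Opens, (V : Set X) = Set.range g.base ∧ P (V.ι ≫ f) := by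
  let V : X.Opens := ⟨Set.range g.base, g.isOpenMap.isOpen_range⟩
  have hV : IsOpenImmersion V.ι := V.instIsOpenImmersionι
  let g' : X' ⟶ V.toScheme := IsOpenImmersion.lift V.ι g (by simp [V])
  have hg' : g' ≫ V.ι = g := IsOpenImmersion.lift_fac _ _ _
  have hflat : Flat g' :=
    of_postcomp (W := @Flat) g' V.ι hV (by rw [hg']; infer_instance)
  have hfp : LocallyOfFinitePresentation g' :=
    of_postcomp (W := @LocallyOfFinitePresentation) g' V.ι hV (by rw [hg']; infer_instance)
  have hsurj : Surjective g' := ⟨fun ⟨x, ⟨y, hy⟩⟩ ↦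
    ⟨y, by apply V.ι.injective; simp [← Scheme.Hom.comp_apply, g', hy]⟩⟩
  have h' : P (g' ≫ V.ι ≫ f) := by rw [← Category.assoc, hg']; exact h
  exact ⟨V, rfl, hP g' (V.ι ≫ f) hsurj hflat hfp h'⟩

/-- Descent along jointly surjective fppf families. -/
theorem of_family {P : MorphismProperty Scheme.{u}} [IsZariskiLocalAtSource P] (hP : SingleDescent P)
    {ι : Type*} {X Y : Scheme.{u}} {X' : ι → Scheme.{u}}
    (g : ∀ i, X' i ⟶ X) (f : X ⟶ Y) (hg : ∀ i, Flat (g i))
    (hg' : ∀ i, LocallyOfFinitePresentation (g i))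
    (hsurj : ∀ x : X, ∃ i, x ∈ Set.range (g i).base) (h : ∀ i, P (g i ≫ f)) : P f := by
  have H : ∀ i, ∃ V : X.Opens, (V : Set X) = Set.range (g i).base ∧ P (V.ι ≫ f) := fun i ↦
    have := hg i
    have := hg' i
    exists_opens hP (g i) f (h i)
  choose V hV hVP using H
  refine IsZariskiLocalAtSource.of_iSup_eq_top (P := P) V ?_ hVP
  rw [eq_top_iff]
  intro x _
  obtain ⟨i, hi⟩ := hsurj x
  exact TopologicalSpace.Opens.mem_iSup.mpr ⟨i, by
    show x ∈ (V i : Set X)
    rw [hV i]; exact hi⟩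

/-- A property that is stable under precomposition with fppf maps, Zariski-local on the source and
descends along single fppf covers is fppf-local on the source. -/
theorem isLocalAtSource_fppf {P : MorphismProperty Scheme.{u}} [IsZariskiLocalAtSource P]
    (hcomp : ∀ {X' X Y : Scheme.{u}} (g : X' ⟶ X) (f : X ⟶ Y), Flat g →
      LocallyOfFinitePresentation g → P f → P (g ≫ f))
    (hP : SingleDescent P) : P.IsLocalAtSource Scheme.fppfPrecoverage := by
  refine MorphismProperty.IsLocalAtSource.mk_of_iff_of_zeroHypercover fun {X Y} f 𝒰 ↦ ?_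
  have hmem : Presieve.ofArrows 𝒰.X 𝒰.f ∈
      Scheme.precoverage (@Flat ⊓ @LocallyOfFinitePresentation) X := 𝒰.mem₀
  rw [Scheme.ofArrows_mem_precoverage_iff] at hmem
  obtain ⟨hsurj, hfl⟩ := hmem
  constructor
  · intro hf i
    exact hcomp (𝒰.f i) f (hfl i).1 (hfl i).2 hf
  · intro h
    exact of_family hP 𝒰.f f (fun i ↦ (hfl i).1) (fun i ↦ (hfl i).2) hsurj h

set_option backward.isDefEq.respectTransparency.types false in
/-- Being locally of finite type is fppf-local on the source. -/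
theorem isLocalAtSource_fppf_locallyOfFiniteType :
    MorphismProperty.IsLocalAtSource (@LocallyOfFiniteType : MorphismProperty Scheme.{u})
      Scheme.fppfPrecoverage := by
  apply isLocalAtSource_fppf
  · intro X' X Y g f hg hg' hf
    have : LocallyOfFiniteType f := hf
    exact (inferInstance : LocallyOfFiniteType (g ≫ f))
  · exact singleDescent_locallyOfFiniteType

end Groth.Agent.Lib.Helper89.FppfSource
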