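import Mathlib

/-!
# Integral closedness ascends along smooth maps (consequences of Mathlib's
`TensorProduct.toIntegralClosure_bijective_of_smooth`)

* `exists_of_isIntegral_tensor`: `B` smooth over `A`, `A` integrally closed in `K`: every element
  of `B ⊗[A] K` integral over `B` is of the form `b ⊗ 1`.
* `exists_of_isIntegral_of_isPushout`: the same for an abstract pushout.
* `exists_idem_lift_of_isPushout`: idempotents of the pushout come from idempotents of `B`
  (`CommRingCat` form).
* `isIntegrallyClosed_of_etale_of_finite`: a domain which is finite étale over an integrally closed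
  domain is integrally closed.
-/

set_option autoImplicit false
set_option linter.style.haveILetI false
universe u
open TensorProduct

namespace Groth.Agent.Lib.Helper89.NormalAlg

theorem exists_of_isIntegral_tensor {A B K : Type*} [CommRing A] [CommRing B] [CommRing K]
    [Algebra A B] [Algebra A K] [Algebra.Smooth A B] (hK : integralClosure A K = ⊥)
    (x : B ⊗[A] K) (hx : IsIntegral B x) : ∃ b : B, b ⊗ₜ[A] (1 : K) = x := by
  obtain ⟨t, ht⟩ := (TensorProduct.toIntegralClosure_bijective_of_smooth (R := A) (S := B)
    (B := K)).2 ⟨x, hx⟩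
  have key : ∀ t : B ⊗[A] integralClosure A K,
      ∃ b : B, b ⊗ₜ[A] (1 : K) = ((TensorProduct.toIntegralClosure A B K t : _) : B ⊗[A] K) := by
    intro t
    induction t using TensorProduct.induction_on with
    | zero => exact ⟨0, by simp⟩
    | tmul b k =>
      obtain ⟨k, hk⟩ := k
      have hk' : k ∈ (⊥ : Subalgebra A K) := hK ▸ hk
      obtain ⟨a, rfl⟩ := Algebra.mem_bot.mp hk'
      refine ⟨a • b, ?_⟩
      simp [TensorProduct.toIntegralClosure, Algebra.algebraMap_eq_smul_one, TensorProduct.smul_tmul]
    | add t₁ t₂ h₁ h₂ =>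
      obtain ⟨b₁, hb₁⟩ := h₁
      obtain ⟨b₂, hb₂⟩ := h₂
      exact ⟨b₁ + b₂, by rw [TensorProduct.add_tmul, hb₁, hb₂, map_add]; rfl⟩
  obtain ⟨b, hb⟩ := key t
  exact ⟨b, by rw [hb, ht]⟩

theorem exists_of_isIntegral_of_isPushout {A B K P : Type*} [CommRing A] [CommRing B] [CommRing K]
    [CommRing P] [Algebra A B] [Algebra A K] [Algebra B P] [Algebra K P] [Algebra A P]
    [IsScalarTower A B P] [IsScalarTower A K P] [Algebra.IsPushout A B K P]
    [Algebra.Smooth A B] (hK : integralClosure A K = ⊥)
    (x : P) (hx : IsIntegral B x) : ∃ b : B, algebraMap B P b = x := by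
  let e := Algebra.IsPushout.equiv A B K P
  have hx' : IsIntegral B (e.symm x) := hx.map e.symm.toAlgHom
  obtain ⟨b, hb⟩ := exists_of_isIntegral_tensor hK (e.symm x) hx'
  refine ⟨b, ?_⟩
  have : e (b ⊗ₜ[A] (1 : K)) = x := by rw [hb]; exact e.apply_symm_apply x
  rw [← this, Algebra.IsPushout.equiv_tmul, map_one, mul_one]

theorem injective_of_isPushout {A B K P : Type*} [CommRing A] [CommRing B] [CommRing K]
    [CommRing P] [Algebra A B] [Algebra A K] [Algebra B P] [Algebra K P] [Algebra A P]
    [IsScalarTower A B P] [IsScalarTower A K P] [Algebra.IsPushout A B K P]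
    [Module.Flat A B] (hinj : Function.Injective (algebraMap A K)) :
    Function.Injective (algebraMap B P) := by
  let e := Algebra.IsPushout.equiv A B K P
  have h1 : Function.Injective
      (Algebra.TensorProduct.includeLeft : B →ₐ[B] B ⊗[A] K) :=
    Algebra.TensorProduct.includeLeft_injective hinj
  have h2 : (algebraMap B P : B → P) = e ∘ (Algebra.TensorProduct.includeLeft : B →ₐ[B] B ⊗[A] K) := by
    ext b
    simp [e, Algebra.IsPushout.equiv_tmul]
  rw [h2]
  exact e.injective.comp h1

open CategoryTheory in
/-- Idempotents of a pushout `B ⊗[A] K` with `A ⟶ B` étale and `A` integrally closed in `K`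
(`A ⟶ K` injective) come from idempotents of `B`. -/
theorem exists_idem_lift_of_isPushout {A B K L : CommRingCat.{u}} (f : A ⟶ B) (g : A ⟶ K)
    (f' : B ⟶ L) (g' : K ⟶ L) (h : IsPushout f g f' g') (hf : f.hom.Etale)
    (hK : ∀ k : K, g.hom.IsIntegralElem k → k ∈ g.hom.range)
    (hinj : Function.Injective g.hom) (e : L) (he : IsIdempotentElem e) :
    ∃ b : B, IsIdempotentElem b ∧ f'.hom b = e := by
  letI : Algebra A B := f.hom.toAlgebra
  letI : Algebra A K := g.hom.toAlgebra
  letI : Algebra B L := f'.hom.toAlgebra
  letI : Algebra K L := g'.hom.toAlgebra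
  letI : Algebra A L := (f ≫ f').hom.toAlgebra
  haveI : IsScalarTower A B L := IsScalarTower.of_algebraMap_eq' rfl
  haveI : IsScalarTower A K L := IsScalarTower.of_algebraMap_eq' (by
    change (f ≫ f').hom = (g ≫ g').hom
    rw [h.w])
  haveI : Algebra.IsPushout A B K L := CommRingCat.isPushout_iff_isPushout.mp h
  haveI : Algebra.Etale A B := hf
  haveI : Algebra.Smooth A B := inferInstance
  haveI : Module.Flat A B := inferInstance
  have hK' : integralClosure A K = ⊥ := by
    rw [eq_bot_iff]
    intro k hk
    obtain ⟨a, ha⟩ := hK k hk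
    exact Algebra.mem_bot.mpr ⟨a, ha⟩
  have hinj' : Function.Injective (algebraMap B L) := injective_of_isPushout (A := A) (K := K) hinj
  have heint : IsIntegral B e := by
    refine ⟨(Polynomial.X - Polynomial.C 1) * Polynomial.X,
      (Polynomial.monic_X_sub_C 1).mul Polynomial.monic_X, ?_⟩
    simp [sub_mul, he.eq]
  obtain ⟨b, hb⟩ := exists_of_isIntegral_of_isPushout (A := A) (K := K) hK' e heint
  refine ⟨b, ?_, hb⟩
  apply hinj'
  rw [map_mul, hb, he.eq]

/-- A domain which is smooth (e.g. étale) and algebraic (e.g. finite) over an integrally closed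
domain is integrally closed. -/
theorem isIntegrallyClosed_of_smooth_of_isAlgebraic (A B : Type*) [CommRing A] [CommRing B]
    [IsDomain A] [IsDomain B] [Algebra A B] [Algebra.Smooth A B] [Algebra.IsAlgebraic A B]
    [FaithfulSMul A B] [IsIntegrallyClosed A] : IsIntegrallyClosed B := by
  let K := FractionRing A
  let F := FractionRing B
  haveI : FaithfulSMul A F := by
    rw [faithfulSMul_iff_algebraMap_injective, IsScalarTower.algebraMap_eq A B F]
    exact (IsFractionRing.injective B F).comp (FaithfulSMul.algebraMap_injective A B)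
  letI : Algebra K F := FractionRing.liftAlgebra A F
  haveI : IsScalarTower A K F := FractionRing.isScalarTower_liftAlgebra A F
  haveI : Algebra.IsPushout A B K F := inferInstance
  refine (isIntegrallyClosed_iff F).mpr fun {x} hx => ?_
  exact exists_of_isIntegral_of_isPushout (A := A) (K := K)
    (IsIntegrallyClosed.integralClosure_eq_bot A K) x hx

end Groth.Agent.Lib.Helper89.NormalAlg
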