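import Groth.Agent.Lib.Helper89.FEtFaithful
import Mathlib.AlgebraicGeometry.Morphisms.FlatMono
import Mathlib.AlgebraicGeometry.Morphisms.Finite
import Mathlib.AlgebraicGeometry.Morphisms.Etale
import Mathlib.AlgebraicGeometry.Morphisms.ClosedImmersion

/-!
# Full faithfulness of restriction of finite étale covers

`ClopenInj f`, `ClopenSurj f`: the base change along `f : X' ⟶ X` of any finite étale
`X`-scheme `W` induces an injection / a surjection on clopen subsets.

* `faithful_of_clopenInj`, `full_of_clopen`, `full_faithful_of_clopen`: criterion for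
  `FEt.restrict f` to be faithful / full.
* `exists_descent`: the underlying statement on schemes (graph argument).
* `clopenInj_of_pullback`, `clopenSurj_of_pullback`: enough to check on the chosen pullbacks.
-/

set_option autoImplicit false
universe u
open AlgebraicGeometry CategoryTheory CategoryTheory.Limits MorphismProperty

namespace Groth.Agent.Lib.Helper89.FEtFF

set_option backward.isDefEq.respectTransparency.types false in
/-- open immersions have the "of postcomp" property w.r.t. unramified morphisms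
locally of finite type -/
instance : MorphismProperty.HasOfPostcompProperty
    @IsOpenImmersion.{u}
    (@LocallyOfFiniteType ⊓ @FormallyUnramified : MorphismProperty Scheme.{u}) := by
  rw [MorphismProperty.hasOfPostcompProperty_iff_le_diagonal]
  intro X Y f ⟨hft, hfu⟩
  exact inferInstanceAs <| IsOpenImmersion (pullback.diagonal f)

/-- A section of a separated morphism is a closed immersion. -/
lemma isClosedImmersion_of_section {X Y : Scheme.{u}} (s : X ⟶ Y) (q : Y ⟶ X) [IsSeparated q]
    (h : s ≫ q = 𝟙 X) : IsClosedImmersion s := by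
  have : IsClosedImmersion (s ≫ q) := by rw [h]; infer_instance
  exact IsClosedImmersion.of_comp s q

/-- A section of an unramified morphism locally of finite type is an open immersion. -/
lemma isOpenImmersion_of_section {X Y : Scheme.{u}} (s : X ⟶ Y) (q : Y ⟶ X)
    [LocallyOfFiniteType q] [FormallyUnramified q]
    (h : s ≫ q = 𝟙 X) : IsOpenImmersion s := by
  have : IsOpenImmersion (s ≫ q) := by rw [h]; infer_instance
  exact of_postcomp (W := @IsOpenImmersion)
    (W' := (@LocallyOfFiniteType ⊓ @FormallyUnramified : MorphismProperty Scheme.{u}))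
    s q ⟨‹_›, ‹_›⟩ ‹_›

/-- The range of a morphism that is both an open and a closed immersion is clopen. -/
lemma isClopen_range {X Y : Scheme.{u}} (s : X ⟶ Y) [IsOpenImmersion s] [IsClosedImmersion s] :
    IsClopen (Set.range s.base) :=
  ⟨s.isClosedEmbedding.isClosed_range, s.isOpenEmbedding.isOpen_range⟩

/-- A morphism between finite `X`-schemes with separated target is finite. -/
lemma isFinite_of_comp {X Y Z : Scheme.{u}} (q : X ⟶ Y) (p : Y ⟶ Z) [IsFinite (q ≫ p)]
    [IsSeparated p] : IsFinite q :=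
  of_postcomp (W := @IsFinite) (W' := @IsSeparated) q p ‹_› ‹_›

lemma etale_of_comp {X Y Z : Scheme.{u}} (q : X ⟶ Y) (p : Y ⟶ Z) [Etale (q ≫ p)]
    [Etale p] : Etale q :=
  of_postcomp (W := @Etale) (W' := @Etale) q p ‹_› ‹_›

/-- A finite étale morphism whose image is everything and whose diagonal is surjective is
an isomorphism. -/
lemma isIso_of_etale_of_surjective_of_diagonal {X Y : Scheme.{u}} (q : X ⟶ Y) [Etale q]
    (hs : Function.Surjective q.base)
    (hd : Function.Surjective (pullback.diagonal q).base) : IsIso q := by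
  have : Surjective (pullback.diagonal q) := ⟨hd⟩
  have : IsIso (pullback.diagonal q) :=
    (isIso_iff_isOpenImmersion_and_surjective _).mpr ⟨inferInstance, inferInstance⟩
  have : Mono q := (pullback.isIso_diagonal_iff q).mp this
  have : IsOpenImmersion q := IsOpenImmersion.of_flat_of_mono q
  have : Surjective q := ⟨hs⟩
  exact (isIso_iff_isOpenImmersion_and_surjective _).mpr ⟨inferInstance, inferInstance⟩


/-- `f : X' ⟶ X` detects clopen subsets of finite étale covers: a clopen subset of a finite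
étale `X`-scheme whose preimage in the base change to `X'` is everything, is everything. -/
def ClopenInj {X X' : Scheme.{u}} (f : X' ⟶ X) : Prop :=
  ∀ ⦃W W' : Scheme.{u}⦄ (p : W ⟶ X) (p' : W' ⟶ X') (g' : W' ⟶ W), IsPullback g' p' p f →
    IsFinite p → Etale p → ∀ R : Set W, IsClopen R → g'.base ⁻¹' R = Set.univ → R = Set.univ

/-- Every clopen subset of the base change to `X'` of a finite étale `X`-scheme
is the preimage of a clopen subset. -/
def ClopenSurj {X X' : Scheme.{u}} (f : X' ⟶ X) : Prop :=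
  ∀ ⦃W W' : Scheme.{u}⦄ (p : W ⟶ X) (p' : W' ⟶ X') (g' : W' ⟶ W), IsPullback g' p' p f →
    IsFinite p → Etale p → ∀ T : Set W', IsClopen T →
      ∃ S : Set W, IsClopen S ∧ g'.base ⁻¹' S = T

section Faithful

variable {X X' : Scheme.{u}} (f : X' ⟶ X)

/-- Rigidity: two `X`-morphisms of finite étale `X`-schemes that agree after base change along
`f` agree, if `f` detects clopen subsets. -/
theorem eq_of_pullback_eq (hf : ClopenInj f) {Y₁ Y₂ : Scheme.{u}}
    (p₁ : Y₁ ⟶ X) (p₂ : Y₂ ⟶ X) [IsFinite p₁] [Etale p₁] [IsFinite p₂] [Etale p₂]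
    (a b : Y₁ ⟶ Y₂) (ha : a ≫ p₂ = p₁) (hb : b ≫ p₂ = p₁)
    (hab : pullback.fst p₁ f ≫ a = pullback.fst p₁ f ≫ b) : a = b := by
  let l : Y₁ ⟶ pullback p₂ p₂ := pullback.lift a b (by rw [ha, hb])
  let E := pullback (pullback.diagonal p₂) l
  let ι : E ⟶ Y₁ := pullback.snd _ _
  have hι : ι ≫ a = ι ≫ b := by
    have h1 : ι ≫ l = pullback.fst _ _ ≫ pullback.diagonal p₂ := pullback.condition.symm
    have h2 := congrArg (· ≫ pullback.fst p₂ p₂) h1
    have h3 := congrArg (· ≫ pullback.snd p₂ p₂) h1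
    simp only [Category.assoc, l, pullback.lift_fst, pullback.lift_snd,
      pullback.diagonal_fst, pullback.diagonal_snd, Category.comp_id] at h2 h3
    rw [h2, h3]
  have : IsOpenImmersion ι := inferInstance
  have : IsClosedImmersion ι := inferInstance
  let t : pullback p₁ f ⟶ E := pullback.lift (pullback.fst p₁ f ≫ a) (pullback.fst p₁ f) (by
    apply pullback.hom_ext
    · simp only [Category.assoc, pullback.diagonal_fst, Category.comp_id, l]
      rw [pullback.lift_fst]
    · simp only [Category.assoc, pullback.diagonal_snd, Category.comp_id, l]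
      rw [pullback.lift_snd, hab])
  have ht : t ≫ ι = pullback.fst p₁ f := pullback.lift_snd _ _ _
  have hR := hf p₁ (pullback.snd p₁ f) (pullback.fst p₁ f) (IsPullback.of_hasPullback p₁ f)
    inferInstance inferInstance _ (isClopen_range ι) (by
      rw [Set.eq_univ_iff_forall]
      intro w
      refine ⟨t.base w, ?_⟩
      rw [← ht]
      rfl)
  have : Surjective ι := ⟨Set.range_eq_univ.mp hR⟩
  have : IsIso ι := (isIso_iff_isOpenImmersion_and_surjective ι).mpr ⟨inferInstance, inferInstance⟩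
  exact (cancel_epi ι).mp hι

theorem faithful_of_clopenInj (hf : ClopenInj f) : (FEt.restrict f).Faithful := by
  refine ⟨fun {Y₁ Y₂} a b hab => ?_⟩
  have hfst : ∀ g : Y₁ ⟶ Y₂, ((FEt.restrict f).map g).left ≫ pullback.fst Y₂.hom f =
      pullback.fst Y₁.hom f ≫ g.left := fun g => by
    simp only [FEt.restrict, MorphismProperty.Over.pullback]
    exact pullback.lift_fst _ _ _
  have key : pullback.fst Y₁.hom f ≫ a.left = pullback.fst Y₁.hom f ≫ b.left := by
    rw [← hfst a, ← hfst b, hab]
  have : IsFinite Y₁.hom := Y₁.prop.1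
  have : Etale Y₁.hom := Y₁.prop.2
  have : IsFinite Y₂.hom := Y₂.prop.1
  have : Etale Y₂.hom := Y₂.prop.2
  have := eq_of_pullback_eq f hf Y₁.hom Y₂.hom a.left b.left
    (Over.w a.hom) (Over.w b.hom) key
  ext1
  exact this

end Faithful


/-- In a pullback square of schemes, the range of the second projection is the preimage of the
range of the opposite side. -/
lemma range_snd_of_isPullback {P A B C : Scheme.{u}} {a : P ⟶ A} {b : P ⟶ B} {c : A ⟶ C}
    {d : B ⟶ C} (sq : IsPullback a b c d) :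
    Set.range b.base = d.base ⁻¹' Set.range c.base := by
  have h1 : sq.isoPullback.hom ≫ pullback.snd c d = b := sq.isoPullback_hom_snd
  rw [← Scheme.Pullback.range_snd, ← h1]
  simp only [Scheme.Hom.comp_base, TopCat.hom_comp, ContinuousMap.coe_comp]
  rw [Set.range_comp, Set.range_eq_univ.mpr, Set.image_univ]
  exact (sq.isoPullback.hom.homeomorph).surjective

section Full

variable {X X' : Scheme.{u}} (f : X' ⟶ X)

theorem exists_descent (hi : ClopenInj f) (hs : ClopenSurj f) {Y₁ Y₂ : Scheme.{u}}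
    (p₁ : Y₁ ⟶ X) (p₂ : Y₂ ⟶ X) [IsFinite p₁] [Etale p₁] [IsFinite p₂] [Etale p₂]
    (φ : pullback p₁ f ⟶ pullback p₂ f) (hφ : φ ≫ pullback.snd p₂ f = pullback.snd p₁ f) :
    ∃ ψ : Y₁ ⟶ Y₂, ψ ≫ p₂ = p₁ ∧ pullback.fst p₁ f ≫ ψ = φ ≫ pullback.fst p₂ f := by
  -- Z = Y₁ ×_X Y₂
  obtain ⟨pZ, hpZ⟩ : ∃ pZ : pullback p₁ p₂ ⟶ X, pZ = pullback.fst p₁ p₂ ≫ p₁ := ⟨_, rfl⟩
  have hpZ' : pZ = pullback.snd p₁ p₂ ≫ p₂ := by rw [hpZ, pullback.condition]
  have : IsFinite pZ := by rw [hpZ]; infer_instance
  have : Etale pZ := by rw [hpZ]; infer_instance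
  -- the graph of φ
  obtain ⟨g0, hg0_fst, hg0_snd⟩ : ∃ g0 : pullback p₁ f ⟶ pullback p₁ p₂,
      g0 ≫ pullback.fst p₁ p₂ = pullback.fst p₁ f ∧
      g0 ≫ pullback.snd p₁ p₂ = φ ≫ pullback.fst p₂ f :=
    ⟨pullback.lift (pullback.fst p₁ f) (φ ≫ pullback.fst p₂ f)
      (by rw [pullback.condition, Category.assoc, pullback.condition, ← Category.assoc, hφ]),
      pullback.lift_fst _ _ _, pullback.lift_snd _ _ _⟩
  obtain ⟨γ, hγ_fst, hγ_snd⟩ : ∃ γ : pullback p₁ f ⟶ pullback pZ f,
      γ ≫ pullback.fst pZ f = g0 ∧ γ ≫ pullback.snd pZ f = pullback.snd p₁ f :=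
    ⟨pullback.lift g0 (pullback.snd p₁ f) (by
      rw [hpZ, ← Category.assoc, hg0_fst]; exact pullback.condition),
      pullback.lift_fst _ _ _, pullback.lift_snd _ _ _⟩
  obtain ⟨q', hq'_fst, hq'_snd⟩ : ∃ q' : pullback pZ f ⟶ pullback p₁ f,
      q' ≫ pullback.fst p₁ f = pullback.fst pZ f ≫ pullback.fst p₁ p₂ ∧
      q' ≫ pullback.snd p₁ f = pullback.snd pZ f :=
    ⟨pullback.lift (pullback.fst pZ f ≫ pullback.fst p₁ p₂) (pullback.snd pZ f)
      (by rw [Category.assoc, ← hpZ]; exact pullback.condition),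
      pullback.lift_fst _ _ _, pullback.lift_snd _ _ _⟩
  have hγq : γ ≫ q' = 𝟙 _ := by
    apply pullback.hom_ext
    · rw [Category.assoc, hq'_fst, ← Category.assoc, hγ_fst, hg0_fst, Category.id_comp]
    · rw [Category.assoc, hq'_snd, hγ_snd, Category.id_comp]
  have : IsFinite (q' ≫ pullback.snd p₁ f) := by rw [hq'_snd]; infer_instance
  have : Etale (q' ≫ pullback.snd p₁ f) := by rw [hq'_snd]; infer_instance
  have : IsFinite q' := isFinite_of_comp q' (pullback.snd p₁ f)
  have : Etale q' := etale_of_comp q' (pullback.snd p₁ f)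
  have : IsClosedImmersion γ := isClosedImmersion_of_section γ q' hγq
  have : IsOpenImmersion γ := isOpenImmersion_of_section γ q' hγq
  obtain ⟨S, hS, hST⟩ := hs pZ (pullback.snd pZ f) (pullback.fst pZ f)
    (IsPullback.of_hasPullback pZ f) inferInstance inferInstance _ (isClopen_range γ)
  -- the clopen subscheme Γ of Z
  obtain ⟨Γ, ιΓ, hιo, hιr⟩ : ∃ (Γ : Scheme.{u}) (ιΓ : Γ ⟶ pullback p₁ p₂),
      IsOpenImmersion ιΓ ∧ Set.range ιΓ.base = S :=
    ⟨((⟨S, hS.2⟩ : (pullback p₁ p₂).Opens) : Scheme.{u}), Scheme.Opens.ι _, inferInstance,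
      Scheme.Opens.range_ι _⟩
  have : IsClosedImmersion ιΓ := IsClosedImmersion.of_isPreimmersion _ (by rw [hιr]; exact hS.1)
  obtain ⟨q, hq⟩ : ∃ q : Γ ⟶ Y₁, q = ιΓ ≫ pullback.fst p₁ p₂ := ⟨_, rfl⟩
  have : IsFinite q := by rw [hq]; infer_instance
  have : Etale q := by rw [hq]; infer_instance
  obtain ⟨pΓ, hpΓ⟩ : ∃ pΓ : Γ ⟶ X, pΓ = ιΓ ≫ pZ := ⟨_, rfl⟩
  have hpΓ' : pΓ = q ≫ p₁ := by rw [hpΓ, hq, hpZ, Category.assoc]
  have : IsFinite pΓ := by rw [hpΓ]; infer_instance
  have : Etale pΓ := by rw [hpΓ]; infer_instance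
  -- base change of Γ
  obtain ⟨v, hv_fst, hv_snd⟩ : ∃ v : pullback pΓ f ⟶ pullback pZ f,
      v ≫ pullback.fst pZ f = pullback.fst pΓ f ≫ ιΓ ∧
      v ≫ pullback.snd pZ f = pullback.snd pΓ f :=
    ⟨pullback.lift (pullback.fst pΓ f ≫ ιΓ) (pullback.snd pΓ f)
      (by rw [Category.assoc, ← hpΓ]; exact pullback.condition),
      pullback.lift_fst _ _ _, pullback.lift_snd _ _ _⟩
  have sqv : IsPullback (pullback.fst pΓ f) v ιΓ (pullback.fst pZ f) := by
    refine IsPullback.of_bot ?_ hv_fst.symm (IsPullback.of_hasPullback pZ f)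
    rw [hv_snd, ← hpΓ]
    exact IsPullback.of_hasPullback pΓ f
  have : IsOpenImmersion v := MorphismProperty.of_isPullback (P := @IsOpenImmersion) sqv hιo
  have hvr : Set.range v.base = Set.range γ.base := by
    rw [range_snd_of_isPullback sqv, hιr, hST]
  obtain ⟨u, hu⟩ : ∃ u : pullback pΓ f ≅ pullback p₁ f, u.hom ≫ γ = v :=
    ⟨IsOpenImmersion.isoOfRangeEq v γ hvr, IsOpenImmersion.isoOfRangeEq_hom_fac _ _ _⟩
  have hu' : u.hom = v ≫ q' := by
    rw [← hu, Category.assoc, hγq, Category.comp_id]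
  have hu_fst : u.hom ≫ pullback.fst p₁ f = pullback.fst pΓ f ≫ q := by
    rw [hu', Category.assoc, hq'_fst, ← Category.assoc, hv_fst, Category.assoc, hq]
  have hu_snd : u.hom ≫ pullback.snd p₁ f = pullback.snd pΓ f := by
    rw [hu', Category.assoc, hq'_snd, hv_snd]
  -- q is surjective
  have hqs : Function.Surjective q.base := by
    rw [← Set.range_eq_univ]
    refine hi p₁ (pullback.snd p₁ f) (pullback.fst p₁ f) (IsPullback.of_hasPullback p₁ f)
      inferInstance inferInstance _
      ⟨q.isClosedMap.isClosed_range, q.isOpenMap.isOpen_range⟩ ?_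
    rw [Set.eq_univ_iff_forall]
    intro y'
    refine ⟨(pullback.fst pΓ f).base (u.inv.base y'), ?_⟩
    have h1 : u.inv ≫ pullback.fst pΓ f ≫ q = pullback.fst p₁ f := by
      rw [← hu_fst, Iso.inv_hom_id_assoc]
    rw [← h1]
    rfl
  -- the diagonal of q is surjective
  have hqd : Function.Surjective (pullback.diagonal q).base := by
    obtain ⟨pW, hpW⟩ : ∃ pW : pullback q q ⟶ X, pW = pullback.fst q q ≫ pΓ := ⟨_, rfl⟩
    have hpW' : pW = pullback.snd q q ≫ pΓ := by
      rw [hpW, hpΓ', ← Category.assoc, ← Category.assoc, pullback.condition]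
    have : IsFinite pW := by rw [hpW]; infer_instance
    have : Etale pW := by rw [hpW]; infer_instance
    obtain ⟨a₁, ha₁_fst, ha₁_snd⟩ : ∃ a₁ : pullback pW f ⟶ pullback pΓ f,
        a₁ ≫ pullback.fst pΓ f = pullback.fst pW f ≫ pullback.fst q q ∧
        a₁ ≫ pullback.snd pΓ f = pullback.snd pW f :=
      ⟨pullback.lift (pullback.fst pW f ≫ pullback.fst q q) (pullback.snd pW f)
        (by rw [Category.assoc, ← hpW]; exact pullback.condition),
        pullback.lift_fst _ _ _, pullback.lift_snd _ _ _⟩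
    obtain ⟨a₂, ha₂_fst, ha₂_snd⟩ : ∃ a₂ : pullback pW f ⟶ pullback pΓ f,
        a₂ ≫ pullback.fst pΓ f = pullback.fst pW f ≫ pullback.snd q q ∧
        a₂ ≫ pullback.snd pΓ f = pullback.snd pW f :=
      ⟨pullback.lift (pullback.fst pW f ≫ pullback.snd q q) (pullback.snd pW f)
        (by rw [Category.assoc, ← hpW']; exact pullback.condition),
        pullback.lift_fst _ _ _, pullback.lift_snd _ _ _⟩
    have ha : a₁ = a₂ := by
      rw [← cancel_mono u.hom]
      apply pullback.hom_ext
      · rw [Category.assoc, Category.assoc, hu_fst, ← Category.assoc, ← Category.assoc, ha₁_fst,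
          ha₂_fst, Category.assoc, Category.assoc, pullback.condition]
      · rw [Category.assoc, Category.assoc, hu_snd, ha₁_snd, ha₂_snd]
    have h12 : pullback.fst pW f ≫ pullback.fst q q = pullback.fst pW f ≫ pullback.snd q q := by
      rw [← ha₁_fst, ← ha₂_fst, ha]
    have hfac : (pullback.fst pW f ≫ pullback.fst q q) ≫ pullback.diagonal q =
        pullback.fst pW f := by
      apply pullback.hom_ext
      · rw [Category.assoc, pullback.diagonal_fst, Category.comp_id]
      · rw [Category.assoc, pullback.diagonal_snd, Category.comp_id, h12]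
    rw [← Set.range_eq_univ]
    refine hi pW (pullback.snd pW f) (pullback.fst pW f) (IsPullback.of_hasPullback pW f)
      inferInstance inferInstance _ (isClopen_range (pullback.diagonal q)) ?_
    rw [Set.eq_univ_iff_forall]
    intro w'
    refine ⟨(pullback.fst pW f ≫ pullback.fst q q).base w', ?_⟩
    exact congrArg (fun g : pullback pW f ⟶ pullback q q => g.base w') hfac
  have : IsIso q := isIso_of_etale_of_surjective_of_diagonal q hqs hqd
  refine ⟨inv q ≫ ιΓ ≫ pullback.snd p₁ p₂, ?_, ?_⟩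
  · rw [Category.assoc, Category.assoc, ← hpZ', hpZ, ← Category.assoc ιΓ, ← hq,
      IsIso.inv_hom_id_assoc]
  · rw [← cancel_epi u.hom, ← Category.assoc, hu_fst, Category.assoc, IsIso.hom_inv_id_assoc,
      ← Category.assoc, ← hv_fst, ← hu, Category.assoc, Category.assoc, ← Category.assoc γ,
      hγ_fst, hg0_snd]

theorem full_of_clopen (hi : ClopenInj f) (hs : ClopenSurj f) : (FEt.restrict f).Full := by
  refine ⟨fun {Y₁ Y₂} φ => ?_⟩
  have : IsFinite Y₁.hom := Y₁.prop.1
  have : Etale Y₁.hom := Y₁.prop.2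
  have : IsFinite Y₂.hom := Y₂.prop.1
  have : Etale Y₂.hom := Y₂.prop.2
  obtain ⟨ψ, hψ, hψφ⟩ := exists_descent f hi hs Y₁.hom Y₂.hom φ.left (Over.w φ.hom)
  refine ⟨MorphismProperty.Over.homMk ψ hψ trivial, ?_⟩
  ext1
  simp only [FEt.restrict, MorphismProperty.Over.pullback]
  apply pullback.hom_ext
  · exact (pullback.lift_fst _ _ _).trans hψφ
  · exact (pullback.lift_snd _ _ _).trans (Over.w φ.hom).symm

theorem full_faithful_of_clopen (hi : ClopenInj f) (hs : ClopenSurj f) :
    (FEt.restrict f).Full ∧ (FEt.restrict f).Faithful :=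
  ⟨full_of_clopen f hi hs, faithful_of_clopenInj f hi⟩

/-- It suffices to check `ClopenInj` on the chosen pullbacks. -/
theorem clopenInj_of_pullback
    (h : ∀ (W : Scheme.{u}) (p : W ⟶ X) [IsFinite p] [Etale p] (R : Set W), IsClopen R →
      (pullback.fst p f).base ⁻¹' R = Set.univ → R = Set.univ) : ClopenInj f := by
  intro W W' p p' g' sq hp1 hp2 R hR hpre
  refine h W p R hR ?_
  have h1 : sq.isoPullback.inv ≫ g' = pullback.fst p f := sq.isoPullback_inv_fst
  rw [Set.eq_univ_iff_forall]
  intro z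
  have : g'.base (sq.isoPullback.inv.base z) ∈ R := by
    have : sq.isoPullback.inv.base z ∈ g'.base ⁻¹' R := by rw [hpre]; trivial
    exact this
  rw [← h1]
  exact this

/-- It suffices to check `ClopenSurj` on the chosen pullbacks. -/
theorem clopenSurj_of_pullback
    (h : ∀ (W : Scheme.{u}) (p : W ⟶ X) [IsFinite p] [Etale p] (T : Set ↥(pullback p f)),
      IsClopen T → ∃ S : Set W, IsClopen S ∧ (pullback.fst p f).base ⁻¹' S = T) :
    ClopenSurj f := by
  intro W W' p p' g' sq hp1 hp2 T hT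
  have h1 : sq.isoPullback.hom ≫ pullback.fst p f = g' := sq.isoPullback_hom_fst
  obtain ⟨S, hS, hST⟩ := h W p (sq.isoPullback.inv.base ⁻¹' T)
    (hT.preimage sq.isoPullback.inv.continuous)
  refine ⟨S, hS, ?_⟩
  rw [← h1]
  ext z
  have h2 : z ∈ (sq.isoPullback.hom ≫ pullback.fst p f).base ⁻¹' S ↔
      sq.isoPullback.hom.base z ∈ (pullback.fst p f).base ⁻¹' S := Iff.rfl
  rw [h2, hST, Set.mem_preimage]
  have h3 : sq.isoPullback.inv.base (sq.isoPullback.hom.base z) = z := by
    have := congrArg (fun g : W' ⟶ W' => g.base z) sq.isoPullback.hom_inv_id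
    exact this
  rw [h3]

end Full

end Groth.Agent.Lib.Helper89.FEtFF
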