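import Groth.Agent.Lib.Helper89.HensZMT3
import Groth.Agent.Lib.Helper89.FEtFF
import Groth.Agent.Lib.Helper37.HenselEtale

/-!
# Sections of étale schemes over a henselian local ring
-/

set_option autoImplicit false
set_option linter.style.haveILetI false
universe u
open AlgebraicGeometry CategoryTheory CategoryTheory.Limits MorphismProperty

namespace Groth.Agent.Lib.Helper89.HensZMT

open Groth.Agent.Lib.Helper89.FEtFF

/-- Two sections of an étale `Spec R`-scheme (`R` local) which agree at the closed point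
agree. -/
theorem section_unique (R : Type u) [CommRing R] [IsLocalRing R] {X : Scheme.{u}}
    (f : X ⟶ Spec (CommRingCat.of R)) [Etale f]
    (s₁ s₂ : Spec (CommRingCat.of R) ⟶ X) (h₁ : s₁ ≫ f = 𝟙 _) (h₂ : s₂ ≫ f = 𝟙 _)
    (h : s₁.base (IsLocalRing.closedPoint R) = s₂.base (IsLocalRing.closedPoint R)) :
    s₁ = s₂ := by
  have o₂ : IsOpenImmersion s₂ := isOpenImmersion_of_section s₂ f h₂
  have hO : s₁.base ⁻¹' (Set.range s₂.base) = Set.univ := by
    apply eq_univ_of_closedPoint_mem (R := R)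
    · exact s₂.isOpenEmbedding.isOpen_range.preimage s₁.continuous
    · exact ⟨IsLocalRing.closedPoint R, h.symm⟩
  have hsub : Set.range s₁.base ⊆ Set.range s₂.base := by
    rintro _ ⟨p, rfl⟩
    have : p ∈ s₁.base ⁻¹' (Set.range s₂.base) := by rw [hO]; trivial
    exact this
  have hl : IsOpenImmersion.lift s₂ s₁ hsub ≫ s₂ = s₁ := IsOpenImmersion.lift_fac _ _ _
  have hl1 : IsOpenImmersion.lift s₂ s₁ hsub = 𝟙 _ := by
    have := congrArg (· ≫ f) hl
    simp only [Category.assoc, h₂, h₁, Category.comp_id] at this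
    exact this
  rw [← hl, hl1, Category.id_comp]

/-- Over a henselian local ring, every point of the special fibre of an étale scheme with residue
field `k` lifts to a section. -/
theorem exists_section (R : Type u) [CommRing R] [HenselianLocalRing R] {X : Scheme.{u}}
    (f : X ⟶ Spec (CommRingCat.of R)) [Etale f]
    (t : Spec (CommRingCat.of (IsLocalRing.ResidueField R)) ⟶ X)
    (ht : t ≫ f = Spec.map (CommRingCat.ofHom (IsLocalRing.residue R))) :
    ∃ s : Spec (CommRingCat.of R) ⟶ X, s ≫ f = 𝟙 (Spec (CommRingCat.of R)) ∧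
      Spec.map (CommRingCat.ofHom (IsLocalRing.residue R)) ≫ s = t := by
  -- an affine open neighbourhood of the image point
  obtain ⟨V, hV, hxV⟩ : ∃ V : X.Opens, IsAffineOpen V ∧
      t.base (⊥ : PrimeSpectrum (IsLocalRing.ResidueField R)) ∈ V := by
    obtain ⟨_, ⟨V, hV, rfl⟩, hx, -⟩ := X.isBasis_affineOpens.exists_subset_of_mem_open
      (Set.mem_univ (t.base (⊥ : PrimeSpectrum (IsLocalRing.ResidueField R)))) isOpen_univ
    exact ⟨V, hV, hx⟩
  have hrange : Set.range t.base ⊆ Set.range V.ι.base := by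
    rintro _ ⟨p, rfl⟩
    rw [Scheme.Opens.range_ι]
    have : p = (⊥ : PrimeSpectrum (IsLocalRing.ResidueField R)) := Subsingleton.elim _ _
    rw [this]
    exact hxV
  -- `t` as a morphism to `Spec Γ(X, V)`
  obtain ⟨t'', ht''⟩ : ∃ t'' : Spec (CommRingCat.of (IsLocalRing.ResidueField R)) ⟶ Spec Γ(X, V),
      t'' ≫ hV.fromSpec = t :=
    ⟨IsOpenImmersion.lift V.ι t hrange ≫ hV.isoSpec.hom, by
      rw [Category.assoc, hV.isoSpec_hom_fromSpec, IsOpenImmersion.lift_fac]⟩
  obtain ⟨τ₀, hτ₀⟩ : ∃ τ₀ : Γ(X, V) ⟶ CommRingCat.of (IsLocalRing.ResidueField R),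
      Spec.map τ₀ = t'' := ⟨Spec.preimage t'', Spec.map_preimage _⟩
  obtain ⟨φ, hφ⟩ : ∃ φ : CommRingCat.of R ⟶ Γ(X, V), Spec.map φ = hV.fromSpec ≫ f :=
    ⟨Spec.preimage _, Spec.map_preimage _⟩
  have hφet : φ.hom.Etale := by
    have : Etale (Spec.map φ) := by rw [hφ]; infer_instance
    exact (HasRingHomProperty.Spec_iff (P := @Etale)).mp this
  have hcomp : φ ≫ τ₀ = CommRingCat.ofHom (IsLocalRing.residue R) := by
    apply Spec.map_injective
    rw [Spec.map_comp, hτ₀, hφ, ← Category.assoc, ht'', ht]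
  algebraize [φ.hom]
  let σ : Γ(X, V) →ₐ[R] R ⧸ IsLocalRing.maximalIdeal R :=
    { toRingHom := τ₀.hom
      commutes' := fun r => by
        have := congrArg (fun g => g.hom r) hcomp
        exact this }
  obtain ⟨τ, hτ⟩ := Groth.Agent.Lib.Helper37.exists_lift_of_etale (IsLocalRing.maximalIdeal R) σ
  have hτφ : φ ≫ CommRingCat.ofHom τ.toRingHom = 𝟙 _ := by
    ext r
    exact τ.commutes r
  have hτres : CommRingCat.ofHom τ.toRingHom ≫ CommRingCat.ofHom (IsLocalRing.residue R) = τ₀ := by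
    ext c
    have := congrArg (fun g => g c) hτ
    exact this
  refine ⟨Spec.map (CommRingCat.ofHom τ.toRingHom) ≫ hV.fromSpec, ?_, ?_⟩
  · rw [Category.assoc, ← hφ, ← Spec.map_comp, hτφ, Spec.map_id]
  · rw [← Category.assoc, ← Spec.map_comp, hτres, hτ₀, ht'']

end Groth.Agent.Lib.Helper89.HensZMT
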