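import Mathlib.RingTheory.TensorProduct.Nontrivial
import Mathlib.RingTheory.LocalRing.ResidueField.Ideal
import Mathlib.RingTheory.Spectrum.Prime.Basic
import Mathlib.RingTheory.Spectrum.Prime.RingHom

/-!
# Primes of a tensor product over a pair of primes with the same contraction
-/

set_option autoImplicit false

open TensorProduct

namespace Groth.Agent.Lib.Helper89.PrimeTensor

/-- `Spec (S ⊗[R] T) → Spec S ×_{Spec R} Spec T` is surjective. -/
theorem exists_prime_tensor {R S T : Type*} [CommRing R] [CommRing S] [CommRing T]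
    [Algebra R S] [Algebra R T] (p : PrimeSpectrum S) (q : PrimeSpectrum T)
    (h : PrimeSpectrum.comap (algebraMap R S) p = PrimeSpectrum.comap (algebraMap R T) q) :
    ∃ r : PrimeSpectrum (S ⊗[R] T),
      PrimeSpectrum.comap (Algebra.TensorProduct.includeLeftRingHom : S →+* S ⊗[R] T) r = p ∧
      PrimeSpectrum.comap (Algebra.TensorProduct.includeRight : T →ₐ[R] S ⊗[R] T).toRingHom r = q := by
  set P : Ideal R := p.asIdeal.comap (algebraMap R S) with hP
  have hPq : P = q.asIdeal.comap (algebraMap R T) := congrArg PrimeSpectrum.asIdeal h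
  have : P.IsPrime := Ideal.IsPrime.comap _
  let i : P.ResidueField →+* p.asIdeal.ResidueField :=
    Ideal.ResidueField.map P p.asIdeal (algebraMap R S) rfl
  let j : P.ResidueField →+* q.asIdeal.ResidueField :=
    Ideal.ResidueField.map P q.asIdeal (algebraMap R T) hPq
  let algi : Algebra P.ResidueField p.asIdeal.ResidueField := i.toAlgebra
  let algj : Algebra P.ResidueField q.asIdeal.ResidueField := j.toAlgebra
  have : Nontrivial (p.asIdeal.ResidueField ⊗[P.ResidueField] q.asIdeal.ResidueField) :=
    Algebra.TensorProduct.nontrivial_of_algebraMap_injective_of_isDomain _ _ _ i.injective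
      j.injective
  set W := p.asIdeal.ResidueField ⊗[P.ResidueField] q.asIdeal.ResidueField with hW
  let φS : S →+* W := (Algebra.TensorProduct.includeLeftRingHom).comp
    (algebraMap S p.asIdeal.ResidueField)
  let φT : T →+* W := (Algebra.TensorProduct.includeRight :
      q.asIdeal.ResidueField →ₐ[P.ResidueField] W).toRingHom.comp
    (algebraMap T q.asIdeal.ResidueField)
  have hcompat : ∀ r : R, φS (algebraMap R S r) = φT (algebraMap R T r) := by
    intro r
    have h1 : algebraMap S p.asIdeal.ResidueField (algebraMap R S r) =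
        i (algebraMap R P.ResidueField r) :=
      (Ideal.ResidueField.map_algebraMap P p.asIdeal (algebraMap R S) rfl r).symm
    have h2 : algebraMap T q.asIdeal.ResidueField (algebraMap R T r) =
        j (algebraMap R P.ResidueField r) :=
      (Ideal.ResidueField.map_algebraMap P q.asIdeal (algebraMap R T) hPq r).symm
    change (algebraMap S p.asIdeal.ResidueField (algebraMap R S r)) ⊗ₜ[P.ResidueField] 1 =
      1 ⊗ₜ[P.ResidueField] (algebraMap T q.asIdeal.ResidueField (algebraMap R T r))
    rw [h1, h2]
    have e1 : i (algebraMap R P.ResidueField r) =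
        (algebraMap R P.ResidueField r) • (1 : p.asIdeal.ResidueField) := by
      rw [Algebra.smul_def, mul_one]; rfl
    have e2 : j (algebraMap R P.ResidueField r) =
        (algebraMap R P.ResidueField r) • (1 : q.asIdeal.ResidueField) := by
      rw [Algebra.smul_def, mul_one]; rfl
    rw [e1, e2, smul_tmul]
  let algW : Algebra R W := (φS.comp (algebraMap R S)).toAlgebra
  let f : S →ₐ[R] W := { φS with commutes' := fun r => rfl }
  let g : T →ₐ[R] W := { φT with commutes' := fun r => (hcompat r).symm }
  let Ψ : S ⊗[R] T →ₐ[R] W := Algebra.TensorProduct.productMap f g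
  obtain ⟨m, hm⟩ := Ideal.exists_maximal W
  have := hm.isPrime
  refine ⟨PrimeSpectrum.comap Ψ.toRingHom ⟨m, hm.isPrime⟩, ?_, ?_⟩
  · ext s
    simp only [PrimeSpectrum.comap_asIdeal, Ideal.mem_comap]
    have hΨ : Ψ.toRingHom (Algebra.TensorProduct.includeLeftRingHom s) = φS s := by
      change Ψ (s ⊗ₜ 1) = _
      simp [Ψ, f]
    rw [hΨ]
    -- φS s ∈ m ↔ s ∈ p
    have hbot : m.comap (Algebra.TensorProduct.includeLeftRingHom :
        p.asIdeal.ResidueField →+* W) = ⊥ := Ideal.eq_bot_of_prime _
    have : φS s ∈ m ↔ algebraMap S p.asIdeal.ResidueField s ∈ m.comap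
        (Algebra.TensorProduct.includeLeftRingHom : p.asIdeal.ResidueField →+* W) := Iff.rfl
    rw [this, hbot, Ideal.mem_bot, Ideal.algebraMap_residueField_eq_zero]
  · ext t
    simp only [PrimeSpectrum.comap_asIdeal, Ideal.mem_comap]
    have hΨ : Ψ.toRingHom ((Algebra.TensorProduct.includeRight :
        T →ₐ[R] S ⊗[R] T).toRingHom t) = φT t := by
      change Ψ (1 ⊗ₜ t) = _
      simp [Ψ, g]
    rw [hΨ]
    have hbot : m.comap (Algebra.TensorProduct.includeRight :
        q.asIdeal.ResidueField →ₐ[P.ResidueField] W).toRingHom = ⊥ := Ideal.eq_bot_of_prime _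
    have : φT t ∈ m ↔ algebraMap T q.asIdeal.ResidueField t ∈ m.comap
        (Algebra.TensorProduct.includeRight :
        q.asIdeal.ResidueField →ₐ[P.ResidueField] W).toRingHom := Iff.rfl
    rw [this, hbot, Ideal.mem_bot, Ideal.algebraMap_residueField_eq_zero]

end Groth.Agent.Lib.Helper89.PrimeTensor
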