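import Groth.Agent.Lib.Helper89.GalUniq
import Groth.Prelude.Def_Pi1X

set_option autoImplicit false
set_option linter.unusedSectionVars false

open CategoryTheory CategoryTheory.Limits CategoryTheory.PreGaloisCategory

namespace Groth.Agent.Lib.Helper89.GalFunctor

universe u v w

section Basic

variable {C : Type u} [Category.{v} C] [GaloisCategory C]
  (F : C ⥤ FintypeCat.{w}) [FiberFunctor F]

/-- An object is connected iff its fibre is nonempty and `Aut F` acts transitively on it. -/
lemma isConnected_of_pretransitive (X : C) [Nonempty (F.obj X)]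
    [MulAction.IsPretransitive (Aut F) (F.obj X)] : IsConnected X where
  notInitial hi := by
    obtain ⟨x⟩ := ‹Nonempty (F.obj X)›
    exact not_initial_of_inhabited F x hi
  noTrivialComponent Y i _ hY := by
    have : IsIso (F.map i) := by
      rw [ConcreteCategory.isIso_iff_bijective]
      refine ⟨(ConcreteCategory.mono_iff_injective_of_preservesPullback (F.map i)).mp inferInstance, ?_⟩
      have hne : Nonempty (F.obj Y) := by
        by_contra hcon
        obtain ⟨h⟩ := (initial_iff_fiber_empty F Y).mpr (not_nonempty_iff.mp hcon)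
        exact hY h
      obtain ⟨y⟩ := hne
      intro x
      obtain ⟨σ, hσ⟩ := MulAction.exists_smul_eq (Aut F) (F.map i y) x
      exact ⟨σ • y, by rw [← mulAction_naturality, hσ]⟩
    exact isIso_of_reflects_iso i F

end Basic

section FiberOfExact

variable {C : Type u} [Category.{v} C] [GaloisCategory C]

/-- An exact functor from a Galois category to finite sets is a fibre functor. -/
lemma fiberFunctor_of_exact (F : C ⥤ FintypeCat.{w}) [FiberFunctor F] (K : C ⥤ FintypeCat.{w})
    [PreservesFiniteLimits K] [PreservesFiniteColimits K] : FiberFunctor K := by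
  obtain ⟨e⟩ := GalUniq.nonempty_iso_of_exact (F := F) K
  exact
  { preservesTerminalObjects := inferInstance
    preservesPullbacks := inferInstance
    preservesFiniteCoproducts := inferInstance
    preservesEpis := preservesEpimorphisms_of_preservesColimitsOfShape K
    preservesQuotientsByFiniteGroups := fun G _ _ =>
      GalUniq.preservesColimitsOfShape_singleObj_of_finite G K
    reflectsIsos := reflectsIsomorphisms_of_iso e.symm }

lemma nonempty_obj_of_isGalois' (K : C ⥤ FintypeCat.{w})
    [PreservesLimitsOfShape (Discrete PEmpty.{1}) K] (A : C) [IsGalois A]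
    [PreservesColimitsOfShape (SingleObj (Aut A)) K] : Nonempty (K.obj A) := by
  let J : SingleObj (Aut A) ⥤ C := SingleObj.functor (Aut.toEnd A)
  have hQ : IsTerminal (colimit J) := isTerminalQuotientOfIsGalois A
  have hc : IsColimit (K.mapCocone (colimit.cocone J)) := isColimitOfPreserves K (colimit.isColimit J)
  have hT : IsTerminal (K.obj (colimit J)) := hQ.isTerminalObj K _
  let q : K.obj (colimit J) := hT.from (FintypeCat.of PUnit.{w+1}) PUnit.unit
  obtain ⟨j, z, -⟩ := Types.jointly_surjective_of_isColimit
    (isColimitOfPreserves FintypeCat.incl hc) q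
  exact ⟨z⟩

/-- The composite of an exact functor between Galois categories with a fibre functor is a fibre
functor. -/
lemma fiberFunctor_comp {C' : Type u} [Category.{v} C'] [GaloisCategory C']
    (F : C ⥤ FintypeCat.{w}) [FiberFunctor F]
    (H : C ⥤ C') [PreservesFiniteLimits H] [PreservesFiniteColimits H]
    (F' : C' ⥤ FintypeCat.{w}) [FiberFunctor F'] : FiberFunctor (H ⋙ F') := by
  have h1 : PreservesFiniteLimits (H ⋙ F') := comp_preservesFiniteLimits H F'
  have h2 : ∀ (G : Type v) [Group G] [Finite G], PreservesColimitsOfShape (SingleObj G) (H ⋙ F') :=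
    fun G _ _ => by
      have := GalUniq.preservesColimitsOfShape_singleObj_of_finite G H
      infer_instance
  obtain ⟨e⟩ := GalUniq.nonempty_iso_of_leftExact (F := F) (F' := H ⋙ F')
    (fun A hA => nonempty_obj_of_isGalois' (H ⋙ F') A)
  exact
  { preservesTerminalObjects := inferInstance
    preservesPullbacks := inferInstance
    preservesFiniteCoproducts := inferInstance
    preservesEpis := inferInstance
    preservesQuotientsByFiniteGroups := h2
    reflectsIsos := reflectsIsomorphisms_of_iso e.symm }

end FiberOfExact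

section Whisker

variable {C C' : Type u} [Category.{v} C] [Category.{v} C']
  (H : C ⥤ C') (F' : C' ⥤ FintypeCat.{w})

/-- The action of `Aut F'` on the fibres of `H ⋙ F'`. -/
@[reducible] def whiskerAction (X : C) : MulAction (Aut F') ((H ⋙ F').obj X) :=
  inferInstanceAs (MulAction (Aut F') (F'.obj (H.obj X)))

attribute [local instance] whiskerAction

lemma whiskerAction_def (X : C) (σ : Aut F') (x : (H ⋙ F').obj X) :
    σ • x = σ.hom.app (H.obj X) x := rfl

instance isNaturalSMul_whisker : IsNaturalSMul (H ⋙ F') (Aut F') where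
  naturality g _ _ f x := (FunctorToFintypeCat.naturality F' F' g.hom (H.map f) x).symm

lemma toAut_eq_autWhisker : toAut (H ⋙ F') (Aut F') = Pi1X.autWhisker H F' := by
  ext σ X x
  rfl

end Whisker


section Terminal

lemma subsingleton_of_isTerminal {T : FintypeCat.{w}} (h : IsTerminal T) : Subsingleton T := by
  constructor
  intro a b
  have := h.hom_ext (FintypeCat.homMk (X := FintypeCat.of PUnit.{w+1}) fun _ => a)
    (FintypeCat.homMk fun _ => b)
  exact ConcreteCategory.congr_hom this PUnit.unit

lemma nonempty_of_isTerminal {T : FintypeCat.{w}} (h : IsTerminal T) : Nonempty T :=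
  ⟨h.from (FintypeCat.of PUnit.{w+1}) PUnit.unit⟩

variable {C : Type u} [Category.{v} C] [HasTerminal C] (K : C ⥤ FintypeCat.{w})
  [PreservesLimitsOfShape (Discrete PEmpty.{1}) K]

lemma subsingleton_obj_terminal : Subsingleton (K.obj (⊤_ C)) :=
  subsingleton_of_isTerminal (terminalIsTerminal.isTerminalObj K _)

lemma nonempty_obj_terminal : Nonempty (K.obj (⊤_ C)) :=
  nonempty_of_isTerminal (terminalIsTerminal.isTerminalObj K _)

end Terminal

section Galois

variable {C C' : Type u} [Category.{v} C] [Category.{v} C'] [GaloisCategory C] [GaloisCategory C']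
  (H : C ⥤ C') (F' : C' ⥤ FintypeCat.{w}) [FiberFunctor F'] [FiberFunctor (H ⋙ F')]

attribute [local instance] whiskerAction

instance continuousSMul_whisker (X : C) : ContinuousSMul (Aut F') ((H ⋙ F').obj X) :=
  continuousSMul_aut_fiber F' (H.obj X)

lemma autWhisker_surjective_of_isPretransitive
    (h : ∀ (A : C) [IsGalois A], MulAction.IsPretransitive (Aut F') (F'.obj (H.obj A))) :
    Function.Surjective (Pi1X.autWhisker H F') := by
  rw [← toAut_eq_autWhisker]
  exact toAut_surjective_of_isPretransitive (H ⋙ F') (Aut F') (fun A _ => h A)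

lemma autWhisker_surjective_of_preservesConnected
    (h : ∀ X : C, IsConnected X → IsConnected (H.obj X)) :
    Function.Surjective (Pi1X.autWhisker H F') := by
  apply autWhisker_surjective_of_isPretransitive
  intro A _
  have := h A inferInstance
  infer_instance

lemma isPretransitive_of_autWhisker_surjective (h : Function.Surjective (Pi1X.autWhisker H F'))
    (X : C) [IsConnected X] : MulAction.IsPretransitive (Aut F') (F'.obj (H.obj X)) := by
  rw [← toAut_eq_autWhisker] at h
  exact isPretransitive_of_surjective (H ⋙ F') (Aut F') h X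

lemma isConnected_obj_of_autWhisker_surjective (h : Function.Surjective (Pi1X.autWhisker H F'))
    (X : C) [IsConnected X] : IsConnected (H.obj X) := by
  have := isPretransitive_of_autWhisker_surjective H F' h X
  have : Nonempty (F'.obj (H.obj X)) := nonempty_fiber_of_isConnected (H ⋙ F') X
  exact isConnected_of_pretransitive F' (H.obj X)

include F' in
lemma faithful_of_fiberFunctor : H.Faithful := by
  have : (H ⋙ F').Faithful := inferInstance
  exact Functor.Faithful.of_comp H F'

lemma full_of_autWhisker_surjective (h : Function.Surjective (Pi1X.autWhisker H F')) :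
    H.Full where
  map_surjective {X Y} f := by
    let φ : (functorToAction (H ⋙ F')).obj X ⟶ (functorToAction (H ⋙ F')).obj Y :=
      { hom := F'.map f
        comm := fun τ => by
          obtain ⟨σ, rfl⟩ := h τ
          ext x
          exact (FunctorToFintypeCat.naturality F' F' σ.hom f x).symm }
    obtain ⟨g, hg⟩ := (functorToAction (H ⋙ F')).map_surjective φ
    refine ⟨g, F'.map_injective ?_⟩
    exact congrArg Action.Hom.hom hg

include F' in
/-- A fully faithful exact functor between Galois categories preserves connected objects. -/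
lemma isConnected_obj_of_fullyFaithful [H.Full] [PreservesLimitsOfShape (Discrete PEmpty.{1}) H]
    [PreservesColimitsOfShape (Discrete WalkingPair) H] (X : C) [IsConnected X] :
    IsConnected (H.obj X) := by
  have hne : Nonempty (F'.obj (H.obj X)) := nonempty_fiber_of_isConnected (H ⋙ F') X
  suffices MulAction.IsPretransitive (Aut F') (F'.obj (H.obj X)) from
    isConnected_of_pretransitive F' (H.obj X)
  constructor
  intro x y
  set F := H ⋙ F' with hF
  -- the two points of the fibre of `⊤ ⨿ ⊤`
  have hss : Subsingleton (F.obj (⊤_ C)) := subsingleton_obj_terminal F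
  obtain ⟨t₀⟩ : Nonempty (F.obj (⊤_ C)) := nonempty_obj_terminal F
  let T : C := (⊤_ C) ⨿ (⊤_ C)
  let l : F.obj T := F.map coprod.inl t₀
  let r : F.obj T := F.map coprod.inr t₀
  have hlr : l ≠ r := by
    have hc : IsColimit (BinaryCofan.mk (F.map (coprod.inl : (⊤_ C) ⟶ T))
        (F.map (coprod.inr : (⊤_ C) ⟶ T))) :=
      isColimitMapCoconeBinaryCofanEquiv F _ _
        (isColimitOfPreserves F (coprodIsCoprod (⊤_ C) (⊤_ C)))
    obtain ⟨-, -, h3⟩ := GalUniq.binaryCofan_fintype _ _ hc
    intro hlr
    have : l ∈ Set.range (F.map (coprod.inl : (⊤_ C) ⟶ T)) ⊓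
        Set.range (F.map (coprod.inr : (⊤_ C) ⟶ T)) := ⟨⟨t₀, rfl⟩, ⟨t₀, hlr.symm⟩⟩
    rw [h3.inf_eq_bot] at this
    exact this
  have hss' : Subsingleton (F'.obj (H.obj (⊤_ C))) := hss
  have hl' : ∀ σ : Aut F', σ.hom.app (H.obj T) l = l := fun σ => by
    change σ.hom.app (H.obj T) (F'.map (H.map coprod.inl) t₀) = _
    rw [FunctorToFintypeCat.naturality F' F' σ.hom (H.map coprod.inl) t₀]
    exact congrArg _ (Subsingleton.elim _ _)
  have hr' : ∀ σ : Aut F', σ.hom.app (H.obj T) r = r := fun σ => by
    change σ.hom.app (H.obj T) (F'.map (H.map coprod.inr) t₀) = _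
    rw [FunctorToFintypeCat.naturality F' F' σ.hom (H.map coprod.inr) t₀]
    exact congrArg _ (Subsingleton.elim _ _)
  have hl : ∀ τ : Aut F, τ.hom.app T l = l := fun τ => by
    change τ.hom.app T (F.map coprod.inl t₀) = _
    rw [FunctorToFintypeCat.naturality F F τ.hom coprod.inl t₀]
    exact congrArg _ (Subsingleton.elim _ _)
  classical
  let O : Set (F'.obj (H.obj X)) := MulAction.orbit (Aut F') x
  let ψ : F'.obj (H.obj X) → F'.obj (H.obj T) := fun z => if z ∈ O then l else r
  let φ : (functorToAction F').obj (H.obj X) ⟶ (functorToAction F').obj (H.obj T) :=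
    { hom := FintypeCat.homMk ψ
      comm := fun σ => by
        refine FintypeCat.hom_ext _ _ (fun (z : F'.obj (H.obj X)) => ?_)
        change ψ (σ.hom.app _ z) = σ.hom.app _ (ψ z)
        have hmem : σ.hom.app (H.obj X) z ∈ O ↔ z ∈ O := by
          change σ • z ∈ MulAction.orbit (Aut F') x ↔ z ∈ MulAction.orbit (Aut F') x
          rw [← MulAction.orbit_eq_iff, ← MulAction.orbit_eq_iff, MulAction.orbit_smul]
        by_cases hz : z ∈ O
        · simp only [ψ]; rw [if_pos (hmem.mpr hz), if_pos hz]; exact (hl' σ).symm
        · simp only [ψ]; rw [if_neg (fun h => hz (hmem.mp h)), if_neg hz]; exact (hr' σ).symm }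
  obtain ⟨f, hf⟩ := (functorToAction F').map_surjective φ
  obtain ⟨χ, rfl⟩ := H.map_surjective f
  have hψ : ∀ z, F.map χ z = ψ z := fun z =>
    ConcreteCategory.congr_hom (congrArg Action.Hom.hom hf) z
  obtain ⟨τ, hτ⟩ := MulAction.exists_smul_eq (Aut F) (show F.obj X from x) y
  have hx : ψ x = l := by simp [ψ, O]
  have hy : ψ y = l := by
    rw [← hψ, ← hτ, ← mulAction_naturality, hψ, hx]
    exact hl τ
  have hyO : y ∈ O := by
    by_contra hyO
    apply hlr
    rw [← hy]; simp [ψ, hyO]
  obtain ⟨σ, hσ⟩ := hyO
  exact ⟨σ, hσ⟩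

end Galois

end Groth.Agent.Lib.Helper89.GalFunctor
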