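import Groth.Agent.Lib.Helper89.SplitRank
import Mathlib.AlgebraicGeometry.Morphisms.FlatMono
import Mathlib.AlgebraicGeometry.Morphisms.FormallyUnramified
import Mathlib.AlgebraicGeometry.Morphisms.Proper
import Mathlib.AlgebraicGeometry.ResidueField

/-!
# Splitting finite étale covers by finite étale covers (helper89)

* `IsTrivialisedBy φ ψ n t` : the `n` maps `t i : Y ⟶ X` over `S` induce, for every field `K`
  and `y ∈ Y(K)`, a bijection `Fin n ≃ {x ∈ X(K) | φ x = ψ y}`.
* `isIso_sigmaDesc_of_isTrivialisedBy` : then `∐_{Fin n} Y ⟶ X ×_S Y` is an isomorphism.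
* `exists_trivialisation` : a finite étale `φ` of constant rank `n` is trivialised by a finite
  étale surjective `ψ`.
-/

open AlgebraicGeometry CategoryTheory CategoryTheory.Limits

universe u

namespace Groth.Agent.Lib.Helper89.SplitCover

variable {X S Y : Scheme.{u}}

/-- The maps `t i : Y ⟶ X` over `S` trivialise `φ` after base change along `ψ`
(functor-of-points form on field valued points). -/
structure IsTrivialisedBy (φ : X ⟶ S) (ψ : Y ⟶ S) (n : ℕ) (t : Fin n → (Y ⟶ X)) : Prop where
  comp : ∀ i, t i ≫ φ = ψ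
  inj : ∀ (K : Type u) [Field K] (y : Spec (CommRingCat.of K) ⟶ Y) (i j : Fin n),
    y ≫ t i = y ≫ t j → i = j
  surj : ∀ (K : Type u) [Field K] (x : Spec (CommRingCat.of K) ⟶ X)
    (y : Spec (CommRingCat.of K) ⟶ Y), x ≫ φ = y ≫ ψ → ∃ i, x = y ≫ t i

/-- The section of `X ×_S Y ⟶ Y` given by `t : Y ⟶ X` over `S`. -/
noncomputable def sec (φ : X ⟶ S) (ψ : Y ⟶ S) (t : Y ⟶ X) (ht : t ≫ φ = ψ) : Y ⟶ pullback φ ψ :=
  pullback.lift t (𝟙 Y) (by rw [ht, Category.id_comp])

@[reassoc (attr := simp)]
lemma sec_fst (φ : X ⟶ S) (ψ : Y ⟶ S) (t : Y ⟶ X) (ht : t ≫ φ = ψ) :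
    sec φ ψ t ht ≫ pullback.fst φ ψ = t := pullback.lift_fst _ _ _

@[reassoc (attr := simp)]
lemma sec_snd (φ : X ⟶ S) (ψ : Y ⟶ S) (t : Y ⟶ X) (ht : t ≫ φ = ψ) :
    sec φ ψ t ht ≫ pullback.snd φ ψ = 𝟙 Y := pullback.lift_snd _ _ _

instance isOpenImmersion_sec (φ : X ⟶ S) [Etale φ] (ψ : Y ⟶ S) (t : Y ⟶ X) (ht : t ≫ φ = ψ) :
    IsOpenImmersion (sec φ ψ t ht) := by
  have h1 : Etale (sec φ ψ t ht ≫ pullback.snd φ ψ) := by rw [sec_snd]; infer_instance
  have h2 : Etale (sec φ ψ t ht) := Etale.of_comp (sec φ ψ t ht) (pullback.snd φ ψ)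
  have h3 : Mono (sec φ ψ t ht) := mono_of_mono_fac (sec_snd φ ψ t ht)
  exact IsOpenImmersion.of_flat_of_mono _

/-- A field valued point at a given point of a scheme. -/
lemma exists_field_point (P : Scheme.{u}) (z : P) :
    ∃ (K : Type u) (_ : Field K) (a : Spec (CommRingCat.of K) ⟶ P) (s : Spec (CommRingCat.of K)),
      a s = z :=
  ⟨P.residueField z, inferInstance, P.fromSpecResidueField z,
    (⟨⊥, Ideal.isPrime_bot⟩ : PrimeSpectrum (P.residueField z)),
    Scheme.fromSpecResidueField_apply z _⟩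

theorem isIso_sigmaDesc_of_isTrivialisedBy (φ : X ⟶ S) [Etale φ] (ψ : Y ⟶ S) (n : ℕ)
    (t : Fin n → (Y ⟶ X)) (H : IsTrivialisedBy φ ψ n t) :
    IsIso (Sigma.desc fun i : Fin n => sec φ ψ (t i) (H.comp i)) := by
  have hdisj : Pairwise (Function.onFun Disjoint
      (fun i : Fin n => Set.range (sec φ ψ (t i) (H.comp i)))) := by
    intro i j hij
    rw [Function.onFun, Set.disjoint_iff]
    rintro z ⟨⟨y, hy⟩, ⟨y', hy'⟩⟩
    obtain ⟨w, hw1, hw2⟩ := Scheme.Pullback.exists_preimage_pullback
      (f := sec φ ψ (t i) (H.comp i)) (g := sec φ ψ (t j) (H.comp j)) y y' (hy.trans hy'.symm)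
    obtain ⟨K, _, a, s, has⟩ := exists_field_point _ w
    have hcond : (a ≫ pullback.fst _ _) ≫ sec φ ψ (t i) (H.comp i) =
        (a ≫ pullback.snd _ _) ≫ sec φ ψ (t j) (H.comp j) := by
      rw [Category.assoc, Category.assoc, pullback.condition]
    have hab : a ≫ pullback.fst _ _ = a ≫ pullback.snd _ _ := by
      have := congr($hcond ≫ pullback.snd φ ψ)
      simpa using this
    have htt : (a ≫ pullback.fst _ _) ≫ t i = (a ≫ pullback.fst _ _) ≫ t j := by
      have := congr($hcond ≫ pullback.fst φ ψ)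
      rw [← hab] at this
      simpa using this
    exact hij (H.inj K _ i j htt)
  have : IsOpenImmersion (Sigma.desc fun i : Fin n => sec φ ψ (t i) (H.comp i)) :=
    isOpenImmersion_sigmaDesc _ _ hdisj
  apply isIso_of_isOpenImmersion_of_opensRange_eq_top
  rw [eq_top_iff]
  intro z _
  obtain ⟨K, _, a, s, has⟩ := exists_field_point _ z
  obtain ⟨i, hi⟩ := H.surj K (a ≫ pullback.fst φ ψ) (a ≫ pullback.snd φ ψ)
    (by rw [Category.assoc, Category.assoc, pullback.condition])
  have ha : a = (a ≫ pullback.snd φ ψ) ≫ sec φ ψ (t i) (H.comp i) := by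
    apply pullback.hom_ext
    · rw [Category.assoc, sec_fst, hi]
    · rw [Category.assoc, sec_snd, Category.comp_id]
  refine ⟨Sigma.ι (fun _ : Fin n => Y) i ((a ≫ pullback.snd φ ψ) s), ?_⟩
  rw [← Scheme.Hom.comp_apply, Sigma.ι_desc, ← Scheme.Hom.comp_apply, ← ha, has]

section Step

variable (φ : X ⟶ S) [IsFinite φ] [Etale φ]

/-- The complement of the diagonal in `X ×_S X`. -/
noncomputable def offDiag : (pullback φ φ).Opens :=
  ⟨(Set.range (pullback.diagonal φ))ᶜ,
    (pullback.diagonal φ).isClosedEmbedding.isClosed_range.isOpen_compl⟩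

omit [Etale φ] in
lemma mem_offDiag (z : ↥(pullback φ φ)) : z ∈ offDiag φ ↔ z ∉ Set.range (pullback.diagonal φ) :=
  Iff.rfl

lemma isCompl_diag_offDiag : IsCompl (pullback.diagonal φ).opensRange (offDiag φ) := by
  constructor
  · rw [disjoint_iff]
    ext z
    simp only [TopologicalSpace.Opens.coe_inf, Scheme.Hom.coe_opensRange, Set.mem_inter_iff,
      TopologicalSpace.Opens.coe_bot, Set.mem_empty_iff_false, iff_false, not_and]
    intro h1 h2
    exact h2 h1
  · rw [codisjoint_iff]
    ext z
    simp only [TopologicalSpace.Opens.coe_sup, Scheme.Hom.coe_opensRange, Set.mem_union,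
      TopologicalSpace.Opens.coe_top, Set.mem_univ, iff_true]
    exact em _

instance : IsClosedImmersion (offDiag φ).ι := by
  apply IsClosedImmersion.of_isPreimmersion
  rw [Scheme.Opens.range_ι]
  exact (pullback.diagonal φ).isOpenEmbedding.isOpen_range.isClosed_compl

/-- The structure map of the complement of the diagonal (second projection). -/
noncomputable def offDiagHom : (offDiag φ).toScheme ⟶ X := (offDiag φ).ι ≫ pullback.snd φ φ

instance : IsFinite (offDiagHom φ) := by unfold offDiagHom; infer_instance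
instance : Etale (offDiagHom φ) := by unfold offDiagHom; infer_instance

lemma finrank_offDiagHom (x : X) : (offDiagHom φ).finrank x + 1 = φ.finrank (φ x) := by
  obtain ⟨hc⟩ := nonempty_isColimit_binaryCofanMk_of_isCompl (pullback.diagonal φ)
    (offDiag φ).ι (by rw [Scheme.Opens.opensRange_ι]; exact isCompl_diag_offDiag φ)
  have h1 : IsFinite (pullback.diagonal φ ≫ pullback.snd φ φ) := by
    rw [pullback.diagonal_snd]; infer_instance
  have h2 : Flat (pullback.diagonal φ ≫ pullback.snd φ φ) := by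
    rw [pullback.diagonal_snd]; infer_instance
  have h3 : IsFinite ((offDiag φ).ι ≫ pullback.snd φ φ) := inferInstanceAs (IsFinite (offDiagHom φ))
  have h4 : Flat ((offDiag φ).ι ≫ pullback.snd φ φ) := inferInstanceAs (Flat (offDiagHom φ))
  have := SplitRank.finrank_of_isColimit _ _ hc (pullback.snd φ φ) x
  rw [Scheme.Hom.finrank_pullback_snd] at this
  rw [this, add_comm]
  congr 1
  have h5 : pullback.diagonal φ ≫ pullback.snd φ φ = 𝟙 X := pullback.diagonal_snd φ
  rw [h5, Scheme.Hom.finrank_eq_one_of_isIso]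
  rfl

end Step

lemma spec_field_apply_eq {K : Type u} [Field K] (s s' : Spec (CommRingCat.of K)) : s = s' :=
  (inferInstance : Subsingleton (PrimeSpectrum K)).elim s s'

lemma range_subset_of_mem {K : Type u} [Field K] {P : Scheme.{u}} (b : Spec (CommRingCat.of K) ⟶ P)
    (U : Set P) (s : Spec (CommRingCat.of K)) (h : b s ∈ U) : Set.range b ⊆ U := by
  rintro _ ⟨s', rfl⟩
  rwa [spec_field_apply_eq s' s]

lemma eq_diag_of {T : Scheme.{u}} (φ : X ⟶ S) (b : T ⟶ pullback φ φ)
    (h : b ≫ pullback.fst φ φ = b ≫ pullback.snd φ φ) :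
    b = (b ≫ pullback.fst φ φ) ≫ pullback.diagonal φ := by
  apply pullback.hom_ext
  · simp
  · simp [h]

lemma ι_mem_offDiag (φ : X ⟶ S) [IsFinite φ] [Etale φ] (z : (offDiag φ).toScheme) :
    (offDiag φ).ι z ∈ offDiag φ := by
  have : (offDiag φ).ι z ∈ Set.range (offDiag φ).ι := ⟨z, rfl⟩
  rwa [Scheme.Opens.range_ι] at this

/-- A finite étale morphism of constant rank `n` is trivialised by a finite étale surjective
morphism. -/
theorem exists_trivialisation (n : ℕ) : ∀ {X S : Scheme.{u}} (φ : X ⟶ S) [IsFinite φ] [Etale φ],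
    (∀ s, φ.finrank s = n) →
    ∃ (Y : Scheme.{u}) (ψ : Y ⟶ S) (t : Fin n → (Y ⟶ X)),
      IsFinite ψ ∧ Etale ψ ∧ Surjective ψ ∧ IsTrivialisedBy φ ψ n t := by
  induction n with
  | zero =>
    intro X S φ _ _ h
    have hX : IsEmpty X := ⟨fun x => by
      have := Scheme.Hom.one_le_finrank_map φ x
      rw [h] at this
      exact absurd this (by norm_num)⟩
    refine ⟨S, 𝟙 S, Fin.elim0, inferInstance, inferInstance, inferInstance,
      ⟨fun i => i.elim0, fun _ _ _ i => i.elim0, fun K _ x y _ => ?_⟩⟩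
    exact (hX.false (x (⟨⊥, Ideal.isPrime_bot⟩ : PrimeSpectrum K))).elim
  | succ n ih =>
    intro X S φ _ _ h
    have hrank : ∀ x, (offDiagHom φ).finrank x = n := fun x => by
      have := finrank_offDiagHom φ x
      rw [h] at this
      omega
    obtain ⟨Y, ψ', t', hfin, het, hsurj, H'⟩ := ih (offDiagHom φ) hrank
    have hφsurj : Surjective φ :=
      (Scheme.Hom.one_le_finrank_iff_surjective φ).mp (fun s => by
        show 1 ≤ φ.finrank s
        rw [h]; omega)
    have hcomp' : ∀ i, t' i ≫ (offDiag φ).ι ≫ pullback.snd φ φ = ψ' := H'.comp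
    refine ⟨Y, ψ' ≫ φ, Fin.cons ψ' (fun i => t' i ≫ (offDiag φ).ι ≫ pullback.fst φ φ),
      inferInstance, inferInstance, inferInstance, ⟨?_, ?_, ?_⟩⟩
    · intro i
      refine Fin.cases ?_ (fun i => ?_) i
      · rw [Fin.cons_zero]
      · rw [Fin.cons_succ, Category.assoc, Category.assoc, pullback.condition, ← hcomp' i]
        simp only [Category.assoc]
    · intro K _ y i k
      -- key: a point of offDiag cannot be diagonal
      have key : ∀ k : Fin n, y ≫ ψ' ≠ y ≫ t' k ≫ (offDiag φ).ι ≫ pullback.fst φ φ := by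
        intro k hk
        let b : Spec (CommRingCat.of K) ⟶ pullback φ φ := y ≫ t' k ≫ (offDiag φ).ι
        have hb : b ≫ pullback.fst φ φ = b ≫ pullback.snd φ φ := by
          simp only [b, Category.assoc]
          rw [← hk, hcomp' k]
        have hb2 := eq_diag_of φ b hb
        let s : Spec (CommRingCat.of K) := (⟨⊥, Ideal.isPrime_bot⟩ : PrimeSpectrum K)
        have h1 : b s ∈ offDiag φ := by
          simp only [b, Scheme.Hom.comp_apply]
          exact ι_mem_offDiag φ _
        have h2 : b s ∈ Set.range (pullback.diagonal φ) := by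
          rw [hb2, Scheme.Hom.comp_apply]
          exact ⟨_, rfl⟩
        exact (mem_offDiag φ _).mp h1 h2
      refine Fin.cases ?_ (fun i => ?_) i <;> refine Fin.cases ?_ (fun k => ?_) k
      · intro _; rfl
      · intro hh
        rw [Fin.cons_zero, Fin.cons_succ] at hh
        exact (key k hh).elim
      · intro hh
        rw [Fin.cons_zero, Fin.cons_succ] at hh
        exact (key i hh.symm).elim
      · intro hh
        rw [Fin.cons_succ, Fin.cons_succ] at hh
        have h1 : y ≫ t' i ≫ (offDiag φ).ι = y ≫ t' k ≫ (offDiag φ).ι := by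
          apply pullback.hom_ext
          · simpa only [Category.assoc] using hh
          · simp only [Category.assoc]
            rw [hcomp' i, hcomp' k]
        have h2 : y ≫ t' i = y ≫ t' k := by
          rw [← cancel_mono (offDiag φ).ι]
          simpa only [Category.assoc] using h1
        rw [H'.inj K y i k h2]
    · intro K _ x y hxy
      let s : Spec (CommRingCat.of K) := (⟨⊥, Ideal.isPrime_bot⟩ : PrimeSpectrum K)
      let b : Spec (CommRingCat.of K) ⟶ pullback φ φ :=
        pullback.lift x (y ≫ ψ') (by rw [hxy, Category.assoc])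
      have hb1 : b ≫ pullback.fst φ φ = x := pullback.lift_fst _ _ _
      have hb2 : b ≫ pullback.snd φ φ = y ≫ ψ' := pullback.lift_snd _ _ _
      by_cases hmem : b s ∈ Set.range (pullback.diagonal φ)
      · refine ⟨0, ?_⟩
        rw [Fin.cons_zero]
        have hsub : Set.range b ⊆ Set.range (pullback.diagonal φ) :=
          range_subset_of_mem b _ s hmem
        let c := IsOpenImmersion.lift (pullback.diagonal φ) b hsub
        have hc : c ≫ pullback.diagonal φ = b := IsOpenImmersion.lift_fac _ _ _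
        have e1 : x = c := by
          rw [← hb1, ← hc, Category.assoc, pullback.diagonal_fst, Category.comp_id]
        have e2 : y ≫ ψ' = c := by
          rw [← hb2, ← hc, Category.assoc, pullback.diagonal_snd, Category.comp_id]
        rw [e1, e2]
      · have hsub : Set.range b ⊆ Set.range (offDiag φ).ι := by
          rw [Scheme.Opens.range_ι]
          exact range_subset_of_mem b _ s ((mem_offDiag φ _).mpr hmem)
        let c := IsOpenImmersion.lift (offDiag φ).ι b hsub
        have hc : c ≫ (offDiag φ).ι = b := IsOpenImmersion.lift_fac _ _ _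
        have hc2 : c ≫ offDiagHom φ = y ≫ ψ' := by
          unfold offDiagHom
          rw [← Category.assoc, hc, hb2]
        obtain ⟨i, hi⟩ := H'.surj K c y hc2
        refine ⟨i.succ, ?_⟩
        rw [Fin.cons_succ, ← hb1, ← hc, hi]
        simp only [Category.assoc]

end Groth.Agent.Lib.Helper89.SplitCover
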