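import Groth.Agent.Lib.Helper89.FEtFF
import Mathlib.AlgebraicGeometry.Morphisms.UniversallyInjective
import Mathlib.AlgebraicGeometry.Morphisms.Integral

/-!
# Descent of morphisms to étale schemes along universal homeomorphisms

* `eq_of_comp_eq_of_unramified`: rigidity of morphisms to unramified schemes.
* `exists_section_descent`: for `g : S' ⟶ S` integral, universally injective and surjective and
  `p : X ⟶ S` étale, every section of the base change `X' ⟶ S'` comes from a section of `p`.
* `exists_hom_descent`: the same for `S`-morphisms `Y ⟶ X`.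
-/

set_option autoImplicit false
universe u
open AlgebraicGeometry CategoryTheory CategoryTheory.Limits MorphismProperty

namespace Groth.Agent.Lib.Helper89.EtaleDescent

open Groth.Agent.Lib.Helper89.FEtFF

/-- Rigidity: two morphisms `a b : Y ⟶ X` over `S`, with `X ⟶ S` unramified, which agree after
precomposition with a surjective morphism, agree. -/
theorem eq_of_comp_eq_of_unramified {S X Y T : Scheme.{u}} (q : X ⟶ S) [LocallyOfFiniteType q]
    [FormallyUnramified q] (a b : Y ⟶ X) (hab : a ≫ q = b ≫ q) (t : T ⟶ Y)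
    (ht : Function.Surjective t.base) (h : t ≫ a = t ≫ b) : a = b := by
  obtain ⟨l, hl_fst, hl_snd⟩ : ∃ l : Y ⟶ pullback q q,
      l ≫ pullback.fst q q = a ∧ l ≫ pullback.snd q q = b :=
    ⟨pullback.lift a b hab, pullback.lift_fst _ _ _, pullback.lift_snd _ _ _⟩
  obtain ⟨ι, hι⟩ : ∃ ι : pullback (pullback.diagonal q) l ⟶ Y, ι = pullback.snd _ _ := ⟨_, rfl⟩
  have hιab : ι ≫ a = ι ≫ b := by
    have h1 : ι ≫ l = pullback.fst _ _ ≫ pullback.diagonal q := by
      rw [hι]; exact pullback.condition.symm
    have h2 := congrArg (· ≫ pullback.fst q q) h1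
    have h3 := congrArg (· ≫ pullback.snd q q) h1
    simp only [Category.assoc, hl_fst, hl_snd,
      pullback.diagonal_fst, pullback.diagonal_snd, Category.comp_id] at h2 h3
    rw [h2, h3]
  have : IsOpenImmersion ι := by rw [hι]; infer_instance
  obtain ⟨r, hr⟩ : ∃ r : T ⟶ pullback (pullback.diagonal q) l, r ≫ ι = t :=
    ⟨pullback.lift (t ≫ a) t (by
      apply pullback.hom_ext
      · rw [Category.assoc, pullback.diagonal_fst, Category.comp_id, Category.assoc, hl_fst]
      · rw [Category.assoc, pullback.diagonal_snd, Category.comp_id, Category.assoc, hl_snd, h]),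
      by rw [hι]; exact pullback.lift_snd _ _ _⟩
  have hs : Function.Surjective ι.base := by
    intro y
    obtain ⟨z, rfl⟩ := ht y
    exact ⟨r.base z, congrArg (fun g : T ⟶ Y => g.base z) hr⟩
  have : Surjective ι := ⟨hs⟩
  have : IsIso ι := (isIso_iff_isOpenImmersion_and_surjective ι).mpr ⟨inferInstance, inferInstance⟩
  exact (cancel_epi ι).mp hιab


/-- A closed bijective continuous map is open. -/
lemma isOpenMap_of_isClosedMap_of_bijective {α β : Type*} [TopologicalSpace α] [TopologicalSpace β]
    {f : α → β} (hc : IsClosedMap f) (hb : Function.Bijective f) : IsOpenMap f := by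
  intro T hT
  have : f '' T = (f '' Tᶜ)ᶜ := by rw [Set.image_compl_eq hb, compl_compl]
  rw [this]
  exact (hc _ hT.isClosed_compl).isOpen_compl

section

variable {S S' : Scheme.{u}} (g : S' ⟶ S) [IsIntegralHom g] [UniversallyInjective g] [Surjective g]

/-- Every section of the base change of an étale `p : X ⟶ S` along a universal homeomorphism
`g : S' ⟶ S` descends to a section of `p`. -/
theorem exists_section_descent {X : Scheme.{u}} (p : X ⟶ S) [Etale p]
    (τ : S' ⟶ pullback p g) (hτ : τ ≫ pullback.snd p g = 𝟙 S') :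
    ∃ σ : S ⟶ X, σ ≫ p = 𝟙 S ∧ g ≫ σ = τ ≫ pullback.fst p g := by
  have : IsOpenImmersion τ := isOpenImmersion_of_section τ (pullback.snd p g) hτ
  have hgX1 : IsIntegralHom (pullback.fst p g) :=
    MorphismProperty.of_isPullback (P := @IsIntegralHom) (IsPullback.of_hasPullback p g).flip
      inferInstance
  have hgX2 : UniversallyInjective (pullback.fst p g) :=
    MorphismProperty.of_isPullback (P := @UniversallyInjective)
      (IsPullback.of_hasPullback p g).flip inferInstance
  have hgX3 : Surjective (pullback.fst p g) :=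
    MorphismProperty.of_isPullback (P := @Surjective) (IsPullback.of_hasPullback p g).flip
      inferInstance
  have hopen : IsOpenMap (pullback.fst p g).base :=
    isOpenMap_of_isClosedMap_of_bijective (pullback.fst p g).isClosedMap
      ⟨(pullback.fst p g).injective, (pullback.fst p g).surjective⟩
  -- the open subscheme `U` of `X`
  obtain ⟨U, ιU, hιo, hιr⟩ : ∃ (U : Scheme.{u}) (ιU : U ⟶ X),
      IsOpenImmersion ιU ∧ Set.range ιU.base = (pullback.fst p g).base '' Set.range τ.base :=
    ⟨((⟨(pullback.fst p g).base '' Set.range τ.base,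
        hopen _ τ.isOpenEmbedding.isOpen_range⟩ : X.Opens) : Scheme.{u}), Scheme.Opens.ι _,
      inferInstance, Scheme.Opens.range_ι _⟩
  obtain ⟨u, hu⟩ : ∃ u : U ⟶ S, u = ιU ≫ p := ⟨_, rfl⟩
  have : Etale u := by rw [hu]; infer_instance
  obtain ⟨v, hv_fst, hv_snd⟩ : ∃ v : pullback u g ⟶ pullback p g,
      v ≫ pullback.fst p g = pullback.fst u g ≫ ιU ∧
      v ≫ pullback.snd p g = pullback.snd u g :=
    ⟨pullback.lift (pullback.fst u g ≫ ιU) (pullback.snd u g)
      (by rw [Category.assoc, ← hu]; exact pullback.condition),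
      pullback.lift_fst _ _ _, pullback.lift_snd _ _ _⟩
  have sqv : IsPullback (pullback.fst u g) v ιU (pullback.fst p g) := by
    refine IsPullback.of_bot ?_ hv_fst.symm (IsPullback.of_hasPullback p g)
    rw [hv_snd, ← hu]
    exact IsPullback.of_hasPullback u g
  have : IsOpenImmersion v := MorphismProperty.of_isPullback (P := @IsOpenImmersion) sqv hιo
  have hvr : Set.range v.base = Set.range τ.base := by
    rw [range_snd_of_isPullback sqv, hιr, Set.preimage_image_eq _ (pullback.fst p g).injective]
  obtain ⟨e, he⟩ : ∃ e : pullback u g ≅ S', e.hom ≫ τ = v :=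
    ⟨IsOpenImmersion.isoOfRangeEq v τ hvr, IsOpenImmersion.isoOfRangeEq_hom_fac _ _ _⟩
  have he' : e.hom = pullback.snd u g := by
    rw [← hv_snd, ← he, Category.assoc, hτ, Category.comp_id]
  -- `u` is surjective
  have hus : Function.Surjective u.base := by
    intro s
    obtain ⟨s', rfl⟩ := g.surjective s
    refine ⟨(pullback.fst u g).base (e.inv.base s'), ?_⟩
    have h1 : e.inv ≫ pullback.fst u g ≫ u = g := by
      rw [pullback.condition, ← he', Iso.inv_hom_id_assoc]
    exact congrArg (fun k : S' ⟶ S => k.base s') h1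
  -- the diagonal of `u` is surjective
  have hud : Function.Surjective (pullback.diagonal u).base := by
    obtain ⟨pW, hpW⟩ : ∃ pW : pullback u u ⟶ S, pW = pullback.fst u u ≫ u := ⟨_, rfl⟩
    have hpW' : pW = pullback.snd u u ≫ u := by rw [hpW, pullback.condition]
    obtain ⟨a₁, ha₁_fst, ha₁_snd⟩ : ∃ a₁ : pullback pW g ⟶ pullback u g,
        a₁ ≫ pullback.fst u g = pullback.fst pW g ≫ pullback.fst u u ∧
        a₁ ≫ pullback.snd u g = pullback.snd pW g :=
      ⟨pullback.lift (pullback.fst pW g ≫ pullback.fst u u) (pullback.snd pW g)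
        (by rw [Category.assoc, ← hpW]; exact pullback.condition),
        pullback.lift_fst _ _ _, pullback.lift_snd _ _ _⟩
    obtain ⟨a₂, ha₂_fst, ha₂_snd⟩ : ∃ a₂ : pullback pW g ⟶ pullback u g,
        a₂ ≫ pullback.fst u g = pullback.fst pW g ≫ pullback.snd u u ∧
        a₂ ≫ pullback.snd u g = pullback.snd pW g :=
      ⟨pullback.lift (pullback.fst pW g ≫ pullback.snd u u) (pullback.snd pW g)
        (by rw [Category.assoc, ← hpW']; exact pullback.condition),
        pullback.lift_fst _ _ _, pullback.lift_snd _ _ _⟩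
    have ha : a₁ = a₂ := by
      rw [← cancel_mono e.hom, he', ha₁_snd, ha₂_snd]
    have h12 : pullback.fst pW g ≫ pullback.fst u u = pullback.fst pW g ≫ pullback.snd u u := by
      rw [← ha₁_fst, ← ha₂_fst, ha]
    have hfac : (pullback.fst pW g ≫ pullback.fst u u) ≫ pullback.diagonal u =
        pullback.fst pW g := by
      apply pullback.hom_ext
      · rw [Category.assoc, pullback.diagonal_fst, Category.comp_id]
      · rw [Category.assoc, pullback.diagonal_snd, Category.comp_id, h12]
    have hW3 : Surjective (pullback.fst pW g) :=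
      MorphismProperty.of_isPullback (P := @Surjective) (IsPullback.of_hasPullback pW g).flip
        inferInstance
    intro w
    obtain ⟨w', rfl⟩ := (pullback.fst pW g).surjective w
    refine ⟨(pullback.fst pW g ≫ pullback.fst u u).base w', ?_⟩
    exact congrArg (fun k : pullback pW g ⟶ pullback u u => k.base w') hfac
  have : IsIso u := isIso_of_etale_of_surjective_of_diagonal u hus hud
  refine ⟨inv u ≫ ιU, ?_, ?_⟩
  · rw [Category.assoc, ← hu, IsIso.inv_hom_id]
  · have h1 : τ = e.inv ≫ v := by rw [← he, Iso.inv_hom_id_assoc]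
    have h2 : e.inv ≫ pullback.fst u g = g ≫ inv u := by
      rw [← cancel_mono u, Category.assoc, Category.assoc, IsIso.inv_hom_id, Category.comp_id,
        pullback.condition, ← he', Iso.inv_hom_id_assoc]
    rw [h1, Category.assoc, hv_fst, ← Category.assoc e.inv, h2, Category.assoc]

/-- Every `S'`-morphism between the base changes of `Y` and `X` (with `X ⟶ S` étale) along a
universal homeomorphism `g : S' ⟶ S` descends to an `S`-morphism `Y ⟶ X`. -/
theorem exists_hom_descent {X Y : Scheme.{u}} (pX : X ⟶ S) [Etale pX] (pY : Y ⟶ S)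
    (ψ : pullback pY g ⟶ pullback pX g) (hψ : ψ ≫ pullback.snd pX g = pullback.snd pY g) :
    ∃ φ : Y ⟶ X, φ ≫ pX = pY ∧ pullback.fst pY g ≫ φ = ψ ≫ pullback.fst pX g := by
  have h1 : IsIntegralHom (pullback.fst pY g) :=
    MorphismProperty.of_isPullback (P := @IsIntegralHom) (IsPullback.of_hasPullback pY g).flip
      inferInstance
  have h2 : UniversallyInjective (pullback.fst pY g) :=
    MorphismProperty.of_isPullback (P := @UniversallyInjective)
      (IsPullback.of_hasPullback pY g).flip inferInstance
  have h3 : Surjective (pullback.fst pY g) :=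
    MorphismProperty.of_isPullback (P := @Surjective) (IsPullback.of_hasPullback pY g).flip
      inferInstance
  obtain ⟨t0, ht0_fst, ht0_snd⟩ : ∃ t0 : pullback pY g ⟶ pullback pX pY,
      t0 ≫ pullback.fst pX pY = ψ ≫ pullback.fst pX g ∧
      t0 ≫ pullback.snd pX pY = pullback.fst pY g :=
    ⟨pullback.lift (ψ ≫ pullback.fst pX g) (pullback.fst pY g)
      (by rw [Category.assoc, pullback.condition, ← Category.assoc, hψ, pullback.condition]),
      pullback.lift_fst _ _ _, pullback.lift_snd _ _ _⟩
  obtain ⟨τ, hτ_fst, hτ_snd⟩ : ∃ τ : pullback pY g ⟶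
        pullback (pullback.snd pX pY) (pullback.fst pY g),
      τ ≫ pullback.fst _ _ = t0 ∧ τ ≫ pullback.snd _ _ = 𝟙 _ :=
    ⟨pullback.lift t0 (𝟙 _) (by rw [ht0_snd, Category.id_comp]),
      pullback.lift_fst _ _ _, pullback.lift_snd _ _ _⟩
  obtain ⟨σ, hσ1, hσ2⟩ := exists_section_descent (pullback.fst pY g) (pullback.snd pX pY) τ hτ_snd
  refine ⟨σ ≫ pullback.fst pX pY, ?_, ?_⟩
  · rw [Category.assoc, pullback.condition, ← Category.assoc, hσ1, Category.id_comp]
  · rw [← Category.assoc, hσ2, hτ_fst, ht0_fst]

omit [IsIntegralHom g] [UniversallyInjective g] in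
/-- Uniqueness in `exists_hom_descent`. -/
theorem hom_descent_unique {X Y : Scheme.{u}} (pX : X ⟶ S) [Etale pX] (pY : Y ⟶ S)
    (φ₁ φ₂ : Y ⟶ X) (h₁ : φ₁ ≫ pX = pY) (h₂ : φ₂ ≫ pX = pY)
    (h : pullback.fst pY g ≫ φ₁ = pullback.fst pY g ≫ φ₂) : φ₁ = φ₂ := by
  have h3 : Surjective (pullback.fst pY g) :=
    MorphismProperty.of_isPullback (P := @Surjective) (IsPullback.of_hasPullback pY g).flip
      inferInstance
  exact eq_of_comp_eq_of_unramified pX φ₁ φ₂ (h₁.trans h₂.symm) (pullback.fst pY g)
    (pullback.fst pY g).surjective h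

end

end Groth.Agent.Lib.Helper89.EtaleDescent
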