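import Groth.Agent.Lib.Helper89.SplitFold

/-!
# The fold map over an arbitrary finite index type is finite étale (helper89)
-/

open AlgebraicGeometry CategoryTheory CategoryTheory.Limits

universe u

namespace Groth.Agent.Lib.Helper89.SplitFold

variable (Y : Scheme.{u})

theorem isFinite_foldOfFinite (ι : Type u) [Finite ι] :
    IsFinite (Sigma.desc fun _ : ι => 𝟙 Y) := by
  obtain ⟨n, ⟨e⟩⟩ := Finite.exists_equiv_fin ι
  let r : (∐ fun _ : ι => Y) ⟶ ∐ fun _ : Fin n => Y :=
    Sigma.desc fun i => Sigma.ι (fun _ : Fin n => Y) (e i)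
  let r' : (∐ fun _ : Fin n => Y) ⟶ ∐ fun _ : ι => Y :=
    Sigma.desc fun j => Sigma.ι (fun _ : ι => Y) (e.symm j)
  have h1 : r ≫ r' = 𝟙 _ := by
    apply Sigma.hom_ext
    intro i
    simp only [r, r', Sigma.ι_desc_assoc, Sigma.ι_desc, Category.comp_id, Equiv.symm_apply_apply]
  have h2 : r' ≫ r = 𝟙 _ := by
    apply Sigma.hom_ext
    intro i
    simp only [r, r', Sigma.ι_desc_assoc, Sigma.ι_desc, Category.comp_id, Equiv.apply_symm_apply]
  have : IsIso r := ⟨r', h1, h2⟩
  have h3 : (Sigma.desc fun _ : ι => 𝟙 Y) = r ≫ fold Y n := by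
    apply Sigma.hom_ext
    intro i
    simp only [r, Sigma.ι_desc_assoc, Sigma.ι_desc]
  rw [h3]
  infer_instance

end Groth.Agent.Lib.Helper89.SplitFold
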