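import Mathlib
import Groth.Prelude.Def_Pi1
import Groth.Agent.Lib.Helper89.FS4
import Groth.Agent.Lib.Helper89.SplitFold2

set_option autoImplicit false
universe u

open CategoryTheory CategoryTheory.Limits AlgebraicGeometry TopologicalSpace

namespace Groth.Agent.Lib.Helper89.FS

variable {k : Type u} [Field k]

/-- `∐_ι X_L` is the base change of `X` to `∐_ι Spec L` -/
lemma isPullback_sigma (L : Type u) [Field L] [Algebra k L] {X : Scheme.{u}}
    (f : X ⟶ Spec (CommRingCat.of k)) (ι : Type u) [Finite ι] :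
    IsPullback (Sigma.desc (fun _ : ι => pullback.fst f (pE k L)))
      (Sigma.desc (fun i : ι => pullback.snd f (pE k L) ≫
        Sigma.ι (fun _ : ι => Spec (CommRingCat.of L)) i))
      f (Sigma.desc (fun _ : ι => pE k L)) := by
  have H := IsUniversalColimit.isPullback_of_isColimit_left
    (X := fun _ : ι => Spec (CommRingCat.of L))
    (FinitaryPreExtensive.isUniversal_finiteCoproducts (coproductIsCoproduct _))
    (fun _ => pE k L) (Sigma.desc (fun _ : ι => pE k L)) f
    (fun _ => pullback.fst f (pE k L)) (fun _ => pullback.snd f (pE k L))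
    (fun _ ↦ .of_hasPullback _ _) (coproductIsCoproduct _)
  exact H

lemma prop_pE (L : Type u) [Field L] [Algebra k L] [FiniteDimensional k L]
    [Algebra.IsSeparable k L] : FEt.prop (pE k L) := by
  have hfe : Algebra.FormallyEtale k L := Algebra.FormallyEtale.of_isSeparable k L
  have hfp : Algebra.FinitePresentation k L :=
    Algebra.FinitePresentation.of_finiteType.mp inferInstance
  have het : Algebra.Etale k L := ⟨hfe, hfp⟩
  refine ⟨?_, ?_⟩
  · rw [IsFinite.SpecMap_iff]
    exact RingHom.finite_algebraMap.mpr inferInstance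
  · rw [HasRingHomProperty.Spec_iff (P := @Etale)]
    exact RingHom.etale_algebraMap.mpr het

lemma prop_sigma (L : Type u) [Field L] [Algebra k L] [FiniteDimensional k L]
    [Algebra.IsSeparable k L] (ι : Type u) [Finite ι] :
    FEt.prop (Sigma.desc (fun _ : ι => pE k L)) := by
  have h0 := prop_pE (k := k) L
  have h1 : IsFinite (pE k L) := h0.1
  have h2 : Etale (pE k L) := h0.2
  refine ⟨?_, IsZariskiLocalAtSource.sigmaDesc (fun _ => h2)⟩
  have h3 : Sigma.desc (fun _ : ι => pE k L) =
      (Sigma.desc fun _ : ι => 𝟙 (Spec (CommRingCat.of L))) ≫ pE k L := by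
    apply Sigma.hom_ext
    intro i
    rw [Sigma.ι_desc, Sigma.ι_desc_assoc, Category.id_comp]
  rw [h3]
  have := SplitFold.isFinite_foldOfFinite (Spec (CommRingCat.of L)) ι
  infer_instance

theorem exists_dominating (K : Type u) [Field K] [Algebra k K] [Algebra.IsAlgebraic k K]
    {X : Scheme.{u}} (f : X ⟶ Spec (CommRingCat.of k)) [CompactSpace X] [QuasiSeparatedSpace X]
    (U : FEt.Cat X) (hU : Pi1.IsSplit ((FEt.restrict (pullback.fst f (pE k K))).obj U)) :
    ∃ (V : FEt.Cat (Spec (CommRingCat.of k))) (e : (FEt.restrict f).obj V ⟶ U),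
      Surjective e.left := by
  obtain ⟨ι, hfin, e, he⟩ := hU
  have hUf : IsFinite U.hom := U.prop.1
  have hUe : Etale U.hom := U.prop.2
  let s' : ι → (pullback f (pE k K) ⟶ pullback U.hom (pullback.fst f (pE k K))) :=
    fun i => Sigma.ι (fun _ : ι => pullback f (pE k K)) i ≫ e.inv
  have hs' : ∀ i, s' i ≫ pullback.snd U.hom (pullback.fst f (pE k K)) = 𝟙 _ := fun i => by
    rw [Category.assoc]
    exact he i
  have hcov : ∀ y : ↥(pullback U.hom (pullback.fst f (pE k K))), ∃ i x, s' i x = y := by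
    intro y
    obtain ⟨i, x, hx⟩ := (sigmaOpenCover (fun _ : ι => pullback f (pE k K))).exists_eq (e.hom y)
    refine ⟨i, x, ?_⟩
    have h1 : (Sigma.ι (fun _ : ι => pullback f (pE k K)) i) x = e.hom y := hx
    rw [Scheme.Hom.comp_apply, h1, ← Scheme.Hom.comp_apply]
    exact congr(($(e.hom_inv_id)) y)
  obtain ⟨L, hfd, hsep, g, hg, hgcov⟩ := exists_sections K f U.hom s' hs' hcov
  let V : FEt.Cat (Spec (CommRingCat.of k)) :=
    MorphismProperty.Over.mk ⊤ (Sigma.desc (fun _ : ι => pE k L)) (prop_sigma L ι)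
  have HP := isPullback_sigma L f ι
  let el : ((FEt.restrict f).obj V).left ⟶ U.left := HP.flip.isoPullback.inv ≫ Sigma.desc g
  have hel : el ≫ U.hom = ((FEt.restrict f).obj V).hom := by
    have h1 : Sigma.desc g ≫ U.hom = Sigma.desc (fun _ : ι => pullback.fst f (pE k L)) := by
      apply Sigma.hom_ext
      intro i
      rw [Sigma.ι_desc_assoc, hg, Sigma.ι_desc]
    show (HP.flip.isoPullback.inv ≫ Sigma.desc g) ≫ U.hom = pullback.snd _ _
    rw [Category.assoc, h1]
    exact HP.flip.isoPullback_inv_snd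
  refine ⟨V, MorphismProperty.Over.homMk el hel, ?_⟩
  show Surjective el
  refine ⟨fun u => ?_⟩
  obtain ⟨i, x, hx⟩ := hgcov u
  refine ⟨HP.flip.isoPullback.hom (Sigma.ι (fun _ : ι => pullback f (pE k L)) i x), ?_⟩
  show (HP.flip.isoPullback.inv ≫ Sigma.desc g) _ = u
  rw [← Scheme.Hom.comp_apply, ← Scheme.Hom.comp_apply, Iso.hom_inv_id_assoc, Sigma.ι_desc]
  exact hx

end Groth.Agent.Lib.Helper89.FS
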