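import Mathlib
import Groth.Agent.Lib.Helper89.AC1
import Groth.Agent.Lib.Helper89.FS5

set_option autoImplicit false
set_option linter.style.haveILetI false
universe u

open CategoryTheory CategoryTheory.Limits AlgebraicGeometry

namespace Groth.Agent.Lib.Helper89.FS

variable {k : Type u} [Field k] {X : Scheme.{u}} (f : X ⟶ Spec (CommRingCat.of k))

/-- a monomorphism between finite étale schemes is an open and closed immersion -/
theorem clopen_of_mono {B Y Z : Scheme.{u}} (j : Y ⟶ Z) (q : Z ⟶ B) [Mono j] [IsFinite q]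
    [Etale q] [IsFinite (j ≫ q)] [Etale (j ≫ q)] : IsOpenImmersion j ∧ IsClosedImmersion j := by
  haveI : Etale j := Groth.Agent.Lib.Helper89.FEtFF.etale_of_comp j q
  haveI : IsFinite j := IsFinite.of_comp j q
  haveI : IsOpenImmersion j := IsOpenImmersion.of_flat_of_mono j
  exact ⟨inferInstance, .of_isPreimmersion _ j.isClosedMap.isClosed_range⟩

theorem exists_clopen_in_baseChange [CompactSpace X] [QuasiSeparatedSpace X]
    (K : Type u) [Field K] [Algebra k K] [Algebra.IsAlgebraic k K]
    (V : FEt.Cat (pullback f (pE k K))) :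
    ∃ (U : FEt.Cat X) (ι : V ⟶ (FEt.restrict (pullback.fst f (pE k K))).obj U),
      IsOpenImmersion ι.left ∧ IsClosedImmersion ι.left := by
  -- step 1 : descend to the separable closure
  haveI : IsPurelyInseparable (separableClosure k K) K := separableClosure.isPurelyInseparable k K
  obtain ⟨Vs, ⟨φ1⟩⟩ := (Groth.Agent.Lib.Helper89.Rad.essSurj_restrict
    (h₀ (separableClosure k K) K f)).mem_essImage V
  have hVs1 : IsFinite Vs.hom := Vs.prop.1
  have hVs2 : Etale Vs.hom := Vs.prop.2
  let ψ : V.left ≅ pullback Vs.hom (h₀ (separableClosure k K) K f) :=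
    (MorphismProperty.Over.forget _ _ _ ⋙ Over.forget _).mapIso φ1.symm
  have hψ2 : ψ.hom ≫ pullback.snd Vs.hom (h₀ (separableClosure k K) K f) = V.hom :=
    MorphismProperty.Over.w φ1.inv
  have hpb1 : IsPullback (ψ.hom ≫ pullback.fst Vs.hom (h₀ (separableClosure k K) K f)) V.hom
      Vs.hom (h₀ (separableClosure k K) K f) := by
    refine IsPullback.of_iso_pullback ⟨?_⟩ ψ rfl hψ2
    rw [Category.assoc, pullback.condition, ← Category.assoc, hψ2]
  -- step 2 : descend to a finite level
  obtain ⟨L, hL, YL, gL, hgL1, hgL2, e₂, hpb2⟩ :=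
    descends_finite' f (separableClosure k K) Vs.left Vs.hom
  have hpb := hpb1.paste_horiz hpb2
  haveI : Algebra.IsSeparable k ↥L :=
    Algebra.isSeparable_tower_bot_of_isSeparable k ↥L ↥(separableClosure k K)
  have hpL : FEt.prop (pullback.fst f (pE k ↥L)) :=
    MorphismProperty.pullback_fst (P := FEt.prop) _ _ (prop_pE (k := k) ↥L)
  have hpL1 : IsFinite (pullback.fst f (pE k ↥L)) := hpL.1
  have hpL2 : Etale (pullback.fst f (pE k ↥L)) := hpL.2
  let U : FEt.Cat X := MorphismProperty.Over.mk ⊤ (gL ≫ pullback.fst f (pE k ↥L))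
    ⟨inferInstance, inferInstance⟩
  have hc : (h₀ (separableClosure k K) K f ≫ bc f L.val) ≫ pullback.fst f (pE k ↥L) =
      pullback.fst f (pE k K) := by
    rw [Category.assoc, bc_fst, h₀_fst]
  let j : V.left ⟶ pullback (gL ≫ pullback.fst f (pE k ↥L)) (pullback.fst f (pE k K)) :=
    pullback.lift ((ψ.hom ≫ pullback.fst Vs.hom (h₀ (separableClosure k K) K f)) ≫ e₂) V.hom
      (by rw [← Category.assoc, hpb.w, Category.assoc, hc])
  have hj2 : j ≫ pullback.snd _ _ = V.hom := pullback.lift_snd _ _ _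
  have hj1 : j ≫ pullback.fst _ _ =
      (ψ.hom ≫ pullback.fst Vs.hom (h₀ (separableClosure k K) K f)) ≫ e₂ :=
    pullback.lift_fst _ _ _
  haveI : Mono j := by
    constructor
    intro T a b hab
    apply hpb.hom_ext
    · rw [← hj1, ← Category.assoc, hab, Category.assoc]
    · rw [← hj2, ← Category.assoc, hab, Category.assoc]
  haveI hV1 : IsFinite V.hom := V.prop.1
  haveI hV2 : Etale V.hom := V.prop.2
  haveI : IsFinite (j ≫ pullback.snd (gL ≫ pullback.fst f (pE k ↥L)) (pullback.fst f (pE k K))) :=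
    hj2 ▸ hV1
  haveI : Etale (j ≫ pullback.snd (gL ≫ pullback.fst f (pE k ↥L)) (pullback.fst f (pE k K))) :=
    hj2 ▸ hV2
  have hclopen := clopen_of_mono j
    (pullback.snd (gL ≫ pullback.fst f (pE k ↥L)) (pullback.fst f (pE k K)))
  exact ⟨U, MorphismProperty.Over.homMk j hj2 trivial, hclopen⟩

end Groth.Agent.Lib.Helper89.FS
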