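import Mathlib

/-!
# The absolute Galois group is compact (helper89)

For a field `K` with algebraic closure `K̄`, restriction to the separable closure is a
homeomorphic group isomorphism `Aut(K̄/K) ≃ Gal(K^sep/K)`; hence the absolute Galois group
(automorphisms of `K̄`, with the Krull topology) is compact.
-/

set_option autoImplicit false
universe u

namespace Groth.Agent.Lib.Helper89.AbsGal

open IntermediateField

variable (K : Type u) [Field K]

local notation "Kbar" => AlgebraicClosure K

/-- every element of the algebraic closure has a `q`-power in the separable closure -/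
lemma exists_pow_mem_separableClosure (x : Kbar) :
    ∃ n : ℕ, x ^ (ringExpChar K) ^ n ∈ separableClosure K Kbar := by
  have : ExpChar (separableClosure K Kbar) (ringExpChar K) :=
    expChar_of_injective_algebraMap (algebraMap K (separableClosure K Kbar)).injective _
  obtain ⟨n, y, hy⟩ := (isPurelyInseparable_iff_pow_mem (separableClosure K Kbar)
    (ringExpChar K)).mp (separableClosure.isPurelyInseparable K Kbar) x
  exact ⟨n, hy ▸ y.2⟩

/-- an automorphism fixing a `q`-power of `x` fixes `x` -/
lemma apply_eq_of_apply_pow_eq (σ : Kbar ≃ₐ[K] Kbar) (x : Kbar) (n : ℕ)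
    (h : σ (x ^ (ringExpChar K) ^ n) = x ^ (ringExpChar K) ^ n) : σ x = x := by
  have : ExpChar Kbar (ringExpChar K) :=
    expChar_of_injective_algebraMap (algebraMap K Kbar).injective _
  apply iterateFrobenius_inj Kbar (ringExpChar K) n
  simp only [iterateFrobenius_def]
  rw [← map_pow, h]

/-- an automorphism fixing the separable closure pointwise is the identity -/
lemma eq_one_of_forall_separable (σ : Kbar ≃ₐ[K] Kbar)
    (h : ∀ y ∈ separableClosure K Kbar, σ y = y) : σ = 1 := by
  ext x
  obtain ⟨n, hn⟩ := exists_pow_mem_separableClosure K x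
  exact apply_eq_of_apply_pow_eq K σ x n (h _ hn)


local notation "Ksep" => separableClosure K (AlgebraicClosure K)

/-- restriction to the separable closure -/
noncomputable def res : (Kbar ≃ₐ[K] Kbar) →* (Ksep ≃ₐ[K] Ksep) :=
  AlgEquiv.restrictNormalHom Ksep

lemma res_apply (σ : Kbar ≃ₐ[K] Kbar) (y : Ksep) : ((res K σ y : Ksep) : Kbar) = σ y :=
  AlgEquiv.restrictNormal_commutes σ Ksep y

lemma res_bijective : Function.Bijective (res K) := by
  constructor
  · rw [injective_iff_map_eq_one]
    intro σ hσ
    apply eq_one_of_forall_separable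
    intro y hy
    have := res_apply K σ ⟨y, hy⟩
    rw [hσ] at this
    exact this.symm
  · exact AlgEquiv.restrictNormalHom_surjective Kbar

lemma res_continuous : Continuous (res K) :=
  InfiniteGalois.restrictNormalHom_continuous Ksep

/-- the inverse of restriction is continuous -/
lemma res_symm_continuous :
    Continuous (MulEquiv.ofBijective (res K) (res_bijective K)).symm := by
  apply continuous_of_continuousAt_one
    (MulEquiv.ofBijective (res K) (res_bijective K)).symm.toMonoidHom (continuousAt_def.mpr _)
  intro N hN
  rw [map_one, krullTopology_mem_nhds_one_iff] at hN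
  obtain ⟨E, hE, hEN⟩ := hN
  let E' : IntermediateField K Ksep := E.comap (separableClosure K (AlgebraicClosure K)).val
  have hfin : FiniteDimensional K E' := by
    let f : E' →ₗ[K] E :=
      { toFun := fun y => ⟨((y : Ksep) : Kbar), y.2⟩
        map_add' := fun _ _ => rfl
        map_smul' := fun _ _ => rfl }
    exact FiniteDimensional.of_injective f (fun a b hab => by
      apply Subtype.ext
      apply Subtype.ext
      exact congrArg (fun t : E => (t : Kbar)) hab)
  rw [krullTopology_mem_nhds_one_iff]
  refine ⟨E', hfin, ?_⟩
  intro τ hτ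
  apply hEN
  set σ := (MulEquiv.ofBijective (res K) (res_bijective K)).symm τ with hσ
  have hστ : res K σ = τ := (MulEquiv.ofBijective (res K) (res_bijective K)).apply_symm_apply τ
  show σ ∈ E.fixingSubgroup
  rw [IntermediateField.mem_fixingSubgroup_iff]
  intro x hx
  obtain ⟨n, hn⟩ := exists_pow_mem_separableClosure K x
  apply apply_eq_of_apply_pow_eq K σ x n
  have hmem : (⟨x ^ (ringExpChar K) ^ n, hn⟩ : Ksep) ∈ E' := by
    show x ^ (ringExpChar K) ^ n ∈ E
    exact pow_mem hx _
  have h1 := (IntermediateField.mem_fixingSubgroup_iff E' τ).mp hτ _ hmem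
  have h2 := res_apply K σ ⟨x ^ (ringExpChar K) ^ n, hn⟩
  rw [hστ, h1] at h2
  exact h2.symm

/-- restriction to the separable closure as a homeomorphism -/
noncomputable def resHomeo : (Kbar ≃ₐ[K] Kbar) ≃ₜ (Ksep ≃ₐ[K] Ksep) where
  toEquiv := (MulEquiv.ofBijective (res K) (res_bijective K)).toEquiv
  continuous_toFun := res_continuous K
  continuous_invFun := res_symm_continuous K

instance compactSpace_absoluteGaloisGroup : CompactSpace (Field.absoluteGaloisGroup K) :=
  (resHomeo K).symm.compactSpace

end Groth.Agent.Lib.Helper89.AbsGal
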