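import Mathlib

set_option autoImplicit false
universe u

namespace Groth.Agent.Lib.Helper89.AbsGal

variable (K : Type u) [Field K]

local notation "Kbar" => AlgebraicClosure K

/-- two `K`-algebra maps from an integral `K`-algebra into `K̄` with the same kernel differ by an
automorphism of `K̄` -/
theorem exists_algEquiv_comp_eq {B : Type u} [CommRing B] [Algebra K B] [Algebra.IsIntegral K B]
    (i j : B →ₐ[K] Kbar) (h : RingHom.ker i = RingHom.ker j) :
    ∃ σ : Kbar ≃ₐ[K] Kbar, ∀ b, σ (i b) = j b := by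
  let m : Ideal B := RingHom.ker i
  have hprime : m.IsPrime := RingHom.ker_isPrime i
  have : IsDomain (B ⧸ m) := Ideal.Quotient.isDomain m
  have hint : Algebra.IsIntegral K (B ⧸ m) := inferInstance
  have hfield : IsField (B ⧸ m) := isField_of_isIntegral_of_isField' (R := K) (Field.toIsField K)
  letI : Field (B ⧸ m) := hfield.toField
  let ibar : B ⧸ m →ₐ[K] Kbar := Ideal.Quotient.liftₐ m i (fun a ha => ha)
  let jbar : B ⧸ m →ₐ[K] Kbar := Ideal.Quotient.liftₐ m j (fun a ha => by
    have : a ∈ RingHom.ker j := h ▸ ha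
    exact this)
  letI : Algebra (B ⧸ m) Kbar := ibar.toRingHom.toAlgebra
  haveI : IsScalarTower K (B ⧸ m) Kbar := IsScalarTower.of_algebraMap_eq (fun x => by
    show algebraMap K Kbar x = ibar (algebraMap K (B ⧸ m) x)
    rw [AlgHom.commutes])
  let τ : Kbar →ₐ[K] Kbar := jbar.liftNormal Kbar
  have hτ : ∀ x : B ⧸ m, τ (ibar x) = jbar x := fun x => jbar.liftNormal_commutes Kbar x
  have hbij : Function.Bijective τ := Algebra.IsAlgebraic.algHom_bijective τ
  refine ⟨AlgEquiv.ofBijective τ hbij, fun b => ?_⟩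
  exact hτ (Ideal.Quotient.mk m b)

end Groth.Agent.Lib.Helper89.AbsGal
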