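import Mathlib.CategoryTheory.Galois.Equivalence
import Mathlib.CategoryTheory.Galois.IsFundamentalgroup
import Mathlib.CategoryTheory.Limits.Preserves.Finite

set_option autoImplicit false

open CategoryTheory CategoryTheory.Limits CategoryTheory.PreGaloisCategory

namespace Groth.Agent.Lib.Helper89.GalUniq

universe u v w

variable {C : Type u} [Category.{v} C] [GaloisCategory C]
  (F : C ⥤ FintypeCat.{w}) [FiberFunctor F]

/-- The category of pointed Galois objects is cofiltered (general universe). -/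
instance isCofilteredOrEmpty_pointed : IsCofilteredOrEmpty (PointedGaloisObject F) where
  cone_objs := fun ⟨A, a, _⟩ ⟨B, b, _⟩ ↦ by
    obtain ⟨Z, f, z, hgal, hfz⟩ := exists_hom_from_galois_of_fiber F (A ⨯ B)
      <| (fiberBinaryProductEquiv F A B).symm (a, b)
    refine ⟨⟨Z, z, hgal⟩, ⟨f ≫ prod.fst, ?_⟩, ⟨f ≫ prod.snd, ?_⟩, trivial⟩
    · simp only [F.map_comp, hfz, FintypeCat.comp_apply, fiberBinaryProductEquiv_symm_fst_apply]
    · simp only [F.map_comp, hfz, FintypeCat.comp_apply, fiberBinaryProductEquiv_symm_snd_apply]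
  cone_maps := fun ⟨A, a, _⟩ ⟨B, b, _⟩ ⟨f, hf⟩ ⟨g, hg⟩ ↦ by
    obtain ⟨Z, h, z, hgal, hhz⟩ := exists_hom_from_galois_of_fiber F A a
    refine ⟨⟨Z, z, hgal⟩, ⟨h, hhz⟩, PointedGaloisObject.hom_ext ?_⟩
    apply evaluation_injective_of_isConnected F Z B z
    simp [hhz, hf, hg]

variable (F' : C ⥤ FintypeCat.{w})

/-- A compatible family of points of `F'` on all pointed Galois objects. -/
structure CompatPts where
  /-- the points -/
  pt : ∀ A : PointedGaloisObject F, F'.obj A.obj
  /-- compatibility -/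
  compat : ∀ {A B : PointedGaloisObject F} (f : A ⟶ B), F'.map f.val (pt A) = pt B

lemma exists_compatPts (h : ∀ A : C, IsGalois A → Nonempty (F'.obj A)) :
    Nonempty (CompatPts F F') := by
  let D : PointedGaloisObject F ⥤ Type w := PointedGaloisObject.incl F ⋙ F' ⋙ FintypeCat.incl
  have h1 : ∀ j, Finite (D.obj j) := fun j => inferInstanceAs (Finite (F'.obj j.obj))
  have h2 : ∀ j, Nonempty (D.obj j) := fun j => h j.obj j.isGalois
  obtain ⟨s, hs⟩ := nonempty_sections_of_finite_cofiltered_system D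
  exact ⟨⟨s, fun f => hs f⟩⟩

variable {F F'}

lemma exists_rep (X : C) (x : F.obj X) :
    ∃ (A : PointedGaloisObject F) (f : A.obj ⟶ X), F.map f A.pt = x := by
  obtain ⟨A, f, a, hA, hf⟩ := exists_hom_from_galois_of_fiber F X x
  exact ⟨⟨A, a, hA⟩, f, hf⟩

/-- The component of the natural transformation attached to a compatible family. -/
noncomputable def tApp (γ : CompatPts F F') (X : C) (x : F.obj X) : F'.obj X :=
  F'.map (exists_rep X x).choose_spec.choose (γ.pt (exists_rep X x).choose)

lemma tApp_eq (γ : CompatPts F F') (X : C) (A : PointedGaloisObject F) (f : A.obj ⟶ X) :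
    tApp γ X (F.map f A.pt) = F'.map f (γ.pt A) := by
  set B := (exists_rep X (F.map f A.pt)).choose with hBdef
  set g := (exists_rep X (F.map f A.pt)).choose_spec.choose with hgdef
  change F'.map g (γ.pt B) = _
  have hg : F.map g B.pt = F.map f A.pt := (exists_rep X (F.map f A.pt)).choose_spec.choose_spec
  obtain ⟨Z, u, v, -⟩ := IsCofilteredOrEmpty.cone_objs A B
  have huv : u.val ≫ f = v.val ≫ g := by
    apply evaluation_injective_of_isConnected F Z.obj X Z.pt
    simp [hg]
  rw [← γ.compat u, ← γ.compat v, ← FintypeCat.comp_apply, ← FintypeCat.comp_apply,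
    ← F'.map_comp, ← F'.map_comp, huv]

/-- The natural transformation attached to a compatible family. -/
noncomputable def natTrans (γ : CompatPts F F') : F ⟶ F' where
  app X := FintypeCat.homMk (tApp γ X)
  naturality X Y φ := by
    ext x
    obtain ⟨A, f, rfl⟩ := exists_rep X x
    simp only [FintypeCat.comp_apply, FintypeCat.homMk_apply]
    rw [tApp_eq, ← FintypeCat.comp_apply, ← F.map_comp, tApp_eq, F'.map_comp]
    rfl

lemma natTrans_app (γ : CompatPts F F') (X : C) (A : PointedGaloisObject F) (f : A.obj ⟶ X) :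
    (natTrans γ).app X (F.map f A.pt) = F'.map f (γ.pt A) :=
  tApp_eq γ X A f


section Fintype

/-- An empty finite type is initial in `FintypeCat`. -/
def isInitialOfIsEmpty (X : FintypeCat.{w}) [IsEmpty X] : IsInitial X :=
  IsInitial.ofUniqueHom (fun _ => FintypeCat.homMk isEmptyElim)
    (fun _ _ => by ext x; exact isEmptyElim x)

lemma binaryCofan_fintype {X Y P : FintypeCat.{w}} (i : X ⟶ P) (j : Y ⟶ P)
    (h : IsColimit (BinaryCofan.mk i j)) :
    Function.Injective i ∧ Function.Injective j ∧ IsCompl (Set.range i) (Set.range j) := by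
  have h1 : IsColimit (BinaryCofan.mk (FintypeCat.incl.map i) (FintypeCat.incl.map j)) :=
    isColimitMapCoconeBinaryCofanEquiv FintypeCat.incl i j (isColimitOfPreserves FintypeCat.incl h)
  exact (Types.binaryCofan_isColimit_iff _).mp ⟨h1⟩

end Fintype

section Preserve

variable (F') [PreservesFiniteLimits F'] [PreservesColimitsOfShape (Discrete WalkingPair) F']

omit [PreservesFiniteLimits F'] in
lemma isEmpty_obj_initial : IsEmpty (F'.obj (⊥_ C)) := by
  constructor
  intro z
  have hc : IsColimit (BinaryCofan.mk (F'.map (coprod.inl : (⊥_ C) ⟶ (⊥_ C) ⨿ (⊥_ C)))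
      (F'.map (coprod.inr : (⊥_ C) ⟶ (⊥_ C) ⨿ (⊥_ C)))) :=
    isColimitMapCoconeBinaryCofanEquiv F' _ _
      (isColimitOfPreserves F' (coprodIsCoprod (⊥_ C) (⊥_ C)))
  obtain ⟨-, -, h3⟩ := binaryCofan_fintype _ _ hc
  have h4 : (coprod.inl : (⊥_ C) ⟶ (⊥_ C) ⨿ (⊥_ C)) = coprod.inr := Subsingleton.elim _ _
  have : F'.map (coprod.inl : (⊥_ C) ⟶ (⊥_ C) ⨿ (⊥_ C)) z ∈
      Set.range (F'.map (coprod.inl : (⊥_ C) ⟶ (⊥_ C) ⨿ (⊥_ C))) ⊓
      Set.range (F'.map (coprod.inr : (⊥_ C) ⟶ (⊥_ C) ⨿ (⊥_ C))) :=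
    ⟨⟨z, rfl⟩, ⟨z, by rw [h4]⟩⟩
  rw [h3.inf_eq_bot] at this
  exact this

omit [PreservesFiniteLimits F'] in
lemma preservesInitial : PreservesColimitsOfShape (Discrete PEmpty.{1}) F' := by
  have := isEmpty_obj_initial F'
  have : PreservesColimit (Functor.empty.{0} C) F' :=
    preservesColimit_of_preserves_colimit_cocone initialIsInitial
      ((isColimitMapCoconeEmptyCoconeEquiv _ _).symm (isInitialOfIsEmpty (F'.obj (⊥_ C))))
  exact preservesColimitsOfShape_pempty_of_preservesInitial F'

omit [PreservesFiniteLimits F'] in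
lemma preservesFiniteCoproducts : PreservesFiniteCoproducts F' := by
  have := preservesInitial F'
  exact ⟨fun n => PreservesFiniteCoproducts.of_preserves_binary_and_initial F' (Fin n)⟩

end Preserve

section Bijective

lemma prod_ext_of_preserves (G : C ⥤ FintypeCat.{w}) [PreservesLimitsOfShape (Discrete WalkingPair) G]
    {X Y : C} (p q : G.obj (X ⨯ Y)) (h1 : G.map prod.fst p = G.map prod.fst q)
    (h2 : G.map prod.snd p = G.map prod.snd q) : p = q := by
  refine Concrete.isLimit_ext _ (isLimitOfPreserves G (prodIsProd X Y)) p q ?_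
  rintro ⟨_ | _⟩
  · exact h1
  · exact h2

lemma exists_prod_pt (G : C ⥤ FintypeCat.{w}) [PreservesLimitsOfShape (Discrete WalkingPair) G]
    {X Y : C} (x : G.obj X) (y : G.obj Y) :
    ∃ p : G.obj (X ⨯ Y), G.map prod.fst p = x ∧ G.map prod.snd p = y := by
  have hlim : IsLimit (BinaryFan.mk (G.map (prod.fst : X ⨯ Y ⟶ X)) (G.map prod.snd)) :=
    isLimitMapConeBinaryFanEquiv G _ _ (isLimitOfPreserves G (prodIsProd X Y))
  let T : FintypeCat.{w} := FintypeCat.of PUnit
  let s : BinaryFan (G.obj X) (G.obj Y) :=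
    BinaryFan.mk (P := T) (FintypeCat.homMk fun _ => x) (FintypeCat.homMk fun _ => y)
  refine ⟨hlim.lift s PUnit.unit, ?_, ?_⟩
  · exact ConcreteCategory.congr_hom (hlim.fac s ⟨WalkingPair.left⟩) PUnit.unit
  · exact ConcreteCategory.congr_hom (hlim.fac s ⟨WalkingPair.right⟩) PUnit.unit

/-- For a Galois object `A` whose maps to `X` represent the fibre of `X`, the product `X ⨯ A` is the
coproduct of the graphs of the maps `A ⟶ X`. -/
lemma isIso_sigmaDesc_graph (X A : C) [IsGalois A] (a : F.obj A)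
    (hbij : Function.Bijective (fun f : A ⟶ X => F.map f a)) :
    IsIso (Sigma.desc (fun f : A ⟶ X => prod.lift f (𝟙 A)) : (∐ fun _ : A ⟶ X => A) ⟶ X ⨯ A) := by
  set φ : (∐ fun _ : A ⟶ X => A) ⟶ X ⨯ A := Sigma.desc (fun f : A ⟶ X => prod.lift f (𝟙 A))
  have hφ : ∀ f : A ⟶ X, Sigma.ι (fun _ : A ⟶ X => A) f ≫ φ = prod.lift f (𝟙 A) := fun f => by
    simp [φ]
  have hrep : ∀ z : F.obj (∐ fun _ : A ⟶ X => A), ∃ (f : A ⟶ X) (a' : F.obj A),
      F.map (Sigma.ι (fun _ : A ⟶ X => A) f) a' = z := by
    intro z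
    obtain ⟨⟨f⟩, a', h⟩ := Concrete.isColimit_exists_rep _
      (isColimitOfPreserves F (coproductIsCoproduct (fun _ : A ⟶ X => A))) z
    exact ⟨f, a', h⟩
  have hval : ∀ (f : A ⟶ X) (a' : F.obj A),
      F.map prod.fst (F.map φ (F.map (Sigma.ι (fun _ : A ⟶ X => A) f) a')) = F.map f a' ∧
      F.map prod.snd (F.map φ (F.map (Sigma.ι (fun _ : A ⟶ X => A) f) a')) = a' := by
    intro f a'
    constructor
    · rw [← FintypeCat.comp_apply, ← FintypeCat.comp_apply, ← F.map_comp, ← F.map_comp,
        ← Category.assoc, hφ, prod.lift_fst]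
    · rw [← FintypeCat.comp_apply, ← FintypeCat.comp_apply, ← F.map_comp, ← F.map_comp,
        ← Category.assoc, hφ, prod.lift_snd, F.map_id]; rfl
  have : IsIso (F.map φ) := by
    rw [ConcreteCategory.isIso_iff_bijective]
    constructor
    · intro z1 z2 h
      obtain ⟨f, a1, rfl⟩ := hrep z1
      obtain ⟨g, a2, rfl⟩ := hrep z2
      have h1 := (hval f a1).2
      have h2 := (hval g a2).2
      have ha : a1 = a2 := by rw [← h1, ← h2, h]
      subst ha
      have h3 := (hval f a1).1
      have h4 := (hval g a1).1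
      have hfg : f = g := by
        apply evaluation_injective_of_isConnected F A X a1
        change F.map f a1 = F.map g a1
        rw [← h3, ← h4, h]
      rw [hfg]
    · intro p
      obtain ⟨(σ : A ≅ A), (hσ : F.map σ.hom a = F.map prod.snd p)⟩ :=
        evaluation_aut_surjective_of_isGalois F A a (F.map prod.snd p)
      obtain ⟨f₀, hf₀⟩ := hbij.2 (F.map prod.fst p)
      refine ⟨F.map (Sigma.ι (fun _ : A ⟶ X => A) (σ.inv ≫ f₀)) (F.map prod.snd p), ?_⟩
      apply prod_ext_of_preserves F
      · rw [(hval _ _).1, ← hσ]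
        rw [← FintypeCat.comp_apply, ← F.map_comp, Iso.hom_inv_id_assoc]
        exact hf₀
      · exact (hval _ _).2
  exact isIso_of_reflects_iso φ F

variable [PreservesFiniteLimits F'] [PreservesColimitsOfShape (Discrete WalkingPair) F']

lemma natTrans_surjective (γ : CompatPts F F') (X : C) :
    Function.Surjective ((natTrans γ).app X) := by
  intro x'
  obtain ⟨A, a, hA, hbij⟩ := exists_galois_representative F X
  have hiso := isIso_sigmaDesc_graph X A a hbij
  set φ : (∐ fun _ : A ⟶ X => A) ⟶ X ⨯ A := Sigma.desc (fun f : A ⟶ X => prod.lift f (𝟙 A))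
  have hφ : ∀ f : A ⟶ X, Sigma.ι (fun _ : A ⟶ X => A) f ≫ φ = prod.lift f (𝟙 A) := fun f => by
    simp [φ]
  let AA : PointedGaloisObject F := ⟨A, a, hA⟩
  obtain ⟨p', hp1, hp2⟩ := exists_prod_pt F' x' (γ.pt AA)
  have : PreservesFiniteCoproducts F' := preservesFiniteCoproducts F'
  have hsurj : Function.Surjective (F'.map φ) :=
    (ConcreteCategory.bijective_of_isIso (F'.map φ)).2
  obtain ⟨z, hz⟩ := hsurj p'
  obtain ⟨⟨f⟩, w', hw⟩ := Concrete.isColimit_exists_rep _
      (isColimitOfPreserves F' (coproductIsCoproduct (fun _ : A ⟶ X => A))) z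
  have hw' : F'.map (Sigma.ι (fun _ : A ⟶ X => A) f) w' = z := hw
  have e1 : F'.map (prod.lift f (𝟙 A)) w' = p' := by
    rw [← hφ, F'.map_comp, FintypeCat.comp_apply, hw', hz]
  have e2 : w' = γ.pt AA := by
    rw [← hp2, ← e1, ← FintypeCat.comp_apply, ← F'.map_comp, prod.lift_snd, F'.map_id]; rfl
  refine ⟨F.map f a, ?_⟩
  rw [natTrans_app γ X AA f, ← e2, ← hp1, ← e1, ← FintypeCat.comp_apply, ← F'.map_comp,
    prod.lift_fst]

lemma natTrans_injective (γ : CompatPts F F') (X : C) :
    Function.Injective ((natTrans γ).app X) := by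
  intro x y hxy
  obtain ⟨R, u, ⟨hcolim⟩⟩ := PreGaloisCategory.monoInducesIsoOnDirectSummand (diag X)
  have hF := binaryCofan_fintype _ _
    (isColimitMapCoconeBinaryCofanEquiv F _ _ (isColimitOfPreserves F hcolim))
  have hF' := binaryCofan_fintype _ _
    (isColimitMapCoconeBinaryCofanEquiv F' _ _ (isColimitOfPreserves F' hcolim))
  let p : F.obj (X ⨯ X) := (fiberBinaryProductEquiv F X X).symm (x, y)
  have hp1 : F.map prod.fst p = x := fiberBinaryProductEquiv_symm_fst_apply F x y
  have hp2 : F.map prod.snd p = y := fiberBinaryProductEquiv_symm_snd_apply F x y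
  have hp : p ∈ Set.range (F.map (diag X)) ⊔ Set.range (F.map u) := by
    rw [hF.2.2.sup_eq_top]; trivial
  rcases hp with ⟨z, hz⟩ | ⟨r, hr⟩
  · have e1 : x = z := by
      rw [← hp1, ← hz, ← FintypeCat.comp_apply, ← F.map_comp, prod.lift_fst, F.map_id]; rfl
    have e2 : y = z := by
      rw [← hp2, ← hz, ← FintypeCat.comp_apply, ← F.map_comp, prod.lift_snd, F.map_id]; rfl
    rw [e1, e2]
  · exfalso
    set t := natTrans γ
    have h1 : t.app _ p = F'.map u (t.app _ r) := by
      rw [← hr]; exact NatTrans.naturality_apply t u r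
    have h2 : t.app _ p = F'.map (diag X) (t.app _ x) := by
      apply prod_ext_of_preserves F'
      · rw [← FintypeCat.comp_apply (F'.map (diag X)), ← F'.map_comp, prod.lift_fst, F'.map_id,
          ← NatTrans.naturality_apply, hp1]; rfl
      · rw [← FintypeCat.comp_apply (F'.map (diag X)), ← F'.map_comp, prod.lift_snd, F'.map_id,
          ← NatTrans.naturality_apply, hp2, hxy]; rfl
    have : t.app _ p ∈ Set.range (F'.map (diag X)) ⊓ Set.range (F'.map u) :=
      ⟨⟨_, h2.symm⟩, ⟨_, h1.symm⟩⟩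
    rw [hF'.2.2.inf_eq_bot] at this
    exact this

/-- A functor to finite sets which preserves finite limits and binary coproducts and has
nonempty values on Galois objects is isomorphic to the fibre functor. -/
theorem nonempty_iso_of_leftExact (h : ∀ A : C, IsGalois A → Nonempty (F'.obj A)) :
    Nonempty (F' ≅ F) := by
  obtain ⟨γ⟩ := exists_compatPts F F' h
  have : IsIso (natTrans γ) := by
    rw [NatTrans.isIso_iff_isIso_app]
    intro X
    rw [ConcreteCategory.isIso_iff_bijective]
    exact ⟨natTrans_injective γ X, natTrans_surjective γ X⟩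
  exact ⟨(asIso (natTrans γ)).symm⟩

end Bijective

section Exact

lemma preservesColimitsOfShape_singleObj_of_finite {D : Type*} [Category* D] {E : Type*} [Category* E]
    (G : Type*) [Group G] [Finite G]
    (K : D ⥤ E) [PreservesFiniteColimits K] : PreservesColimitsOfShape (SingleObj G) K := by
  obtain ⟨G', hg, hf, ⟨e⟩⟩ := Finite.exists_type_univ_nonempty_mulEquiv G
  exact preservesColimitsOfShape_of_equiv e.toSingleObjEquiv.symm K

lemma nonempty_obj_of_isGalois (K : C ⥤ FintypeCat.{w}) [PreservesFiniteColimits K]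
    [PreservesLimitsOfShape (Discrete PEmpty.{1}) K] (A : C) [IsGalois A] :
    Nonempty (K.obj A) := by
  let J : SingleObj (Aut A) ⥤ C := SingleObj.functor (Aut.toEnd A)
  have hQ : IsTerminal (colimit J) := isTerminalQuotientOfIsGalois A
  have := preservesColimitsOfShape_singleObj_of_finite (Aut A) K
  have hc : IsColimit (K.mapCocone (colimit.cocone J)) := isColimitOfPreserves K (colimit.isColimit J)
  have hT : IsTerminal (K.obj (colimit J)) := hQ.isTerminalObj K _
  let q : K.obj (colimit J) := hT.from (FintypeCat.of PUnit.{w+1}) PUnit.unit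
  obtain ⟨j, z, -⟩ := Types.jointly_surjective_of_isColimit
    (isColimitOfPreserves FintypeCat.incl hc) q
  exact ⟨z⟩

/-- Every exact functor from a Galois category to finite sets is isomorphic to the fibre functor. -/
theorem nonempty_iso_of_exact (K : C ⥤ FintypeCat.{w}) [PreservesFiniteLimits K]
    [PreservesFiniteColimits K] : Nonempty (K ≅ F) :=
  nonempty_iso_of_leftExact (F := F) (F' := K) (fun A _ => nonempty_obj_of_isGalois K A)

end Exact

end Groth.Agent.Lib.Helper89.GalUniq
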