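import Mathlib
import Groth.Prelude.Def_FEt
import Groth.Agent.Lib.Helper89.FEtGalois3
import Groth.Agent.Lib.Helper89.AbsGal1

set_option autoImplicit false
universe u
open CategoryTheory CategoryTheory.Limits AlgebraicGeometry Opposite TopologicalSpace

namespace Groth.Agent.Lib.Helper89.AbsGal

open Groth.Agent.Lib.Helper89.FEtGalois

variable (K : Type u) [Field K]

local notation "Kbar" => AlgebraicClosure K

/-- the base scheme -/
noncomputable abbrev X : Scheme.{u} := Spec (CommRingCat.of K)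

/-- the geometric point -/
noncomputable abbrev ξ : Spec (CommRingCat.of Kbar) ⟶ X K :=
  Spec.map (CommRingCat.ofHom (algebraMap K Kbar))

/-- the automorphism of `Spec K̄` induced by `σ` -/
noncomputable def specAut (σ : Kbar ≃ₐ[K] Kbar) :
    Spec (CommRingCat.of Kbar) ⟶ Spec (CommRingCat.of Kbar) :=
  Spec.map (CommRingCat.ofHom (σ : Kbar →+* Kbar))

lemma specAut_comp_ξ (σ : Kbar ≃ₐ[K] Kbar) : specAut K σ ≫ ξ K = ξ K := by
  unfold specAut ξ
  rw [← Spec.map_comp, ← CommRingCat.ofHom_comp]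
  congr 2
  ext x
  simp

lemma specAut_one : specAut K 1 = 𝟙 _ := by
  unfold specAut
  have : ((1 : Kbar ≃ₐ[K] Kbar) : Kbar →+* Kbar) = RingHom.id _ := rfl
  rw [this]
  exact Spec.map_id _

lemma specAut_mul (σ τ : Kbar ≃ₐ[K] Kbar) : specAut K (σ * τ) = specAut K σ ≫ specAut K τ := by
  unfold specAut
  rw [← Spec.map_comp, ← CommRingCat.ofHom_comp]
  rfl

variable {K}

/-- the action on geometric fibres -/
noncomputable instance mulActionFiberObj (Y : FEt.Cat (X K)) :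
    MulAction (Kbar ≃ₐ[K] Kbar) (FEt.fiberObj (ξ K) Y) where
  smul σ s := ⟨specAut K σ ≫ s.1, by rw [Category.assoc, s.2, specAut_comp_ξ]⟩
  one_smul s := Subtype.ext (by
    show specAut K 1 ≫ s.1 = s.1
    rw [specAut_one, Category.id_comp])
  mul_smul σ τ s := Subtype.ext (by
    show specAut K (σ * τ) ≫ s.1 = specAut K σ ≫ specAut K τ ≫ s.1
    rw [specAut_mul, Category.assoc])

lemma smul_val (Y : FEt.Cat (X K)) (σ : Kbar ≃ₐ[K] Kbar) (s : FEt.fiberObj (ξ K) Y) :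
    (σ • s).1 = specAut K σ ≫ s.1 := rfl

noncomputable instance mulActionFiberFin (Y : FEt.Cat (X K)) :
    MulAction (Kbar ≃ₐ[K] Kbar) ((fiberFin (ξ K)).obj Y) :=
  mulActionFiberObj Y

/-- the ring map attached to a geometric point -/
noncomputable def ψ {Y : Scheme.{u}} (s : Spec (CommRingCat.of Kbar) ⟶ Y) : Γ(Y, ⊤) →+* Kbar :=
  (s.appTop ≫ (Scheme.ΓSpecIso (CommRingCat.of Kbar)).hom).hom

lemma ψ_specAut_comp {Y : Scheme.{u}} (σ : Kbar ≃ₐ[K] Kbar) (s : Spec (CommRingCat.of Kbar) ⟶ Y) :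
    ψ (specAut K σ ≫ s) = (σ : Kbar →+* Kbar).comp (ψ s) := by
  unfold ψ specAut
  rw [Scheme.Hom.comp_appTop, Category.assoc, Scheme.ΓSpecIso_naturality]
  rfl

lemma ψ_injective {Y : Scheme.{u}} [IsAffine Y] {s t : Spec (CommRingCat.of Kbar) ⟶ Y}
    (h : ψ s = ψ t) : s = t := by
  apply ext_of_isAffine
  unfold ψ at h
  have h2 : s.appTop ≫ (Scheme.ΓSpecIso (CommRingCat.of Kbar)).hom =
      t.appTop ≫ (Scheme.ΓSpecIso (CommRingCat.of Kbar)).hom := CommRingCat.hom_ext h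
  exact (cancel_mono _).mp h2

/-- the `K`-algebra structure on global sections -/
noncomputable def algΓ (Y : FEt.Cat (X K)) : K →+* Γ(Y.left, ⊤) :=
  ((Scheme.ΓSpecIso (CommRingCat.of K)).inv ≫ Y.hom.appTop).hom

lemma ψ_comp_algΓ (Y : FEt.Cat (X K)) (s : FEt.fiberObj (ξ K) Y) :
    (ψ s.1).comp (algΓ Y) = algebraMap K Kbar := by
  have h1 : Y.hom.appTop ≫ s.1.appTop = (ξ K).appTop := by
    rw [← Scheme.Hom.comp_appTop, s.2]
  have h2 : (ξ K).appTop ≫ (Scheme.ΓSpecIso (CommRingCat.of Kbar)).hom =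
      (Scheme.ΓSpecIso (CommRingCat.of K)).hom ≫ CommRingCat.ofHom (algebraMap K Kbar) :=
    Scheme.ΓSpecIso_naturality _
  have h3 : ((Scheme.ΓSpecIso (CommRingCat.of K)).inv ≫ Y.hom.appTop) ≫
      (s.1.appTop ≫ (Scheme.ΓSpecIso (CommRingCat.of Kbar)).hom) =
      CommRingCat.ofHom (algebraMap K Kbar) := by
    rw [Category.assoc, ← Category.assoc Y.hom.appTop, h1, h2, Iso.inv_hom_id_assoc]
  exact congrArg CommRingCat.Hom.hom h3

end Groth.Agent.Lib.Helper89.AbsGal
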