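import Mathlib
import Groth.Prelude.Def_FEt
import Groth.Agent.Lib.Helper89.FEtGalois3
import Groth.Agent.Lib.Helper89.AbsGal1
import Groth.Agent.Lib.Helper89.AbsGal2

set_option autoImplicit false
universe u
open CategoryTheory CategoryTheory.Limits AlgebraicGeometry Opposite TopologicalSpace

namespace Groth.Agent.Lib.Helper89.AbsGal

open Groth.Agent.Lib.Helper89.FEtGalois

variable {K : Type u} [Field K]

local notation "Kbar" => AlgebraicClosure K

instance isFinite_hom (Y : FEt.Cat (X K)) : IsFinite Y.hom := Y.prop.1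
instance etale_hom (Y : FEt.Cat (X K)) : Etale Y.hom := Y.prop.2

instance isAffine_left (Y : FEt.Cat (X K)) : IsAffine Y.left := by
  let f : Y.left ⟶ X K := Y.hom
  exact isAffine_of_isAffineHom f

lemma algΓ_finite (Y : FEt.Cat (X K)) : (algΓ Y).Finite := by
  let f : Y.left ⟶ X K := Y.hom
  have h1 : f.appTop.hom.Finite := f.finite_appTop
  have h2 : (Scheme.ΓSpecIso (CommRingCat.of K)).inv.hom.Finite :=
    RingHom.Finite.of_surjective _
      (Scheme.ΓSpecIso (CommRingCat.of K)).symm.commRingCatIsoToRingEquiv.surjective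
  exact h1.comp h2

/-- if `σ` fixes the image of `ψ s`, it fixes `s` -/
lemma smul_eq_of_forall (Y : FEt.Cat (X K)) (s : FEt.fiberObj (ξ K) Y) (σ : Kbar ≃ₐ[K] Kbar)
    (h : ∀ b, σ (ψ s.1 b) = ψ s.1 b) : σ • s = s := by
  apply Subtype.ext
  rw [smul_val]
  apply ψ_injective
  rw [ψ_specAut_comp]
  ext b
  exact h b

lemma smul_eq_iff (Y : FEt.Cat (X K)) (s t : FEt.fiberObj (ξ K) Y) (σ : Kbar ≃ₐ[K] Kbar) :
    σ • s = t ↔ ∀ b, σ (ψ s.1 b) = ψ t.1 b := by
  constructor
  · rintro rfl b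
    rw [smul_val, ψ_specAut_comp]
    rfl
  · intro h
    apply Subtype.ext
    rw [smul_val]
    apply ψ_injective
    rw [ψ_specAut_comp]
    ext b
    exact h b

/-- the stabilizers are open -/
lemma stabilizer_isOpen (Y : FEt.Cat (X K)) (s : FEt.fiberObj (ξ K) Y) :
    IsOpen (MulAction.stabilizer (Kbar ≃ₐ[K] Kbar) s : Set (Kbar ≃ₐ[K] Kbar)) := by
  have hfin := algΓ_finite Y
  letI : Algebra K Γ(Y.left, ⊤) := (algΓ Y).toAlgebra
  have hmf : Module.Finite K Γ(Y.left, ⊤) := hfin
  obtain ⟨gens, hgens⟩ := hmf.fg_top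
  let ψa : Γ(Y.left, ⊤) →ₐ[K] Kbar :=
    { ψ s.1 with commutes' := fun k => congr($(ψ_comp_algΓ Y s) k) }
  let S : Set Kbar := ψ s.1 '' (gens : Set Γ(Y.left, ⊤))
  have hSfin : Finite S := (gens.finite_toSet.image _).to_subtype
  let E : IntermediateField K Kbar := IntermediateField.adjoin K S
  have hE : FiniteDimensional K E :=
    IntermediateField.finiteDimensional_adjoin (fun x _ => Algebra.IsIntegral.isIntegral x)
  have hopen : IsOpen (E.fixingSubgroup : Set (Kbar ≃ₐ[K] Kbar)) := E.fixingSubgroup_isOpen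
  refine Subgroup.isOpen_mono ?_ hopen
  intro σ hσ
  rw [MulAction.mem_stabilizer_iff]
  apply smul_eq_of_forall
  have hlin : ((σ : Kbar →ₐ[K] Kbar).comp ψa).toLinearMap = ψa.toLinearMap := by
    apply LinearMap.ext_on hgens
    intro b hb
    have : ψ s.1 b ∈ E := IntermediateField.subset_adjoin K S ⟨b, hb, rfl⟩
    exact (IntermediateField.mem_fixingSubgroup_iff E σ).mp hσ _ this
  intro b
  exact congr($hlin b)

end Groth.Agent.Lib.Helper89.AbsGal
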