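import Mathlib
import Groth.Prelude.Def_FEt
import Groth.Agent.Lib.Helper89.FEtGalois3
import Groth.Agent.Lib.Helper89.AbsGal1
import Groth.Agent.Lib.Helper89.AbsGal2
import Groth.Agent.Lib.Helper89.AbsGal3

set_option autoImplicit false
universe u
open CategoryTheory CategoryTheory.Limits AlgebraicGeometry Opposite TopologicalSpace

namespace Groth.Agent.Lib.Helper89.AbsGal

open Groth.Agent.Lib.Helper89.FEtGalois IntermediateField

variable {K : Type u} [Field K]

local notation "Kbar" => AlgebraicClosure K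

lemma ψ_SpecMap {R : CommRingCat.{u}} (f : R ⟶ CommRingCat.of Kbar) (b : Γ(Spec R, ⊤)) :
    ψ (Spec.map f) b = f.hom ((Scheme.ΓSpecIso R).hom.hom b) := by
  unfold ψ
  rw [Scheme.ΓSpecIso_naturality]
  rfl

/-- only the identity acts trivially on all fibres -/
theorem eq_one_of_forall_smul (σ : Kbar ≃ₐ[K] Kbar)
    (h : ∀ (Y : FEt.Cat (X K)) (s : FEt.fiberObj (ξ K) Y), σ • s = s) : σ = 1 := by
  apply eq_one_of_forall_separable
  intro y hy
  rw [mem_separableClosure_iff] at hy
  let E : IntermediateField K Kbar := K⟮y⟯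
  have hsep : Algebra.IsSeparable K E := (isSeparable_adjoin_simple_iff_isSeparable K Kbar).mpr hy
  have hfd : FiniteDimensional K E := adjoin.finiteDimensional hy.isIntegral
  have hfe : Algebra.FormallyEtale K E := Algebra.FormallyEtale.of_isSeparable K E
  have hfp : Algebra.FinitePresentation K E :=
    Algebra.FinitePresentation.of_finiteType.mp inferInstance
  have het : Algebra.Etale K E := ⟨hfe, hfp⟩
  let f : CommRingCat.of K ⟶ CommRingCat.of E := CommRingCat.ofHom (algebraMap K E)
  have hprop : FEt.prop (Spec.map f) := by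
    refine ⟨?_, ?_⟩
    · rw [IsFinite.SpecMap_iff]
      exact RingHom.finite_algebraMap.mpr hfd
    · rw [HasRingHomProperty.Spec_iff (P := @Etale)]
      exact RingHom.etale_algebraMap.mpr het
  let Y : FEt.Cat (X K) := MorphismProperty.Over.mk ⊤ (Spec.map f) hprop
  let g : CommRingCat.of E ⟶ CommRingCat.of Kbar := CommRingCat.ofHom (algebraMap E Kbar)
  let s : FEt.fiberObj (ξ K) Y := ⟨Spec.map g, by
    show Spec.map g ≫ Spec.map f = _
    rw [← Spec.map_comp]
    rfl⟩
  have h1 := (smul_eq_iff Y s s σ).mp (h Y s) ((Scheme.ΓSpecIso (CommRingCat.of E)).inv.hom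
    (AdjoinSimple.gen K y))
  have h2 : ψ s.1 ((Scheme.ΓSpecIso (CommRingCat.of E)).inv.hom (AdjoinSimple.gen K y)) = y := by
    show ψ (Spec.map g) _ = y
    rw [ψ_SpecMap]
    have : (Scheme.ΓSpecIso (CommRingCat.of E)).hom.hom
        ((Scheme.ΓSpecIso (CommRingCat.of E)).inv.hom (AdjoinSimple.gen K y)) =
        AdjoinSimple.gen K y := by
      exact congr($((Scheme.ΓSpecIso (CommRingCat.of E)).inv_hom_id) (AdjoinSimple.gen K y))
    rw [this]
    rfl
  rw [h2] at h1
  exact h1

end Groth.Agent.Lib.Helper89.AbsGal
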