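import Groth.Agent.Lib.Helper89.FEtFF
import Mathlib.AlgebraicGeometry.Artinian
import Mathlib.AlgebraicGeometry.ResidueField
import Mathlib.FieldTheory.IsAlgClosed.Basic
import Mathlib.FieldTheory.IsAlgClosed.AlgebraicClosure

/-!
# Finite schemes over a field and restriction of finite étale covers

* `discreteTopology_of_isFinite`: a scheme finite over a field is discrete.
* `exists_geometric_point`: every point is the image of a `k`-morphism from `Spec k̄`.
* `isConnected_fiber`: if `X_{k̄}` is connected, the fibres of `W ×_k X ⟶ W` are connected.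
-/

set_option autoImplicit false
universe u
open AlgebraicGeometry CategoryTheory CategoryTheory.Limits MorphismProperty

namespace Groth.Agent.Lib.Helper89.FEtField

/-- A scheme finite over the spectrum of a field is discrete. -/
lemma discreteTopology_of_isFinite (k : Type u) [Field k] {W : Scheme.{u}}
    (p : W ⟶ Spec (CommRingCat.of k)) [IsFinite p] : DiscreteTopology W := by
  have : IsAffine W := isAffine_of_isAffineHom p
  obtain ⟨φ, hφ⟩ := Spec.map_surjective (W.isoSpec.inv ≫ p)
  have hfin : IsFinite (Spec.map φ) := by rw [hφ]; infer_instance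
  rw [IsFinite.SpecMap_iff] at hfin
  algebraize [φ.hom]
  have : IsArtinianRing Γ(W, ⊤) := IsArtinianRing.of_finite k Γ(W, ⊤)
  have : DiscreteTopology (Spec Γ(W, ⊤)) := inferInstanceAs (DiscreteTopology (PrimeSpectrum _))
  exact W.isoSpec.hom.homeomorph.symm.discreteTopology

/-- Every point of a scheme finite over a field `k` is the image of a `k`-morphism from
the spectrum of the algebraic closure. -/
lemma exists_geometric_point (k : Type u) [Field k] {W : Scheme.{u}}
    (p : W ⟶ Spec (CommRingCat.of k)) [IsFinite p] (w : W) :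
    ∃ j : Spec (CommRingCat.of (AlgebraicClosure k)) ⟶ W,
      j ≫ p = Spec.map (CommRingCat.ofHom (algebraMap k (AlgebraicClosure k))) ∧
      Set.range j.base = {w} := by
  have : DiscreteTopology W := discreteTopology_of_isFinite k p
  have hcl : IsClosed ({w} : Set W) := isClosed_discrete _
  have : IsClosedImmersion (W.fromSpecResidueField w) :=
    isClosed_singleton_iff_isClosedImmersion.mp hcl
  obtain ⟨φ, hφ⟩ := Spec.map_surjective (W.fromSpecResidueField w ≫ p)
  have hfin : IsFinite (Spec.map φ) := by rw [hφ]; infer_instance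
  rw [IsFinite.SpecMap_iff] at hfin
  algebraize [φ.hom]
  let ψ : W.residueField w →ₐ[k] AlgebraicClosure k := IsAlgClosed.lift
  refine ⟨Spec.map (CommRingCat.ofHom ψ.toRingHom) ≫ W.fromSpecResidueField w, ?_, ?_⟩
  · rw [Category.assoc, ← hφ, ← Spec.map_comp]
    congr 1
    ext x
    exact ψ.commutes x
  · apply Set.Subset.antisymm
    · rintro _ ⟨z, rfl⟩
      have : (W.fromSpecResidueField w).base ((Spec.map (CommRingCat.ofHom ψ.toRingHom)).base z) ∈
          Set.range (W.fromSpecResidueField w).base := ⟨_, rfl⟩
      rw [Scheme.range_fromSpecResidueField] at this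
      exact this
    · rw [Set.singleton_subset_iff]
      have hne : Nonempty (Spec (CommRingCat.of (AlgebraicClosure k))) :=
        inferInstanceAs (Nonempty (PrimeSpectrum (AlgebraicClosure k)))
      obtain ⟨z⟩ := hne
      have : (W.fromSpecResidueField w).base ((Spec.map (CommRingCat.ofHom ψ.toRingHom)).base z) ∈
          Set.range (W.fromSpecResidueField w).base := ⟨_, rfl⟩
      rw [Scheme.range_fromSpecResidueField] at this
      exact ⟨z, this⟩


/-- For `X` over a field `k` with `X_{k̄}` connected and `W` finite over `k`, the fibres of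
`W ×_k X ⟶ W` are connected. -/
lemma isConnected_fiber (k : Type u) [Field k] {X : Scheme.{u}} (f : X ⟶ Spec (CommRingCat.of k))
    [ConnectedSpace ↥(pullback f (Spec.map (CommRingCat.ofHom (algebraMap k (AlgebraicClosure k)))))]
    {W : Scheme.{u}} (p : W ⟶ Spec (CommRingCat.of k)) [IsFinite p] (w : W) :
    _root_.IsConnected ((pullback.fst p f).base ⁻¹' {w}) := by
  obtain ⟨j, hj, hjr⟩ := exists_geometric_point k p w
  obtain ⟨a, ha⟩ : ∃ a, a = Spec.map (CommRingCat.ofHom (algebraMap k (AlgebraicClosure k))) :=
    ⟨_, rfl⟩
  rw [← ha] at hj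
  have : ConnectedSpace ↥(pullback f a) := by rw [ha]; infer_instance
  obtain ⟨h, hh_fst, hh_snd⟩ : ∃ h : pullback f a ⟶ pullback p f,
      h ≫ pullback.fst p f = pullback.snd f a ≫ j ∧ h ≫ pullback.snd p f = pullback.fst f a :=
    ⟨pullback.lift (pullback.snd f a ≫ j) (pullback.fst f a)
      (by rw [Category.assoc, hj]; exact pullback.condition.symm),
      pullback.lift_fst _ _ _, pullback.lift_snd _ _ _⟩
  have sq : IsPullback h (pullback.snd f a) (pullback.fst p f) j := by
    refine IsPullback.of_right ?_ hh_fst (IsPullback.of_hasPullback p f).flip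
    rw [hh_snd, hj]
    exact IsPullback.of_hasPullback f a
  have hr : Set.range h.base = (pullback.fst p f).base ⁻¹' {w} := by
    rw [FEtFF.range_snd_of_isPullback sq.flip, hjr]
  rw [← hr]
  exact isConnected_range h.continuous

end Groth.Agent.Lib.Helper89.FEtField
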