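import Mathlib
import Groth.Prelude.Def_FEt
import Groth.Agent.Lib.Helper89.FEtGalois3
import Groth.Agent.Lib.Helper89.FEtField
import Groth.Agent.Lib.Helper89.AbsGal1
import Groth.Agent.Lib.Helper89.AbsGal1b
import Groth.Agent.Lib.Helper89.AbsGal2
import Groth.Agent.Lib.Helper89.AbsGal3
import Groth.Agent.Lib.Helper89.AbsGal4

set_option autoImplicit false
universe u
open CategoryTheory CategoryTheory.Limits AlgebraicGeometry Opposite TopologicalSpace

namespace Groth.Agent.Lib.Helper89.AbsGal

open Groth.Agent.Lib.Helper89.FEtGalois IntermediateField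

variable {K : Type u} [Field K]

local notation "Kbar" => AlgebraicClosure K

/-- a connected finite étale cover of the spectrum of a field is a point -/
theorem subsingleton_left_of_isConnected (Y : FEt.Cat (X K))
    (hY : PreGaloisCategory.IsConnected Y) : Subsingleton Y.left := by
  let _ := galoisCategory (ξ K)
  have : PreGaloisCategory.FiberFunctor (fiberFin (ξ K)) := fiberFunctor (ξ K)
  refine ⟨fun y₁ y₂ => ?_⟩
  let p : Y.left ⟶ X K := Y.hom
  have : DiscreteTopology Y.left := FEtField.discreteTopology_of_isFinite K p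
  let V : Y.left.Opens := ⟨{y₁}, isOpen_discrete _⟩
  have hV : IsClosed (V : Set Y.left) := isClosed_discrete _
  let P : FEt.Cat (X K) := piece Y V hV
  let i : P ⟶ Y := pieceι Y V hV
  have hmono : Mono i := by
    apply Functor.mono_of_mono_map (MorphismProperty.Over.forget FEt.prop ⊤ (X K) ⋙ Over.forget (X K))
    show Mono V.ι
    infer_instance
  let q : P.left ⟶ X K := P.hom
  have hq : IsFinite q := P.prop.1
  obtain ⟨j, hj, -⟩ := FEtField.exists_geometric_point K q (⟨y₁, rfl⟩ : (V : Scheme))
  let x : (fiberFin (ξ K)).obj P := (⟨j, hj⟩ : FEt.fiberObj (ξ K) P)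
  have hni : IsInitial P → False := PreGaloisCategory.not_initial_of_inhabited (fiberFin (ξ K)) x
  have hiso : IsIso i := hY.noTrivialComponent P i hni
  have hiso' : IsIso V.ι := by
    have : IsIso ((MorphismProperty.Over.forget FEt.prop ⊤ (X K) ⋙ Over.forget (X K)).map i) :=
      inferInstance
    exact this
  have hsurj : Function.Surjective V.ι := by
    exact (ConcreteCategory.bijective_of_isIso (C := TopCat) V.ι.base).2
  obtain ⟨z, hz⟩ := hsurj y₂
  have : y₂ ∈ (V : Set Y.left) := hz ▸ z.2
  exact this.symm ▸ rfl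

end Groth.Agent.Lib.Helper89.AbsGal
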