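import Mathlib
import Groth.Prelude.Def_FEt
import Groth.Agent.Lib.Helper89.FEtGalois3
import Groth.Agent.Lib.Helper89.FEtField
import Groth.Agent.Lib.Helper89.AbsGal1
import Groth.Agent.Lib.Helper89.AbsGal1b
import Groth.Agent.Lib.Helper89.AbsGal2
import Groth.Agent.Lib.Helper89.AbsGal3
import Groth.Agent.Lib.Helper89.AbsGal4
import Groth.Agent.Lib.Helper89.AbsGal5

set_option autoImplicit false
universe u
open CategoryTheory CategoryTheory.Limits AlgebraicGeometry Opposite TopologicalSpace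

namespace Groth.Agent.Lib.Helper89.AbsGal

open Groth.Agent.Lib.Helper89.FEtGalois IntermediateField

variable {K : Type u} [Field K]

local notation "Kbar" => AlgebraicClosure K

/-- the absolute Galois group acts transitively on the fibres of connected covers -/
theorem exists_smul_eq (Y : FEt.Cat (X K)) (hY : PreGaloisCategory.IsConnected Y)
    (s t : FEt.fiberObj (ξ K) Y) : ∃ σ : Kbar ≃ₐ[K] Kbar, σ • s = t := by
  have hsub : Subsingleton Y.left := subsingleton_left_of_isConnected Y hY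
  have hsub' : Subsingleton (PrimeSpectrum Γ(Y.left, ⊤)) :=
    (Y.left.isoSpec.hom.homeomorph.symm.toEquiv).subsingleton
  have hfin := algΓ_finite Y
  letI : Algebra K Γ(Y.left, ⊤) := (algΓ Y).toAlgebra
  have hmf : Module.Finite K Γ(Y.left, ⊤) := hfin
  have hint : Algebra.IsIntegral K Γ(Y.left, ⊤) := inferInstance
  let ψs : Γ(Y.left, ⊤) →ₐ[K] Kbar :=
    { ψ s.1 with commutes' := fun k => congr($(ψ_comp_algΓ Y s) k) }
  let ψt : Γ(Y.left, ⊤) →ₐ[K] Kbar :=
    { ψ t.1 with commutes' := fun k => congr($(ψ_comp_algΓ Y t) k) }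
  have hker : RingHom.ker ψs = RingHom.ker ψt := by
    have h1 : (RingHom.ker ψs).IsPrime := RingHom.ker_isPrime ψs
    have h2 : (RingHom.ker ψt).IsPrime := RingHom.ker_isPrime ψt
    have := Subsingleton.elim (⟨_, h1⟩ : PrimeSpectrum Γ(Y.left, ⊤)) ⟨_, h2⟩
    exact congrArg PrimeSpectrum.asIdeal this
  obtain ⟨σ, hσ⟩ := exists_algEquiv_comp_eq K ψs ψt hker
  exact ⟨σ, (smul_eq_iff Y s t σ).mpr hσ⟩

end Groth.Agent.Lib.Helper89.AbsGal
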