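import Mathlib
import Groth.Prelude.Def_FEt
import Groth.Agent.Lib.Helper89.FEtGalois3
import Groth.Agent.Lib.Helper89.FEtField
import Groth.Agent.Lib.Helper89.AbsGal1
import Groth.Agent.Lib.Helper89.AbsGal1b
import Groth.Agent.Lib.Helper89.AbsGal2
import Groth.Agent.Lib.Helper89.AbsGal3
import Groth.Agent.Lib.Helper89.AbsGal4
import Groth.Agent.Lib.Helper89.AbsGal5
import Groth.Agent.Lib.Helper89.AbsGal6

set_option autoImplicit false
universe u
open CategoryTheory CategoryTheory.Limits AlgebraicGeometry Opposite TopologicalSpace

namespace Groth.Agent.Lib.Helper89.AbsGal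

open Groth.Agent.Lib.Helper89.FEtGalois IntermediateField CategoryTheory.PreGaloisCategory

variable (K : Type u) [Field K]

local notation "Kbar" => AlgebraicClosure K

noncomputable instance mulActionFiberFin' (Y : FEt.Cat (X K)) :
    MulAction (Field.absoluteGaloisGroup K) ((fiberFin (ξ K)).obj Y) :=
  mulActionFiberObj Y

/-- the absolute Galois group is a fundamental group for the fibre functor -/
theorem isFundamentalGroup :
    letI := galoisCategory (ξ K)
    IsFundamentalGroup (fiberFin (ξ K)) (Field.absoluteGaloisGroup K) := by
  let _ := galoisCategory (ξ K)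
  exact
  { naturality := fun σ {Y Z} f s => Subtype.ext (by
      show (specAut K σ ≫ s.1) ≫ f.left = specAut K σ ≫ s.1 ≫ f.left
      rw [Category.assoc])
    transitive_of_isGalois := fun Y _ => ⟨fun s t => exists_smul_eq Y inferInstance s t⟩
    continuous_smul := fun Y => by
      rw [continuousSMul_iff_stabilizer_isOpen]
      exact fun s => stabilizer_isOpen Y s
    non_trivial' := fun σ h => eq_one_of_forall_smul σ h }

end Groth.Agent.Lib.Helper89.AbsGal
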