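import Mathlib
import Groth.Prelude.Def_FEt
import Groth.Agent.Lib.Helper89.FEtGalois3
import Groth.Agent.Lib.Helper89.AbsGal7

set_option autoImplicit false
universe u
open CategoryTheory CategoryTheory.Limits AlgebraicGeometry Opposite TopologicalSpace

namespace Groth.Agent.Lib.Helper89.AbsGal

open Groth.Agent.Lib.Helper89.FEtGalois IntermediateField CategoryTheory.PreGaloisCategory
open scoped FintypeCatDiscrete

variable (K : Type u) [Field K]

local notation "Kbar" => AlgebraicClosure K

/-- the fundamental group of `Spec K` is the absolute Galois group -/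
theorem nonempty_mulEquiv_piOne :
    Nonempty (Field.absoluteGaloisGroup K ≃* FEt.piOne (X K) (ξ K)) := by
  let _ := galoisCategory (ξ K)
  have : FiberFunctor (fiberFin (ξ K)) := fiberFunctor (ξ K)
  have := isFundamentalGroup K
  let e1 : Field.absoluteGaloisGroup K ≃* Aut (fiberFin (ξ K)) :=
    toAutMulEquiv (fiberFin (ξ K)) _
  let hff : FintypeCat.incl.{u}.FullyFaithful := Functor.FullyFaithful.ofFullyFaithful _
  let e2 : Aut (fiberFin (ξ K)) ≃* Aut (fiberFin (ξ K) ⋙ FintypeCat.incl) :=
    (hff.whiskeringRight _).autMulEquivOfFullyFaithful (fiberFin (ξ K))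
  let e3 : Aut (fiberFin (ξ K) ⋙ FintypeCat.incl) ≃* Aut (FEt.fiber (ξ K)) :=
    (fiberFinIso (ξ K)).conjAut
  exact ⟨e1.trans (e2.trans e3)⟩

/-- finite étale covers of `Spec K` are finite continuous Galois sets -/
theorem nonempty_equiv_contAction :
    Nonempty (FEt.Cat (X K) ≌ ContAction FintypeCat.{u} (Field.absoluteGaloisGroup K)) := by
  let _ := galoisCategory (ξ K)
  have : FiberFunctor (fiberFin (ξ K)) := fiberFunctor (ξ K)
  have := isFundamentalGroup K
  let e : FEt.Cat (X K) ≌ ContAction FintypeCat.{u} (Aut (fiberFin (ξ K))) :=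
    (functorToContAction (fiberFin (ξ K))).asEquivalence
  let f : Field.absoluteGaloisGroup K ≃ₜ* Aut (fiberFin (ξ K)) :=
    { toAutMulEquiv (fiberFin (ξ K)) (Field.absoluteGaloisGroup K) with
      continuous_toFun := toAut_continuous (fiberFin (ξ K)) (Field.absoluteGaloisGroup K)
      continuous_invFun := Continuous.continuous_symm_of_equiv_compact_to_t2
        (f := (toAutMulEquiv (fiberFin (ξ K)) (Field.absoluteGaloisGroup K)).toEquiv)
        (toAut_continuous (fiberFin (ξ K)) (Field.absoluteGaloisGroup K)) }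
  exact ⟨e.trans (ContAction.resEquiv _ f)⟩

end Groth.Agent.Lib.Helper89.AbsGal
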