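import Mathlib.NumberTheory.ZetaValues
import Mathlib.Analysis.Polynomial.Basic

/-!
# Signs of the Bernoulli numbers, and eventually negative polynomial functions
-/

set_option autoImplicit false

namespace Groth.Agent.Lib.Helper89.BernoulliSign

open Real

/-- `(-1)^(k+1) B_{2k} > 0` for `k ≥ 1` (from the positivity of `ζ(2k)`) -/
theorem bernoulli_sign {k : ℕ} (hk : k ≠ 0) : 0 < (-1 : ℚ) ^ (k + 1) * bernoulli (2 * k) := by
  have h := hasSum_zeta_nat hk
  have hnn : ∀ n : ℕ, 0 ≤ 1 / (n : ℝ) ^ (2 * k) := fun n => by positivity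
  have h1 : (1 : ℝ) ≤ (-1 : ℝ) ^ (k + 1) * (2 : ℝ) ^ (2 * k - 1) * π ^ (2 * k) *
      bernoulli (2 * k) / (2 * k).factorial := by
    have := sum_le_hasSum {1} (fun i _ => hnn i) h
    simpa using this
  have hpos : (0 : ℝ) < (2 : ℝ) ^ (2 * k - 1) * π ^ (2 * k) / (2 * k).factorial := by positivity
  have h2 : (0 : ℝ) < ((-1 : ℝ) ^ (k + 1) * bernoulli (2 * k)) *
      ((2 : ℝ) ^ (2 * k - 1) * π ^ (2 * k) / (2 * k).factorial) := by
    have : ((-1 : ℝ) ^ (k + 1) * bernoulli (2 * k)) *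
        ((2 : ℝ) ^ (2 * k - 1) * π ^ (2 * k) / (2 * k).factorial) =
        (-1 : ℝ) ^ (k + 1) * (2 : ℝ) ^ (2 * k - 1) * π ^ (2 * k) *
          bernoulli (2 * k) / (2 * k).factorial := by ring
    rw [this]
    linarith
  have h3 : (0 : ℝ) < (-1 : ℝ) ^ (k + 1) * bernoulli (2 * k) := pos_of_mul_pos_left h2 hpos.le
  have h4 : ((0 : ℚ) : ℝ) < (((-1 : ℚ) ^ (k + 1) * bernoulli (2 * k) : ℚ) : ℝ) := by
    push_cast
    exact h3
  exact_mod_cast h4

theorem bernoulli'_four_mul_neg {k : ℕ} (hk : k ≠ 0) : bernoulli' (4 * k) < 0 := by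
  have h := bernoulli_sign (k := 2 * k) (by omega)
  have h1 : bernoulli (4 * k) = bernoulli' (4 * k) :=
    bernoulli_eq_bernoulli'_of_ne_one (by omega)
  have h2 : 2 * (2 * k) = 4 * k := by ring
  rw [h2, h1, pow_succ, pow_mul] at h
  simp at h
  linarith

theorem bernoulli'_four_mul_add_two_pos (k : ℕ) : 0 < bernoulli' (4 * k + 2) := by
  have h := bernoulli_sign (k := 2 * k + 1) (by omega)
  have h1 : bernoulli (4 * k + 2) = bernoulli' (4 * k + 2) :=
    bernoulli_eq_bernoulli'_of_ne_one (by omega)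
  have h2 : 2 * (2 * k + 1) = 4 * k + 2 := by ring
  have h3 : 2 * k + 1 + 1 = 2 * (k + 1) := by ring
  rw [h2, h1, h3, pow_mul] at h
  simp at h
  linarith

/-- a polynomial function with negative leading term is eventually negative on the naturals -/
theorem eventually_neg (c : ℚ) (hc : c < 0) (m : ℕ) (hm : 0 < m) (Q : Polynomial ℚ)
    (hQ : Q.natDegree < m) :
    ∃ P₀ : ℕ, ∀ p : ℕ, P₀ ≤ p → c * (p : ℚ) ^ m + Q.eval (p : ℚ) < 0 := by
  classical
  let R : Polynomial ℝ := Polynomial.C (c : ℝ) * Polynomial.X ^ m + Q.map (algebraMap ℚ ℝ)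
  have hcR : (c : ℝ) ≠ 0 := by exact_mod_cast hc.ne
  have hdegQ : (Q.map (algebraMap ℚ ℝ)).degree < (Polynomial.C (c : ℝ) * Polynomial.X ^ m).degree := by
    rw [Polynomial.degree_C_mul_X_pow m hcR]
    calc (Q.map (algebraMap ℚ ℝ)).degree ≤ Q.degree := Polynomial.degree_map_le
      _ ≤ (Q.natDegree : WithBot ℕ) := Polynomial.degree_le_natDegree
      _ < (m : WithBot ℕ) := by exact_mod_cast hQ
  have hdeg : R.degree = m := by
    rw [Polynomial.degree_add_eq_left_of_degree_lt hdegQ, Polynomial.degree_C_mul_X_pow m hcR]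
  have hlead : R.leadingCoeff = (c : ℝ) := by
    change (Polynomial.C (c : ℝ) * Polynomial.X ^ m + Q.map (algebraMap ℚ ℝ)).leadingCoeff = _
    rw [Polynomial.leadingCoeff_add_of_degree_lt' hdegQ, Polynomial.leadingCoeff_mul,
      Polynomial.leadingCoeff_C, Polynomial.leadingCoeff_X_pow, mul_one]
  have htend := Polynomial.tendsto_atBot_of_leadingCoeff_nonpos R
    (by rw [hdeg]; exact_mod_cast hm) (by rw [hlead]; exact_mod_cast hc.le)
  have hev := (Filter.tendsto_atBot.1 htend) (-1)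
  obtain ⟨x₀, hx₀⟩ := Filter.eventually_atTop.1 hev
  refine ⟨⌈x₀⌉₊, fun p hp => ?_⟩
  have hpx : x₀ ≤ (p : ℝ) := (Nat.le_ceil x₀).trans (by exact_mod_cast hp)
  have h1 := hx₀ (p : ℝ) hpx
  have h2 : Polynomial.eval (p : ℝ) R = ((c * (p : ℚ) ^ m + Q.eval (p : ℚ) : ℚ) : ℝ) := by
    change Polynomial.eval (p : ℝ)
      (Polynomial.C (c : ℝ) * Polynomial.X ^ m + Q.map (algebraMap ℚ ℝ)) = _
    rw [Polynomial.eval_add, Polynomial.eval_mul, Polynomial.eval_C, Polynomial.eval_pow,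
      Polynomial.eval_X]
    have : (p : ℝ) = algebraMap ℚ ℝ (p : ℚ) := by simp
    rw [this, Polynomial.eval_map_algebraMap, Polynomial.aeval_algebraMap_apply]
    simp
  rw [h2] at h1
  have h3 : ((c * (p : ℚ) ^ m + Q.eval (p : ℚ) : ℚ) : ℝ) < ((0 : ℚ) : ℝ) := by
    push_cast at h1 ⊢
    linarith
  exact_mod_cast h3

end Groth.Agent.Lib.Helper89.BernoulliSign
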