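import Mathlib

/-!
# Ordered cochains on a simplex, relative to faces (helper89, R1a core)

`ι` a type of vertices, `M` an abelian group.  A cochain of tuple length `m` is a function
`c : (Fin m → ι) → M` (Čech degree `m - 1`; `m = 0` is the augmentation).  `dd` is the alternating
face differential.  Main results:

* `dd_cons` (cone identity), `dd_dd` (`d² = 0`)
* `exists_of_not_mem`: cone contraction for cochains supported on tuples whose range contains `N`,
  when some vertex `j ∉ N`
* `exists_rel`: relative simplex `(Δ_N, ∂Δ_N)` is acyclic above its dimension (ordered cochains)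
* `eq_zero_of_top`, `exists_top`: top degree cocycles of `(Δ_N, ∂Δ_N)` are determined by their value
  on one enumeration of `N`, and every value occurs.
-/

set_option autoImplicit false

namespace Groth.Agent.Lib.Helper89.CechSimplex

open Finset

variable {ι : Type*} {M : Type*} [AddCommGroup M]

/-- alternating face differential on functions on tuples -/
def dd {m : ℕ} (c : (Fin m → ι) → M) : (Fin (m + 1) → ι) → M :=
  fun τ => ∑ j : Fin (m + 1), (-1 : ℤ) ^ (j : ℕ) • c (τ ∘ j.succAbove)

lemma dd_apply {m : ℕ} (c : (Fin m → ι) → M) (τ : Fin (m + 1) → ι) :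
    dd c τ = ∑ j : Fin (m + 1), (-1 : ℤ) ^ (j : ℕ) • c (τ ∘ j.succAbove) := rfl

lemma dd_add {m : ℕ} (c c' : (Fin m → ι) → M) : dd (c + c') = dd c + dd c' := by
  funext τ
  simp [dd_apply, smul_add, Finset.sum_add_distrib]

lemma dd_sub {m : ℕ} (c c' : (Fin m → ι) → M) : dd (c - c') = dd c - dd c' := by
  funext τ
  simp [dd_apply, smul_sub, Finset.sum_sub_distrib]

lemma dd_zero {m : ℕ} : dd (0 : (Fin m → ι) → M) = 0 := by
  funext τ
  simp [dd_apply]

lemma dd_congr {m : ℕ} {c c' : (Fin m → ι) → M} (τ : Fin (m + 1) → ι)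
    (h : ∀ j : Fin (m + 1), c (τ ∘ j.succAbove) = c' (τ ∘ j.succAbove)) : dd c τ = dd c' τ := by
  simp only [dd_apply]
  exact Finset.sum_congr rfl fun j _ => by rw [h j]

lemma cons_comp_succAbove_zero {m : ℕ} (v : ι) (τ : Fin m → ι) :
    (Fin.cons v τ : Fin (m + 1) → ι) ∘ (0 : Fin (m + 1)).succAbove = τ := by
  funext i
  simp [Fin.succAbove_zero]

lemma cons_comp_succAbove_succ {m : ℕ} (v : ι) (τ : Fin (m + 1) → ι) (j : Fin (m + 1)) :
    (Fin.cons v τ : Fin (m + 2) → ι) ∘ j.succ.succAbove = Fin.cons v (τ ∘ j.succAbove) := by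
  funext i
  refine Fin.cases ?_ (fun i => ?_) i
  · simp
  · simp [Fin.succ_succAbove_succ]

/-- cone identity -/
lemma dd_cons {m : ℕ} (c : (Fin (m + 1) → ι) → M) (v : ι) (τ : Fin (m + 1) → ι) :
    dd c (Fin.cons v τ) = c τ - dd (fun σ => c (Fin.cons v σ)) τ := by
  rw [dd_apply, Fin.sum_univ_succ, cons_comp_succAbove_zero]
  simp only [Fin.val_zero, pow_zero, one_smul, Fin.val_succ, cons_comp_succAbove_succ]
  rw [dd_apply, sub_eq_add_neg, ← Finset.sum_neg_distrib]
  congr 1
  refine Finset.sum_congr rfl fun j _ => ?_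
  rw [pow_succ, mul_neg_one, neg_smul]

/-- `d² = 0` -/
lemma dd_dd : ∀ {m : ℕ} (c : (Fin m → ι) → M), dd (dd c) = 0
  | 0, c => by
    funext τ
    rw [dd_apply, Fin.sum_univ_two]
    simp only [Fin.val_zero, pow_zero, one_smul, Fin.val_one, pow_one, neg_smul, Pi.zero_apply]
    rw [dd_apply, dd_apply, Fin.sum_univ_succ, Fin.sum_univ_succ]
    simp only [Fin.val_zero, pow_zero, one_smul, Fin.sum_univ_zero, add_zero]
    rw [Subsingleton.elim ((τ ∘ (1 : Fin 2).succAbove) ∘ (0 : Fin 1).succAbove)
      ((τ ∘ (0 : Fin 2).succAbove) ∘ (0 : Fin 1).succAbove)]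
    exact add_neg_cancel _
  | m + 1, c => by
    funext τ
    obtain ⟨v, τ', rfl⟩ : ∃ v τ', τ = Fin.cons v τ' := ⟨τ 0, Fin.tail τ, (Fin.cons_self_tail τ).symm⟩
    rw [dd_cons]
    have h1 : (fun σ => dd c (Fin.cons v σ)) = c - dd (fun σ => c (Fin.cons v σ)) := by
      funext σ
      rw [dd_cons]
      rfl
    rw [h1, dd_sub, dd_dd (fun σ => c (Fin.cons v σ))]
    simp

variable [DecidableEq ι]

/-- the range of a tuple, as a finset -/
def rng {m : ℕ} (σ : Fin m → ι) : Finset ι := Finset.univ.image σ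

lemma mem_rng {m : ℕ} (σ : Fin m → ι) (i : ι) : i ∈ rng σ ↔ ∃ k, σ k = i := by
  simp [rng]

lemma rng_cons {m : ℕ} (v : ι) (σ : Fin m → ι) : rng (Fin.cons v σ : Fin (m + 1) → ι) = insert v (rng σ) := by
  ext i
  simp only [mem_rng, Finset.mem_insert]
  constructor
  · rintro ⟨k, hk⟩
    refine Fin.cases (fun hk => ?_) (fun k hk => ?_) k hk
    · left; simpa using hk.symm
    · right; exact ⟨k, by simpa using hk⟩
  · rintro (rfl | ⟨k, hk⟩)
    · exact ⟨0, by simp⟩
    · exact ⟨k.succ, by simpa using hk⟩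

lemma rng_comp_succAbove_subset {m : ℕ} (τ : Fin (m + 1) → ι) (j : Fin (m + 1)) :
    rng (τ ∘ j.succAbove) ⊆ rng τ := by
  intro i hi
  rw [mem_rng] at hi ⊢
  obtain ⟨k, hk⟩ := hi
  exact ⟨j.succAbove k, hk⟩

lemma card_rng_le {m : ℕ} (σ : Fin m → ι) : (rng σ).card ≤ m := by
  unfold rng
  exact Finset.card_image_le.trans (by simp)

lemma eq_or_eq_of_sandwich {v : ι} {N' A : Finset ι} (h1 : N' ⊆ A) (h2 : A ⊆ insert v N') :
    A = N' ∨ A = insert v N' := by
  by_cases hv : v ∈ A
  · right
    refine Finset.Subset.antisymm h2 ?_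
    intro i hi
    rcases Finset.mem_insert.mp hi with rfl | hi
    · exact hv
    · exact h1 hi
  · left
    refine Finset.Subset.antisymm ?_ h1
    intro i hi
    rcases Finset.mem_insert.mp (h2 hi) with rfl | hi'
    · exact absurd hi hv
    · exact hi'

/-- cone contraction away from `N` -/
theorem exists_of_not_mem {m : ℕ} (N : Finset ι) (j : ι) (hj : j ∉ N)
    (c : (Fin (m + 1) → ι) → M) (hc : ∀ σ, c σ ≠ 0 → N ⊆ rng σ) (hd : dd c = 0) :
    (∀ σ : Fin m → ι, c (Fin.cons j σ) ≠ 0 → N ⊆ rng σ) ∧ dd (fun σ => c (Fin.cons j σ)) = c := by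
  constructor
  · intro σ hσ
    have := hc _ hσ
    rw [rng_cons] at this
    intro i hi
    rcases Finset.mem_insert.mp (this hi) with rfl | h
    · exact absurd hi hj
    · exact h
  · funext τ
    have := dd_cons c j τ
    rw [hd] at this
    simp only [Pi.zero_apply] at this
    exact (sub_eq_zero.mp this.symm).symm

lemma zero_mem_rng {m : ℕ} (τ : Fin (m + 1) → ι) : τ 0 ∈ rng τ := (mem_rng _ _).2 ⟨0, rfl⟩

lemma rng_ne_empty {m : ℕ} (τ : Fin (m + 1) → ι) : rng τ ≠ ∅ := fun h => by
  have := zero_mem_rng τ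
  rw [h] at this
  simp at this

/-- relative simplex `(Δ_N, ∂Δ_N)`: acyclic above its dimension (ordered cochains) -/
theorem exists_rel (N : Finset ι) : ∀ (m : ℕ), N.card ≤ m →
    ∀ c : (Fin (m + 1) → ι) → M, (∀ σ, c σ ≠ 0 → rng σ = N) → (∀ τ, rng τ = N → dd c τ = 0) →
    ∃ b : (Fin m → ι) → M, (∀ σ, b σ ≠ 0 → rng σ = N) ∧ ∀ τ, rng τ = N → dd b τ = c τ := by
  induction N using Finset.induction_on with
  | empty =>
    intro m _ c _ _
    exact ⟨0, fun σ h => absurd rfl h, fun τ hτ => absurd hτ (rng_ne_empty τ)⟩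
  | insert v N' hv ih =>
    intro m hm c hc hd
    rw [Finset.card_insert_of_notMem hv] at hm
    obtain ⟨m', rfl⟩ : ∃ m', m = m' + 1 := ⟨m - 1, by omega⟩
    have hvN : v ∈ insert v N' := Finset.mem_insert_self v N'
    have hNN' : N' ≠ insert v N' := fun h => hv (h ▸ hvN)
    have hdg : ∀ τ : Fin (m' + 1 + 1) → ι,
        dd (fun σ => c (Fin.cons v σ)) τ = c τ - dd c (Fin.cons v τ) := fun τ => by
      rw [dd_cons]; abel
    have hgsupp : ∀ σ : Fin (m' + 1) → ι, c (Fin.cons v σ) ≠ 0 →
        rng σ = N' ∨ rng σ = insert v N' := by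
      intro σ hσ
      have h1 := hc _ hσ
      rw [rng_cons] at h1
      apply eq_or_eq_of_sandwich
      · intro i hi
        have : i ∈ insert v (rng σ) := h1 ▸ Finset.mem_insert_of_mem hi
        rcases Finset.mem_insert.mp this with rfl | h
        · exact absurd hi hv
        · exact h
      · intro i hi
        exact h1 ▸ Finset.mem_insert_of_mem hi
    have hrc : ∀ τ : Fin (m' + 1 + 1) → ι, rng τ = N' → dd c (Fin.cons v τ) = 0 := fun τ hτ =>
      hd _ (by rw [rng_cons, hτ])
    have hrc' : ∀ τ : Fin (m' + 1 + 1) → ι, rng τ = insert v N' → dd c (Fin.cons v τ) = 0 :=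
      fun τ hτ => hd _ (by rw [rng_cons, hτ, Finset.insert_eq_of_mem hvN])
    -- the part of `g` supported on `N'`
    obtain ⟨h, hhsupp, hhd⟩ := ih m' (by omega)
      (fun σ => if rng σ = N' then c (Fin.cons v σ) else 0)
      (fun σ hσ => by
        by_contra hne
        exact hσ (if_neg hne))
      (fun τ hτ => by
        have h1 : dd (fun σ => if rng σ = N' then c (Fin.cons v σ) else 0) τ =
            dd (fun σ => c (Fin.cons v σ)) τ := dd_congr τ fun j => by
          by_cases h2 : rng (τ ∘ j.succAbove) = N'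
          · simp only [if_pos h2]
          · simp only [if_neg h2]
            by_contra h3
            rcases hgsupp _ (Ne.symm h3) with h4 | h4
            · exact h2 h4
            · have : v ∈ rng τ := rng_comp_succAbove_subset τ j (h4 ▸ hvN)
              rw [hτ] at this
              exact hv this
        rw [h1, hdg, hrc τ hτ, sub_zero]
        by_contra h3
        exact hNN' ((hτ.symm.trans (hc τ h3)))
        )
    have key : ∀ σ : Fin (m' + 1) → ι, rng σ ⊆ insert v N' → rng σ ≠ insert v N' →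
        c (Fin.cons v σ) - dd h σ = 0 := by
      intro σ hsub hne
      by_cases h' : rng σ = N'
      · rw [hhd σ h', if_pos h', sub_self]
      · have hg0 : c (Fin.cons v σ) = 0 := by
          by_contra hg0
          rcases hgsupp σ hg0 with h1 | h1
          · exact h' h1
          · exact hne h1
        have hd0 : dd h σ = 0 := by
          rw [dd_apply]
          refine Finset.sum_eq_zero fun i _ => ?_
          have : h (σ ∘ i.succAbove) = 0 := by
            by_contra hh
            have h2 := hhsupp _ hh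
            have h3 : N' ⊆ rng σ := h2 ▸ rng_comp_succAbove_subset σ i
            rcases eq_or_eq_of_sandwich h3 hsub with h4 | h4
            · exact h' h4
            · exact hne h4
          rw [this, smul_zero]
        rw [hg0, hd0, sub_zero]
    refine ⟨fun σ => if rng σ = insert v N' then c (Fin.cons v σ) - dd h σ else 0, ?_, ?_⟩
    · intro σ hσ
      by_contra hne
      exact hσ (if_neg hne)
    · intro τ hτ
      have h1 : dd (fun σ => if rng σ = insert v N' then c (Fin.cons v σ) - dd h σ else 0) τ =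
          dd ((fun σ => c (Fin.cons v σ)) - dd h) τ := dd_congr τ fun j => by
        by_cases h2 : rng (τ ∘ j.succAbove) = insert v N'
        · simp only [if_pos h2, Pi.sub_apply]
        · simp only [if_neg h2, Pi.sub_apply]
          exact (key _ (hτ ▸ rng_comp_succAbove_subset τ j) h2).symm
      rw [h1, dd_sub, dd_dd, sub_zero, hdg, hrc' τ hτ, sub_zero]

/-- a top degree cocycle of `(Δ_N, ∂Δ_N)` vanishing on one enumeration of `N` vanishes -/
theorem eq_zero_of_top : ∀ {m : ℕ} (σ₀ : Fin m → ι), Function.Injective σ₀ →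
    ∀ c : (Fin m → ι) → M, (∀ σ, c σ ≠ 0 → rng σ = rng σ₀) →
    (∀ τ : Fin (m + 1) → ι, rng τ = rng σ₀ → dd c τ = 0) → c σ₀ = 0 → c = 0
  | 0, σ₀, _, c, _, _, h0 => funext fun σ => by rw [Subsingleton.elim σ σ₀]; exact h0
  | m + 1, σ₀, hinj, c, hc, hd, h0 => by
    obtain ⟨v, σ₀', rfl⟩ : ∃ v σ₀', σ₀ = Fin.cons v σ₀' :=
      ⟨σ₀ 0, Fin.tail σ₀, (Fin.cons_self_tail σ₀).symm⟩
    rw [Fin.cons_injective_iff] at hinj
    obtain ⟨hv, hinj'⟩ := hinj
    have hv' : v ∉ rng σ₀' := fun h => by
      obtain ⟨k, hk⟩ := (mem_rng _ _).1 h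
      exact hv ⟨k, hk⟩
    have hvN : v ∈ insert v (rng σ₀') := Finset.mem_insert_self _ _
    have hcard : (rng σ₀').card = m := by
      unfold rng
      rw [Finset.card_image_of_injective _ hinj']
      simp
    rw [rng_cons] at hc hd
    have hgsupp : ∀ σ : Fin m → ι, c (Fin.cons v σ) ≠ 0 → rng σ = rng σ₀' := by
      intro σ hσ
      have h1 := hc _ hσ
      rw [rng_cons] at h1
      have : rng σ = rng σ₀' ∨ rng σ = insert v (rng σ₀') := by
        apply eq_or_eq_of_sandwich
        · intro i hi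
          have : i ∈ insert v (rng σ) := h1 ▸ Finset.mem_insert_of_mem hi
          rcases Finset.mem_insert.mp this with rfl | h
          · exact absurd hi hv'
          · exact h
        · intro i hi
          exact h1 ▸ Finset.mem_insert_of_mem hi
      rcases this with h2 | h2
      · exact h2
      · exfalso
        have h3 := card_rng_le σ
        rw [h2, Finset.card_insert_of_notMem hv', hcard] at h3
        omega
    have hg0 : (fun σ : Fin m → ι => c (Fin.cons v σ)) = 0 := by
      refine eq_zero_of_top σ₀' hinj' _ hgsupp (fun τ hτ => ?_) h0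
      have h1 := dd_cons c v τ
      rw [hd _ (by rw [rng_cons, hτ])] at h1
      have h2 : c τ = 0 := by
        by_contra h3
        have h4 := hc τ h3
        rw [hτ] at h4
        exact hv' (h4 ▸ hvN)
      rw [h2, zero_sub, zero_eq_neg] at h1
      exact h1
    funext τ
    by_contra h3
    have h4 := hc τ h3
    have h1 := dd_cons c v τ
    rw [hd _ (by rw [rng_cons, h4, Finset.insert_eq_of_mem hvN]), hg0, dd_zero] at h1
    simp only [Pi.zero_apply, sub_zero] at h1
    exact h3 h1.symm

/-- every value occurs as the value of a top degree cocycle of `(Δ_N, ∂Δ_N)` -/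
theorem exists_top : ∀ {m : ℕ} (σ₀ : Fin m → ι), Function.Injective σ₀ → ∀ r : M,
    ∃ c : (Fin m → ι) → M, (∀ σ, c σ ≠ 0 → rng σ = rng σ₀) ∧
      (∀ τ : Fin (m + 1) → ι, rng τ = rng σ₀ → dd c τ = 0) ∧ c σ₀ = r
  | 0, σ₀, _, r => ⟨fun _ => r, fun σ _ => by rw [Subsingleton.elim σ σ₀],
      fun τ hτ => absurd (hτ.trans (by simp [rng])) (rng_ne_empty τ), rfl⟩
  | m + 1, σ₀, hinj, r => by
    obtain ⟨v, σ₀', rfl⟩ : ∃ v σ₀', σ₀ = Fin.cons v σ₀' :=
      ⟨σ₀ 0, Fin.tail σ₀, (Fin.cons_self_tail σ₀).symm⟩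
    rw [Fin.cons_injective_iff] at hinj
    obtain ⟨hv, hinj'⟩ := hinj
    have hv' : v ∉ rng σ₀' := fun h => by
      obtain ⟨k, hk⟩ := (mem_rng _ _).1 h
      exact hv ⟨k, hk⟩
    have hvN : v ∈ insert v (rng σ₀') := Finset.mem_insert_self _ _
    obtain ⟨g, hgsupp, hgd, hgr⟩ := exists_top σ₀' hinj' r
    rw [rng_cons]
    have hgv : ∀ σ : Fin m → ι, v ∈ rng σ → g σ = 0 := by
      intro σ hσ
      by_contra h
      exact hv' (hgsupp σ h ▸ hσ)
    refine ⟨fun τ => if rng τ = insert v (rng σ₀') then dd g τ else 0, ?_, ?_, ?_⟩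
    · intro σ hσ
      by_contra hne
      exact hσ (if_neg hne)
    · intro τ hτ
      have h1 : dd (fun τ => if rng τ = insert v (rng σ₀') then dd g τ else 0) τ = dd (dd g) τ :=
        dd_congr τ fun j => by
          by_cases h2 : rng (τ ∘ j.succAbove) = insert v (rng σ₀')
          · simp only [if_pos h2]
          · simp only [if_neg h2]
            symm
            by_cases h' : rng (τ ∘ j.succAbove) = rng σ₀'
            · exact hgd _ h'
            · rw [dd_apply]
              refine Finset.sum_eq_zero fun i _ => ?_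
              have : g ((τ ∘ j.succAbove) ∘ i.succAbove) = 0 := by
                by_contra hh
                have h3 := hgsupp _ hh
                have h4 : rng σ₀' ⊆ rng (τ ∘ j.succAbove) := h3 ▸ rng_comp_succAbove_subset _ i
                rcases eq_or_eq_of_sandwich h4 (hτ ▸ rng_comp_succAbove_subset τ j) with h5 | h5
                · exact h' h5
                · exact h2 h5
              rw [this, smul_zero]
      rw [h1, dd_dd]
      rfl
    · show (if rng (Fin.cons v σ₀' : Fin (m + 1) → ι) = insert v (rng σ₀') then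
        dd g (Fin.cons v σ₀') else 0) = r
      rw [if_pos (rng_cons v σ₀'), dd_apply, Fin.sum_univ_succ, cons_comp_succAbove_zero]
      simp only [Fin.val_zero, pow_zero, one_smul]
      rw [hgr, Finset.sum_eq_zero, add_zero]
      intro j _
      have hm : 0 < m := j.pos
      obtain ⟨m', rfl⟩ : ∃ m', m = m' + 1 := ⟨m - 1, by omega⟩
      rw [hgv, smul_zero]
      rw [mem_rng]
      exact ⟨0, by simp⟩

omit [DecidableEq ι] in
lemma map_dd {M' : Type*} [AddCommGroup M'] (φ : M →+ M') {m : ℕ} (c : (Fin m → ι) → M)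
    (τ : Fin (m + 1) → ι) : φ (dd c τ) = dd (fun σ => φ (c σ)) τ := by
  simp only [dd_apply, map_sum, map_zsmul]

/-- per-monomial vanishing: cochains supported on tuples whose range contains `N` -/
theorem exists_vanish [Fintype ι] {m : ℕ} (N : Finset ι) (h : N ≠ Finset.univ ∨ Fintype.card ι ≤ m)
    (c : (Fin (m + 1) → ι) → M) (hc : ∀ σ, c σ ≠ 0 → N ⊆ rng σ) (hd : dd c = 0) :
    ∃ b : (Fin m → ι) → M, (∀ σ, b σ ≠ 0 → N ⊆ rng σ) ∧ dd b = c := by
  by_cases hN : N = Finset.univ
  · subst hN
    have hm : (Finset.univ : Finset ι).card ≤ m := by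
      rcases h with h | h
      · exact absurd rfl h
      · simpa using h
    have hu : ∀ {k : ℕ} (σ : Fin k → ι), Finset.univ ⊆ rng σ → rng σ = Finset.univ := fun σ hσ =>
      Finset.Subset.antisymm (Finset.subset_univ _) hσ
    obtain ⟨b, hb, hdb⟩ := exists_rel (M := M) Finset.univ m hm c (fun σ hσ => hu σ (hc σ hσ))
      (fun τ _ => congrFun hd τ)
    refine ⟨b, fun σ hσ => (hb σ hσ).symm ▸ Finset.Subset.refl _, ?_⟩
    funext τ
    by_cases hτ : rng τ = Finset.univ
    · exact hdb τ hτ
    · have h1 : c τ = 0 := by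
        by_contra h1
        exact hτ (hu τ (hc τ h1))
      rw [h1, dd_apply]
      refine Finset.sum_eq_zero fun j _ => ?_
      have : b (τ ∘ j.succAbove) = 0 := by
        by_contra h2
        exact hτ (hu τ ((hb _ h2) ▸ rng_comp_succAbove_subset τ j))
      rw [this, smul_zero]
  · obtain ⟨j, hj⟩ : ∃ j, j ∉ N := by
      by_contra hall
      exact hN (Finset.eq_univ_iff_forall.mpr fun j => by
        by_contra hj
        exact hall ⟨j, hj⟩)
    exact ⟨_, exists_of_not_mem N j hj c hc hd⟩

end Groth.Agent.Lib.Helper89.CechSimplex
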