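import Mathlib
import Groth.Agent.Lib.Helper89.CechSimplex

/-!
# Čech complex of `O(d)` on projective space: polynomial model (helper89, R1a)

`S = MvPolynomial ι R` (`ι` finite, `ι = Fin (n+1)` for `P^n`).  A cochain of tuple length `m`
(Čech degree `m - 1`) with pole order `≤ K` and numerator degree `D` is a family
`A : (Fin m → ι) → S` with `IsCochain K D A`; the section over `D₊(x_σ)` it stands for is
`A σ / (∏ i, X i) ^ K`, of degree `d = D - K * card ι`.  The differential is `CechSimplex.dd`
(no multipliers: all fractions have the same denominator).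

* `exists_cobound`: cocycles are coboundaries (same `K`, `D`) as soon as
  `m + 1 ≠ card ι ∨ K * card ι < D + card ι`.  For `m = 0` this is the augmented statement
  (`B : (Fin 0 → ι) → S` is one polynomial, `dd B = A` says `A i = B ![]` for all `i`).
-/

set_option autoImplicit false
set_option linter.unusedSectionVars false

namespace Groth.Agent.Lib.Helper89.CechPn

open MvPolynomial Groth.Agent.Lib.Helper89.CechSimplex

variable {R : Type*} [CommRing R] {ι : Type*} [Fintype ι] [DecidableEq ι]

/-- the cochain condition: numerators homogeneous of degree `D`, and every monomial has exponent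
`≥ K` at every index outside the range of the tuple (so the fraction `A σ / (∏ X i)^K` only has
poles along `x_i`, `i ∈ range σ`) -/
def IsCochain (K D : ℕ) {m : ℕ} (A : (Fin m → ι) → MvPolynomial ι R) : Prop :=
  ∀ σ, (A σ).IsHomogeneous D ∧ ∀ e ∈ (A σ).support, ∀ i, i ∉ Set.range σ → K ≤ e i

/-- indices where the exponent is `< K` ("negative" exponents after dividing by `(∏ X i)^K`) -/
def neg (K : ℕ) (e : ι →₀ ℕ) : Finset ι := Finset.univ.filter fun i => e i < K

lemma mem_neg (K : ℕ) (e : ι →₀ ℕ) (i : ι) : i ∈ neg K e ↔ e i < K := by simp [neg]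

lemma mem_rng_iff {m : ℕ} (σ : Fin m → ι) (i : ι) : i ∈ rng σ ↔ i ∈ Set.range σ := by
  rw [mem_rng]; rfl

lemma isCochain_iff (K D : ℕ) {m : ℕ} (A : (Fin m → ι) → MvPolynomial ι R) :
    IsCochain K D A ↔ ∀ σ, (A σ).IsHomogeneous D ∧ ∀ e, coeff e (A σ) ≠ 0 → neg K e ⊆ rng σ := by
  refine forall_congr' fun σ => and_congr Iff.rfl ?_
  constructor
  · intro h e he i hi
    rw [mem_neg] at hi
    by_contra hi'
    exact absurd (h e (mem_support_iff.mpr he) i (fun h' => hi' ((mem_rng_iff σ i).2 h'))) (by omega)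
  · intro h e he i hi
    by_contra hlt
    exact hi ((mem_rng_iff σ i).1 (h e (mem_support_iff.mp he) ((mem_neg K e i).2 (by omega))))

lemma coeff_dd {m : ℕ} (A : (Fin m → ι) → MvPolynomial ι R) (τ : Fin (m + 1) → ι) (e : ι →₀ ℕ) :
    coeff e (dd A τ) = dd (fun σ => coeff e (A σ)) τ :=
  map_dd (coeffAddMonoidHom e) A τ

lemma card_le_of_neg_eq_univ {K D : ℕ} {e : ι →₀ ℕ} (he : e.degree = D) (h : neg K e = Finset.univ) :
    D + Fintype.card ι ≤ K * Fintype.card ι := by
  have h1 : ∀ i, e i + 1 ≤ K := fun i => by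
    have := (mem_neg K e i).1 (h ▸ Finset.mem_univ i)
    omega
  have h2 : e.degree = ∑ i, e i := Finsupp.degree_eq_sum e
  calc D + Fintype.card ι = ∑ i : ι, (e i + 1) := by
        rw [Finset.sum_add_distrib, ← h2, he]; simp
    _ ≤ ∑ _i : ι, K := Finset.sum_le_sum fun i _ => h1 i
    _ = K * Fintype.card ι := by simp [mul_comm]

/-- assembly of per-monomial primitives into a polynomial cochain -/
theorem assemble {K D m : ℕ} (A : (Fin (m + 1) → ι) → MvPolynomial ι R) (hA : IsCochain K D A)
    (key : ∀ e, (∃ σ, coeff e (A σ) ≠ 0) → ∃ b : (Fin m → ι) → R,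
      (∀ σ, b σ ≠ 0 → neg K e ⊆ rng σ) ∧ dd b = fun σ => coeff e (A σ)) :
    ∃ B : (Fin m → ι) → MvPolynomial ι R, IsCochain K D B ∧ dd B = A := by
  classical
  rw [isCochain_iff] at hA
  let E : Finset (ι →₀ ℕ) := Finset.univ.biUnion fun σ => (A σ).support
  have hE : ∀ e, e ∉ E → ∀ σ, coeff e (A σ) = 0 := by
    intro e he σ
    by_contra h1
    exact he (Finset.mem_biUnion.mpr ⟨σ, Finset.mem_univ _, mem_support_iff.mpr h1⟩)
  have hE' : ∀ e ∈ E, ∃ σ, coeff e (A σ) ≠ 0 := by
    intro e he
    obtain ⟨σ, -, hσ⟩ := Finset.mem_biUnion.mp he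
    exact ⟨σ, mem_support_iff.mp hσ⟩
  have hdeg : ∀ e ∈ E, e.degree = D := by
    intro e he
    obtain ⟨σ, hσ⟩ := hE' e he
    by_contra h1
    exact hσ ((hA σ).1.coeff_eq_zero h1)
  have key' : ∀ e ∈ E, ∃ b : (Fin m → ι) → R, (∀ σ, b σ ≠ 0 → neg K e ⊆ rng σ) ∧
      dd b = fun σ => coeff e (A σ) := fun e he => key e (hE' e he)
  choose! b hb hdb using key'
  refine ⟨fun σ => ∑ e ∈ E, monomial e (b e σ), ?_, ?_⟩
  · rw [isCochain_iff]
    intro σ
    have hco : ∀ e, coeff e (∑ e' ∈ E, monomial e' (b e' σ)) = if e ∈ E then b e σ else 0 := by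
      intro e
      rw [coeff_sum]
      simp only [coeff_monomial]
      rw [Finset.sum_ite_eq' E e]
    refine ⟨IsHomogeneous.sum _ _ _ fun e he => isHomogeneous_monomial _ (hdeg e he), ?_⟩
    intro e he
    rw [hco] at he
    by_cases heE : e ∈ E
    · rw [if_pos heE] at he
      exact hb e heE σ he
    · rw [if_neg heE] at he
      exact absurd rfl he
  · funext τ
    ext e
    rw [coeff_dd]
    have hco : (fun σ => coeff e (∑ e' ∈ E, monomial e' (b e' σ))) =
        fun σ => if e ∈ E then b e σ else 0 := by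
      funext σ
      rw [coeff_sum]
      simp only [coeff_monomial]
      rw [Finset.sum_ite_eq' E e]
    rw [hco]
    by_cases heE : e ∈ E
    · simp only [if_pos heE]
      exact congrFun (hdb e heE) τ
    · simp only [if_neg heE]
      rw [hE e heE τ]
      exact congrFun (dd_zero (M := R)) τ

/-- **Cocycles are coboundaries.** -/
theorem exists_cobound {K D m : ℕ} (h : m + 1 ≠ Fintype.card ι ∨ K * Fintype.card ι < D + Fintype.card ι)
    (A : (Fin (m + 1) → ι) → MvPolynomial ι R) (hA : IsCochain K D A) (hd : dd A = 0) :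
    ∃ B : (Fin m → ι) → MvPolynomial ι R, IsCochain K D B ∧ dd B = A := by
  classical
  refine assemble A hA fun e ⟨σ, hσ⟩ => ?_
  rw [isCochain_iff] at hA
  have hdeg : e.degree = D := by
    by_contra h1
    exact hσ ((hA σ).1.coeff_eq_zero h1)
  refine exists_vanish (neg K e) ?_ _ (fun σ hσ => (hA σ).2 e hσ) ?_
  · by_cases hu : neg K e = Finset.univ
    · right
      rcases h with h | h
      · have h1 := (hA σ).2 e hσ
        rw [hu] at h1
        have h2 := (Finset.card_le_card h1).trans (card_rng_le σ)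
        rw [Finset.card_univ] at h2
        omega
      · exact absurd (card_le_of_neg_eq_univ hdeg hu) (by omega)
    · exact Or.inl hu
  · funext τ
    rw [← coeff_dd, hd]
    simp

/-! ### Top degree -/

/-- exponents in the box `[0, K)^ι` -/
noncomputable def box (K : ℕ) : Finset (ι →₀ ℕ) :=
  (Fintype.piFinset fun _ : ι => Finset.range K).image Finsupp.equivFunOnFinite.symm

lemma mem_box {K : ℕ} {e : ι →₀ ℕ} : e ∈ box K ↔ ∀ i, e i < K := by
  unfold box
  rw [Finset.mem_image]
  constructor
  · rintro ⟨f, hf, rfl⟩ i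
    have := Fintype.mem_piFinset.mp hf i
    simpa using this
  · intro h
    exact ⟨⇑e, Fintype.mem_piFinset.mpr fun i => Finset.mem_range.mpr (h i), by ext i; simp⟩

lemma mem_box_iff_neg {K : ℕ} {e : ι →₀ ℕ} : e ∈ box K ↔ neg K e = Finset.univ := by
  rw [mem_box, Finset.eq_univ_iff_forall]
  exact forall_congr' fun i => (mem_neg K e i).symm

/-- `e ↦ (K - 1) - e` -/
noncomputable def flip (K : ℕ) (e : ι →₀ ℕ) : ι →₀ ℕ :=
  Finsupp.equivFunOnFinite.symm fun i => K - 1 - e i

@[simp] lemma flip_apply (K : ℕ) (e : ι →₀ ℕ) (i : ι) : flip K e i = K - 1 - e i := by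
  simp [flip]

lemma flip_mem_box {K : ℕ} {e : ι →₀ ℕ} (he : e ∈ box K) : flip K e ∈ box K := by
  rw [mem_box] at he ⊢
  intro i
  have := he i
  rw [flip_apply]
  omega

lemma flip_flip {K : ℕ} {e : ι →₀ ℕ} (he : e ∈ box K) : flip K (flip K e) = e := by
  rw [mem_box] at he
  ext i
  have := he i
  simp only [flip_apply]
  omega

lemma degree_flip {K : ℕ} {e : ι →₀ ℕ} (he : e ∈ box K) :
    (flip K e).degree + e.degree + Fintype.card ι = K * Fintype.card ι := by
  rw [mem_box] at he
  rw [Finsupp.degree_eq_sum, Finsupp.degree_eq_sum, ← Finset.sum_add_distrib]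
  calc ∑ i, (flip K e i + e i) + Fintype.card ι = ∑ i : ι, (flip K e i + e i + 1) := by
        rw [Finset.sum_add_distrib (g := fun _ => 1)]; simp
    _ = ∑ _i : ι, K := Finset.sum_congr rfl fun i _ => by
        have := he i
        rw [flip_apply]
        omega
    _ = K * Fintype.card ι := by simp [mul_comm]

/-- the "residue" map: `x^e ↦ x^(K-1-e)` for `e` in the box, other monomials go to `0` -/
noncomputable def topL (K : ℕ) : MvPolynomial ι R →ₗ[R] MvPolynomial ι R :=
  ∑ e ∈ box K, (monomial (flip K e)).comp (lcoeff R e)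

lemma topL_apply (K : ℕ) (p : MvPolynomial ι R) :
    topL K p = ∑ e ∈ box K, monomial (flip K e) (coeff e p) := by
  simp [topL, LinearMap.sum_apply]

lemma coeff_topL (K : ℕ) (p : MvPolynomial ι R) (g : ι →₀ ℕ) :
    coeff g (topL K p) = if g ∈ box K then coeff (flip K g) p else 0 := by
  classical
  rw [topL_apply, coeff_sum]
  simp only [coeff_monomial]
  by_cases hg : g ∈ box K
  · rw [if_pos hg, Finset.sum_eq_single (flip K g)]
    · rw [if_pos (flip_flip hg)]
    · intro e he hne
      rw [if_neg]
      intro h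
      exact hne (by rw [← h, flip_flip he])
    · intro h
      exact absurd (flip_mem_box hg) h
  · rw [if_neg hg]
    refine Finset.sum_eq_zero fun e he => ?_
    rw [if_neg]
    intro h
    exact hg (h ▸ flip_mem_box he)

lemma topL_eq_zero_iff (K : ℕ) (p : MvPolynomial ι R) :
    topL K p = 0 ↔ ∀ e ∈ box K, coeff e p = 0 := by
  constructor
  · intro h e he
    have := coeff_topL K p (flip K e)
    rw [h, if_pos (flip_mem_box he), flip_flip he] at this
    simpa using this.symm
  · intro h
    ext g
    rw [coeff_topL, coeff_zero]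
    split_ifs with hg
    · exact h _ (flip_mem_box hg)
    · rfl

lemma topL_isHomogeneous {K D k : ℕ} (hk : k + D + Fintype.card ι = K * Fintype.card ι)
    {p : MvPolynomial ι R} (hp : p.IsHomogeneous D) : (topL K p).IsHomogeneous k := by
  rw [topL_apply]
  refine IsHomogeneous.sum _ _ _ fun e he => ?_
  by_cases h0 : coeff e p = 0
  · rw [h0, map_zero]
    exact isHomogeneous_zero _ _ _
  · refine isHomogeneous_monomial _ ?_
    have h1 : e.degree = D := by
      by_contra h1
      exact h0 (hp.coeff_eq_zero h1)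
    have := degree_flip he
    omega

/-- `∏ i, X i` as a monomial -/
noncomputable def xall : MvPolynomial ι R := monomial (Finsupp.equivFunOnFinite.symm fun _ => 1) 1

lemma topL_succ_xall_mul (K : ℕ) (p : MvPolynomial ι R) : topL (K + 1) (xall * p) = topL K p := by
  classical
  ext g
  rw [coeff_topL, coeff_topL]
  by_cases hg : g ∈ box K
  · have hg' : g ∈ box (K + 1) := mem_box.mpr fun i => (mem_box.mp hg i).trans (Nat.lt_succ_self K)
    rw [if_pos hg, if_pos hg', xall, coeff_monomial_mul', if_pos, one_mul]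
    · congr 1
      ext i
      have := mem_box.mp hg i
      simp only [Finsupp.coe_tsub, Pi.sub_apply, flip_apply, Finsupp.equivFunOnFinite_symm_apply_apply]
      omega
    · intro i
      have := mem_box.mp hg i
      simp only [flip_apply, Finsupp.equivFunOnFinite_symm_apply_apply]
      omega
  · rw [if_neg hg]
    split_ifs with hg'
    · rw [xall, coeff_monomial_mul', if_neg]
      intro hle
      apply hg
      rw [mem_box]
      intro i
      have h1 := hle i
      have h2 := mem_box.mp hg' i
      simp only [flip_apply, Finsupp.equivFunOnFinite_symm_apply_apply] at h1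
      omega
    · rfl

lemma topL_eq_zero_of_forall {K : ℕ} {p : MvPolynomial ι R}
    (h : ∀ e ∈ p.support, ∃ i, K ≤ e i) : topL K p = 0 := by
  rw [topL_eq_zero_iff]
  intro e he
  by_contra h0
  obtain ⟨i, hi⟩ := h e (mem_support_iff.mpr h0)
  exact absurd (mem_box.mp he i) (by omega)

lemma topL_eq_zero_of_isCochain {K D m : ℕ} (hm : m < Fintype.card ι)
    (B : (Fin m → ι) → MvPolynomial ι R) (hB : IsCochain K D B) (σ : Fin m → ι) :
    topL K (B σ) = 0 := by
  apply topL_eq_zero_of_forall
  intro e he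
  obtain ⟨i, hi⟩ : ∃ i, i ∉ Set.range σ := by
    by_contra hall
    have hsurj : Function.Surjective σ := fun i => by
      by_contra hi
      exact hall ⟨i, hi⟩
    have := Fintype.card_le_of_surjective σ hsurj
    simp at this
    omega
  exact ⟨i, (hB σ).2 e he i hi⟩

/-- the residue map kills coboundaries -/
lemma topL_dd {K D m : ℕ} (hm : m < Fintype.card ι)
    (B : (Fin m → ι) → MvPolynomial ι R) (hB : IsCochain K D B) (τ : Fin (m + 1) → ι) :
    topL K (dd B τ) = 0 := by
  rw [dd_apply, map_sum]
  refine Finset.sum_eq_zero fun j _ => ?_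
  rw [map_zsmul, topL_eq_zero_of_isCochain hm B hB, smul_zero]

lemma rng_eq_univ_of_surjective {m : ℕ} {σ : Fin m → ι} (h : Function.Surjective σ) :
    rng σ = Finset.univ :=
  Finset.eq_univ_iff_forall.mpr fun i => (mem_rng σ i).2 (h i)

/-- a top degree cocycle with vanishing residue is a coboundary -/
theorem exists_cobound_top {K D m : ℕ} (σ₀ : Fin (m + 1) → ι) (hσ₀ : Function.Bijective σ₀)
    (A : (Fin (m + 1) → ι) → MvPolynomial ι R) (hA : IsCochain K D A) (hd : dd A = 0)
    (htop : topL K (A σ₀) = 0) :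
    ∃ B : (Fin m → ι) → MvPolynomial ι R, IsCochain K D B ∧ dd B = A := by
  classical
  refine assemble A hA fun e ⟨σ, hσ⟩ => ?_
  rw [isCochain_iff] at hA
  have hdc : dd (fun σ => coeff e (A σ)) = 0 := by
    funext τ
    rw [← coeff_dd, hd]
    simp
  by_cases hu : neg K e = Finset.univ
  · exfalso
    have h0 : (fun σ => coeff e (A σ)) = 0 := by
      refine eq_zero_of_top σ₀ hσ₀.1 _ (fun σ hσ => ?_) (fun τ _ => congrFun hdc τ) ?_
      · rw [rng_eq_univ_of_surjective hσ₀.2]
        exact Finset.Subset.antisymm (Finset.subset_univ _) (hu ▸ (hA σ).2 e hσ)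
      · exact (topL_eq_zero_iff K (A σ₀)).mp htop e (mem_box_iff_neg.mpr hu)
    exact hσ (congrFun h0 σ)
  · exact exists_vanish (neg K e) (Or.inl hu) _ (fun σ hσ => (hA σ).2 e hσ) hdc

/-- every homogeneous polynomial of degree `k < K` is the residue of a top degree cocycle -/
theorem exists_cocycle_top {K D k m : ℕ} (σ₀ : Fin (m + 1) → ι) (hσ₀ : Function.Bijective σ₀)
    (hk : k + D + Fintype.card ι = K * Fintype.card ι) (hkK : k < K)
    (P : MvPolynomial ι R) (hP : P.IsHomogeneous k) :
    ∃ A : (Fin (m + 1) → ι) → MvPolynomial ι R, IsCochain K D A ∧ dd A = 0 ∧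
      topL K (A σ₀) = P := by
  classical
  have hr : rng σ₀ = Finset.univ := rng_eq_univ_of_surjective hσ₀.2
  have key : ∀ e : ι →₀ ℕ, ∃ c : (Fin (m + 1) → ι) → R, (∀ σ, c σ ≠ 0 → rng σ = rng σ₀) ∧
      (∀ τ : Fin (m + 1 + 1) → ι, rng τ = rng σ₀ → dd c τ = 0) ∧ c σ₀ = coeff (flip K e) P :=
    fun e => exists_top σ₀ hσ₀.1 _
  choose c hc hcd hc0 using key
  let E : Finset (ι →₀ ℕ) := (box K).filter fun e => e.degree = D
  have hco : ∀ σ e, coeff e (∑ e' ∈ E, monomial e' (c e' σ)) = if e ∈ E then c e σ else 0 := by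
    intro σ e
    rw [coeff_sum]
    simp only [coeff_monomial]
    rw [Finset.sum_ite_eq' E e]
  refine ⟨fun σ => ∑ e ∈ E, monomial e (c e σ), ?_, ?_, ?_⟩
  · rw [isCochain_iff]
    intro σ
    refine ⟨IsHomogeneous.sum _ _ _ fun e he => isHomogeneous_monomial _ (Finset.mem_filter.mp he).2, ?_⟩
    intro e he
    rw [hco] at he
    by_cases heE : e ∈ E
    · rw [if_pos heE] at he
      rw [hc e σ he, hr]
      exact Finset.subset_univ _
    · rw [if_neg heE] at he
      exact absurd rfl he
  · funext τ
    ext e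
    rw [coeff_dd]
    have h1 : (fun σ => coeff e (∑ e' ∈ E, monomial e' (c e' σ))) =
        fun σ => if e ∈ E then c e σ else 0 := funext fun σ => hco σ e
    rw [h1]
    by_cases heE : e ∈ E
    · simp only [if_pos heE]
      by_cases hτ : rng τ = rng σ₀
      · rw [hcd e τ hτ]; rfl
      · rw [dd_apply]
        refine Finset.sum_eq_zero fun j _ => ?_
        have : c e (τ ∘ j.succAbove) = 0 := by
          by_contra h2
          apply hτ
          rw [hr]
          exact Finset.Subset.antisymm (Finset.subset_univ _)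
            (hr ▸ hc e _ h2 ▸ rng_comp_succAbove_subset τ j)
        rw [this, smul_zero]
    · simp only [if_neg heE]
      exact congrFun (dd_zero (M := R)) τ
  · ext g
    rw [coeff_topL]
    by_cases h0 : coeff g P = 0
    · rw [h0]
      split_ifs with hg
      · rw [hco]
        split_ifs with hE
        · rw [hc0, flip_flip hg, h0]
        · rfl
      · rfl
    · have hdeg : g.degree = k := by
        by_contra h1
        exact h0 (hP.coeff_eq_zero h1)
      have hg : g ∈ box K := mem_box.mpr fun i => lt_of_le_of_lt (Finsupp.le_degree i g) (hdeg ▸ hkK)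
      have hE : flip K g ∈ E := by
        refine Finset.mem_filter.mpr ⟨flip_mem_box hg, ?_⟩
        have := degree_flip hg
        omega
      rw [if_pos hg, hco, if_pos hE, hc0, flip_flip hg]

end Groth.Agent.Lib.Helper89.CechPn
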