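import Mathlib.Topology.NoetherianSpace
import Mathlib.Topology.Connected.TotallyDisconnected
import Mathlib.Topology.Irreducible

set_option autoImplicit false
open TopologicalSpace

namespace Groth.Agent.Lib.Helper89.ClopenCC

variable {α β : Type*} [TopologicalSpace α] [TopologicalSpace β]

/-- A set is a union of connected components. -/
def IsCCSaturated (S : Set α) : Prop := ∀ y ∈ S, connectedComponent y ⊆ S

lemma IsCCSaturated.compl {S : Set α} (h : IsCCSaturated S) : IsCCSaturated Sᶜ := by
  intro y hy z hz hzS
  apply hy
  have : connectedComponent z = connectedComponent y := (connectedComponent_eq hz).symm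
  exact h z hzS (this ▸ mem_connectedComponent)

lemma isCCSaturated_biUnion (A : Set α) : IsCCSaturated (⋃ x ∈ A, connectedComponent x) := by
  intro y hy
  simp only [Set.mem_iUnion] at hy
  obtain ⟨x, hx, hyx⟩ := hy
  rw [← connectedComponent_eq hyx]
  exact Set.subset_biUnion_of_mem (u := fun x => connectedComponent x) hx

lemma IsClopen.isCCSaturated {S : Set α} (h : IsClopen S) : IsCCSaturated S :=
  fun _ hy => h.connectedComponent_subset hy

/-- In a Noetherian space, a union of connected components is closed. -/
lemma IsCCSaturated.isClosed [NoetherianSpace α] {S : Set α} (h : IsCCSaturated S) :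
    IsClosed S := by
  have hS : S = ⋃₀ {Z ∈ irreducibleComponents α | Z ⊆ S} := by
    apply Set.Subset.antisymm
    · intro y hy
      refine ⟨irreducibleComponent y, ⟨irreducibleComponent_mem_irreducibleComponents y, ?_⟩,
        mem_irreducibleComponent⟩
      exact (isIrreducible_irreducibleComponent.isConnected.isPreconnected.subset_connectedComponent
        mem_irreducibleComponent).trans (h y hy)
    · exact Set.sUnion_subset fun Z hZ => hZ.2
  rw [hS, Set.sUnion_eq_biUnion]
  exact (NoetherianSpace.finite_irreducibleComponents.subset
    (Set.sep_subset _ _)).isClosed_biUnion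
    fun Z hZ => isClosed_of_mem_irreducibleComponents Z hZ.1

/-- In a Noetherian space, a union of connected components is clopen. -/
lemma IsCCSaturated.isClopen [NoetherianSpace α] {S : Set α} (h : IsCCSaturated S) :
    IsClopen S :=
  ⟨h.isClosed, by simpa using h.compl.isClosed.isOpen_compl⟩


/-- If `g` is surjective on connected components, then a clopen set with full preimage is
everything. -/
lemma eq_univ_of_preimage_eq_univ {g : α → β} (hg : Continuous g)
    (hsurj : Function.Surjective hg.connectedComponentsMap) {R : Set β} (hR : IsClopen R)
    (hpre : g ⁻¹' R = Set.univ) : R = Set.univ := by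
  rw [Set.eq_univ_iff_forall]
  intro w
  obtain ⟨c, hc⟩ := hsurj (ConnectedComponents.mk w)
  obtain ⟨w', rfl⟩ := ConnectedComponents.surjective_coe c
  rw [hg.connectedComponentsMap_mk, ConnectedComponents.coe_eq_coe'] at hc
  have hw' : g w' ∈ R := by
    have : w' ∈ g ⁻¹' R := by rw [hpre]; trivial
    exact this
  have : connectedComponent (g w') = connectedComponent w := connectedComponent_eq hc |>.symm
  exact hR.connectedComponent_subset hw' (this ▸ mem_connectedComponent)

/-- If `g` is injective on connected components and the target is Noetherian,
every clopen subset of the source is the preimage of a clopen set. -/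
lemma exists_isClopen_preimage_eq [NoetherianSpace β] {g : α → β} (hg : Continuous g)
    (hinj : Function.Injective hg.connectedComponentsMap) {T : Set α} (hT : IsClopen T) :
    ∃ S : Set β, IsClopen S ∧ g ⁻¹' S = T := by
  refine ⟨⋃ x ∈ g '' T, connectedComponent x, (isCCSaturated_biUnion _).isClopen, ?_⟩
  ext z
  simp only [Set.mem_preimage, Set.mem_iUnion, Set.mem_image, exists_prop]
  constructor
  · rintro ⟨_, ⟨t, ht, rfl⟩, hz⟩
    have h1 : hg.connectedComponentsMap (ConnectedComponents.mk z) =
        hg.connectedComponentsMap (ConnectedComponents.mk t) := by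
      rw [hg.connectedComponentsMap_mk, hg.connectedComponentsMap_mk,
        ConnectedComponents.coe_eq_coe']
      exact hz
    have h2 := hinj h1
    rw [ConnectedComponents.coe_eq_coe'] at h2
    exact hT.connectedComponent_subset ht h2
  · intro hz
    exact ⟨g z, ⟨z, hz, rfl⟩, mem_connectedComponent⟩

end Groth.Agent.Lib.Helper89.ClopenCC
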