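import Groth.Agent.Lib.Helper89.FLFBaseAlg

/-!
# Finite flat finitely presented algebras are free after localizing away from one element
-/

set_option autoImplicit false
set_option linter.style.haveILetI false
universe u
open TensorProduct

namespace Groth.Agent.Lib.Helper89.FLFBase

/-- Transport of freeness from the standard localized module to any localization. -/
theorem free_of_isLocalizedModule {A : Type*} [CommRing A] (r : A) {M : Type*} [AddCommGroup M]
    [Module A M] (A' : Type*) [CommRing A'] [Algebra A A'] [IsLocalization (Submonoid.powers r) A']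
    (M' : Type*) [AddCommGroup M'] [Module A M'] [Module A' M'] [IsScalarTower A A' M']
    (g : M →ₗ[A] M') [IsLocalizedModule (Submonoid.powers r) g]
    [Module.Free (Localization (Submonoid.powers r)) (LocalizedModule (Submonoid.powers r) M)] :
    Module.Free A' M' := by
  let eA : Localization (Submonoid.powers r) ≃ₐ[A] A' :=
    IsLocalization.algEquiv (Submonoid.powers r) (Localization (Submonoid.powers r)) A'
  letI modAr : Module (Localization (Submonoid.powers r)) M' :=
    Module.compHom M' (eA : Localization (Submonoid.powers r) →+* A')
  have hsmul : ∀ (c : Localization (Submonoid.powers r)) (x : M'), c • x = eA c • x :=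
    fun _ _ => rfl
  haveI : IsScalarTower A (Localization (Submonoid.powers r)) M' := by
    constructor
    intro a c x
    rw [hsmul, hsmul, map_smul, smul_assoc]
  let eM : LocalizedModule (Submonoid.powers r) M ≃ₗ[A] M' :=
    IsLocalizedModule.iso (Submonoid.powers r) g
  let eM' : LocalizedModule (Submonoid.powers r) M ≃ₗ[Localization (Submonoid.powers r)] M' :=
    eM.extendScalarsOfIsLocalization (Submonoid.powers r) (Localization (Submonoid.powers r))
  let b := Module.Free.chooseBasis (Localization (Submonoid.powers r))
    (LocalizedModule (Submonoid.powers r) M)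
  let b' := b.map eM'
  let b'' := b'.mapCoeffs eA.toRingEquiv (fun c x => (hsmul c x).symm)
  exact Module.Free.of_basis b''

/-- From a basis to elementary coordinates. -/
theorem isCoordBasis_of_free {A' B' : Type*} [CommRing A'] [CommRing B'] [Algebra A' B']
    [Module.Free A' B'] [Module.Finite A' B'] :
    ∃ (n : ℕ) (b : Fin n → B'), IsCoordBasis (algebraMap A' B') b := by
  rcases subsingleton_or_nontrivial A' with hA' | hA'
  · haveI : Subsingleton B' := Module.subsingleton A' B'
    refine ⟨0, Fin.elim0, fun x => ⟨Fin.elim0, ?_, fun a _ => Subsingleton.elim _ _⟩⟩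
    exact Subsingleton.elim _ _
  · haveI : Module.Finite A' B' := inferInstance
    let b := Module.finBasis A' B'
    refine ⟨_, b, fun x => ⟨b.repr x, ?_, ?_⟩⟩
    · show x = ∑ k, algebraMap A' B' (b.repr x k) * b k
      conv_lhs => rw [← b.sum_repr x]
      exact Finset.sum_congr rfl fun k _ => Algebra.smul_def _ _
    · intro a ha
      change x = ∑ k, algebraMap A' B' (a k) * b k at ha
      have : x = ∑ k, a k • b k := by
        rw [ha]
        exact Finset.sum_congr rfl fun k _ => (Algebra.smul_def _ _).symm
      rw [this, Module.Basis.repr_sum_self]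

/-- The main algebraic statement. -/
theorem exists_away_free {A B : Type u} [CommRing A] [CommRing B] [Algebra A B]
    [Module.Finite A B] [Module.Flat A B] [Algebra.FinitePresentation A B]
    (𝔭 : Ideal A) [𝔭.IsPrime] :
    ∃ r : A, r ∉ 𝔭 ∧ Module.Free (Localization (Submonoid.powers r))
      (LocalizedModule (Submonoid.powers r) B) := by
  haveI : Module.FinitePresentation A B :=
    Module.FinitePresentation.of_finite_of_finitePresentation A B
  haveI : Module.Free (Localization.AtPrime 𝔭) (LocalizedModule 𝔭.primeCompl B) :=
    Module.free_of_flat_of_isLocalRing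
  obtain ⟨r, hr, hfree, -⟩ := Module.FinitePresentation.exists_free_localizedModule_powers
    𝔭.primeCompl (LocalizedModule.mkLinearMap 𝔭.primeCompl B) (Localization.AtPrime 𝔭)
  exact ⟨r, hr, hfree⟩

theorem exists_coordBasis_of_away {A B A' B' : Type u} [CommRing A] [CommRing B] [CommRing A']
    [CommRing B'] [Algebra A B] [Algebra A A'] [Algebra A' B'] [Algebra B B'] [Algebra A B']
    [IsScalarTower A A' B'] [IsScalarTower A B B'] (r : A) [IsLocalization.Away r A']
    [IsLocalization.Away (algebraMap A B r) B']
    [Module.Free (Localization (Submonoid.powers r)) (LocalizedModule (Submonoid.powers r) B)]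
    [Module.Finite A' B'] :
    ∃ (n : ℕ) (b : Fin n → B'), IsCoordBasis (algebraMap A' B') b := by
  haveI : IsLocalizedModule (Submonoid.powers r) (IsScalarTower.toAlgHom A B B').toLinearMap := by
    rw [isLocalizedModule_iff_isLocalization, Algebra.algebraMapSubmonoid_powers]
    infer_instance
  haveI : Module.Free A' B' :=
    free_of_isLocalizedModule r A' B' (IsScalarTower.toAlgHom A B B').toLinearMap
  exact isCoordBasis_of_free

end Groth.Agent.Lib.Helper89.FLFBase
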