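import Groth.Agent.Lib.Helper89.FLFCoord
import Groth.Agent.Lib.Helper89.SchemeIdem
import Groth.Agent.Lib.Helper89.FLFBaseFree
import Groth.Agent.Lib.Helper37.HenselIdem

/-!
# Global sections of a henselian couple form a henselian pair
-/

set_option autoImplicit false
set_option linter.style.haveILetI false
universe u
open AlgebraicGeometry CategoryTheory CategoryTheory.Limits TopologicalSpace Opposite Polynomial

namespace Groth.Agent.Lib.Helper89.FLFBase

variable {W' W X S : Scheme.{u}} {g' : W' ⟶ W} {p' : W' ⟶ X} {p : W ⟶ S} {f : X ⟶ S}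

theorem isCoordBasis_top (H : IsPullback g' p' p f) [IsAffine S] [IsAffine W] {n : ℕ}
    (b : Fin n → Γ(W, ⊤)) (hb : IsCoordBasis p.appTop.hom b) :
    IsCoordBasis p'.appTop.hom (fun k => g'.appTop.hom (b k)) := by
  have h1 := isCoordBasis_global H ⊤ (isAffineOpen_top S) (isAffineOpen_top W) b hb
  have h2 : sigTop H ⊤ = p'.appTop.hom := by
    have : p'.appLE (f ⁻¹ᵁ ⊤) (g' ⁻¹ᵁ (p ⁻¹ᵁ ⊤)) (by rw [preimage_eq H ⊤]) = p'.appTop :=
      p'.appLE_eq_app
    exact congrArg CommRingCat.Hom.hom this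
  rw [h2] at h1
  exact h1

/-- transport of coordinate bases along ring isomorphisms -/
theorem IsCoordBasis.transport {A B A₁ B₁ : Type*} [CommRing A] [CommRing B] [CommRing A₁]
    [CommRing B₁] (φ : A →+* B) (φ₁ : A₁ →+* B₁) (eA : A ≃+* A₁) (eB : B ≃+* B₁)
    (h : ∀ a, φ₁ (eA a) = eB (φ a)) {n : ℕ} (b : Fin n → B) (hb : IsCoordBasis φ b) :
    IsCoordBasis φ₁ (fun k => eB (b k)) := by
  intro x₁
  obtain ⟨a, ha, huniq⟩ := hb (eB.symm x₁)
  refine ⟨fun k => eA (a k), ?_, ?_⟩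
  · have := congrArg eB ha
    rw [RingEquiv.apply_symm_apply, map_sum] at this
    rw [this]
    refine Finset.sum_congr rfl fun k _ => ?_
    rw [map_mul, h]
  · intro a' ha'
    have h1 : eB.symm x₁ = ∑ k, φ (eA.symm (a' k)) * b k := by
      rw [ha', map_sum]
      refine Finset.sum_congr rfl fun k _ => ?_
      rw [map_mul, RingEquiv.symm_apply_apply]
      congr 1
      apply eB.injective
      rw [RingEquiv.apply_symm_apply, ← h, RingEquiv.apply_symm_apply]
    have h2 := huniq _ h1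
    funext k
    have := congrFun h2 k
    rw [← this, RingEquiv.apply_symm_apply]

end Groth.Agent.Lib.Helper89.FLFBase


namespace Groth.Agent.Lib.Helper89.FLFBase

section Alg

variable {R R' A' A₀ A'₀ : Type*} [CommRing R] [CommRing R'] [CommRing A'] [CommRing A₀]
  [CommRing A'₀]

theorem bijective_of_coordBasis (π : R →+* R') (σ : R →+* A') (Ψ : R' →+* A')
    (hcomm : ∀ r, Ψ (π r) = σ r) {n : ℕ} (b : Fin n → R') (hb : IsCoordBasis π b)
    (hb' : IsCoordBasis σ (fun k => Ψ (b k))) : Function.Bijective Ψ := by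
  have key : ∀ a : Fin n → R, Ψ (∑ k, π (a k) * b k) = ∑ k, σ (a k) * Ψ (b k) := by
    intro a
    rw [map_sum]
    exact Finset.sum_congr rfl fun k _ => by rw [map_mul, hcomm]
  constructor
  · rw [injective_iff_map_eq_zero]
    intro y hy
    obtain ⟨a, ha, -⟩ := hb y
    obtain ⟨c₀, -, huniq⟩ := hb' (Ψ y)
    have e1 := huniq a (by rw [ha, key])
    have e2 := huniq (fun _ => 0) (by rw [hy]; simp)
    have : a = fun _ => 0 := e1.trans e2.symm
    rw [ha, this]
    simp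
  · intro x
    obtain ⟨a, ha, -⟩ := hb' x
    exact ⟨∑ k, π (a k) * b k, by rw [key, ha]⟩

theorem ker_eq_map_of_coordBasis (π : R →+* R') (κ : R →+* A₀) (τ : R' →+* A'₀)
    (σ₀ : A₀ →+* A'₀) (hcomm : ∀ r, τ (π r) = σ₀ (κ r)) {n : ℕ} (b : Fin n → R')
    (hb : IsCoordBasis π b) (hb' : IsCoordBasis σ₀ (fun k => τ (b k))) :
    RingHom.ker τ = (RingHom.ker κ).map π := by
  apply le_antisymm
  · intro y hy
    rw [RingHom.mem_ker] at hy
    obtain ⟨a, ha, -⟩ := hb y
    obtain ⟨c₀, -, huniq⟩ := hb' (τ y)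
    have e1 := huniq (fun k => κ (a k)) (by
      rw [ha, map_sum]
      exact Finset.sum_congr rfl fun k _ => by rw [map_mul, hcomm])
    have e2 := huniq (fun _ => 0) (by rw [hy]; simp)
    have h0 : ∀ k, κ (a k) = 0 := fun k => congrFun (e1.trans e2.symm) k
    rw [ha]
    refine Ideal.sum_mem _ fun k _ => Ideal.mul_mem_right _ _ ?_
    exact Ideal.mem_map_of_mem _ ((RingHom.mem_ker).mpr (h0 k))
  · rw [Ideal.map_le_iff_le_comap]
    intro r hr
    rw [Ideal.mem_comap, RingHom.mem_ker, hcomm, (RingHom.mem_ker).mp hr, map_zero]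

end Alg

end Groth.Agent.Lib.Helper89.FLFBase

namespace Groth.Agent.Lib.Helper89.SchemeIdem

variable {X : Scheme.{u}}

theorem eq_zero_of_idem_of_basicOpen_eq_bot (x : Γ(X, ⊤)) (hx : x * x = x)
    (h : X.basicOpen x = ⊥) : x = 0 := by
  apply TopCat.Presheaf.section_ext X.sheaf ⊤
  intro p hp
  have hnu : ¬ IsUnit (X.presheaf.germ ⊤ p hp x) := by
    intro hu
    have : p ∈ X.basicOpen x := (X.mem_basicOpen_top x p).mpr hu
    rw [h] at this
    exact this
  have hidem : X.presheaf.germ ⊤ p hp x * X.presheaf.germ ⊤ p hp x = X.presheaf.germ ⊤ p hp x := by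
    rw [← map_mul, hx]
  have h1 : IsUnit (1 - X.presheaf.germ ⊤ p hp x) :=
    (IsLocalRing.isUnit_or_isUnit_one_sub_self _).resolve_left hnu
  have h2 : X.presheaf.germ ⊤ p hp x * (1 - X.presheaf.germ ⊤ p hp x) = 0 := by
    rw [mul_sub, mul_one, hidem, sub_self]
  have h3 : X.presheaf.germ ⊤ p hp x = 0 := by
    obtain ⟨v, hv⟩ := h1
    rw [← hv] at h2
    exact (Units.mul_left_eq_zero v).mp h2
  exact h3.trans (map_zero (X.presheaf.germ ⊤ p hp).hom).symm

theorem idem_eq_of_basicOpen_eq (e₁ e₂ : Γ(X, ⊤)) (h₁ : e₁ * e₁ = e₁) (h₂ : e₂ * e₂ = e₂)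
    (h : X.basicOpen e₁ = X.basicOpen e₂) : e₁ = e₂ := by
  have key : ∀ a b : Γ(X, ⊤), a * a = a → b * b = b → X.basicOpen a = X.basicOpen b →
      a * (1 - b) = 0 := by
    intro a b ha hb hab
    apply eq_zero_of_idem_of_basicOpen_eq_bot
    · have : (1 - b) * (1 - b) = 1 - b := by ring_nf; rw [sq, hb]; ring
      calc a * (1 - b) * (a * (1 - b)) = (a * a) * ((1 - b) * (1 - b)) := by ring
        _ = a * (1 - b) := by rw [ha, this]
    · rw [Scheme.basicOpen_mul, hab, ← Scheme.basicOpen_mul, mul_sub, mul_one, hb, sub_self,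
        Scheme.basicOpen_zero]
  have k1 := key e₁ e₂ h₁ h₂ h
  have k2 := key e₂ e₁ h₂ h₁ h.symm
  have a1 : e₁ = e₁ * e₂ := by
    have : e₁ * (1 - e₂) = e₁ - e₁ * e₂ := by ring
    rw [this] at k1
    exact sub_eq_zero.mp k1
  have a2 : e₂ = e₂ * e₁ := by
    have : e₂ * (1 - e₁) = e₂ - e₂ * e₁ := by ring
    rw [this] at k2
    exact sub_eq_zero.mp k2
  rw [a1, mul_comm, ← a2]

end Groth.Agent.Lib.Helper89.SchemeIdem


namespace Groth.Agent.Lib.Helper89.CoupleGamma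

variable {X X₀ : Scheme.{u}} (i : X₀ ⟶ X)

/-- The henselian couple condition. -/
def IsCouple (i : X₀ ⟶ X) : Prop :=
  ∀ (Y : Scheme.{u}) (g : Y ⟶ X), IsFinite g → ∀ V : Set ↥(pullback g i), IsClopen V →
    ∃! U : Set ↥Y, IsClopen U ∧ (pullback.fst g i).base ⁻¹' U = V

theorem ker_le_jacobson_of_couple (hX : IsCouple i) :
    RingHom.ker i.appTop.hom ≤ Ideal.jacobson ⊥ := by
  intro b hb
  rw [Ideal.mem_jacobson_bot]
  intro c
  set u : Γ(X, ⊤) := b * c + 1 with hu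
  have hu1 : i.appTop.hom u = 1 := by
    rw [hu, map_add, map_mul, (RingHom.mem_ker).mp hb, zero_mul, zero_add, map_one]
  -- D(u) = ⊤
  have htop : ∀ x : X, x ∈ X.basicOpen u := by
    by_contra hne
    obtain ⟨x, hx⟩ := not_forall.mp hne
    let Zc : TopologicalSpace.Closeds X :=
      ⟨(X.basicOpen u : Set X)ᶜ, (X.basicOpen u).2.isClosed_compl⟩
    let I := Scheme.IdealSheafData.vanishingIdeal Zc
    have hrange : Set.range I.subschemeι = (X.basicOpen u : Set X)ᶜ := by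
      rw [Scheme.IdealSheafData.range_subschemeι,
        Scheme.IdealSheafData.coe_support_vanishingIdeal]
      rfl
    have hPempty : IsEmpty ↥(pullback I.subschemeι i) := by
      constructor
      intro z
      have h1 : I.subschemeι ((pullback.fst I.subschemeι i) z) =
          i ((pullback.snd I.subschemeι i) z) := by
        rw [← Scheme.Hom.comp_apply, ← Scheme.Hom.comp_apply, pullback.condition]
      have h2 : I.subschemeι ((pullback.fst I.subschemeι i) z) ∈ (X.basicOpen u : Set X)ᶜ := by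
        rw [← hrange]; exact Set.mem_range_self _
      apply h2
      rw [h1]
      have h3 : i ⁻¹ᵁ X.basicOpen u = ⊤ := by
        rw [Scheme.preimage_basicOpen_top]
        have : i.appTop u = 1 := hu1
        rw [this]
        exact Scheme.basicOpen_of_isUnit _ isUnit_one
      have : (pullback.snd I.subschemeι i) z ∈ i ⁻¹ᵁ X.basicOpen u := by rw [h3]; trivial
      exact this
    obtain ⟨U, -, huniq⟩ := hX _ I.subschemeι inferInstance ∅ isClopen_empty
    have e1 := huniq ∅ ⟨isClopen_empty, Set.preimage_empty⟩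
    have e2 := huniq Set.univ ⟨isClopen_univ, Set.eq_empty_of_isEmpty _⟩
    have hemp : (∅ : Set I.subscheme) = Set.univ := e1.trans e2.symm
    have hxr : x ∈ Set.range I.subschemeι := by rw [hrange]; exact hx
    obtain ⟨z, -⟩ := hxr
    have : z ∈ (∅ : Set I.subscheme) := by rw [hemp]; trivial
    exact this
  exact X.toRingedSpace.isUnit_of_isUnit_germ ⊤ u
    fun x _ => (X.mem_basicOpen_top u x).mp (htop x)

open Groth.Agent.Lib.Helper89.FLFBase Groth.Agent.Lib.Helper89.SchemeIdem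


theorem lift_idem_core {X' X'₀ : Scheme.{u}} (q : X'₀ ⟶ X') {B' : Type*} [CommRing B']
    (Ψ' : B' →+* Γ(X', ⊤)) (hΨbij : Function.Bijective Ψ')
    (hq : ∀ V : Set ↥X'₀, IsClopen V → ∃ U : Set ↥X', IsClopen U ∧ q.base ⁻¹' U = V)
    (ε : B') (hε : ε * ε - ε ∈ RingHom.ker (q.appTop.hom.comp Ψ')) :
    ∃ e : B', IsIdempotentElem e ∧ e - ε ∈ RingHom.ker (q.appTop.hom.comp Ψ') := by
  set τ : B' →+* Γ(X'₀, ⊤) := q.appTop.hom.comp Ψ' with hτ
  have hε₀ : τ ε * τ ε = τ ε := by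
    rw [RingHom.mem_ker, map_sub, map_mul] at hε
    exact sub_eq_zero.mp hε
  have hV : IsClopen ((X'₀.basicOpen (τ ε) : X'₀.Opens) : Set ↥X'₀) :=
    isClopen_basicOpen_of_idem (τ ε) hε₀
  obtain ⟨U, hUclopen, hUpre⟩ := hq _ hV
  obtain ⟨e₁, he₁, hbe₁, -⟩ := exists_idem_of_isClopen (⟨U, hUclopen.2⟩ : X'.Opens) hUclopen.1
  obtain ⟨e, he⟩ := hΨbij.2 e₁
  have hee : e * e = e := by
    apply hΨbij.1
    rw [map_mul, he, he₁]
  have hτe : τ e = q.appTop.hom e₁ := by
    rw [hτ, RingHom.comp_apply, he]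
  refine ⟨e, hee, ?_⟩
  rw [RingHom.mem_ker, map_sub, sub_eq_zero]
  have hidem : τ e * τ e = τ e := by rw [← map_mul, hee]
  have hopen : X'₀.basicOpen (τ e) = X'₀.basicOpen (τ ε) := by
    rw [hτe]
    have h1 : X'₀.basicOpen (q.appTop.hom e₁) = q ⁻¹ᵁ (X'.basicOpen e₁) :=
      (Scheme.preimage_basicOpen_top q e₁).symm
    rw [h1, hbe₁]
    apply TopologicalSpace.Opens.ext
    exact hUpre
  exact idem_eq_of_basicOpen_eq _ _ hidem hε₀ hopen

theorem henselianRing_of_couple (hX : IsCouple i) :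
    HenselianRing (Γ(X, ⊤) : Type u) (RingHom.ker i.appTop.hom) := by
  apply Groth.Agent.Lib.Helper37.henselianRing_of_idempotent_lift _
    (ker_le_jacobson_of_couple i hX)
  intro f hf ε hε
  let φ : Γ(X, ⊤) ⟶ CommRingCat.of (AdjoinRoot f) :=
    CommRingCat.ofHom (algebraMap Γ(X, ⊤) (AdjoinRoot f))
  let p : Spec (CommRingCat.of (AdjoinRoot f)) ⟶ Spec Γ(X, ⊤) := Spec.map φ
  haveI : Module.Finite Γ(X, ⊤) (AdjoinRoot f) := hf.finite_adjoinRoot
  haveI : Module.Free Γ(X, ⊤) (AdjoinRoot f) := hf.free_adjoinRoot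
  haveI : IsFinite p := (IsFinite.SpecMap_iff φ).mpr (RingHom.finite_algebraMap.mpr inferInstance)
  let g : pullback X.toSpecΓ p ⟶ X := pullback.fst _ _
  let g₁ : pullback X.toSpecΓ p ⟶ Spec (CommRingCat.of (AdjoinRoot f)) := pullback.snd _ _
  have H₁ : IsPullback g₁ g p X.toSpecΓ := (IsPullback.of_hasPullback _ _).flip
  let q : pullback g i ⟶ pullback X.toSpecΓ p := pullback.fst g i
  let p₀ : pullback g i ⟶ X₀ := pullback.snd g i
  have H₀ : IsPullback (q ≫ g₁) p₀ p (i ≫ X.toSpecΓ) :=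
    (IsPullback.of_hasPullback g i).paste_horiz H₁
  obtain ⟨n, b₀, hb₀⟩ := isCoordBasis_of_free (A' := Γ(X, ⊤)) (B' := AdjoinRoot f)
  let eA : Γ(X, ⊤) ≃+* Γ(Spec Γ(X, ⊤), ⊤) :=
    (Scheme.ΓSpecIso Γ(X, ⊤)).symm.commRingCatIsoToRingEquiv
  let eB : AdjoinRoot f ≃+* Γ(Spec (CommRingCat.of (AdjoinRoot f)), ⊤) :=
    (Scheme.ΓSpecIso (CommRingCat.of (AdjoinRoot f))).symm.commRingCatIsoToRingEquiv
  have hnat : ∀ a : Γ(X, ⊤), p.appTop.hom (eA a) = eB (algebraMap Γ(X, ⊤) (AdjoinRoot f) a) := by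
    intro a
    have := Scheme.ΓSpecIso_inv_naturality φ
    exact (congrArg (fun m => m.hom a) this).symm
  have hb : IsCoordBasis p.appTop.hom (fun k => eB (b₀ k)) :=
    IsCoordBasis.transport (algebraMap Γ(X, ⊤) (AdjoinRoot f)) p.appTop.hom eA eB hnat b₀ hb₀
  have C₁ := isCoordBasis_top H₁ _ hb
  have C₀ := isCoordBasis_top H₀ _ hb
  let Ψ' : AdjoinRoot f →+* Γ(pullback X.toSpecΓ p, ⊤) := g₁.appTop.hom.comp eB.toRingHom
  let τ : AdjoinRoot f →+* Γ(pullback g i, ⊤) := q.appTop.hom.comp Ψ'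
  have hΨφ : ∀ c : Γ(X, ⊤), Ψ' (algebraMap Γ(X, ⊤) (AdjoinRoot f) c) = g.appTop.hom c := by
    intro c
    change g₁.appTop.hom (eB (algebraMap Γ(X, ⊤) (AdjoinRoot f) c)) = _
    rw [← hnat]
    have h1 : p.appTop ≫ g₁.appTop = X.toSpecΓ.appTop ≫ g.appTop := by
      rw [← Scheme.Hom.comp_appTop, ← Scheme.Hom.comp_appTop, H₁.w]
    have h2 := congrArg (fun m => m.hom (eA c)) h1
    refine h2.trans ?_
    change g.appTop.hom (X.toSpecΓ.appTop.hom (eA c)) = _
    congr 1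
    rw [Scheme.toSpecΓ_appTop]
    exact congrArg (fun m => m.hom c) (Scheme.ΓSpecIso Γ(X, ⊤)).inv_hom_id
  have hτφ : ∀ c : Γ(X, ⊤), τ (algebraMap Γ(X, ⊤) (AdjoinRoot f) c) =
      p₀.appTop.hom (i.appTop.hom c) := by
    intro c
    change q.appTop.hom (Ψ' (algebraMap Γ(X, ⊤) (AdjoinRoot f) c)) = _
    rw [hΨφ]
    have h1 : g.appTop ≫ q.appTop = i.appTop ≫ p₀.appTop := by
      rw [← Scheme.Hom.comp_appTop, ← Scheme.Hom.comp_appTop, pullback.condition]
    exact congrArg (fun m => m.hom c) h1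
  have hΨbij : Function.Bijective Ψ' :=
    bijective_of_coordBasis (algebraMap Γ(X, ⊤) (AdjoinRoot f)) g.appTop.hom Ψ' hΨφ b₀ hb₀ C₁
  have hker : RingHom.ker τ =
      (RingHom.ker i.appTop.hom).map (algebraMap Γ(X, ⊤) (AdjoinRoot f)) :=
    ker_eq_map_of_coordBasis (algebraMap Γ(X, ⊤) (AdjoinRoot f)) i.appTop.hom τ p₀.appTop.hom
      hτφ b₀ hb₀ C₀
  haveI : IsFinite g := inferInstanceAs (IsFinite (pullback.fst X.toSpecΓ p))
  have hq : ∀ V : Set ↥(pullback g i), IsClopen V →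
      ∃ U : Set ↥(pullback X.toSpecΓ p), IsClopen U ∧ q.base ⁻¹' U = V := by
    intro V hV
    obtain ⟨U, hU, -⟩ := hX _ g inferInstance V hV
    exact ⟨U, hU⟩
  rw [← hker]
  rw [← hker] at hε
  exact lift_idem_core q Ψ' hΨbij hq ε hε


end Groth.Agent.Lib.Helper89.CoupleGamma
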