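import Mathlib
import Groth.Prelude.Def_CAlg

/-!
# Depth `≥ 2` and connectedness of punctured spectra (Hartshorne), elementary form

* `RegPair x y`: elementary form of "`[x, y]` is a (weakly) regular sequence on the ring".
* `exists_regPair_of_depth`: `2 ≤ LocCoh.depth B B` gives a regular pair in the maximal ideal.
* `RegPair.map`: flat ring maps preserve regular pairs.
* `hartshorne`, `hartshorne_nilradical`, `hartshorne_top`: Hartshorne's connectedness lemma
  (the idempotent argument is the one of `Lib/Helper93/Hartshorne.lean`, restated here in a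
  self-contained way).
-/

set_option autoImplicit false
universe u

open IsLocalRing

namespace Groth.Agent.Lib.Helper89.DepthConn

section Alg

variable {B : Type*} [CommRing B]

/-- Elementary regular pair: `x` is a nonzerodivisor and `y` is a nonzerodivisor modulo `x`. -/
def RegPair (x y : B) : Prop :=
  (∀ g : B, x * g = 0 → g = 0) ∧ ∀ g g' : B, y * g = x * g' → ∃ g'' : B, g = x * g''

lemma regPair_iff_isWeaklyRegular (x y : B) :
    RegPair x y ↔ RingTheory.Sequence.IsWeaklyRegular B [x, y] := by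
  rw [RingTheory.Sequence.isWeaklyRegular_cons_iff,
    RingTheory.Sequence.isWeaklyRegular_singleton_iff]
  have hmem : ∀ g : B, (Submodule.Quotient.mk g : QuotSMulTop x B) = 0 ↔ ∃ g'', g = x * g'' := by
    intro g
    rw [Submodule.Quotient.mk_eq_zero, Submodule.mem_smul_pointwise_iff_exists]
    constructor
    · rintro ⟨b, -, hb⟩; exact ⟨b, by rw [← hb, smul_eq_mul]⟩
    · rintro ⟨b, hb⟩; exact ⟨b, trivial, by rw [hb, smul_eq_mul]⟩
  constructor
  · rintro ⟨h1, h2⟩
    refine ⟨?_, ?_⟩
    · intro a b hab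
      have : x * (a - b) = 0 := by
        rw [mul_sub, sub_eq_zero]; exact hab
      exact sub_eq_zero.mp (h1 _ this)
    · intro a b hab
      obtain ⟨a, rfl⟩ := Submodule.Quotient.mk_surjective _ a
      obtain ⟨b, rfl⟩ := Submodule.Quotient.mk_surjective _ b
      have h3 : (Submodule.Quotient.mk (y * (a - b)) : QuotSMulTop x B) = 0 := by
        have : (Submodule.Quotient.mk (y * (a - b)) : QuotSMulTop x B) =
            y • Submodule.Quotient.mk a - y • Submodule.Quotient.mk b := by
          rw [← Submodule.Quotient.mk_smul, ← Submodule.Quotient.mk_smul,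
            ← Submodule.Quotient.mk_sub, smul_eq_mul, smul_eq_mul, mul_sub]
        rw [this, sub_eq_zero]; exact hab
      obtain ⟨g', hg'⟩ := (hmem _).mp h3
      obtain ⟨g'', hg''⟩ := h2 (a - b) g' hg'
      have : (Submodule.Quotient.mk (a - b) : QuotSMulTop x B) = 0 := (hmem _).mpr ⟨g'', hg''⟩
      rw [Submodule.Quotient.mk_sub, sub_eq_zero] at this
      exact this
  · rintro ⟨h1, h2⟩
    refine ⟨?_, ?_⟩
    · intro g hg
      apply h1
      change x * g = x * 0
      rw [hg, mul_zero]
    · intro g g' hgg'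
      apply (hmem g).mp
      apply h2
      change y • (Submodule.Quotient.mk g : QuotSMulTop x B) = y • 0
      rw [smul_zero, ← Submodule.Quotient.mk_smul, smul_eq_mul, hgg']
      exact (hmem _).mpr ⟨g', rfl⟩

/-- Flat ring maps preserve regular pairs. -/
theorem RegPair.map {A : Type*} [CommRing A] (f : B →+* A) (hf : f.Flat) {x y : B}
    (h : RegPair x y) : RegPair (f x) (f y) := by
  algebraize [f]
  have := ((regPair_iff_isWeaklyRegular x y).mp h).of_flat (S := A)
  exact (regPair_iff_isWeaklyRegular _ _).mpr this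

/-- powers of an elementary regular pair. -/
theorem RegPair.pow {x y : B} (h : RegPair x y) (k l : ℕ) : RegPair (x ^ k) (y ^ l) := by
  obtain ⟨hx, hy⟩ := h
  have hxk : ∀ k : ℕ, ∀ g : B, x ^ k * g = 0 → g = 0 := by
    intro k
    induction k with
    | zero => intro g hg; rwa [pow_zero, one_mul] at hg
    | succ k ih =>
      intro g hg
      apply ih
      apply hx
      rw [← mul_assoc, ← pow_succ']; exact hg
  refine ⟨hxk k, ?_⟩
  have h1 : ∀ k : ℕ, ∀ g g' : B, y * g = x ^ k * g' → ∃ g'' : B, g = x ^ k * g'' := by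
    intro k
    induction k with
    | zero => intro g _ _; exact ⟨g, by rw [pow_zero, one_mul]⟩
    | succ k ih =>
      intro g g' h
      obtain ⟨g₁, rfl⟩ := hy g (x ^ k * g') (by rw [h, pow_succ']; ring)
      have h2 : y * g₁ = x ^ k * g' := by
        have h3 : x * (y * g₁ - x ^ k * g') = 0 := by
          rw [mul_sub, sub_eq_zero, ← mul_assoc x (x ^ k), ← pow_succ', ← h]; ring
        exact sub_eq_zero.mp (hx _ h3)
      obtain ⟨g₂, rfl⟩ := ih g₁ g' h2
      exact ⟨g₂, by rw [pow_succ']; ring⟩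
  induction l with
  | zero => intro g g' h; rw [pow_zero, one_mul] at h; exact ⟨g', h⟩
  | succ l ih =>
    intro g g' h
    obtain ⟨g₁, hg₁⟩ := h1 k (y ^ l * g) g' (by rw [← h, pow_succ']; ring)
    exact ih g g₁ hg₁

/-- A local ring has a regular pair in its maximal ideal. -/
def HasRegPair (B : Type*) [CommRing B] [IsLocalRing B] : Prop :=
  ∃ x ∈ maximalIdeal B, ∃ y ∈ maximalIdeal B, RegPair x y

theorem HasRegPair.map {A : Type*} [CommRing A] [IsLocalRing A] [IsLocalRing B] (f : B →+* A)
    (hf : f.Flat) [IsLocalHom f] (h : HasRegPair B) : HasRegPair A := by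
  obtain ⟨x, hx, y, hy, hxy⟩ := h
  refine ⟨f x, ?_, f y, ?_, hxy.map f hf⟩
  · rw [mem_maximalIdeal, mem_nonunits_iff] at hx ⊢
    exact fun hu => hx (isUnit_of_map_unit f x hu)
  · rw [mem_maximalIdeal, mem_nonunits_iff] at hy ⊢
    exact fun hu => hy (isUnit_of_map_unit f y hu)

end Alg

section Hartshorne

variable {B : Type*} [CommRing B] [IsLocalRing B]

/-- Hartshorne's connectedness lemma, elementary form: in a local ring with a regular pair in the
maximal ideal, two ideals with `I * J = 0` and `V(I) ∩ V(J) ⊆ {m}` cannot both be nonzero. -/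
theorem hartshorne (hB : HasRegPair B) (I J : Ideal B) (hIJ : I * J = ⊥)
    (hV : ∀ P : Ideal B, P.IsPrime → I ≤ P → J ≤ P → P = maximalIdeal B) :
    I = ⊥ ∨ J = ⊥ := by
  obtain ⟨x₀, hx₀m, y₀, hy₀m, hreg⟩ := hB
  have hrad : maximalIdeal B ≤ (I ⊔ J).radical := by
    rw [Ideal.radical_eq_sInf]
    apply le_sInf
    rintro P ⟨hP, hPprime⟩
    rw [hV P hPprime (le_sup_left.trans hP) (le_sup_right.trans hP)]
  obtain ⟨k, hk⟩ := hrad hx₀m
  obtain ⟨l, hl⟩ := hrad hy₀m
  obtain ⟨hx, hy⟩ := hreg.pow k l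
  generalize x₀ ^ k = X at hk hx hy
  generalize y₀ ^ l = Y at hl hy
  obtain ⟨a, ha, b, hb, hab⟩ := Submodule.mem_sup.mp hk
  obtain ⟨a', ha', b', hb', hab'⟩ := Submodule.mem_sup.mp hl
  have hzero : ∀ i ∈ I, ∀ j ∈ J, i * j = 0 := by
    intro i hi j hj
    have : i * j ∈ I * J := Ideal.mul_mem_mul hi hj
    rwa [hIJ, Ideal.mem_bot] at this
  have h1 : Y * a = X * a' := by
    rw [← hab, ← hab', add_mul, add_mul, mul_comm b' a, hzero a ha b' hb', mul_comm b a',
      hzero a' ha' b hb, add_zero, add_zero, mul_comm]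
  obtain ⟨e, he⟩ := hy a a' h1
  have he2 : e * e = e := by
    have h2 : a * a = X * a := by
      rw [← hab, add_mul, mul_comm b a, hzero a ha b hb, add_zero]
    have h3 : X * (X * (e * e - e)) = 0 := by
      have : X * (X * (e * e - e)) = (X * e) * (X * e) - X * (X * e) := by ring
      rw [this, ← he, h2, sub_self]
    exact sub_eq_zero.mp (hx _ (hx _ h3))
  have he01 : e = 0 ∨ e = 1 := by
    have h : e * (1 - e) = 0 := by rw [mul_sub, mul_one, he2, sub_self]
    rcases IsLocalRing.isUnit_or_isUnit_one_sub_self e with hu | hu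
    · right
      have := hu.mul_right_eq_zero.mp h
      rw [sub_eq_zero] at this
      exact this.symm
    · left
      exact hu.mul_left_eq_zero.mp h
  rcases he01 with rfl | rfl
  · left
    rw [mul_zero] at he
    rw [he, zero_add] at hab
    rw [eq_bot_iff]
    intro i hi
    rw [Ideal.mem_bot]
    apply hx
    rw [← hab, mul_comm]
    exact hzero i hi b hb
  · right
    rw [mul_one] at he
    rw [eq_bot_iff]
    intro j hj
    rw [Ideal.mem_bot]
    apply hx
    rw [← he]
    exact hzero a ha j hj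

/-- Hartshorne's connectedness lemma, up to nilpotents. -/
theorem hartshorne_nilradical [IsNoetherianRing B] (hB : HasRegPair B) (I J : Ideal B)
    (hIJ : I * J ≤ nilradical B)
    (hV : ∀ P : Ideal B, P.IsPrime → I ≤ P → J ≤ P → P = maximalIdeal B) :
    I ≤ nilradical B ∨ J ≤ nilradical B := by
  obtain ⟨n, hn⟩ := IsNoetherianRing.isNilpotent_nilradical B
  have h0 : I ^ n * J ^ n = ⊥ := by
    rw [← mul_pow, eq_bot_iff, ← Ideal.zero_eq_bot, ← hn]
    exact Ideal.pow_right_mono hIJ n
  have hV' : ∀ P : Ideal B, P.IsPrime → I ^ n ≤ P → J ^ n ≤ P → P = maximalIdeal B := by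
    intro P hP h1 h2
    exact hV P hP (hP.le_of_pow_le h1) (hP.le_of_pow_le h2)
  rcases hartshorne hB (I ^ n) (J ^ n) h0 hV' with h | h
  · left
    intro x hx
    refine ⟨n, ?_⟩
    have : x ^ n ∈ I ^ n := Ideal.pow_mem_pow hx n
    rwa [h, Ideal.mem_bot] at this
  · right
    intro x hx
    refine ⟨n, ?_⟩
    have : x ^ n ∈ J ^ n := Ideal.pow_mem_pow hx n
    rwa [h, Ideal.mem_bot] at this

/-- Hartshorne's connectedness lemma, topological form: if two closed subsets cover the spectrum
and meet at most in the closed point, one of them is everything. -/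
theorem hartshorne_top [IsNoetherianRing B] (hB : HasRegPair B) (Z₁ Z₂ : Set (PrimeSpectrum B))
    (h₁ : IsClosed Z₁) (h₂ : IsClosed Z₂) (hcov : Z₁ ∪ Z₂ = Set.univ)
    (hint : Z₁ ∩ Z₂ ⊆ {closedPoint B}) : Z₁ = Set.univ ∨ Z₂ = Set.univ := by
  obtain ⟨I, rfl⟩ := (PrimeSpectrum.isClosed_iff_zeroLocus_ideal _).mp h₁
  obtain ⟨J, rfl⟩ := (PrimeSpectrum.isClosed_iff_zeroLocus_ideal _).mp h₂
  have hIJ : I * J ≤ nilradical B := by
    rw [nilradical_eq_sInf]
    apply le_sInf
    intro P hP
    have hPm : (⟨P, hP⟩ : PrimeSpectrum B) ∈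
        PrimeSpectrum.zeroLocus (I : Set B) ∪ PrimeSpectrum.zeroLocus (J : Set B) := by
      rw [hcov]; trivial
    rcases hPm with h | h
    · exact Ideal.mul_le_left.trans ((PrimeSpectrum.mem_zeroLocus _ _).mp h)
    · exact Ideal.mul_le_right.trans ((PrimeSpectrum.mem_zeroLocus _ _).mp h)
  have hV : ∀ P : Ideal B, P.IsPrime → I ≤ P → J ≤ P → P = maximalIdeal B := by
    intro P hP h1 h2
    have : (⟨P, hP⟩ : PrimeSpectrum B) ∈ ({closedPoint B} : Set (PrimeSpectrum B)) :=
      hint ⟨(PrimeSpectrum.mem_zeroLocus _ _).mpr h1, (PrimeSpectrum.mem_zeroLocus _ _).mpr h2⟩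
    exact congrArg PrimeSpectrum.asIdeal (Set.mem_singleton_iff.mp this)
  rcases hartshorne_nilradical hB I J hIJ hV with h | h
  · left
    rw [Set.eq_univ_iff_forall]
    intro P
    rw [PrimeSpectrum.mem_zeroLocus]
    exact h.trans (nilradical_le_prime P.asIdeal)
  · right
    rw [Set.eq_univ_iff_forall]
    intro P
    rw [PrimeSpectrum.mem_zeroLocus]
    exact h.trans (nilradical_le_prime P.asIdeal)

end Hartshorne

section Depth

variable (B : Type u) [CommRing B] [IsLocalRing B]

theorem hasRegPair_of_depth (h2 : (2 : ℕ∞) ≤ LocCoh.depth B B) : HasRegPair B := by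
  unfold LocCoh.depth LocCoh.idealDepth at h2
  have hne : ¬ (maximalIdeal B • (⊤ : Submodule B B) = ⊤) := by
    rw [Ideal.smul_top_eq_map, Algebra.algebraMap_self, Ideal.map_id]
    intro h
    have h1 : (1 : B) ∈ (maximalIdeal B).restrictScalars B := by rw [h]; trivial
    exact (Ideal.ne_top_iff_one _).mp (maximalIdeal.isMaximal B).ne_top h1
  rw [if_neg hne] at h2
  by_contra hcon
  have hle : (⨆ (rs : List B)
      (_ : RingTheory.Sequence.IsWeaklyRegular B rs ∧ ∀ r ∈ rs, r ∈ maximalIdeal B),
      (rs.length : ℕ∞)) ≤ 1 := by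
    apply iSup_le
    intro rs
    apply iSup_le
    rintro ⟨hreg, hmem⟩
    match rs, hreg, hmem with
    | [], _, _ => simp
    | [_], _, _ => simp
    | x :: y :: rest, hreg, hmem =>
      exfalso
      apply hcon
      refine ⟨x, hmem x (by simp), y, hmem y (by simp), ?_⟩
      rw [regPair_iff_isWeaklyRegular]
      rw [RingTheory.Sequence.isWeaklyRegular_cons_iff,
        RingTheory.Sequence.isWeaklyRegular_cons_iff] at hreg
      rw [RingTheory.Sequence.isWeaklyRegular_cons_iff,
        RingTheory.Sequence.isWeaklyRegular_singleton_iff]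
      exact ⟨hreg.1, hreg.2.1⟩
  have : (2 : ℕ∞) ≤ 1 := h2.trans hle
  exact absurd this (by norm_num)

end Depth

end Groth.Agent.Lib.Helper89.DepthConn
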