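import Groth.Agent.Lib.Helper89.DepthConn
import Groth.Agent.Lib.Helper89.FEtFF

/-!
# Extending clopen subsets across closed subsets of depth `≥ 2`

* `exists_minimal_of_isClosed`: a nonempty closed subset of a quasi-sober T0 space has a point
  with no proper generization in it.
* `mem_nhds_of_generizations`: in a Noetherian quasi-sober space, a closed set containing all
  generizations of `w` is a neighbourhood of `w`.
* `exists_isClopen_extension`: on a Noetherian scheme `W` with a dense open `V` such that all local
  rings outside `V` have a regular pair, clopen subsets of `V` extend to clopen subsets of `W`.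
* `restrict_full_faithful_of_hasRegPair`: `FEt.restrict U.ι` is fully faithful for `U` dense open in a
  Noetherian scheme, with regular pairs in the local rings outside `U`.
-/

set_option autoImplicit false
set_option linter.style.haveILetI false
universe u
open AlgebraicGeometry CategoryTheory CategoryTheory.Limits MorphismProperty Topology

namespace Groth.Agent.Lib.Helper89.DepthConn

section Top

lemma exists_minimal_of_isClosed {X : Type*} [TopologicalSpace X] [QuasiSober X] [T0Space X]
    {Z : Set X} (hZ : IsClosed Z) {w0 : X} (hw0 : w0 ∈ Z) :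
    ∃ w ∈ Z, ∀ w' ∈ Z, w' ⤳ w → w' = w := by
  haveI : QuasiSober Z := hZ.isClosedEmbedding_subtypeVal.quasiSober
  have ht : IsIrreducible (irreducibleComponent (⟨w0, hw0⟩ : Z)) :=
    isIrreducible_irreducibleComponent
  have htc : IsClosed (irreducibleComponent (⟨w0, hw0⟩ : Z)) := isClosed_irreducibleComponent
  obtain ⟨w, hw⟩ := QuasiSober.sober ht htc
  refine ⟨w.1, w.2, ?_⟩
  intro w' hw' hspec
  have hspec' : (⟨w', hw'⟩ : Z) ⤳ w := (subtype_specializes_iff _ _).mpr hspec
  have h1 : irreducibleComponent (⟨w0, hw0⟩ : Z) ⊆ closure {(⟨w', hw'⟩ : Z)} := by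
    rw [← hw.def]
    exact specializes_iff_closure_subset.mp hspec'
  have h2 : closure {(⟨w', hw'⟩ : Z)} = irreducibleComponent (⟨w0, hw0⟩ : Z) :=
    (irreducibleComponent_property _).2.2 _ isIrreducible_singleton.closure.isPreirreducible h1
  have h3 : IsGenericPoint (⟨w', hw'⟩ : Z) (irreducibleComponent (⟨w0, hw0⟩ : Z)) := h2
  exact congrArg Subtype.val (h3.eq hw)

lemma mem_nhds_of_generizations {X : Type*} [TopologicalSpace X]
    [TopologicalSpace.NoetherianSpace X] [QuasiSober X]
    {S : Set X} (hS : IsClosed S) {w : X} (h : ∀ w', w' ⤳ w → w' ∈ S) : S ∈ 𝓝 w := by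
  have hfin : {C ∈ irreducibleComponents X | w ∉ C}.Finite :=
    TopologicalSpace.NoetherianSpace.finite_irreducibleComponents.subset (fun _ h => h.1)
  have hF : IsClosed (⋃₀ {C ∈ irreducibleComponents X | w ∉ C}) := by
    rw [Set.sUnion_eq_biUnion]
    exact hfin.isClosed_biUnion (fun C hC => isClosed_of_mem_irreducibleComponents C hC.1)
  have hw : w ∈ (⋃₀ {C ∈ irreducibleComponents X | w ∉ C})ᶜ := by
    rintro ⟨C, hC, hwC⟩
    exact hC.2 hwC
  refine Filter.mem_of_superset (hF.isOpen_compl.mem_nhds hw) ?_
  intro y hy
  by_contra hyS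
  apply hy
  refine ⟨irreducibleComponent y, ⟨irreducibleComponent_mem_irreducibleComponents y, ?_⟩,
    mem_irreducibleComponent⟩
  intro hwC
  obtain ⟨η, hη⟩ := QuasiSober.sober (isIrreducible_irreducibleComponent (x := y))
    isClosed_irreducibleComponent
  have hηw : η ⤳ w := by
    rw [specializes_iff_mem_closure, hη.def]; exact hwC
  have hηS : η ∈ S := h η hηw
  have : irreducibleComponent y ⊆ S := by
    rw [← hη.def]
    exact hS.closure_subset_iff.mpr (Set.singleton_subset_iff.mpr hηS)
  exact hyS (this mem_irreducibleComponent)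

end Top

section Sch

variable {W : Scheme.{u}}

/-- Local step: if two closed subsets cover `W` and `w` is a point of the intersection with no
proper generization in the intersection, and the local ring at `w` has a regular pair, then one of
the two closed sets contains all generizations of `w`. -/
lemma generizations_subset_or [IsLocallyNoetherian W] (w : W)
    (hw : HasRegPair (W.presheaf.stalk w)) (S S' : Set W) (hS : IsClosed S) (hS' : IsClosed S')
    (hcov : S ∪ S' = Set.univ) (hmin : ∀ w' ∈ S ∩ S', w' ⤳ w → w' = w) :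
    (∀ w', w' ⤳ w → w' ∈ S) ∨ (∀ w', w' ⤳ w → w' ∈ S') := by
  have hrange := Scheme.range_fromSpecStalk (X := W) (x := w)
  have hinj : Function.Injective (W.fromSpecStalk w).base :=
    (W.fromSpecStalk w).isEmbedding.injective
  have hcov' : {q : PrimeSpectrum (W.presheaf.stalk w) | (W.fromSpecStalk w).base q ∈ S} ∪
      {q : PrimeSpectrum (W.presheaf.stalk w) | (W.fromSpecStalk w).base q ∈ S'} = Set.univ := by
    rw [Set.eq_univ_iff_forall]
    intro q
    have : (W.fromSpecStalk w).base q ∈ S ∪ S' := by rw [hcov]; trivial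
    exact this
  have hint : {q : PrimeSpectrum (W.presheaf.stalk w) | (W.fromSpecStalk w).base q ∈ S} ∩
      {q : PrimeSpectrum (W.presheaf.stalk w) | (W.fromSpecStalk w).base q ∈ S'} ⊆
      {IsLocalRing.closedPoint (W.presheaf.stalk w)} := by
    rintro q ⟨hq1, hq2⟩
    have h1 : (W.fromSpecStalk w).base q ⤳ w := by
      have : (W.fromSpecStalk w).base q ∈ Set.range (W.fromSpecStalk w).base :=
        Set.mem_range_self q
      rw [hrange] at this
      exact this
    have h2 : (W.fromSpecStalk w).base q = w := hmin _ ⟨hq1, hq2⟩ h1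
    rw [Set.mem_singleton_iff]
    apply hinj
    rw [h2]
    exact (Scheme.fromSpecStalk_closedPoint (X := W) (x := w)).symm
  have hc1 : IsClosed {q : PrimeSpectrum (W.presheaf.stalk w) | (W.fromSpecStalk w).base q ∈ S} :=
    hS.preimage (W.fromSpecStalk w).continuous
  have hc2 : IsClosed {q : PrimeSpectrum (W.presheaf.stalk w) | (W.fromSpecStalk w).base q ∈ S'} :=
    hS'.preimage (W.fromSpecStalk w).continuous
  rcases hartshorne_top hw _ _ hc1 hc2 hcov' hint with h | h
  · left
    intro w' hw'
    have : w' ∈ Set.range (W.fromSpecStalk w).base := by rw [hrange]; exact hw'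
    obtain ⟨q, rfl⟩ := this
    have : q ∈ {q : PrimeSpectrum (W.presheaf.stalk w) | (W.fromSpecStalk w).base q ∈ S} := by
      rw [h]; trivial
    exact this
  · right
    intro w' hw'
    have : w' ∈ Set.range (W.fromSpecStalk w).base := by rw [hrange]; exact hw'
    obtain ⟨q, rfl⟩ := this
    have : q ∈ {q : PrimeSpectrum (W.presheaf.stalk w) | (W.fromSpecStalk w).base q ∈ S'} := by
      rw [h]; trivial
    exact this

/-- On a Noetherian scheme `W` with a dense subset `V` such that the local rings at all points
outside `V` have a regular pair (e.g. depth `≥ 2`), every decomposition of `V` into two disjoint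
open subsets extends to a decomposition of `W` into two disjoint clopen subsets. -/
theorem exists_isClopen_extension [IsNoetherian W] (V : Set W) (hVd : Dense V)
    (hreg : ∀ w, w ∉ V → HasRegPair (W.presheaf.stalk w))
    (T T' : Set W) (hT : IsOpen T) (hT' : IsOpen T') (hTT' : T ∪ T' = V) (hdisj : Disjoint T T') :
    ∃ S, IsClopen S ∧ S ∩ V = T := by
  have hcov : closure T ∪ closure T' = Set.univ := by
    rw [← closure_union, hTT', hVd.closure_eq]
  have h1 : Disjoint (closure T) T' := hdisj.closure_left hT'
  have h2 : Disjoint T (closure T') := hdisj.closure_right hT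
  have hint : closure T ∩ closure T' = ∅ := by
    by_contra hne
    obtain ⟨w0, hw0⟩ := Set.nonempty_iff_ne_empty.mpr hne
    obtain ⟨w, hwZ, hmin⟩ :=
      exists_minimal_of_isClosed (isClosed_closure.inter isClosed_closure) hw0
    have hwV : w ∉ V := by
      intro hwV
      rw [← hTT'] at hwV
      rcases hwV with h | h
      · exact Set.disjoint_left.mp h2 h hwZ.2
      · exact Set.disjoint_left.mp h1 hwZ.1 h
    rcases generizations_subset_or w (hreg w hwV) _ _ isClosed_closure isClosed_closure hcov hmin
      with h | h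
    · have hn : closure T ∈ 𝓝 w := mem_nhds_of_generizations isClosed_closure h
      obtain ⟨y, hy1, hy2⟩ := mem_closure_iff_nhds.mp hwZ.2 _ hn
      exact Set.disjoint_left.mp h1 hy1 hy2
    · have hn : closure T' ∈ 𝓝 w := mem_nhds_of_generizations isClosed_closure h
      obtain ⟨y, hy1, hy2⟩ := mem_closure_iff_nhds.mp hwZ.1 _ hn
      exact Set.disjoint_left.mp h2 hy2 hy1
  have hcompl : closure T = (closure T')ᶜ := by
    ext y
    constructor
    · intro hy hy'
      have : y ∈ closure T ∩ closure T' := ⟨hy, hy'⟩
      rw [hint] at this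
      exact this
    · intro hy
      have : y ∈ closure T ∪ closure T' := by rw [hcov]; trivial
      rcases this with h | h
      · exact h
      · exact absurd h hy
  refine ⟨closure T, ⟨isClosed_closure, ?_⟩, ?_⟩
  · rw [hcompl]; exact isClosed_closure.isOpen_compl
  · rw [← hTT', Set.inter_union_distrib_left, h1.inter_eq, Set.union_empty,
      Set.inter_eq_right.mpr subset_closure]

end Sch

section FEt

open Groth.Agent.Lib.Helper89.FEtFF

variable {X : Scheme.{u}}

theorem clopenInj_of_dense (U : X.Opens) (hU : Dense (U : Set X)) : ClopenInj U.ι := by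
  intro W W' p p' g' sq hp1 hp2 R hR hpre
  have hd : Dense (p.base ⁻¹' (U : Set X)) := hU.preimage p.isOpenMap
  have hsub : p.base ⁻¹' (U : Set X) ⊆ R := by
    intro w hw
    obtain ⟨w', hw1, -⟩ := Scheme.exists_preimage_of_isPullback sq w ⟨p w, hw⟩ rfl
    have : w' ∈ g'.base ⁻¹' R := by rw [hpre]; trivial
    rw [← hw1]
    exact this
  rw [← hR.isClosed.closure_eq]
  exact (hd.mono hsub).closure_eq

theorem clopenSurj_of_hasRegPair [IsNoetherian X] (U : X.Opens) (hU : Dense (U : Set X))
    (h : ∀ x : X, x ∉ U → HasRegPair (X.presheaf.stalk x)) : ClopenSurj U.ι := by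
  intro W W' p p' g' sq hp1 hp2 T hT
  have hg'o : IsOpenImmersion g' :=
    MorphismProperty.of_isPullback (P := @IsOpenImmersion) sq.flip inferInstance
  have hg'inj : Function.Injective g'.base := g'.isOpenEmbedding.injective
  haveI : IsLocallyNoetherian W := LocallyOfFiniteType.isLocallyNoetherian p
  haveI : CompactSpace W := QuasiCompact.compactSpace_of_compactSpace p
  haveI : IsNoetherian W := {}
  have hd : Dense (p.base ⁻¹' (U : Set X)) := hU.preimage p.isOpenMap
  have hrange : Set.range g'.base = p.base ⁻¹' (U : Set X) := by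
    ext w
    constructor
    · rintro ⟨w', rfl⟩
      have : p (g' w') = U.ι (p' w') := by
        rw [← Scheme.Hom.comp_apply, sq.w, Scheme.Hom.comp_apply]
      change p (g' w') ∈ U
      rw [this]
      exact (p' w').2
    · intro hw
      obtain ⟨w', hw1, -⟩ := Scheme.exists_preimage_of_isPullback sq w ⟨p w, hw⟩ rfl
      exact ⟨w', hw1⟩
  have hreg : ∀ w, w ∉ p.base ⁻¹' (U : Set X) → HasRegPair (W.presheaf.stalk w) := by
    intro w hw
    have hflat : (p.stalkMap w).hom.Flat := (Flat.iff_flat_stalkMap p).mp inferInstance w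
    exact (h (p w) hw).map (p.stalkMap w).hom hflat
  have hunion : g'.base '' T ∪ g'.base '' Tᶜ = p.base ⁻¹' (U : Set X) := by
    rw [← Set.image_union, Set.union_compl_self, Set.image_univ, hrange]
  have hdisj : Disjoint (g'.base '' T) (g'.base '' Tᶜ) := by
    rw [Set.disjoint_image_iff hg'inj]
    exact disjoint_compl_right
  obtain ⟨S, hS, hSV⟩ := exists_isClopen_extension (W := W) _ hd hreg (g'.base '' T)
    (g'.base '' Tᶜ) (g'.isOpenEmbedding.isOpenMap T hT.isOpen)
    (g'.isOpenEmbedding.isOpenMap _ hT.compl.isOpen) hunion hdisj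
  refine ⟨S, hS, ?_⟩
  ext z
  have hz : g'.base z ∈ p.base ⁻¹' (U : Set X) := by rw [← hrange]; exact Set.mem_range_self z
  constructor
  · intro hzS
    have : g'.base z ∈ S ∩ p.base ⁻¹' (U : Set X) := ⟨hzS, hz⟩
    rw [hSV] at this
    obtain ⟨z', hz'T, hz'⟩ := this
    exact hg'inj hz' ▸ hz'T
  · intro hzT
    have : g'.base z ∈ S ∩ p.base ⁻¹' (U : Set X) := by
      rw [hSV]; exact ⟨z, hzT, rfl⟩
    exact this.1

/-- Restriction of finite étale covers to a dense open of a Noetherian scheme is fully faithful as
soon as the local rings at the points outside the open have a regular pair (depth `≥ 2`). -/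
theorem restrict_full_faithful_of_hasRegPair [IsNoetherian X] (U : X.Opens)
    (hU : Dense (U : Set X)) (h : ∀ x : X, x ∉ U → HasRegPair (X.presheaf.stalk x)) :
    (FEt.restrict U.ι).Full ∧ (FEt.restrict U.ι).Faithful :=
  full_faithful_of_clopen _ (clopenInj_of_dense U hU) (clopenSurj_of_hasRegPair U hU h)

end FEt

end Groth.Agent.Lib.Helper89.DepthConn
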