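import Groth.Agent.Lib.Helper89.DepthConn2
import Groth.Prelude.Def_FEt

/-!
# The punctured spectrum of a local ring of depth `≥ 2`
-/

set_option autoImplicit false
set_option linter.style.haveILetI false
universe u
open AlgebraicGeometry CategoryTheory CategoryTheory.Limits MorphismProperty Topology

namespace Groth.Agent.Lib.Helper89.DepthConn

variable (A : Type u) [CommRing A] [IsLocalRing A]

lemma not_mem_puncturedSpec_iff (x : Spec (CommRingCat.of A)) :
    x ∉ FEt.puncturedSpec A ↔ x = IsLocalRing.closedPoint A := by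
  constructor
  · intro h
    by_contra hne
    exact h (show x ∈ FEt.puncturedSpec A from hne)
  · intro h hx
    exact (show ¬ (x = IsLocalRing.closedPoint A) from hx) h

lemma dense_puncturedSpec (h : HasRegPair A) :
    Dense ((FEt.puncturedSpec A : (Spec (CommRingCat.of A)).Opens) :
      Set (Spec (CommRingCat.of A))) := by
  obtain ⟨x, hxm, y, -, hxy⟩ := h
  -- `x` is not nilpotent
  have hxn : x ∉ nilradical A := by
    rintro ⟨n, hn⟩
    have h1 := (hxy.pow n 0).1 1 (by rw [mul_one, hn])
    exact one_ne_zero h1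
  rw [nilradical_eq_sInf, Ideal.mem_sInf] at hxn
  push Not at hxn
  obtain ⟨J, hJ, hxJ⟩ := hxn
  have hJ' : J.IsPrime := hJ
  have hq : (⟨J, hJ'⟩ : PrimeSpectrum A) ≠ IsLocalRing.closedPoint A := by
    intro h
    apply hxJ
    have : J = IsLocalRing.maximalIdeal A := congrArg PrimeSpectrum.asIdeal h
    rw [this]; exact hxm
  have hspec : (⟨J, hJ'⟩ : PrimeSpectrum A) ⤳ IsLocalRing.closedPoint A := by
    rw [← PrimeSpectrum.le_iff_specializes]
    exact IsLocalRing.le_maximalIdeal hJ'.ne_top
  intro z
  by_cases hz : z ∈ FEt.puncturedSpec A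
  · exact subset_closure hz
  · rw [not_mem_puncturedSpec_iff] at hz
    rw [hz]
    refine hspec.mem_closed isClosed_closure (subset_closure ?_)
    change (⟨J, hJ'⟩ : PrimeSpectrum A) ∈ ({IsLocalRing.closedPoint A}ᶜ : Set (PrimeSpectrum A))
    exact hq

lemma hasRegPair_stalk_of_not_mem (h : HasRegPair A) (x : Spec (CommRingCat.of A))
    (hx : x ∉ FEt.puncturedSpec A) :
    HasRegPair ((Spec (CommRingCat.of A)).presheaf.stalk x) := by
  rw [not_mem_puncturedSpec_iff] at hx
  have hx' : PrimeSpectrum.asIdeal x = IsLocalRing.maximalIdeal A := by rw [hx]; rfl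
  haveI : (PrimeSpectrum.asIdeal x).IsPrime := PrimeSpectrum.isPrime x
  let k : Algebra A ((Spec (CommRingCat.of A)).presheaf.stalk x) :=
    StructureSheaf.stalkAlgebra A x
  have hloc : IsLocalization.AtPrime ((Spec (CommRingCat.of A)).presheaf.stalk x)
      (PrimeSpectrum.asIdeal x) :=
    StructureSheaf.IsLocalization.to_stalk A x
  have hflat : (algebraMap A ((Spec (CommRingCat.of A)).presheaf.stalk x)).Flat := by
    rw [RingHom.flat_algebraMap_iff]
    exact IsLocalization.flat _ (PrimeSpectrum.asIdeal x).primeCompl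
  have hlocal : IsLocalHom (algebraMap A ((Spec (CommRingCat.of A)).presheaf.stalk x)) := by
    constructor
    intro a ha
    have h1 := (IsLocalization.AtPrime.isUnit_to_map_iff _ (PrimeSpectrum.asIdeal x) a).mp ha
    by_contra hna
    apply h1
    rw [hx']
    exact (IsLocalRing.mem_maximalIdeal a).mpr hna
  exact h.map _ hflat

end Groth.Agent.Lib.Helper89.DepthConn
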