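import Mathlib
import Groth.Agent.Lib.Helper89.DepthConn

/-!
# A function invertible in codimension one is invertible when the complement has depth two (helper89)
-/

set_option autoImplicit false
universe u

open IsLocalRing

namespace Groth.Agent.Lib.Helper89.DiscPure

open Groth.Agent.Lib.Helper89.DepthConn

/-- in a local ring with a regular pair, an element contained in no prime other than the maximal
ideal is a unit -/
theorem isUnit_of_hasRegPair {L : Type*} [CommRing L] [IsLocalRing L] (hL : HasRegPair L) (d : L)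
    (h : ∀ q : Ideal L, q.IsPrime → d ∈ q → q = maximalIdeal L) : IsUnit d := by
  by_contra hd
  have hdm : d ∈ maximalIdeal L := hd
  obtain ⟨x, hx, y, hy, hxy⟩ := hL
  have hrad : ∀ z ∈ maximalIdeal L, z ∈ (Ideal.span {d}).radical := by
    intro z hz
    rw [Ideal.radical_eq_sInf, Ideal.mem_sInf]
    rintro q ⟨hq1, hq2⟩
    have : q = maximalIdeal L := h q hq2 (hq1 (Ideal.subset_span rfl))
    rw [this]; exact hz
  obtain ⟨k, hk⟩ := hrad x hx
  obtain ⟨l, hl⟩ := hrad y hy
  obtain ⟨u, hu⟩ := Ideal.mem_span_singleton'.mp hk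
  obtain ⟨v, hv⟩ := Ideal.mem_span_singleton'.mp hl
  obtain ⟨h1, h2⟩ := hxy.pow k l
  obtain ⟨w, hw⟩ := h2 u v (by rw [← hu, ← hv]; ring)
  have h3 : u * (1 - d * w) = 0 := by
    have : u = u * d * w := by
      conv_lhs => rw [hw, ← hu]
    rw [mul_sub, mul_one, sub_eq_zero]
    rw [← mul_assoc]; exact this
  have hunit : IsUnit (1 - d * w) := by
    by_contra hn
    have hm : 1 - d * w ∈ maximalIdeal L := hn
    have : (1 : L) ∈ maximalIdeal L := by
      have h4 := Ideal.add_mem _ hm (Ideal.mul_mem_right w _ hdm)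
      rwa [sub_add_cancel] at h4
    exact (Ideal.ne_top_iff_one _).mp (maximalIdeal.isMaximal L).ne_top this
  have hu0 : u = 0 := by
    have := hunit.mul_left_eq_zero.mp h3
    exact this
  have hxk : x ^ k = 0 := by rw [← hu, hu0, zero_mul]
  have : (1 : L) = 0 := h1 1 (by rw [mul_one, hxk])
  exact one_ne_zero this

/-- an element of a ring is a unit provided the local rings at the minimal primes over it have
regular pairs -/
theorem isUnit_of_forall_minimalPrimes {A : Type u} [CommRing A] (d : A)
    (h : ∀ p ∈ (Ideal.span {d}).minimalPrimes, ∀ [p.IsPrime],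
      ∃ (L : Type u) (_ : CommRing L) (_ : IsLocalRing L) (_ : Algebra A L)
        (_ : IsLocalization.AtPrime L p), HasRegPair L) : IsUnit d := by
  by_contra hd
  have hne : Ideal.span {d} ≠ ⊤ := by
    rwa [Ne, Ideal.span_singleton_eq_top]
  obtain ⟨M, hM, hdM⟩ := Ideal.exists_le_maximal _ hne
  obtain ⟨p, hp, -⟩ := Ideal.exists_minimalPrimes_le (I := Ideal.span {d}) (J := M) hdM
  have hpp : p.IsPrime := hp.1.1
  obtain ⟨L, _, _, _, _, hL⟩ := h p hp
  have hdp : d ∈ p := hp.1.2 (Ideal.subset_span rfl)
  have hunit : IsUnit (algebraMap A L d) := by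
    apply isUnit_of_hasRegPair hL
    intro q hq hdq
    have h1 : q.comap (algebraMap A L) ≤ p := by
      intro a ha
      by_contra hap
      have : IsUnit (algebraMap A L a) := IsLocalization.map_units L (⟨a, hap⟩ : p.primeCompl)
      exact hq.ne_top (Ideal.eq_top_of_isUnit_mem _ ha this)
    have h2 : Ideal.span {d} ≤ q.comap (algebraMap A L) := by
      rw [Ideal.span_singleton_le_iff_mem]
      exact hdq
    have h3 : p ≤ q.comap (algebraMap A L) := hp.2 ⟨inferInstance, h2⟩ h1
    have h4 : q.comap (algebraMap A L) = p := le_antisymm h1 h3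
    have h5 : maximalIdeal L = Ideal.map (algebraMap A L) p :=
      (IsLocalization.AtPrime.map_eq_maximalIdeal p L).symm
    rw [h5, ← h4, IsLocalization.map_comap p.primeCompl L q]
  exact ((IsLocalization.AtPrime.isUnit_to_map_iff L p d).mp hunit) hdp

end Groth.Agent.Lib.Helper89.DiscPure
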