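import Mathlib
import Groth.Agent.Lib.Helper89.DepthConn

set_option autoImplicit false
universe u

open CategoryTheory CategoryTheory.Limits AlgebraicGeometry TopologicalSpace

namespace Groth.Agent.Lib.Helper89.DiscPure

variable {X Y : Scheme.{u}} (π : Y ⟶ X) (U : X.Opens)

/-- if `π` is étale over `U`, it is étale over every affine open contained in `U` -/
theorem etale_appLE_of_le [IsAffineHom π] [Etale (pullback.snd π U.ι)] (W' : X.Opens)
    (hW' : IsAffineOpen W') (hle : W' ≤ U) :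
    (π.appLE W' (π ⁻¹ᵁ W') le_rfl).hom.Etale := by
  have h1 : Etale (π ∣_ U) := by
    have : π ∣_ U = (pullbackRestrictIsoRestrict π U).inv ≫ pullback.snd π U.ι := by
      rw [← pullbackRestrictIsoRestrict_hom_morphismRestrict, Iso.inv_hom_id_assoc]
    rw [this]
    infer_instance
  have hr : W' ≤ U.ι.opensRange := by rw [Scheme.Opens.opensRange_ι]; exact hle
  let V : (U : Scheme).Opens := U.ι ⁻¹ᵁ W'
  have hV : IsAffineOpen V := hW'.preimage_of_isOpenImmersion U.ι hr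
  have hπW' : IsAffineOpen (π ⁻¹ᵁ W') := hW'.preimage π
  have hr2 : π ⁻¹ᵁ W' ≤ (π ⁻¹ᵁ U).ι.opensRange := by
    rw [Scheme.Opens.opensRange_ι]
    exact fun y hy => hle hy
  let W₂ : ((π ⁻¹ᵁ U : Y.Opens) : Scheme).Opens := (π ⁻¹ᵁ U).ι ⁻¹ᵁ (π ⁻¹ᵁ W')
  have hW₂ : IsAffineOpen W₂ := hπW'.preimage_of_isOpenImmersion _ hr2
  have e : W₂ ≤ (π ∣_ U) ⁻¹ᵁ V := by
    intro y hy
    show (U.ι ((π ∣_ U) y)) ∈ W'
    have : U.ι ((π ∣_ U) y) = π ((π ⁻¹ᵁ U).ι y) := by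
      rw [← Scheme.Hom.comp_apply, ← Scheme.Hom.comp_apply, morphismRestrict_ι]
    rw [this]
    exact hy
  have h2 := HasRingHomProperty.appLE (P := @Etale) (π ∣_ U) h1 ⟨V, hV⟩ ⟨W₂, hW₂⟩ e
  rw [morphismRestrict_appLE] at h2
  have e1 : U.ι ''ᵁ V = W' := by
    rw [Scheme.Hom.image_preimage_eq_opensRange_inf, Scheme.Opens.opensRange_ι]
    exact inf_eq_right.mpr hle
  have e2 : (π ⁻¹ᵁ U).ι ''ᵁ W₂ = π ⁻¹ᵁ W' := by
    rw [Scheme.Hom.image_preimage_eq_opensRange_inf, Scheme.Opens.opensRange_ι]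
    exact inf_eq_right.mpr (fun y hy => hle hy)
  exact (π.appLE_congr _ e1 e2 (fun f => f.hom.Etale)).mp h2

end Groth.Agent.Lib.Helper89.DiscPure
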