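import Mathlib
import Groth.Prelude.Def_CAlg
import Groth.Agent.Lib.Helper89.DepthConn
import Groth.Agent.Lib.Helper89.DiscPure1
import Groth.Agent.Lib.Helper89.DiscPure2
import Groth.Agent.S2195

set_option autoImplicit false
universe u

open CategoryTheory CategoryTheory.Limits AlgebraicGeometry TopologicalSpace

namespace Groth.Agent.Lib.Helper89.DiscPure

open Groth.Agent.Lib.Helper89.DepthConn

variable {X Y : Scheme.{u}} (π : Y ⟶ X) (U : X.Opens)

/-- the discriminant of a basis is invertible at the points over which `π` is étale -/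
theorem discr_notMem_of_mem [IsAffineHom π] [Etale (pullback.snd π U.ι)] {W : X.Opens}
    (hW : IsAffineOpen W) {n : ℕ}
    (b : letI : Algebra Γ(X, W) Γ(Y, π ⁻¹ᵁ W) := (π.app W).hom.toAlgebra
      Module.Basis (Fin n) Γ(X, W) Γ(Y, π ⁻¹ᵁ W))
    (y : PrimeSpectrum Γ(X, W)) (hy : hW.fromSpec y ∈ U) :
    letI : Algebra Γ(X, W) Γ(Y, π ⁻¹ᵁ W) := (π.app W).hom.toAlgebra
    Algebra.discr Γ(X, W) b ∉ y.asIdeal := by
  letI : Algebra Γ(X, W) Γ(Y, π ⁻¹ᵁ W) := (π.app W).hom.toAlgebra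
  have hxW : hW.fromSpec y ∈ W := by
    have : hW.fromSpec y ∈ Set.range hW.fromSpec := ⟨y, rfl⟩
    rw [hW.range_fromSpec] at this
    exact this
  obtain ⟨g, hgU, hxg⟩ := hW.exists_basicOpen_le (V := U) ⟨hW.fromSpec y, hy⟩ hxW
  have hgy : g ∉ y.asIdeal := by
    have : y ∈ hW.fromSpec ⁻¹ᵁ X.basicOpen g := hxg
    rw [hW.fromSpec_preimage_basicOpen] at this
    exact this
  have hW' : IsAffineOpen (X.basicOpen g) := hW.basicOpen g
  have het := etale_appLE_of_le π U (X.basicOpen g) hW' hgU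
  have hπW : IsAffineOpen (π ⁻¹ᵁ W) := hW.preimage π
  have epre : π ⁻¹ᵁ X.basicOpen g = Y.basicOpen (π.app W g) := Scheme.preimage_basicOpen π g
  have het' : (π.appLE (X.basicOpen g) (Y.basicOpen (π.app W g)) (le_of_eq epre.symm)).hom.Etale :=
    (π.appLE_congr _ rfl epre (fun f => f.hom.Etale)).mp het
  -- the localized algebras
  haveI : IsLocalization.Away g Γ(X, X.basicOpen g) := hW.isLocalization_basicOpen g
  haveI : IsLocalization.Away (π.app W g) Γ(Y, Y.basicOpen (π.app W g)) :=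
    hπW.isLocalization_basicOpen (π.app W g)
  letI : Algebra Γ(X, X.basicOpen g) Γ(Y, Y.basicOpen (π.app W g)) :=
    (π.appLE (X.basicOpen g) (Y.basicOpen (π.app W g)) (le_of_eq epre.symm)).hom.toAlgebra
  letI : Algebra Γ(X, W) Γ(Y, Y.basicOpen (π.app W g)) :=
    ((algebraMap Γ(Y, π ⁻¹ᵁ W) Γ(Y, Y.basicOpen (π.app W g))).comp
      (algebraMap Γ(X, W) Γ(Y, π ⁻¹ᵁ W))).toAlgebra
  haveI : IsScalarTower Γ(X, W) Γ(Y, π ⁻¹ᵁ W) Γ(Y, Y.basicOpen (π.app W g)) :=
    IsScalarTower.of_algebraMap_eq (fun _ => rfl)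
  haveI : IsScalarTower Γ(X, W) Γ(X, X.basicOpen g) Γ(Y, Y.basicOpen (π.app W g)) := by
    apply IsScalarTower.of_algebraMap_eq
    intro a
    show (Y.presheaf.map (homOfLE (Y.basicOpen_le (π.app W g))).op).hom ((π.app W).hom a) =
      (π.appLE (X.basicOpen g) (Y.basicOpen (π.app W g)) (le_of_eq epre.symm)).hom
        ((X.presheaf.map (homOfLE (X.basicOpen_le g)).op).hom a)
    have h1 : π.app W ≫ Y.presheaf.map (homOfLE (Y.basicOpen_le (π.app W g))).op =
        X.presheaf.map (homOfLE (X.basicOpen_le g)).op ≫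
          π.appLE (X.basicOpen g) (Y.basicOpen (π.app W g)) (le_of_eq epre.symm) := by
      rw [Scheme.Hom.map_appLE]
      rfl
    exact congr($h1 a)
  haveI : IsLocalization (Algebra.algebraMapSubmonoid Γ(Y, π ⁻¹ᵁ W) (Submonoid.powers g))
      Γ(Y, Y.basicOpen (π.app W g)) := by
    rw [Algebra.algebraMapSubmonoid_powers]
    exact ‹IsLocalization.Away (π.app W g) Γ(Y, Y.basicOpen (π.app W g))›
  have hdis := Algebra.discr_localizationLocalization Γ(X, W) (Submonoid.powers g)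
    (Rₘ := Γ(X, X.basicOpen g)) Γ(Y, Y.basicOpen (π.app W g)) b
  have hetA : Algebra.Etale Γ(X, X.basicOpen g) Γ(Y, Y.basicOpen (π.app W g)) :=
    RingHom.etale_algebraMap.mp het'
  have hunit := (Groth.Agent.S2195.result
    (b.localizationLocalization Γ(X, X.basicOpen g) (Submonoid.powers g)
      Γ(Y, Y.basicOpen (π.app W g)))).mp hetA
  rw [hdis] at hunit
  intro hd
  have hdisj : Disjoint (Submonoid.powers g : Set Γ(X, W)) (y.asIdeal : Set Γ(X, W)) := by
    rw [Set.disjoint_left]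
    rintro _ ⟨k, rfl⟩ hk
    exact hgy (y.2.mem_of_pow_mem k hk)
  have hprime : (Ideal.map (algebraMap Γ(X, W) Γ(X, X.basicOpen g)) y.asIdeal).IsPrime :=
    IsLocalization.isPrime_of_isPrime_disjoint (Submonoid.powers g) _ _ y.2 hdisj
  exact hprime.ne_top (Ideal.eq_top_of_isUnit_mem _ (Ideal.mem_map_of_mem _ hd) hunit)

end Groth.Agent.Lib.Helper89.DiscPure
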