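import Mathlib
import Groth.Prelude.Def_CAlg
import Groth.Agent.Lib.Helper89.DiscPure3

set_option autoImplicit false
universe u

open CategoryTheory CategoryTheory.Limits AlgebraicGeometry TopologicalSpace

namespace Groth.Agent.Lib.Helper89.DiscPure

open Groth.Agent.Lib.Helper89.DepthConn

variable {X Y : Scheme.{u}} (π : Y ⟶ X) (U : X.Opens)

/-- over an affine open on which `π_* O_Y` is free, `π` is étale -/
theorem etale_app_of_basis [IsAffineHom π] [Etale (pullback.snd π U.ι)]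
    (hU : ∀ x : X, x ∉ U → (2 : ℕ∞) ≤ LocCoh.depth (X.presheaf.stalk x) (X.presheaf.stalk x))
    {W : X.Opens} (hW : IsAffineOpen W) {n : ℕ}
    (b : letI : Algebra Γ(X, W) Γ(Y, π ⁻¹ᵁ W) := (π.app W).hom.toAlgebra
      Module.Basis (Fin n) Γ(X, W) Γ(Y, π ⁻¹ᵁ W)) :
    (π.app W).hom.Etale := by
  letI : Algebra Γ(X, W) Γ(Y, π ⁻¹ᵁ W) := (π.app W).hom.toAlgebra
  have hunit : IsUnit (Algebra.discr Γ(X, W) b) := by
    apply isUnit_of_forall_minimalPrimes
    intro p hp hpp
    let y : PrimeSpectrum Γ(X, W) := ⟨p, hpp⟩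
    have hxW : hW.fromSpec y ∈ W := by
      have : hW.fromSpec y ∈ Set.range hW.fromSpec := ⟨y, rfl⟩
      rw [hW.range_fromSpec] at this
      exact this
    have hd : Algebra.discr Γ(X, W) b ∈ p := hp.1.2 (Ideal.subset_span rfl)
    have hxU : hW.fromSpec y ∉ U := fun h => discr_notMem_of_mem π U hW b y h hd
    exact ⟨X.presheaf.stalk (hW.fromSpec y), inferInstance, inferInstance,
      TopCat.Presheaf.algebra_section_stalk X.presheaf ⟨_, hxW⟩, hW.isLocalization_stalk' y hxW,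
      hasRegPair_of_depth _ (hU _ hxU)⟩
  have : Algebra.Etale Γ(X, W) Γ(Y, π ⁻¹ᵁ W) := (Groth.Agent.S2195.result b).mpr hunit
  exact RingHom.etale_algebraMap.mpr this

end Groth.Agent.Lib.Helper89.DiscPure
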