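import Mathlib

set_option autoImplicit false
universe u

namespace Groth.Agent.Lib.Helper89.DiscPure

attribute [local instance] RingHomInvPair.of_ringEquiv in
/-- freeness of a localized module does not depend on the model of the localization -/
lemma free_localizedModule_iff {R M : Type*} [CommRing R] [AddCommGroup M] [Module R M]
    (S : Submonoid R)
    (Rₛ Mₛ : Type*) [CommRing Rₛ] [Algebra R Rₛ] [IsLocalization S Rₛ]
    [AddCommGroup Mₛ] [Module R Mₛ] (f : M →ₗ[R] Mₛ) [IsLocalizedModule S f]
    [Module Rₛ Mₛ] [IsScalarTower R Rₛ Mₛ] :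
    Module.Free (Localization S) (LocalizedModule S M) ↔ Module.Free Rₛ Mₛ := by
  set e := (IsLocalization.algEquiv S (Localization S) Rₛ).toRingEquiv
  apply Module.Free.iff_of_equiv (σ := e)
  refine { __ := IsLocalizedModule.iso S f, map_smul' := ?_ }
  intro r x
  obtain ⟨r, s, rfl⟩ := IsLocalization.exists_mk'_eq S r
  apply ((Module.End.isUnit_iff _).mp (IsLocalizedModule.map_units f s)).1
  simp [e, ← map_smul, ← smul_assoc]

end Groth.Agent.Lib.Helper89.DiscPure
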