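import Mathlib
import Groth.Agent.Lib.Helper89.DiscPure5

set_option autoImplicit false
universe u

open CategoryTheory CategoryTheory.Limits AlgebraicGeometry TopologicalSpace

namespace Groth.Agent.Lib.Helper89.DiscPure

variable {X Y : Scheme.{u}} (π : Y ⟶ X)

/-- a finite flat morphism to a locally Noetherian scheme is locally free -/
theorem exists_affine_free [IsFinite π] [Flat π] [IsLocallyNoetherian X] (x₀ : X) :
    ∃ (W : X.Opens) (_ : IsAffineOpen W) (_ : x₀ ∈ W),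
      letI : Algebra Γ(X, W) Γ(Y, π ⁻¹ᵁ W) := (π.app W).hom.toAlgebra
      Module.Free Γ(X, W) Γ(Y, π ⁻¹ᵁ W) ∧ Module.Finite Γ(X, W) Γ(Y, π ⁻¹ᵁ W) := by
  obtain ⟨W₀, hW₀, hx₀, -⟩ := exists_isAffineOpen_mem_and_subset (x := x₀) (U := ⊤) trivial
  have hπW₀ : IsAffineOpen (π ⁻¹ᵁ W₀) := hW₀.preimage π
  letI algAB : Algebra Γ(X, W₀) Γ(Y, π ⁻¹ᵁ W₀) := (π.app W₀).hom.toAlgebra
  have hnoeth : IsNoetherianRing Γ(X, W₀) := IsLocallyNoetherian.component_noetherian ⟨W₀, hW₀⟩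
  have hfin : Module.Finite Γ(X, W₀) Γ(Y, π ⁻¹ᵁ W₀) := π.finite_app W₀ hW₀
  have hflat : Module.Flat Γ(X, W₀) Γ(Y, π ⁻¹ᵁ W₀) := by
    have := π.flat_appLE hW₀ hπW₀ le_rfl
    rw [← Scheme.Hom.app_eq_appLE] at this
    exact this
  have hfp : Module.FinitePresentation Γ(X, W₀) Γ(Y, π ⁻¹ᵁ W₀) :=
    Module.finitePresentation_of_finite _ _
  let y₀ : PrimeSpectrum Γ(X, W₀) := hW₀.primeIdealOf ⟨x₀, hx₀⟩
  have hfree₀ : Module.Free (Localization.AtPrime y₀.asIdeal)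
      (LocalizedModule y₀.asIdeal.primeCompl Γ(Y, π ⁻¹ᵁ W₀)) :=
    Module.free_of_flat_of_isLocalRing
  obtain ⟨r, hr, hfree, -⟩ := Module.FinitePresentation.exists_free_localizedModule_powers
    y₀.asIdeal.primeCompl (LocalizedModule.mkLinearMap y₀.asIdeal.primeCompl Γ(Y, π ⁻¹ᵁ W₀))
    (Localization.AtPrime y₀.asIdeal)
  have hW : IsAffineOpen (X.basicOpen r) := hW₀.basicOpen r
  have hxr : x₀ ∈ X.basicOpen r := by
    have h1 : y₀ ∈ hW₀.fromSpec ⁻¹ᵁ X.basicOpen r := by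
      rw [hW₀.fromSpec_preimage_basicOpen]
      exact hr
    have h2 : hW₀.fromSpec y₀ = x₀ := hW₀.fromSpec_primeIdealOf ⟨x₀, hx₀⟩
    rw [← h2]
    exact h1
  refine ⟨X.basicOpen r, hW, hxr, ?_⟩
  letI algA'B' : Algebra Γ(X, X.basicOpen r) Γ(Y, π ⁻¹ᵁ X.basicOpen r) :=
    (π.app (X.basicOpen r)).hom.toAlgebra
  have hle : π ⁻¹ᵁ X.basicOpen r ≤ π ⁻¹ᵁ W₀ := fun y hy => X.basicOpen_le r hy
  letI algBB' : Algebra Γ(Y, π ⁻¹ᵁ W₀) Γ(Y, π ⁻¹ᵁ X.basicOpen r) :=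
    (Y.presheaf.map (homOfLE hle).op).hom.toAlgebra
  have hlocB : IsLocalization.Away (π.app W₀ r) Γ(Y, π ⁻¹ᵁ X.basicOpen r) :=
    hπW₀.isLocalization_of_eq_basicOpen (π.app W₀ r) (homOfLE hle) (Scheme.preimage_basicOpen π r)
  have hlocA : IsLocalization.Away r Γ(X, X.basicOpen r) := hW₀.isLocalization_basicOpen r
  letI algAB' : Algebra Γ(X, W₀) Γ(Y, π ⁻¹ᵁ X.basicOpen r) :=
    ((algebraMap Γ(Y, π ⁻¹ᵁ W₀) Γ(Y, π ⁻¹ᵁ X.basicOpen r)).comp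
      (algebraMap Γ(X, W₀) Γ(Y, π ⁻¹ᵁ W₀))).toAlgebra
  haveI : IsScalarTower Γ(X, W₀) Γ(Y, π ⁻¹ᵁ W₀) Γ(Y, π ⁻¹ᵁ X.basicOpen r) :=
    IsScalarTower.of_algebraMap_eq (fun _ => rfl)
  haveI : IsScalarTower Γ(X, W₀) Γ(X, X.basicOpen r) Γ(Y, π ⁻¹ᵁ X.basicOpen r) := by
    apply IsScalarTower.of_algebraMap_eq
    intro a
    show (Y.presheaf.map (homOfLE hle).op).hom ((π.app W₀).hom a) =
      (π.app (X.basicOpen r)).hom ((X.presheaf.map (homOfLE (X.basicOpen_le r)).op).hom a)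
    have h1 : π.app W₀ ≫ Y.presheaf.map (homOfLE hle).op =
        X.presheaf.map (homOfLE (X.basicOpen_le r)).op ≫ π.app (X.basicOpen r) :=
      (π.naturality (homOfLE (X.basicOpen_le r)).op).symm
    exact congr($h1 a)
  haveI : IsLocalization (Algebra.algebraMapSubmonoid Γ(Y, π ⁻¹ᵁ W₀) (Submonoid.powers r))
      Γ(Y, π ⁻¹ᵁ X.basicOpen r) := by
    rw [Algebra.algebraMapSubmonoid_powers]
    exact hlocB
  have hfree' : Module.Free Γ(X, X.basicOpen r) Γ(Y, π ⁻¹ᵁ X.basicOpen r) :=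
    (free_localizedModule_iff (Submonoid.powers r) Γ(X, X.basicOpen r) Γ(Y, π ⁻¹ᵁ X.basicOpen r)
      (IsScalarTower.toAlgHom Γ(X, W₀) Γ(Y, π ⁻¹ᵁ W₀) Γ(Y, π ⁻¹ᵁ X.basicOpen r)).toLinearMap).mp hfree
  exact ⟨hfree', π.finite_app _ hW⟩

end Groth.Agent.Lib.Helper89.DiscPure
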