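import Mathlib
import Groth.Prelude.Def_CAlg
import Groth.Agent.Lib.Helper89.DiscPure4
import Groth.Agent.Lib.Helper89.DiscPure6

set_option autoImplicit false
universe u

open CategoryTheory CategoryTheory.Limits AlgebraicGeometry TopologicalSpace

namespace Groth.Agent.Lib.Helper89.DiscPure

variable {X Y : Scheme.{u}} (π : Y ⟶ X) (U : X.Opens)

/-- a finite flat morphism which is étale over an open whose complement has depth at least two
is étale -/
theorem etale_of_flat [IsFinite π] [Flat π] [IsLocallyNoetherian X] [Etale (pullback.snd π U.ι)]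
    (hU : ∀ x : X, x ∉ U → (2 : ℕ∞) ≤ LocCoh.depth (X.presheaf.stalk x) (X.presheaf.stalk x)) :
    Etale π := by
  have hQ : RingHom.StableUnderCompositionWithLocalizationAwaySource RingHom.Etale :=
    (RingHom.Etale.stableUnderComposition.stableUnderCompositionWithLocalizationAway
      (RingHom.Etale.propertyIsLocal.HoldsForLocalizationAway RingHom.Etale.containsIdentities)).1
  rw [HasRingHomProperty.iff_exists_appLE (P := @Etale) hQ]
  intro y
  obtain ⟨W, hW, hxW, hfree, hfin⟩ := exists_affine_free π (π y)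
  letI : Algebra Γ(X, W) Γ(Y, π ⁻¹ᵁ W) := (π.app W).hom.toAlgebra
  have hnt : Nontrivial Γ(X, W) := by
    let y₀ := hW.primeIdealOf ⟨π y, hxW⟩
    refine ⟨⟨0, 1, fun h => y₀.2.ne_top ((Ideal.eq_top_iff_one _).mpr ?_)⟩⟩
    rw [← h]
    exact y₀.asIdeal.zero_mem
  let b : Module.Basis (Fin (Module.finrank Γ(X, W) Γ(Y, π ⁻¹ᵁ W))) Γ(X, W) Γ(Y, π ⁻¹ᵁ W) :=
    Module.finBasis _ _
  refine ⟨⟨W, hW⟩, ⟨π ⁻¹ᵁ W, hW.preimage π⟩, hxW, le_rfl, ?_⟩
  have := etale_app_of_basis π U hU hW b
  rw [Scheme.Hom.app_eq_appLE] at this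
  exact this

end Groth.Agent.Lib.Helper89.DiscPure
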