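import Mathlib
import Groth.Agent.Lib.Helper89.DiscPure3
import Groth.Agent.Lib.Helper89.DiscPure6

set_option autoImplicit false
universe u

open CategoryTheory CategoryTheory.Limits AlgebraicGeometry TopologicalSpace

namespace Groth.Agent.Lib.Helper89.DiscPure

variable {X Y : Scheme.{u}} (π : Y ⟶ X) (U : X.Opens)

/-- over an affine open on which `π_* O_Y` is free, `π` is étale (dimension version) -/
theorem etale_app_of_basis_of_dim [IsAffineHom π] [IsLocallyNoetherian X]
    [Etale (pullback.snd π U.ι)]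
    (hU : ∀ x : X, x ∉ U → (2 : WithBot ℕ∞) ≤ ringKrullDim (X.presheaf.stalk x))
    {W : X.Opens} (hW : IsAffineOpen W) {n : ℕ}
    (b : letI : Algebra Γ(X, W) Γ(Y, π ⁻¹ᵁ W) := (π.app W).hom.toAlgebra
      Module.Basis (Fin n) Γ(X, W) Γ(Y, π ⁻¹ᵁ W)) :
    (π.app W).hom.Etale := by
  letI : Algebra Γ(X, W) Γ(Y, π ⁻¹ᵁ W) := (π.app W).hom.toAlgebra
  have hnoeth : IsNoetherianRing Γ(X, W) := IsLocallyNoetherian.component_noetherian ⟨W, hW⟩
  have hunit : IsUnit (Algebra.discr Γ(X, W) b) := by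
    by_contra hd
    have hne : Ideal.span {Algebra.discr Γ(X, W) b} ≠ ⊤ := by
      rwa [Ne, Ideal.span_singleton_eq_top]
    obtain ⟨M, hM, hdM⟩ := Ideal.exists_le_maximal _ hne
    obtain ⟨p, hp, -⟩ := Ideal.exists_minimalPrimes_le
      (I := Ideal.span {Algebra.discr Γ(X, W) b}) (J := M) hdM
    have hpp : p.IsPrime := hp.1.1
    let y : PrimeSpectrum Γ(X, W) := ⟨p, hpp⟩
    have hxW : hW.fromSpec y ∈ W := by
      have : hW.fromSpec y ∈ Set.range hW.fromSpec := ⟨y, rfl⟩
      rw [hW.range_fromSpec] at this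
      exact this
    have hdp : Algebra.discr Γ(X, W) b ∈ p := hp.1.2 (Ideal.subset_span rfl)
    have hxU : hW.fromSpec y ∉ U := fun h => discr_notMem_of_mem π U hW b y h hdp
    have hdim := hU _ hxU
    letI := TopCat.Presheaf.algebra_section_stalk X.presheaf ⟨hW.fromSpec y, hxW⟩
    haveI : IsLocalization.AtPrime (X.presheaf.stalk (hW.fromSpec y)) p :=
      hW.isLocalization_stalk' y hxW
    rw [IsLocalization.AtPrime.ringKrullDim_eq_height p (X.presheaf.stalk (hW.fromSpec y))] at hdim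
    have hht : p.height ≤ 1 :=
      Ideal.height_le_one_of_isPrincipal_of_mem_minimalPrimes _ p hp
    have h2 : (2 : WithBot ℕ∞) ≤ 1 := hdim.trans (by exact_mod_cast hht)
    exact absurd h2 (by norm_num)
  have : Algebra.Etale Γ(X, W) Γ(Y, π ⁻¹ᵁ W) := (Groth.Agent.S2195.result b).mpr hunit
  exact RingHom.etale_algebraMap.mpr this

/-- a finite flat morphism which is étale over an open whose complement has codimension at least
two is étale -/
theorem etale_of_flat_of_dim [IsFinite π] [Flat π] [IsLocallyNoetherian X]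
    [Etale (pullback.snd π U.ι)]
    (hU : ∀ x : X, x ∉ U → (2 : WithBot ℕ∞) ≤ ringKrullDim (X.presheaf.stalk x)) :
    Etale π := by
  have hQ : RingHom.StableUnderCompositionWithLocalizationAwaySource RingHom.Etale :=
    (RingHom.Etale.stableUnderComposition.stableUnderCompositionWithLocalizationAway
      (RingHom.Etale.propertyIsLocal.HoldsForLocalizationAway RingHom.Etale.containsIdentities)).1
  rw [HasRingHomProperty.iff_exists_appLE (P := @Etale) hQ]
  intro y
  obtain ⟨W, hW, hxW, hfree, hfin⟩ := exists_affine_free π (π y)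
  letI : Algebra Γ(X, W) Γ(Y, π ⁻¹ᵁ W) := (π.app W).hom.toAlgebra
  have hnt : Nontrivial Γ(X, W) := by
    let y₀ := hW.primeIdealOf ⟨π y, hxW⟩
    refine ⟨⟨0, 1, fun h => y₀.2.ne_top ((Ideal.eq_top_iff_one _).mpr ?_)⟩⟩
    rw [← h]
    exact y₀.asIdeal.zero_mem
  let b : Module.Basis (Fin (Module.finrank Γ(X, W) Γ(Y, π ⁻¹ᵁ W))) Γ(X, W) Γ(Y, π ⁻¹ᵁ W) :=
    Module.finBasis _ _
  refine ⟨⟨W, hW⟩, ⟨π ⁻¹ᵁ W, hW.preimage π⟩, hxW, le_rfl, ?_⟩
  have := etale_app_of_basis_of_dim π U hU hW b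
  rw [Scheme.Hom.app_eq_appLE] at this
  exact this

/-- variant with the restriction `π ∣_ U` étale -/
theorem etale_of_flat_of_dim' [IsFinite π] [Flat π] [IsLocallyNoetherian X]
    [Etale (π ∣_ U)]
    (hU : ∀ x : X, x ∉ U → (2 : WithBot ℕ∞) ≤ ringKrullDim (X.presheaf.stalk x)) :
    Etale π := by
  have : Etale (pullback.snd π U.ι) := by
    rw [← pullbackRestrictIsoRestrict_hom_morphismRestrict]
    infer_instance
  exact etale_of_flat_of_dim π U hU

end Groth.Agent.Lib.Helper89.DiscPure
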