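import Groth.Agent.Lib.Helper89.EtThick1
import Groth.Agent.Lib.Helper89.HensEquiv
import Groth.Agent.Lib.Helper90.EtaleLift

/-!
# Topological invariance of the small étale site: local models

`EModel i w`: an étale `S`-scheme whose base change along `i : S₀ ⟶ S` is `w : W ⟶ S₀`.
Affine étale schemes over a closed subscheme of an affine scheme have models
(`exists_emodel_of_isAffine`), and more generally whenever `W` is affine and maps into an affine
open of `S` (`exists_emodel_of_le`).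
-/

set_option autoImplicit false
set_option linter.style.haveILetI false
universe u
open AlgebraicGeometry CategoryTheory CategoryTheory.Limits MorphismProperty TensorProduct

namespace Groth.Agent.Lib.Helper89.EtThick

/-- An étale `S`-scheme whose base change along `i` is `w`. -/
structure EModel {S S₀ W : Scheme.{u}} (i : S₀ ⟶ S) (w : W ⟶ S₀) where
  Z : Scheme.{u}
  q : Z ⟶ S
  a : W ⟶ Z
  et : Etale q
  sq : IsPullback a w q i

/-- Étale affine schemes over `Spec (A/I)` lift to étale `Spec A`-schemes. -/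
theorem exists_emodel_spec {A : Type u} [CommRing A] (I : Ideal A) {W : Scheme.{u}} [IsAffine W]
    (w : W ⟶ Spec (CommRingCat.of (A ⧸ I))) [Etale w] :
    Nonempty (EModel (Spec.map (CommRingCat.ofHom (Ideal.Quotient.mk I))) w) := by
  obtain ⟨ψ, hψ⟩ : ∃ ψ : CommRingCat.of (A ⧸ I) ⟶ Γ(W, ⊤),
      Spec.map ψ = W.isoSpec.inv ≫ w := ⟨Spec.preimage _, Spec.map_preimage _⟩
  have hψet : ψ.hom.Etale := by
    have : Etale (Spec.map ψ) := by rw [hψ]; infer_instance
    exact (HasRingHomProperty.Spec_iff (P := @Etale)).mp this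
  algebraize [ψ.hom]
  obtain ⟨S, _, _, hSet, ⟨e⟩⟩ :=
    Groth.Agent.Lib.Helper90.EtaleLift.exists_etale_lift_quotient A I Γ(W, ⊤)
  -- the pullback square of affine schemes
  have sqP := isPullback_SpecMap_of_isPushout _ _ _ _
    (CommRingCat.isPushout_tensorProduct A (A ⧸ I) S)
  obtain ⟨g, hg⟩ : ∃ g : Spec (CommRingCat.of S) ⟶ Spec (CommRingCat.of A),
      g = Spec.map (CommRingCat.ofHom (algebraMap A S)) := ⟨_, rfl⟩
  obtain ⟨pinl, hpinl⟩ : ∃ pinl : Spec (CommRingCat.of ((A ⧸ I) ⊗[A] S)) ⟶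
      Spec (CommRingCat.of (A ⧸ I)),
      pinl = Spec.map (CommRingCat.ofHom (S := (A ⧸ I) ⊗[A] S)
        Algebra.TensorProduct.includeLeftRingHom) := ⟨_, rfl⟩
  obtain ⟨pinr, hpinr⟩ : ∃ pinr : Spec (CommRingCat.of ((A ⧸ I) ⊗[A] S)) ⟶
      Spec (CommRingCat.of S),
      pinr = Spec.map (CommRingCat.ofHom (S := (A ⧸ I) ⊗[A] S)
        Algebra.TensorProduct.includeRight.toRingHom) := ⟨_, rfl⟩
  have sqP' : IsPullback pinr pinl g (Spec.map (CommRingCat.ofHom (Ideal.Quotient.mk I))) := by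
    subst hg hpinl hpinr
    exact sqP.flip
  haveI : Etale g := by
    subst hg
    exact (HasRingHomProperty.Spec_iff (P := @Etale)).mpr (RingHom.etale_algebraMap.mpr hSet)
  -- `W ≅ P` over `Spec (A/I)`
  obtain ⟨κ, hκiso, hκ⟩ : ∃ κ : W ⟶ Spec (CommRingCat.of ((A ⧸ I) ⊗[A] S)),
      IsIso κ ∧ κ ≫ pinl = w := by
    refine ⟨W.isoSpec.hom ≫ Spec.map (CommRingCat.ofHom e.toRingEquiv.toRingHom), ?_, ?_⟩
    · haveI : IsIso (CommRingCat.ofHom e.toRingEquiv.toRingHom) :=
        (RingEquiv.toCommRingCatIso e.toRingEquiv).isIso_hom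
      infer_instance
    · rw [hpinl, Category.assoc, ← Spec.map_comp]
      have : CommRingCat.ofHom (S := (A ⧸ I) ⊗[A] S) Algebra.TensorProduct.includeLeftRingHom ≫
          CommRingCat.ofHom e.toRingEquiv.toRingHom = ψ := by
        ext k
        change e (k ⊗ₜ[A] (1 : S)) = ψ.hom k
        have := e.commutes k
        rw [Algebra.TensorProduct.algebraMap_apply] at this
        exact this
      rw [this, hψ, Iso.hom_inv_id_assoc]
  refine ⟨⟨Spec (CommRingCat.of S), g, κ ≫ pinr, inferInstance, ?_⟩⟩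
  exact IsPullback.of_iso sqP' (asIso κ).symm (Iso.refl _) (Iso.refl _) (Iso.refl _)
    (by simp) (by simp [← hκ]) (by simp) (by simp)

/-- The affine case: affine étale schemes lift along a closed immersion into an affine scheme. -/
theorem exists_emodel_of_isAffine {S T W : Scheme.{u}} [IsAffine S] [IsAffine W] (f : T ⟶ S)
    [IsClosedImmersion f] (w : W ⟶ T) [Etale w] : Nonempty (EModel f w) := by
  obtain ⟨I, e, he⟩ := (IsClosedImmersion.Spec_iff (f := f ≫ S.isoSpec.hom)).mp inferInstance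
  obtain ⟨⟨Z, q', a, het, sq⟩⟩ := exists_emodel_spec I (w ≫ e.hom)
  refine ⟨⟨Z, q' ≫ S.isoSpec.inv, a, inferInstance, ?_⟩⟩
  refine IsPullback.of_iso sq (Iso.refl _) (Iso.refl _) e.symm S.isoSpec.symm ?_ ?_ ?_ ?_
  · simp
  · simp
  · simp
  · simp only [Iso.symm_hom]
    rw [Iso.eq_inv_comp, ← Category.assoc, ← he, Category.assoc, Iso.hom_inv_id, Category.comp_id]

/-- Local models: an affine étale `S₀`-scheme mapping into an affine open of `S` has a model. -/
theorem exists_emodel_of_le {S S₀ W : Scheme.{u}} (i : S₀ ⟶ S) [IsClosedImmersion i]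
    (w : W ⟶ S₀) [Etale w] [IsAffine W] (U' : S.Opens) (hU' : IsAffineOpen U')
    (hW : Set.range (w ≫ i).base ⊆ U') : Nonempty (EModel i w) := by
  haveI : IsAffine U'.toScheme := hU'
  have sq₁ : IsPullback (i ∣_ U') (i ⁻¹ᵁ U').ι U'.ι i := isPullback_morphismRestrict i U'
  haveI : IsClosedImmersion (i ∣_ U') := MorphismProperty.of_isPullback sq₁.flip inferInstance
  have hw : Set.range w.base ⊆ Set.range (i ⁻¹ᵁ U').ι.base := by
    rw [Scheme.Opens.range_ι]
    rintro _ ⟨x, rfl⟩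
    exact hW ⟨x, rfl⟩
  let w' : W ⟶ (i ⁻¹ᵁ U').toScheme := IsOpenImmersion.lift (i ⁻¹ᵁ U').ι w hw
  have hw' : w' ≫ (i ⁻¹ᵁ U').ι = w := IsOpenImmersion.lift_fac _ _ _
  haveI : Etale (w' ≫ (i ⁻¹ᵁ U').ι) := by rw [hw']; infer_instance
  haveI : Etale w' := FEtFF.etale_of_comp w' (i ⁻¹ᵁ U').ι
  obtain ⟨M'⟩ := exists_emodel_of_isAffine (i ∣_ U') w'
  haveI := M'.et
  refine ⟨⟨M'.Z, M'.q ≫ U'.ι, M'.a, inferInstance, ?_⟩⟩
  have := M'.sq.paste_vert sq₁
  rwa [hw'] at this

end Groth.Agent.Lib.Helper89.EtThick
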