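import Groth.Agent.Lib.Helper89.EtThick2
import Mathlib.AlgebraicGeometry.Cover.Directed
import Mathlib.AlgebraicGeometry.Gluing

/-!
# Topological invariance of the small étale site: morphisms of models and the small cover

* `EModel.exists_hom`, `EModel.hom_unique`, `EModel.isOpenImmersion_hom`.
* `IsSmall i p V`: `V` is an affine open of `Y` mapping into an affine open of `S`;
  these form a basis (`isBasis_small`) and give a locally directed open cover `cover i p` of `Y`.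
-/

set_option autoImplicit false
set_option linter.style.haveILetI false
universe u
open AlgebraicGeometry CategoryTheory CategoryTheory.Limits MorphismProperty

namespace Groth.Agent.Lib.Helper89.EtThick

namespace EModel

variable {S S₀ W₁ W₂ : Scheme.{u}} {i : S₀ ⟶ S} {w₁ : W₁ ⟶ S₀} {w₂ : W₂ ⟶ S₀}

lemma surjective_a [Surjective i] (M : EModel i w₁) : Surjective M.a :=
  MorphismProperty.of_isPullback M.sq.flip inferInstance

lemma isClosedImmersion_a [IsClosedImmersion i] (M : EModel i w₁) : IsClosedImmersion M.a :=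
  MorphismProperty.of_isPullback M.sq.flip inferInstance

theorem hom_unique [Surjective i] (M₁ : EModel i w₁) (M₂ : EModel i w₂) (j : W₁ ⟶ W₂)
    (ψ ψ' : M₁.Z ⟶ M₂.Z)
    (h1 : ψ ≫ M₂.q = M₁.q) (h2 : M₁.a ≫ ψ = j ≫ M₂.a)
    (h1' : ψ' ≫ M₂.q = M₁.q) (h2' : M₁.a ≫ ψ' = j ≫ M₂.a) : ψ = ψ' := by
  haveI := M₁.surjective_a
  haveI := M₂.et
  exact ThickFEt.eq_of_surjective_comp_eq M₁.a ψ ψ' M₂.q (h1.trans h1'.symm) (h2.trans h2'.symm)

theorem exists_hom [IsClosedImmersion i] [Surjective i] (M₁ : EModel i w₁) (M₂ : EModel i w₂)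
    (j : W₁ ⟶ W₂) (hj : j ≫ w₂ = w₁) :
    ∃ ψ : M₁.Z ⟶ M₂.Z, ψ ≫ M₂.q = M₁.q ∧ M₁.a ≫ ψ = j ≫ M₂.a := by
  haveI := M₁.et
  haveI := M₂.et
  obtain ⟨ψ, h1, h2⟩ := exists_descent i M₁.q M₂.q
    (M₁.sq.isoPullback.inv ≫ j ≫ M₂.sq.isoPullback.hom)
    (by rw [Category.assoc, Category.assoc, M₂.sq.isoPullback_hom_snd, hj,
      M₁.sq.isoPullback_inv_snd])
  refine ⟨ψ, h1, ?_⟩
  rw [← M₁.sq.isoPullback_hom_fst, Category.assoc, h2, Category.assoc, Category.assoc,
    Iso.hom_inv_id_assoc, M₂.sq.isoPullback_hom_fst]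

theorem isPullback_hom (M₁ : EModel i w₁) (M₂ : EModel i w₂)
    (j : W₁ ⟶ W₂) (hj : j ≫ w₂ = w₁) (ψ : M₁.Z ⟶ M₂.Z)
    (h1 : ψ ≫ M₂.q = M₁.q) (h2 : M₁.a ≫ ψ = j ≫ M₂.a) : IsPullback M₁.a j ψ M₂.a := by
  refine IsPullback.of_bot ?_ h2 M₂.sq
  rw [hj, h1]
  exact M₁.sq

theorem isOpenImmersion_hom [Surjective i] (M₁ : EModel i w₁) (M₂ : EModel i w₂)
    (j : W₁ ⟶ W₂) [Mono j] (hj : j ≫ w₂ = w₁) (ψ : M₁.Z ⟶ M₂.Z)
    (h1 : ψ ≫ M₂.q = M₁.q) (h2 : M₁.a ≫ ψ = j ≫ M₂.a) : IsOpenImmersion ψ := by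
  haveI := M₂.surjective_a
  haveI := M₂.et
  haveI : Etale (ψ ≫ M₂.q) := by rw [h1]; exact M₁.et
  exact isOpenImmersion_of_isPullback (M₁.isPullback_hom M₂ j hj ψ h1 h2) M₂.q

end EModel

section Small

variable {S S₀ Y : Scheme.{u}} (i : S₀ ⟶ S) (p : Y ⟶ S₀)

/-- An affine open of `Y` mapping into an affine open of `S`. -/
def IsSmall (V : Y.Opens) : Prop :=
  IsAffineOpen V ∧ ∃ U' : S.Opens, IsAffineOpen U' ∧ V ≤ (p ≫ i) ⁻¹ᵁ U'

lemma isBasis_small : TopologicalSpace.Opens.IsBasis {V : Y.Opens | IsSmall i p V} := by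
  rw [TopologicalSpace.Opens.isBasis_iff_nbhd]
  intro O y hy
  obtain ⟨U', hU', hyU', -⟩ := TopologicalSpace.Opens.isBasis_iff_nbhd.mp S.isBasis_affineOpens
    (TopologicalSpace.Opens.mem_top ((p ≫ i).base y))
  obtain ⟨V, hV, hyV, hVle⟩ := TopologicalSpace.Opens.isBasis_iff_nbhd.mp Y.isBasis_affineOpens
    (show y ∈ O ⊓ (p ≫ i) ⁻¹ᵁ U' from ⟨hy, hyU'⟩)
  exact ⟨V, ⟨hV, U', hU', hVle.trans inf_le_right⟩, hyV, hVle.trans inf_le_left⟩

/-- The index type: small affine opens of `Y`. -/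
abbrev Idx : Type u := {V : Y.Opens // IsSmall i p V}

/-- The open cover of `Y` by the small affine opens. -/
@[simps I₀ X f]
def cover : Y.OpenCover where
  I₀ := Idx i p
  X V := V.1
  f V := V.1.ι
  mem₀ := by
    rw [Scheme.presieve₀_mem_precoverage_iff]
    refine ⟨fun y ↦ ?_, inferInstance⟩
    obtain ⟨V, hV, hyV, -⟩ := TopologicalSpace.Opens.isBasis_iff_nbhd.mp (isBasis_small i p)
      (TopologicalSpace.Opens.mem_top y)
    exact ⟨⟨V, hV⟩, by simpa using hyV⟩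

instance : Preorder (cover i p).I₀ := inferInstanceAs <| Preorder (Idx i p)

set_option backward.isDefEq.respectTransparency.types false in
set_option backward.defeqAttrib.useBackward true in
noncomputable instance : Scheme.Cover.LocallyDirected (cover i p) :=
  .ofIsBasisOpensRange (by intros; simp; rfl) <| by
    convert! isBasis_small i p
    ext V
    simp

set_option backward.isDefEq.respectTransparency.types false in
lemma cover_trans {V V' : Idx i p} (h : V ≤ V') :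
    Scheme.Cover.trans (cover i p) (homOfLE h) = Y.homOfLE h := rfl

end Small

end Groth.Agent.Lib.Helper89.EtThick
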