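import Groth.Agent.Lib.Helper89.EtThick3

/-!
# Topological invariance of the small étale site: gluing the local models

For `i : S₀ ⟶ S` a surjective closed immersion and `p : Y ⟶ S₀` étale, we choose a model of every
small affine open of `Y`, glue them along the unique transition maps (a locally directed diagram
of open immersions) and identify the base change of the result with `Y`.

Main result: `exists_global_emodel`, `essSurj_bc`, `isEquivalence_bc`.
-/

set_option autoImplicit false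
set_option linter.style.haveILetI false
universe u
open AlgebraicGeometry CategoryTheory CategoryTheory.Limits MorphismProperty

namespace Groth.Agent.Lib.Helper89.EtThick

section Glue

variable {S S₀ Y : Scheme.{u}} (i : S₀ ⟶ S) (p : Y ⟶ S₀)

/-- A compatible family of local models. -/
structure Datum where
  M : ∀ V : Idx i p, EModel i (V.1.ι ≫ p)
  tr : ∀ {V V' : Idx i p} (_ : V ⟶ V'), (M V).Z ⟶ (M V').Z
  tr_q : ∀ {V V' : Idx i p} (h : V ⟶ V'), tr h ≫ (M V').q = (M V).q
  tr_a : ∀ {V V' : Idx i p} (h : V ⟶ V'), (M V).a ≫ tr h = Y.homOfLE (leOfHom h) ≫ (M V').a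
  tr_oi : ∀ {V V' : Idx i p} (h : V ⟶ V'), IsOpenImmersion (tr h)

theorem nonempty_datum [IsClosedImmersion i] [Surjective i] [Etale p] :
    Nonempty (Datum i p) := by
  have hM : ∀ V : Idx i p, Nonempty (EModel i (V.1.ι ≫ p)) := by
    intro V
    obtain ⟨hV, U', hU', hle⟩ := V.2
    haveI : IsAffine V.1.toScheme := hV
    refine exists_emodel_of_le i (V.1.ι ≫ p) U' hU' ?_
    rintro _ ⟨y, rfl⟩
    exact hle y.2
  let M := fun V => (hM V).some
  have hj : ∀ {V V' : Idx i p} (h : V ⟶ V'), Y.homOfLE (leOfHom h) ≫ V'.1.ι ≫ p = V.1.ι ≫ p :=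
    fun h => by rw [← Category.assoc, Y.homOfLE_ι]
  have htr : ∀ {V V' : Idx i p} (h : V ⟶ V'),
      ∃ t : (M V).Z ⟶ (M V').Z, t ≫ (M V').q = (M V).q ∧
        (M V).a ≫ t = Y.homOfLE (leOfHom h) ≫ (M V').a := fun {V V'} h =>
    (M V).exists_hom (M V') (Y.homOfLE (leOfHom h)) (hj h)
  choose tr h1 h2 using @htr
  exact ⟨⟨M, @tr, @h1, @h2, fun {V V'} h =>
    (M V).isOpenImmersion_hom (M V') (Y.homOfLE (leOfHom h)) (hj h) _ (h1 h) (h2 h)⟩⟩

namespace Datum

variable {i p} (D : Datum i p)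

lemma hj {V V' : Idx i p} (h : V ⟶ V') : Y.homOfLE (leOfHom h) ≫ V'.1.ι ≫ p = V.1.ι ≫ p := by
  rw [← Category.assoc, Y.homOfLE_ι]

theorem tr_id [Surjective i] (V : Idx i p) : D.tr (𝟙 V) = 𝟙 _ :=
  (D.M V).hom_unique (D.M V) (Y.homOfLE (leOfHom (𝟙 V))) _ _ (D.tr_q _) (D.tr_a _)
    (Category.id_comp _) (by simp)

theorem tr_comp [Surjective i] {V V' V'' : Idx i p} (h : V ⟶ V') (h' : V' ⟶ V'') :
    D.tr (h ≫ h') = D.tr h ≫ D.tr h' :=
  (D.M V).hom_unique (D.M V'') (Y.homOfLE (leOfHom (h ≫ h'))) _ _ (D.tr_q _) (D.tr_a _)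
    (by rw [Category.assoc, D.tr_q, D.tr_q])
    (by rw [← Category.assoc, D.tr_a, Category.assoc, D.tr_a, ← Category.assoc,
      Scheme.homOfLE_homOfLE])

variable [Surjective i]

/-- The functor of local models. -/
noncomputable def functor : Idx i p ⥤ Scheme.{u} where
  obj V := (D.M V).Z
  map h := D.tr h
  map_id := D.tr_id
  map_comp := D.tr_comp

instance {V V' : Idx i p} (h : V ⟶ V') : IsOpenImmersion (D.functor.map h) := D.tr_oi h

variable [IsClosedImmersion i]

lemma a_injective (V : Idx i p) : Function.Injective (D.M V).a.base :=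
  haveI := (D.M V).isClosedImmersion_a
  (D.M V).a.isClosedEmbedding.injective

lemma a_surjective (V : Idx i p) : Function.Surjective (D.M V).a.base :=
  haveI := (D.M V).surjective_a
  (D.M V).a.surjective

lemma tr_a_apply {V V' : Idx i p} (h : V ⟶ V') (y : V.1.toScheme) :
    (D.tr h).base ((D.M V).a.base y) = (D.M V').a.base ((Y.homOfLE (leOfHom h)).base y) :=
  congrArg (fun φ : V.1.toScheme ⟶ (D.M V').Z => φ.base y) (D.tr_a h)

instance : (D.functor ⋙ Scheme.forget).IsLocallyDirected := by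
  constructor
  intro V V' V'' fi fj xi xj hx
  obtain ⟨y, rfl⟩ := D.a_surjective V xi
  obtain ⟨y', rfl⟩ := D.a_surjective V' xj
  have hx' : (D.tr fi).base ((D.M V).a.base y) = (D.tr fj).base ((D.M V').a.base y') := hx
  rw [D.tr_a_apply, D.tr_a_apply] at hx'
  have hyy := D.a_injective V'' hx'
  have hyy' : y.1 = y'.1 := by
    have := congrArg Subtype.val hyy
    exact (Scheme.homOfLE_apply _ _).symm.trans (this.trans (Scheme.homOfLE_apply _ _))
  obtain ⟨W, hW, hyW, hWle⟩ := TopologicalSpace.Opens.isBasis_iff_nbhd.mp (isBasis_small i p)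
    (show y.1 ∈ V.1 ⊓ V'.1 from ⟨y.2, hyy' ▸ y'.2⟩)
  refine ⟨⟨W, hW⟩, homOfLE (hWle.trans inf_le_left), homOfLE (hWle.trans inf_le_right),
    (D.M ⟨W, hW⟩).a.base ⟨y.1, hyW⟩, ?_, ?_⟩
  · refine (D.tr_a_apply _ _).trans ?_
    congr 1
    exact Subtype.ext (Scheme.homOfLE_apply _ _)
  · refine (D.tr_a_apply _ _).trans ?_
    congr 1
    exact Subtype.ext ((Scheme.homOfLE_apply _ _).trans hyy')

/-- The glued scheme. -/
noncomputable abbrev G : Scheme.{u} := colimit D.functor

/-- The inclusion of a local model into the glued scheme. -/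
noncomputable abbrev ιG (V : Idx i p) : (D.M V).Z ⟶ D.G := colimit.ι D.functor V

instance (V : Idx i p) : IsOpenImmersion (D.ιG V) :=
  inferInstanceAs (IsOpenImmersion (colimit.ι D.functor V))

/-- The cocone of structure maps. -/
noncomputable def cocone : Cocone D.functor where
  pt := S
  ι :=
    { app := fun V => (D.M V).q
      naturality := fun V V' h => by
        simp only [Functor.const_obj_obj, Functor.const_obj_map, Category.comp_id]
        exact D.tr_q h }

/-- The structure map of the glued scheme. -/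
noncomputable def g : D.G ⟶ S := colimit.desc D.functor D.cocone

lemma ι_g (V : Idx i p) : D.ιG V ≫ D.g = (D.M V).q := colimit.ι_desc _ _

set_option backward.isDefEq.respectTransparency.types false in
instance : Etale D.g := by
  refine IsZariskiLocalAtSource.of_openCover (P := @Etale)
    (Scheme.IsLocallyDirected.openCover D.functor) fun V => ?_
  change Etale (D.ιG V ≫ D.g)
  rw [D.ι_g]
  exact (D.M V).et

lemma tr_ιG {V V' : Idx i p} (h : V ⟶ V') : D.tr h ≫ D.ιG V' = D.ιG V :=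
  colimit.w D.functor h

lemma compat_A' {V V' : Idx i p} (h : V ⟶ V') :
    Y.homOfLE (leOfHom h) ≫ (D.M V').a ≫ D.ιG V' = (D.M V).a ≫ D.ιG V := by
  rw [← Category.assoc, ← D.tr_a h, Category.assoc, D.tr_ιG]

lemma compat_A {V V' : (cover i p).I₀} (h : V ⟶ V') :
    Scheme.Cover.trans (cover i p) h ≫ (D.M V').a ≫ D.ιG V' = (D.M V).a ≫ D.ιG V :=
  D.compat_A' h

/-- The map from `Y` to the glued scheme. -/
noncomputable def A : Y ⟶ D.G :=
  (cover i p).glueMorphismsOfLocallyDirected (fun V => (D.M V).a ≫ D.ιG V) D.compat_A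

lemma ι_A (V : Idx i p) : V.1.ι ≫ D.A = (D.M V).a ≫ D.ιG V :=
  (cover i p).map_glueMorphismsOfLocallyDirected (fun V => (D.M V).a ≫ D.ιG V) D.compat_A V

lemma A_g : D.A ≫ D.g = p ≫ i := by
  have key : ∀ V : Idx i p, V.1.ι ≫ D.A ≫ D.g = V.1.ι ≫ p ≫ i := fun V => by
    rw [← Category.assoc, D.ι_A, Category.assoc, D.ι_g, (D.M V).sq.w, Category.assoc]
  exact (cover i p).hom_ext _ _ fun V => key V

lemma A_apply (V : Idx i p) (y : V.1.toScheme) :
    D.A.base (V.1.ι.base y) = (D.ιG V).base ((D.M V).a.base y) :=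
  congrArg (fun φ : V.1.toScheme ⟶ D.G => φ.base y) (D.ι_A V)

lemma preimage_opensRange (V : Idx i p) : D.A ⁻¹ᵁ (D.ιG V).opensRange = V.1 := by
  ext y
  constructor
  · rintro ⟨z, hz⟩
    obtain ⟨V', hV', hyV', -⟩ := TopologicalSpace.Opens.isBasis_iff_nbhd.mp (isBasis_small i p)
      (TopologicalSpace.Opens.mem_top y)
    have h1 : D.A.base y = (D.ιG ⟨V', hV'⟩).base ((D.M ⟨V', hV'⟩).a.base ⟨y, hyV'⟩) :=
      D.A_apply ⟨V', hV'⟩ ⟨y, hyV'⟩
    have h2 : (colimit.ι D.functor V).base z =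
        (colimit.ι D.functor ⟨V', hV'⟩).base ((D.M ⟨V', hV'⟩).a.base ⟨y, hyV'⟩) := hz.trans h1
    obtain ⟨W, fW, fW', x, hx1, hx2⟩ := (Scheme.IsLocallyDirected.ι_eq_ι_iff D.functor).mp h2
    obtain ⟨y₂, rfl⟩ := D.a_surjective W x
    have hx2' : (D.tr fW').base ((D.M W).a.base y₂) = _ := hx2
    rw [D.tr_a_apply] at hx2'
    have h3 := congrArg Subtype.val (D.a_injective _ hx2')
    have h4 : y₂.1 = y := (Scheme.homOfLE_apply _ _).symm.trans h3
    exact h4 ▸ (leOfHom fW) y₂.2
  · intro hy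
    exact ⟨(D.M V).a.base ⟨y, hy⟩, (D.A_apply V ⟨y, hy⟩).symm⟩

lemma sqCover (V : Idx i p) : IsPullback V.1.ι (D.M V).a D.A (D.ιG V) := by
  refine (IsOpenImmersion.isPullback (D.M V).a V.1.ι (D.ιG V) D.A (D.ι_A V) ?_).flip
  rw [D.preimage_opensRange, Scheme.Opens.opensRange_ι]

lemma sqStar (V : Idx i p) : IsPullback (D.M V).a (V.1.ι ≫ p) (D.ιG V ≫ D.g) i := by
  rw [D.ι_g]
  exact (D.M V).sq

lemma sqLocal (V : Idx i p) :
    IsPullback (pullback.snd D.A (D.ιG V)) (pullback.fst D.A (D.ιG V) ≫ p)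
      (D.ιG V ≫ D.g) i := by
  refine IsPullback.of_iso (D.sqStar V) (D.sqCover V).isoPullback (Iso.refl _) (Iso.refl _)
    (Iso.refl _) ?_ ?_ ?_ ?_
  · rw [Iso.refl_hom, Category.comp_id]
    exact ((D.sqCover V).isoPullback_hom_snd).symm
  · rw [Iso.refl_hom, Category.comp_id, ← Category.assoc]
    congr 1
    exact ((D.sqCover V).isoPullback_hom_fst).symm
  · simp
  · simp

theorem isPullback_A : IsPullback D.A p D.g i :=
  Scheme.isPullback_of_openCover D.A p D.g i (Scheme.IsLocallyDirected.openCover D.functor)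
    fun V => D.sqLocal V

end Datum

/-- Étale schemes lift along a surjective closed immersion (square form). -/
theorem exists_global_emodel [IsClosedImmersion i] [Surjective i] [Etale p] :
    Nonempty (EModel i p) := by
  obtain ⟨D⟩ := nonempty_datum i p
  exact ⟨⟨D.G, D.g, D.A, inferInstance, D.isPullback_A⟩⟩

end Glue

section Main

variable {S S₀ : Scheme.{u}} (i : S₀ ⟶ S) [IsClosedImmersion i] [Surjective i]

theorem essSurj_bc : (EtCoh.bc i).EssSurj := by
  constructor
  intro Y₀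
  let p₀ : Y₀.left ⟶ S₀ := Y₀.hom
  haveI : Etale p₀ := Y₀.prop
  obtain ⟨⟨Z, q, a, het, sq⟩⟩ := exists_global_emodel i p₀
  refine ⟨MorphismProperty.Over.mk ⊤ q het, ⟨?_⟩⟩
  refine MorphismProperty.Over.isoMk sq.isoPullback.symm ?_
  change sq.isoPullback.inv ≫ p₀ = pullback.snd q i
  exact sq.isoPullback_inv_snd

theorem isEquivalence_bc : (EtCoh.bc i).IsEquivalence :=
  haveI := faithful_bc i
  haveI := full_bc i
  haveI := essSurj_bc i
  { }

end Main

end Groth.Agent.Lib.Helper89.EtThick
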