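import Groth.Agent.Lib.Helper89.EtaleDescent2
import Groth.Agent.Lib.Helper89.FEtField
import Mathlib.AlgebraicGeometry.Morphisms.QuasiFinite
import Mathlib.RingTheory.Unramified.LocalStructure

/-!
# Descent of sections of étale morphisms along universally submersive morphisms with
geometrically connected fibres (SGA1 IX 3.4)
-/

set_option autoImplicit false
universe u
open AlgebraicGeometry CategoryTheory CategoryTheory.Limits MorphismProperty

namespace Groth.Agent.Lib.Helper89.EtaleDescent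

open Groth.Agent.Lib.Helper89.FEtFF

lemma locallyQuasiFinite_of_etale {X Y : Scheme.{u}} (f : X ⟶ Y) [Etale f] :
    LocallyQuasiFinite f := by
  refine ⟨fun {U} hU {V} hV e => ?_⟩
  have h := f.etale_appLE hU hV e
  algebraize [(f.appLE U V e).hom]
  have : Algebra.Etale Γ(Y, U) Γ(X, V) := h
  show Algebra.QuasiFinite Γ(Y, U) Γ(X, V)
  infer_instance

/-- A scheme étale over a field is discrete. -/
lemma discreteTopology_of_etale_field (K : Type u) [Field K] {Z : Scheme.{u}}
    (π : Z ⟶ Spec (CommRingCat.of K)) [Etale π] : DiscreteTopology Z := by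
  have := locallyQuasiFinite_of_etale π
  have : IsLocallyArtinian (Spec (CommRingCat.of K)) :=
    Scheme.isLocallyArtinianScheme_Spec.mpr (inferInstanceAs (IsArtinianRing K))
  have : IsLocallyArtinian Z := IsLocallyArtinian.of_locallyQuasiFinite π
  infer_instance

/-- Every point of a scheme is the image of a geometric point. -/
lemma exists_geometric_point_of_point {Z : Scheme.{u}} (z : Z) :
    ∃ (K : Type u) (_ : Field K) (_ : IsAlgClosed K) (ξ : Spec (CommRingCat.of K) ⟶ Z),
      Set.range ξ.base = {z} := by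
  refine ⟨AlgebraicClosure (Z.residueField z), inferInstance, inferInstance,
    Spec.map (CommRingCat.ofHom (algebraMap (Z.residueField z)
      (AlgebraicClosure (Z.residueField z)))) ≫ Z.fromSpecResidueField z, ?_⟩
  apply Set.Subset.antisymm
  · rintro _ ⟨t, rfl⟩
    have : (Z.fromSpecResidueField z).base ((Spec.map (CommRingCat.ofHom (algebraMap
        (Z.residueField z) (AlgebraicClosure (Z.residueField z))))).base t) ∈
        Set.range (Z.fromSpecResidueField z).base := ⟨_, rfl⟩
    rw [Scheme.range_fromSpecResidueField] at this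
    exact this
  · rw [Set.singleton_subset_iff]
    have hne : Nonempty (Spec (CommRingCat.of (AlgebraicClosure (Z.residueField z)))) :=
      inferInstanceAs (Nonempty (PrimeSpectrum (AlgebraicClosure (Z.residueField z))))
    obtain ⟨t⟩ := hne
    have : (Z.fromSpecResidueField z).base ((Spec.map (CommRingCat.ofHom (algebraMap
        (Z.residueField z) (AlgebraicClosure (Z.residueField z))))).base t) ∈
        Set.range (Z.fromSpecResidueField z).base := ⟨_, rfl⟩
    rw [Scheme.range_fromSpecResidueField] at this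
    exact ⟨t, this⟩

/-- Key lemma: for a geometric point `ξ` of `Z` (étale over `S`) with `W = S' ×_S Spec K`
connected, the image of `W` in `Z' = Z ×_S S'` is either contained in or disjoint from the image
of a section `τ` of `Z' ⟶ S'`. -/
lemma range_subset_or_disjoint {S S' Z : Scheme.{u}} (g : S' ⟶ S) (p : Z ⟶ S) [Etale p]
    (τ : S' ⟶ pullback p g) (hτ : τ ≫ pullback.snd p g = 𝟙 S')
    (K : Type u) [Field K] (ξ : Spec (CommRingCat.of K) ⟶ Z)
    [ConnectedSpace ↥(pullback g (ξ ≫ p))]
    (h : pullback g (ξ ≫ p) ⟶ pullback p g)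
    (hh_fst : h ≫ pullback.fst p g = pullback.snd g (ξ ≫ p) ≫ ξ)
    (hh_snd : h ≫ pullback.snd p g = pullback.fst g (ξ ≫ p)) :
    h.base ⁻¹' Set.range τ.base = ∅ ∨ h.base ⁻¹' Set.range τ.base = Set.univ := by
  have : IsOpenImmersion τ := isOpenImmersion_of_section τ (pullback.snd p g) hτ
  obtain ⟨sb, hsb⟩ : ∃ sb : Spec (CommRingCat.of K) ⟶ S, sb = ξ ≫ p := ⟨_, rfl⟩
  have : DiscreteTopology ↥(pullback p (ξ ≫ p)) :=
    discreteTopology_of_etale_field K (pullback.snd p (ξ ≫ p))
  -- the `K`-point `ζ` of `Z_K`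
  obtain ⟨ζ, hζ_fst, hζ_snd⟩ : ∃ ζ : Spec (CommRingCat.of K) ⟶ pullback p (ξ ≫ p),
      ζ ≫ pullback.fst p (ξ ≫ p) = ξ ∧ ζ ≫ pullback.snd p (ξ ≫ p) = 𝟙 _ :=
    ⟨pullback.lift ξ (𝟙 _) (by rw [Category.id_comp]),
      pullback.lift_fst _ _ _, pullback.lift_snd _ _ _⟩
  have : IsOpenImmersion ζ := isOpenImmersion_of_section ζ (pullback.snd p (ξ ≫ p)) hζ_snd
  obtain ⟨h', hh'⟩ : ∃ h' : pullback g (ξ ≫ p) ⟶ pullback p g, h' = h ≫ pullback.snd p g ≫ τ :=
    ⟨_, rfl⟩
  have hh'_snd : h' ≫ pullback.snd p g = pullback.fst g (ξ ≫ p) := by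
    rw [hh', Category.assoc, Category.assoc, hτ, Category.comp_id, hh_snd]
  obtain ⟨a₂, ha₂_fst, ha₂_snd⟩ : ∃ a₂ : pullback g (ξ ≫ p) ⟶ pullback p (ξ ≫ p),
      a₂ ≫ pullback.fst p (ξ ≫ p) = h' ≫ pullback.fst p g ∧
      a₂ ≫ pullback.snd p (ξ ≫ p) = pullback.snd g (ξ ≫ p) :=
    ⟨pullback.lift (h' ≫ pullback.fst p g) (pullback.snd g (ξ ≫ p))
      (by rw [Category.assoc, pullback.condition, ← Category.assoc, hh'_snd, pullback.condition]),
      pullback.lift_fst _ _ _, pullback.lift_snd _ _ _⟩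
  -- the two descriptions of the preimage
  have hEq : h.base ⁻¹' Set.range τ.base = a₂.base ⁻¹' Set.range ζ.base := by
    apply Set.Subset.antisymm
    · intro w hw
      -- restrict to the open subscheme `T' = h⁻¹(range τ)`
      obtain ⟨T', ιT, hιTo, hιTr⟩ : ∃ (T' : Scheme.{u}) (ιT : T' ⟶ pullback g (ξ ≫ p)),
          IsOpenImmersion ιT ∧ Set.range ιT.base = h.base ⁻¹' Set.range τ.base :=
        ⟨((⟨h.base ⁻¹' Set.range τ.base,
          τ.isOpenEmbedding.isOpen_range.preimage h.continuous⟩ :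
            (pullback g (ξ ≫ p)).Opens) : Scheme.{u}), Scheme.Opens.ι _, inferInstance,
          Scheme.Opens.range_ι _⟩
      have hsub : Set.range (ιT ≫ h).base ⊆ Set.range τ.base := by
        rintro _ ⟨t, rfl⟩
        have : ιT.base t ∈ h.base ⁻¹' Set.range τ.base := hιTr ▸ ⟨t, rfl⟩
        exact this
      have hc := IsOpenImmersion.lift_fac τ (ιT ≫ h) hsub
      have hc' : IsOpenImmersion.lift τ (ιT ≫ h) hsub = ιT ≫ h ≫ pullback.snd p g := by
        have := congrArg (· ≫ pullback.snd p g) hc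
        simp only [Category.assoc, hτ, Category.comp_id] at this
        exact this
      have h1 : ιT ≫ h = ιT ≫ h' := by
        rw [hh', ← hc, hc', Category.assoc, Category.assoc]
      have h2 : ιT ≫ a₂ = (ιT ≫ pullback.snd g (ξ ≫ p)) ≫ ζ := by
        apply pullback.hom_ext
        · rw [Category.assoc, ha₂_fst, ← Category.assoc, ← h1, Category.assoc, hh_fst,
            Category.assoc, Category.assoc, hζ_fst]
        · rw [Category.assoc, ha₂_snd, Category.assoc, Category.assoc, hζ_snd, Category.comp_id]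
      obtain ⟨t, rfl⟩ : w ∈ Set.range ιT.base := hιTr ▸ hw
      refine ⟨(ιT ≫ pullback.snd g (ξ ≫ p)).base t, ?_⟩
      exact (congrArg (fun k : T' ⟶ pullback p (ξ ≫ p) => k.base t) h2).symm
    · intro w hw
      obtain ⟨V', ιV, hιVo, hιVr⟩ : ∃ (V' : Scheme.{u}) (ιV : V' ⟶ pullback g (ξ ≫ p)),
          IsOpenImmersion ιV ∧ Set.range ιV.base = a₂.base ⁻¹' Set.range ζ.base :=
        ⟨((⟨a₂.base ⁻¹' Set.range ζ.base,
          ζ.isOpenEmbedding.isOpen_range.preimage a₂.continuous⟩ :
            (pullback g (ξ ≫ p)).Opens) : Scheme.{u}), Scheme.Opens.ι _, inferInstance,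
          Scheme.Opens.range_ι _⟩
      have hsub : Set.range (ιV ≫ a₂).base ⊆ Set.range ζ.base := by
        rintro _ ⟨t, rfl⟩
        have : ιV.base t ∈ a₂.base ⁻¹' Set.range ζ.base := hιVr ▸ ⟨t, rfl⟩
        exact this
      have hb := IsOpenImmersion.lift_fac ζ (ιV ≫ a₂) hsub
      have hb' : IsOpenImmersion.lift ζ (ιV ≫ a₂) hsub = ιV ≫ pullback.snd g (ξ ≫ p) := by
        have := congrArg (· ≫ pullback.snd p (ξ ≫ p)) hb
        simp only [Category.assoc, hζ_snd, Category.comp_id, ha₂_snd] at this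
        exact this
      have h1 : ιV ≫ h' = ιV ≫ h := by
        apply pullback.hom_ext
        · rw [Category.assoc, ← ha₂_fst, ← Category.assoc, ← hb, hb', Category.assoc,
            Category.assoc, hζ_fst, Category.assoc, hh_fst]
        · rw [Category.assoc, Category.assoc, hh'_snd, hh_snd]
      have h2 : ιV ≫ h = (ιV ≫ h ≫ pullback.snd p g) ≫ τ := by
        rw [← h1, hh', Category.assoc, Category.assoc]
      obtain ⟨t, rfl⟩ : w ∈ Set.range ιV.base := hιVr ▸ hw
      refine ⟨(ιV ≫ h ≫ pullback.snd p g).base t, ?_⟩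
      exact (congrArg (fun k : V' ⟶ pullback p g => k.base t) h2).symm
  have hclopen : IsClopen (h.base ⁻¹' Set.range τ.base) := by
    rw [hEq]
    exact (isClopen_discrete _).preimage a₂.continuous
  exact isClopen_iff.mp hclopen

/-- Descent of sections of étale morphisms along universally submersive morphisms with
geometrically connected fibres. -/
theorem exists_section_descent_geomConn {S S' Z : Scheme.{u}} (g : S' ⟶ S)
    (hg : SGA1.UnivSubmersive g)
    (hconn : ∀ (K : Type u) [Field K] [IsAlgClosed K] (ξ : Spec (CommRingCat.of K) ⟶ S),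
      ConnectedSpace ↑(pullback g ξ))
    (p : Z ⟶ S) [Etale p]
    (τ : S' ⟶ pullback p g) (hτ : τ ≫ pullback.snd p g = 𝟙 S') :
    ∃ σ : S ⟶ Z, σ ≫ p = 𝟙 S ∧ g ≫ σ = τ ≫ pullback.fst p g := by
  have : IsOpenImmersion τ := isOpenImmersion_of_section τ (pullback.snd p g) hτ
  have hq : Topology.IsQuotientMap (pullback.fst p g).base :=
    hg _ _ _ (IsPullback.of_hasPullback p g)
  have hsurj : ∀ {T : Scheme.{u}} (t : T ⟶ S), Function.Surjective (pullback.fst t g).base :=
    fun t => (hg _ _ _ (IsPullback.of_hasPullback t g)).surjective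
  have hsat : ∀ x₁ x₂ : ↥(pullback p g), (pullback.fst p g).base x₁ = (pullback.fst p g).base x₂ →
      x₁ ∈ Set.range τ.base → x₂ ∈ Set.range τ.base := by
    intro x₁ x₂ h12 hx₁
    obtain ⟨K, _, _, ξ, hξ⟩ := exists_geometric_point_of_point ((pullback.fst p g).base x₁)
    have := hconn K (ξ ≫ p)
    obtain ⟨h, hh_fst, hh_snd⟩ : ∃ h : pullback g (ξ ≫ p) ⟶ pullback p g,
        h ≫ pullback.fst p g = pullback.snd g (ξ ≫ p) ≫ ξ ∧
        h ≫ pullback.snd p g = pullback.fst g (ξ ≫ p) :=
      ⟨pullback.lift (pullback.snd g (ξ ≫ p) ≫ ξ) (pullback.fst g (ξ ≫ p))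
        (by rw [Category.assoc]; exact pullback.condition.symm),
        pullback.lift_fst _ _ _, pullback.lift_snd _ _ _⟩
    have sq : IsPullback h (pullback.snd g (ξ ≫ p)) (pullback.fst p g) ξ := by
      refine IsPullback.of_right ?_ hh_fst (IsPullback.of_hasPullback p g).flip
      rw [hh_snd]
      exact IsPullback.of_hasPullback g (ξ ≫ p)
    have hr : Set.range h.base = (pullback.fst p g).base ⁻¹' {(pullback.fst p g).base x₁} := by
      rw [range_snd_of_isPullback sq.flip, hξ]
    have hx₁' : x₁ ∈ Set.range h.base := by rw [hr]; rfl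
    have hx₂' : x₂ ∈ Set.range h.base := by rw [hr]; exact h12.symm
    obtain ⟨w₁, rfl⟩ := hx₁'
    obtain ⟨w₂, rfl⟩ := hx₂'
    rcases range_subset_or_disjoint g p τ hτ K ξ h hh_fst hh_snd with h0 | h1
    · exact absurd (show w₁ ∈ h.base ⁻¹' Set.range τ.base from hx₁) (by rw [h0]; simp)
    · have : w₂ ∈ h.base ⁻¹' Set.range τ.base := by rw [h1]; trivial
      exact this
  have hpre : (pullback.fst p g).base ⁻¹' ((pullback.fst p g).base '' Set.range τ.base) =
      Set.range τ.base := by
    apply Set.Subset.antisymm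
    · rintro x₂ ⟨x₁, hx₁, h12⟩
      exact hsat x₁ x₂ h12 hx₁
    · exact Set.subset_preimage_image _ _
  refine exists_section_of_preimage_eq g hsurj p τ hτ _ ?_ hpre
  rw [← hq.isOpen_preimage, hpre]
  exact τ.isOpenEmbedding.isOpen_range

/-- The geometric-connectedness hypothesis is stable under base change. -/
lemma geomConn_fst {S S' T : Scheme.{u}} (g : S' ⟶ S)
    (hconn : ∀ (K : Type u) [Field K] [IsAlgClosed K] (ξ : Spec (CommRingCat.of K) ⟶ S),
      ConnectedSpace ↑(pullback g ξ)) (t : T ⟶ S)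
    (K : Type u) [Field K] [IsAlgClosed K] (ξ : Spec (CommRingCat.of K) ⟶ T) :
    ConnectedSpace ↑(pullback (pullback.fst t g) ξ) := by
  have := hconn K (ξ ≫ t)
  -- `pullback (fst t g) ξ ≅ pullback g (ξ ≫ t)`
  have sq : IsPullback (pullback.fst (pullback.fst t g) ξ ≫ pullback.snd t g)
      (pullback.snd (pullback.fst t g) ξ) g (ξ ≫ t) :=
    (IsPullback.of_hasPullback (pullback.fst t g) ξ).paste_horiz
      (IsPullback.of_hasPullback t g).flip
  exact (sq.isoPullback.hom.homeomorph).symm.surjective.connectedSpace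
    (sq.isoPullback.hom.homeomorph).symm.continuous

/-- Descent of morphisms to étale schemes along universally submersive morphisms with
geometrically connected fibres. -/
theorem exists_hom_descent_geomConn {S S' X Y : Scheme.{u}} (g : S' ⟶ S)
    (hg : SGA1.UnivSubmersive g)
    (hconn : ∀ (K : Type u) [Field K] [IsAlgClosed K] (ξ : Spec (CommRingCat.of K) ⟶ S),
      ConnectedSpace ↑(pullback g ξ))
    (pX : X ⟶ S) [Etale pX] (pY : Y ⟶ S)
    (ψ : pullback pY g ⟶ pullback pX g) (hψ : ψ ≫ pullback.snd pX g = pullback.snd pY g) :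
    ∃ φ : Y ⟶ X, φ ≫ pX = pY ∧ pullback.fst pY g ≫ φ = ψ ≫ pullback.fst pX g := by
  have hgY := univSubmersive_fst g hg pY
  obtain ⟨t0, ht0_fst, ht0_snd⟩ : ∃ t0 : pullback pY g ⟶ pullback pX pY,
      t0 ≫ pullback.fst pX pY = ψ ≫ pullback.fst pX g ∧
      t0 ≫ pullback.snd pX pY = pullback.fst pY g :=
    ⟨pullback.lift (ψ ≫ pullback.fst pX g) (pullback.fst pY g)
      (by rw [Category.assoc, pullback.condition, ← Category.assoc, hψ, pullback.condition]),
      pullback.lift_fst _ _ _, pullback.lift_snd _ _ _⟩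
  obtain ⟨τ, hτ_fst, hτ_snd⟩ : ∃ τ : pullback pY g ⟶
        pullback (pullback.snd pX pY) (pullback.fst pY g),
      τ ≫ pullback.fst _ _ = t0 ∧ τ ≫ pullback.snd _ _ = 𝟙 _ :=
    ⟨pullback.lift t0 (𝟙 _) (by rw [ht0_snd, Category.id_comp]),
      pullback.lift_fst _ _ _, pullback.lift_snd _ _ _⟩
  obtain ⟨σ, hσ1, hσ2⟩ := exists_section_descent_geomConn (pullback.fst pY g) hgY
    (geomConn_fst g hconn pY) (pullback.snd pX pY) τ hτ_snd
  refine ⟨σ ≫ pullback.fst pX pY, ?_, ?_⟩
  · rw [Category.assoc, pullback.condition, ← Category.assoc, hσ1, Category.id_comp]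
  · rw [← Category.assoc, hσ2, hτ_fst, ht0_fst]

end Groth.Agent.Lib.Helper89.EtaleDescent
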