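import Groth.Agent.Lib.Helper89.EtaleDescent2

/-!
# Descent of morphisms to étale schemes along morphisms which are submersive after every
étale base change (variant of `EtaleDescent2` with a weaker hypothesis)
-/

set_option autoImplicit false
universe u
open AlgebraicGeometry CategoryTheory CategoryTheory.Limits MorphismProperty

namespace Groth.Agent.Lib.Helper89.EtaleDescent

open Groth.Agent.Lib.Helper89.FEtFF

/-- `g` is submersive after every étale base change. -/
def EtSubm {S S' : Scheme.{u}} (g : S' ⟶ S) : Prop :=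
  ∀ ⦃T T' : Scheme.{u}⦄ (t : T ⟶ S) (t' : T' ⟶ S') (g' : T' ⟶ T), IsPullback g' t' t g →
    Etale t → Topology.IsQuotientMap g'.base

lemma EtSubm.fst {S S' T : Scheme.{u}} {g : S' ⟶ S} (hg : EtSubm g) (t : T ⟶ S) [Etale t] :
    Topology.IsQuotientMap (pullback.fst t g).base :=
  hg t _ _ (IsPullback.of_hasPullback t g) inferInstance

lemma EtSubm.baseChange {S S' Y : Scheme.{u}} {g : S' ⟶ S} (hg : EtSubm g) (pY : Y ⟶ S)
    [Etale pY] : EtSubm (pullback.fst pY g) := by
  intro T T' t t' g' sq ht
  exact hg (t ≫ pY) (t' ≫ pullback.snd pY g) g'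
    (sq.paste_vert (IsPullback.of_hasPullback pY g)) inferInstance

/-- Core lemma: a section `τ` of the base change of an étale `p : X ⟶ S` along a universally
surjective `g` descends as soon as its image is the preimage of an open subset of `X`. -/
theorem exists_section_of_preimage_eq' {S S' X : Scheme.{u}} (g : S' ⟶ S)
    (hg : ∀ {T : Scheme.{u}} (t : T ⟶ S) [Etale t], Function.Surjective (pullback.fst t g).base)
    (p : X ⟶ S) [Etale p]
    (τ : S' ⟶ pullback p g) (hτ : τ ≫ pullback.snd p g = 𝟙 S') (V : Set X) (hVo : IsOpen V)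
    (hV : (pullback.fst p g).base ⁻¹' V = Set.range τ.base) :
    ∃ σ : S ⟶ X, σ ≫ p = 𝟙 S ∧ g ≫ σ = τ ≫ pullback.fst p g := by
  have : IsOpenImmersion τ := isOpenImmersion_of_section τ (pullback.snd p g) hτ
  have hgs : Function.Surjective g.base := by
    have h1 := hg (𝟙 S)
    intro s
    obtain ⟨z, hz⟩ := h1 s
    refine ⟨(pullback.snd (𝟙 S) g).base z, ?_⟩
    have h2 : pullback.snd (𝟙 S) g ≫ g = pullback.fst (𝟙 S) g := by
      rw [← pullback.condition, Category.comp_id]
    rw [← hz]
    exact congrArg (fun k : pullback (𝟙 S) g ⟶ S => k.base z) h2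
  -- the open subscheme `U` of `X`
  obtain ⟨U, ιU, hιo, hιr⟩ : ∃ (U : Scheme.{u}) (ιU : U ⟶ X),
      IsOpenImmersion ιU ∧ Set.range ιU.base = V :=
    ⟨((⟨V, hVo⟩ : X.Opens) : Scheme.{u}), Scheme.Opens.ι _,
      inferInstance, Scheme.Opens.range_ι _⟩
  obtain ⟨u, hu⟩ : ∃ u : U ⟶ S, u = ιU ≫ p := ⟨_, rfl⟩
  have : Etale u := by rw [hu]; infer_instance
  obtain ⟨v, hv_fst, hv_snd⟩ : ∃ v : pullback u g ⟶ pullback p g,
      v ≫ pullback.fst p g = pullback.fst u g ≫ ιU ∧
      v ≫ pullback.snd p g = pullback.snd u g :=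
    ⟨pullback.lift (pullback.fst u g ≫ ιU) (pullback.snd u g)
      (by rw [Category.assoc, ← hu]; exact pullback.condition),
      pullback.lift_fst _ _ _, pullback.lift_snd _ _ _⟩
  have sqv : IsPullback (pullback.fst u g) v ιU (pullback.fst p g) := by
    refine IsPullback.of_bot ?_ hv_fst.symm (IsPullback.of_hasPullback p g)
    rw [hv_snd, ← hu]
    exact IsPullback.of_hasPullback u g
  have : IsOpenImmersion v := MorphismProperty.of_isPullback (P := @IsOpenImmersion) sqv hιo
  have hvr : Set.range v.base = Set.range τ.base := by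
    rw [range_snd_of_isPullback sqv, hιr, hV]
  obtain ⟨e, he⟩ : ∃ e : pullback u g ≅ S', e.hom ≫ τ = v :=
    ⟨IsOpenImmersion.isoOfRangeEq v τ hvr, IsOpenImmersion.isoOfRangeEq_hom_fac _ _ _⟩
  have he' : e.hom = pullback.snd u g := by
    rw [← hv_snd, ← he, Category.assoc, hτ, Category.comp_id]
  -- `u` is surjective
  have hus : Function.Surjective u.base := by
    intro s
    obtain ⟨s', rfl⟩ := hgs s
    refine ⟨(pullback.fst u g).base (e.inv.base s'), ?_⟩
    have h1 : e.inv ≫ pullback.fst u g ≫ u = g := by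
      rw [pullback.condition, ← he', Iso.inv_hom_id_assoc]
    exact congrArg (fun k : S' ⟶ S => k.base s') h1
  -- the diagonal of `u` is surjective
  have hud : Function.Surjective (pullback.diagonal u).base := by
    obtain ⟨pW, hpW⟩ : ∃ pW : pullback u u ⟶ S, pW = pullback.fst u u ≫ u := ⟨_, rfl⟩
    have hpW' : pW = pullback.snd u u ≫ u := by rw [hpW, pullback.condition]
    have : Etale pW := by rw [hpW]; infer_instance
    obtain ⟨a₁, ha₁_fst, ha₁_snd⟩ : ∃ a₁ : pullback pW g ⟶ pullback u g,
        a₁ ≫ pullback.fst u g = pullback.fst pW g ≫ pullback.fst u u ∧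
        a₁ ≫ pullback.snd u g = pullback.snd pW g :=
      ⟨pullback.lift (pullback.fst pW g ≫ pullback.fst u u) (pullback.snd pW g)
        (by rw [Category.assoc, ← hpW]; exact pullback.condition),
        pullback.lift_fst _ _ _, pullback.lift_snd _ _ _⟩
    obtain ⟨a₂, ha₂_fst, ha₂_snd⟩ : ∃ a₂ : pullback pW g ⟶ pullback u g,
        a₂ ≫ pullback.fst u g = pullback.fst pW g ≫ pullback.snd u u ∧
        a₂ ≫ pullback.snd u g = pullback.snd pW g :=
      ⟨pullback.lift (pullback.fst pW g ≫ pullback.snd u u) (pullback.snd pW g)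
        (by rw [Category.assoc, ← hpW']; exact pullback.condition),
        pullback.lift_fst _ _ _, pullback.lift_snd _ _ _⟩
    have ha : a₁ = a₂ := by
      rw [← cancel_mono e.hom, he', ha₁_snd, ha₂_snd]
    have h12 : pullback.fst pW g ≫ pullback.fst u u = pullback.fst pW g ≫ pullback.snd u u := by
      rw [← ha₁_fst, ← ha₂_fst, ha]
    have hfac : (pullback.fst pW g ≫ pullback.fst u u) ≫ pullback.diagonal u =
        pullback.fst pW g := by
      apply pullback.hom_ext
      · rw [Category.assoc, pullback.diagonal_fst, Category.comp_id]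
      · rw [Category.assoc, pullback.diagonal_snd, Category.comp_id, h12]
    intro w
    obtain ⟨w', rfl⟩ := hg pW w
    refine ⟨(pullback.fst pW g ≫ pullback.fst u u).base w', ?_⟩
    exact congrArg (fun k : pullback pW g ⟶ pullback u u => k.base w') hfac
  have : IsIso u := isIso_of_etale_of_surjective_of_diagonal u hus hud
  refine ⟨inv u ≫ ιU, ?_, ?_⟩
  · rw [Category.assoc, ← hu, IsIso.inv_hom_id]
  · have h1 : τ = e.inv ≫ v := by rw [← he, Iso.inv_hom_id_assoc]
    have h2 : e.inv ≫ pullback.fst u g = g ≫ inv u := by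
      rw [← cancel_mono u, Category.assoc, Category.assoc, IsIso.inv_hom_id, Category.comp_id,
        pullback.condition, ← he', Iso.inv_hom_id_assoc]
    rw [h1, Category.assoc, hv_fst, ← Category.assoc e.inv, h2, Category.assoc]


/-- Descent of sections of étale morphisms along universally submersive morphisms. -/
theorem exists_section_descent_etSubm {S S' X : Scheme.{u}} (g : S' ⟶ S)
    (hg : EtSubm g) (p : X ⟶ S) [Etale p]
    (τ : S' ⟶ pullback p g) (hτ : τ ≫ pullback.snd p g = 𝟙 S')
    (hcoc : pullback.fst g g ≫ τ ≫ pullback.fst p g = pullback.snd g g ≫ τ ≫ pullback.fst p g) :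
    ∃ σ : S ⟶ X, σ ≫ p = 𝟙 S ∧ g ≫ σ = τ ≫ pullback.fst p g := by
  have hq : Topology.IsQuotientMap (pullback.fst p g).base := hg.fst p
  have hsurj : ∀ {T : Scheme.{u}} (t : T ⟶ S) [Etale t],
      Function.Surjective (pullback.fst t g).base :=
    fun t _ => (hg.fst t).surjective
  obtain ⟨β, hβ⟩ : ∃ β : pullback p g ⟶ X, β = pullback.snd p g ≫ τ ≫ pullback.fst p g := ⟨_, rfl⟩
  have hβp : β ≫ p = pullback.snd p g ≫ g := by
    rw [hβ, Category.assoc, Category.assoc, pullback.condition, ← Category.assoc τ, hτ,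
      Category.id_comp]
  obtain ⟨l, hl_fst, hl_snd⟩ : ∃ l : pullback p g ⟶ pullback p p,
      l ≫ pullback.fst p p = pullback.fst p g ∧ l ≫ pullback.snd p p = β :=
    ⟨pullback.lift (pullback.fst p g) β (by rw [hβp, pullback.condition]),
      pullback.lift_fst _ _ _, pullback.lift_snd _ _ _⟩
  have hτβ : τ ≫ β = τ ≫ pullback.fst p g := by
    rw [hβ, ← Category.assoc, hτ, Category.id_comp]
  -- the image of `τ` is the equalizer locus
  have hT : l.base ⁻¹' Set.range (pullback.diagonal p).base = Set.range τ.base := by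
    apply Set.Subset.antisymm
    · intro x' hx'
      rw [← Scheme.Pullback.range_snd (pullback.diagonal p) l] at hx'
      obtain ⟨z, rfl⟩ := hx'
      have hι : pullback.snd (pullback.diagonal p) l =
          (pullback.snd (pullback.diagonal p) l ≫ pullback.snd p g) ≫ τ := by
        have h1 : pullback.snd (pullback.diagonal p) l ≫ pullback.fst p g =
            pullback.fst (pullback.diagonal p) l := by
          rw [← hl_fst, ← Category.assoc, ← pullback.condition, Category.assoc,
            pullback.diagonal_fst, Category.comp_id]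
        have h2 : pullback.snd (pullback.diagonal p) l ≫ β =
            pullback.fst (pullback.diagonal p) l := by
          rw [← hl_snd, ← Category.assoc, ← pullback.condition, Category.assoc,
            pullback.diagonal_snd, Category.comp_id]
        apply pullback.hom_ext
        · rw [Category.assoc, Category.assoc, h1, ← h2, hβ]
        · rw [Category.assoc, Category.assoc, hτ, Category.comp_id]
      refine ⟨(pullback.snd (pullback.diagonal p) l ≫ pullback.snd p g).base z, ?_⟩
      exact (congrArg (fun k : pullback (pullback.diagonal p) l ⟶ pullback p g => k.base z) hι).symm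
    · rintro _ ⟨s', rfl⟩
      have h1 : τ ≫ l = (τ ≫ pullback.fst p g) ≫ pullback.diagonal p := by
        apply pullback.hom_ext
        · rw [Category.assoc, hl_fst, Category.assoc, pullback.diagonal_fst, Category.comp_id]
        · rw [Category.assoc, hl_snd, Category.assoc, pullback.diagonal_snd, Category.comp_id,
            hτβ]
      refine ⟨(τ ≫ pullback.fst p g).base s', ?_⟩
      exact (congrArg (fun k : S' ⟶ pullback p p => k.base s') h1).symm
  -- saturation
  have hρ : pullback.fst (pullback.fst p g) (pullback.fst p g) ≫ l =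
      pullback.snd (pullback.fst p g) (pullback.fst p g) ≫ l := by
    obtain ⟨m, hm_fst, hm_snd⟩ : ∃ m : pullback (pullback.fst p g) (pullback.fst p g) ⟶
        pullback g g,
        m ≫ pullback.fst g g = pullback.fst _ _ ≫ pullback.snd p g ∧
        m ≫ pullback.snd g g = pullback.snd _ _ ≫ pullback.snd p g :=
      ⟨pullback.lift (pullback.fst _ _ ≫ pullback.snd p g) (pullback.snd _ _ ≫ pullback.snd p g)
        (by rw [Category.assoc, Category.assoc, ← pullback.condition (f := p) (g := g),
          ← Category.assoc, ← Category.assoc, pullback.condition]),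
        pullback.lift_fst _ _ _, pullback.lift_snd _ _ _⟩
    apply pullback.hom_ext
    · rw [Category.assoc, Category.assoc, hl_fst, pullback.condition]
    · have e1 : pullback.fst (pullback.fst p g) (pullback.fst p g) ≫ β =
          m ≫ pullback.fst g g ≫ τ ≫ pullback.fst p g := by
        rw [hβ, ← Category.assoc _ (pullback.snd p g), ← hm_fst, Category.assoc]
      have e2 : pullback.snd (pullback.fst p g) (pullback.fst p g) ≫ β =
          m ≫ pullback.snd g g ≫ τ ≫ pullback.fst p g := by
        rw [hβ, ← Category.assoc _ (pullback.snd p g), ← hm_snd, Category.assoc]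
      rw [Category.assoc, Category.assoc, hl_snd, e1, e2, hcoc]
  have hsat : ∀ x₁ x₂ : ↥(pullback p g), (pullback.fst p g).base x₁ = (pullback.fst p g).base x₂ →
      x₁ ∈ l.base ⁻¹' Set.range (pullback.diagonal p).base →
      x₂ ∈ l.base ⁻¹' Set.range (pullback.diagonal p).base := by
    intro x₁ x₂ h12 hx₁
    obtain ⟨x'', hx''1, hx''2⟩ := Scheme.Pullback.exists_preimage_pullback x₁ x₂ h12
    have h3 := congrArg (fun k : pullback (pullback.fst p g) (pullback.fst p g) ⟶ pullback p p =>
      k.base x'') hρ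
    simp only [Scheme.Hom.comp_base, TopCat.hom_comp, ContinuousMap.coe_comp,
      Function.comp_apply] at h3
    rw [hx''1, hx''2] at h3
    rw [Set.mem_preimage] at hx₁ ⊢
    rw [← h3]
    exact hx₁
  have hopenT : IsOpen (l.base ⁻¹' Set.range (pullback.diagonal p).base) :=
    (pullback.diagonal p).isOpenEmbedding.isOpen_range.preimage l.continuous
  have hpre : (pullback.fst p g).base ⁻¹' ((pullback.fst p g).base ''
      (l.base ⁻¹' Set.range (pullback.diagonal p).base)) =
      l.base ⁻¹' Set.range (pullback.diagonal p).base := by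
    apply Set.Subset.antisymm
    · rintro x₂ ⟨x₁, hx₁, h12⟩
      exact hsat x₁ x₂ h12 hx₁
    · exact Set.subset_preimage_image _ _
  refine exists_section_of_preimage_eq' g hsurj p τ hτ _ ?_ (hpre.trans hT)
  rw [← hq.isOpen_preimage, hpre]
  exact hopenT

/-- Descent of morphisms to étale schemes along universally submersive morphisms. -/
theorem exists_hom_descent_etSubm {S S' X Y : Scheme.{u}} (g : S' ⟶ S)
    (hg : EtSubm g) (pX : X ⟶ S) [Etale pX] (pY : Y ⟶ S) [Etale pY]
    (ψ : pullback pY g ⟶ pullback pX g) (hψ : ψ ≫ pullback.snd pX g = pullback.snd pY g)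
    (hcoc : pullback.fst (pullback.fst pY g) (pullback.fst pY g) ≫ ψ ≫ pullback.fst pX g =
      pullback.snd (pullback.fst pY g) (pullback.fst pY g) ≫ ψ ≫ pullback.fst pX g) :
    ∃ φ : Y ⟶ X, φ ≫ pX = pY ∧ pullback.fst pY g ≫ φ = ψ ≫ pullback.fst pX g := by
  have hgY := hg.baseChange pY
  obtain ⟨t0, ht0_fst, ht0_snd⟩ : ∃ t0 : pullback pY g ⟶ pullback pX pY,
      t0 ≫ pullback.fst pX pY = ψ ≫ pullback.fst pX g ∧
      t0 ≫ pullback.snd pX pY = pullback.fst pY g :=
    ⟨pullback.lift (ψ ≫ pullback.fst pX g) (pullback.fst pY g)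
      (by rw [Category.assoc, pullback.condition, ← Category.assoc, hψ, pullback.condition]),
      pullback.lift_fst _ _ _, pullback.lift_snd _ _ _⟩
  obtain ⟨τ, hτ_fst, hτ_snd⟩ : ∃ τ : pullback pY g ⟶
        pullback (pullback.snd pX pY) (pullback.fst pY g),
      τ ≫ pullback.fst _ _ = t0 ∧ τ ≫ pullback.snd _ _ = 𝟙 _ :=
    ⟨pullback.lift t0 (𝟙 _) (by rw [ht0_snd, Category.id_comp]),
      pullback.lift_fst _ _ _, pullback.lift_snd _ _ _⟩
  have hcocτ : pullback.fst (pullback.fst pY g) (pullback.fst pY g) ≫ τ ≫ pullback.fst _ _ =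
      pullback.snd (pullback.fst pY g) (pullback.fst pY g) ≫ τ ≫ pullback.fst _ _ := by
    rw [hτ_fst]
    apply pullback.hom_ext
    · rw [Category.assoc, Category.assoc, ht0_fst, hcoc]
    · rw [Category.assoc, Category.assoc, ht0_snd, pullback.condition]
  obtain ⟨σ, hσ1, hσ2⟩ := exists_section_descent_etSubm (pullback.fst pY g) hgY
    (pullback.snd pX pY) τ hτ_snd hcocτ
  refine ⟨σ ≫ pullback.fst pX pY, ?_, ?_⟩
  · rw [Category.assoc, pullback.condition, ← Category.assoc, hσ1, Category.id_comp]
  · rw [← Category.assoc, hσ2, hτ_fst, ht0_fst]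

end Groth.Agent.Lib.Helper89.EtaleDescent
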