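import Mathlib.AlgebraicGeometry.Morphisms.FlatMono
import Mathlib.AlgebraicGeometry.Morphisms.Etale
import Mathlib.AlgebraicGeometry.Morphisms.FormallyUnramified
import Groth.Agent.S1128
import Groth.Agent.S0114
import Mathlib.AlgebraicGeometry.Sites.Etale

/-!
# Étale is étale-local on the source

* `isOpenImmersion_diagonal_of_etale_comp`: `g` étale surjective, `g ≫ f` étale ⇒ `Δ_f` open immersion.
* `etale_of_etale_surjective_comp`: `g` étale surjective, `g ≫ f` étale ⇒ `f` étale.
* `exists_opens_etale`: `g` étale, `g ≫ f` étale ⇒ `f` is étale on the (open) image of `g`.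
* `etale_of_forall_comp`: jointly surjective étale family.
-/

set_option autoImplicit false
open CategoryTheory CategoryTheory.Limits AlgebraicGeometry Opposite
universe u

namespace Groth.Agent.Lib.Helper89.EtaleSource

set_option backward.isDefEq.respectTransparency.types false in
/-- If `g : X' ⟶ X` is étale surjective and `g ≫ f` is étale, then the diagonal of `f` is an open
immersion. -/
theorem isOpenImmersion_diagonal_of_etale_comp {X' X Y : Scheme.{u}} (g : X' ⟶ X) (f : X ⟶ Y)
    [Etale g] [Surjective g] [Etale (g ≫ f)] : IsOpenImmersion (pullback.diagonal f) := by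
  have sq := pullback_map_diagonal_isPullback g g f
  set m₁ := pullback.map g g (g ≫ f) (g ≫ f) (𝟙 _) (𝟙 _) f (Category.id_comp _).symm
    (Category.id_comp _).symm with hm₁
  set G := pullback.map (g ≫ f) (g ≫ f) f f g g (𝟙 _) (Category.comp_id _) (Category.comp_id _)
    with hG
  -- m₁ is an open immersion
  have hmono : Mono m₁ := by
    have : Mono (pullback.diagonal f) := inferInstance
    exact (MorphismProperty.monomorphisms Scheme.{u}).of_isPullback sq this
  have hcomp : m₁ ≫ pullback.fst (g ≫ f) (g ≫ f) = pullback.fst g g := by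
    rw [hm₁, pullback.lift_fst, Category.comp_id]
  have : Etale (m₁ ≫ pullback.fst (g ≫ f) (g ≫ f)) := by rw [hcomp]; infer_instance
  have hm₁et : Etale m₁ := Etale.of_comp m₁ (pullback.fst (g ≫ f) (g ≫ f))
  have hm₁oi : IsOpenImmersion m₁ := IsOpenImmersion.of_flat_of_mono m₁
  -- G is an fppf cover
  have hGQ : (@Surjective ⊓ @Flat ⊓ @LocallyOfFinitePresentation : MorphismProperty Scheme.{u}) G := by
    have hg : (@Surjective ⊓ @Flat ⊓ @LocallyOfFinitePresentation : MorphismProperty Scheme.{u}) g :=
      ⟨⟨inferInstance, inferInstance⟩, inferInstance⟩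
    exact MorphismProperty.pullbackMap hg hg rfl rfl
  exact MorphismProperty.of_isPullback_of_descendsAlong
    (P := @IsOpenImmersion) (Q := @Surjective ⊓ @Flat ⊓ @LocallyOfFinitePresentation)
    sq.flip hGQ hm₁oi

/-- If `g : X' ⟶ X` is étale surjective and `g ≫ f` is étale, then `f` is étale. -/
theorem etale_of_etale_surjective_comp {X' X Y : Scheme.{u}} (g : X' ⟶ X) (f : X ⟶ Y)
    [Etale g] [Surjective g] [Etale (g ≫ f)] : Etale f := by
  have h1 : Flat f := Groth.Agent.S1128.result g f
  have h2 : LocallyOfFinitePresentation f := Groth.Agent.S0114.result g f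
  have h3 : IsOpenImmersion (pullback.diagonal f) := isOpenImmersion_diagonal_of_etale_comp g f
  have h4 : FormallyUnramified f := inferInstance
  exact Etale.of_formallyUnramified_of_flat f

/-- If `g : X' ⟶ X` is étale and `g ≫ f` is étale, then `f` is étale on the open image of `g`. -/
theorem exists_opens_etale {X' X Y : Scheme.{u}} (g : X' ⟶ X) (f : X ⟶ Y)
    [Etale g] [Etale (g ≫ f)] :
    ∃ V : X.Opens, (V : Set X) = Set.range g.base ∧ Etale (V.ι ≫ f) := by
  let V : X.Opens := ⟨Set.range g.base, g.isOpenMap.isOpen_range⟩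
  let g' : X' ⟶ V.toScheme := IsOpenImmersion.lift V.ι g (by simp [V])
  have hg' : g' ≫ V.ι = g := IsOpenImmersion.lift_fac _ _ _
  have : Etale (g' ≫ V.ι) := by rw [hg']; infer_instance
  have : Etale g' := Etale.of_comp g' V.ι
  have : Surjective g' := ⟨fun ⟨x, ⟨y, hy⟩⟩ ↦
    ⟨y, by apply V.ι.injective; simp [← Scheme.Hom.comp_apply, g', hy]⟩⟩
  have : Etale (g' ≫ V.ι ≫ f) := by rw [← Category.assoc, hg']; infer_instance
  exact ⟨V, rfl, etale_of_etale_surjective_comp g' (V.ι ≫ f)⟩

set_option backward.isDefEq.respectTransparency.types false in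
/-- Étale is local on the source for jointly surjective étale families. -/
theorem etale_of_forall_comp {ι : Type*} {X Y : Scheme.{u}} {X' : ι → Scheme.{u}}
    (g : ∀ i, X' i ⟶ X) (f : X ⟶ Y) (hg : ∀ i, Etale (g i))
    (hsurj : ∀ x : X, ∃ i, x ∈ Set.range (g i).base) (h : ∀ i, Etale (g i ≫ f)) : Etale f := by
  have H : ∀ i, ∃ V : X.Opens, (V : Set X) = Set.range (g i).base ∧ Etale (V.ι ≫ f) := fun i ↦
    have := hg i
    have := h i
    exists_opens_etale (g i) f
  choose V hV hVet using H
  refine IsZariskiLocalAtSource.of_iSup_eq_top (P := @Etale) V ?_ hVet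
  rw [eq_top_iff]
  intro x _
  obtain ⟨i, hi⟩ := hsurj x
  exact TopologicalSpace.Opens.mem_iSup.mpr ⟨i, by
    show x ∈ (V i : Set X)
    rw [hV i]; exact hi⟩

set_option backward.isDefEq.respectTransparency.types false in
/-- Étale is étale-local on the source. -/
theorem isLocalAtSource_etale :
    MorphismProperty.IsLocalAtSource (@Etale : MorphismProperty Scheme.{u})
      Scheme.etalePrecoverage := by
  refine MorphismProperty.IsLocalAtSource.mk_of_iff_of_zeroHypercover fun {X Y} f 𝒰 ↦ ?_
  have hmem' : Presieve.ofArrows 𝒰.X 𝒰.f ∈ Scheme.precoverage @Etale X := 𝒰.mem₀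
  rw [Scheme.ofArrows_mem_precoverage_iff] at hmem'
  obtain ⟨hsurj, het⟩ := hmem'
  constructor
  · intro hf i
    have := het i
    have : Etale f := hf
    exact (inferInstance : Etale (𝒰.f i ≫ f))
  · intro h
    exact etale_of_forall_comp 𝒰.f f het hsurj h

end Groth.Agent.Lib.Helper89.EtaleSource
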