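import Groth.Agent.Lib.Helper89.SchFinBC
import Groth.Prelude.Def_SchFin2
import Mathlib.RingTheory.Flat.Equalizer
import Mathlib.RingTheory.Etale.Basic
import Mathlib.RingTheory.Smooth.Flat
import Mathlib.RingTheory.Flat.EquationalCriterion
import Mathlib.RingTheory.Finiteness.ModuleFinitePresentation
import Mathlib.RingTheory.Ideal.IdempotentFG
import Mathlib.RingTheory.Localization.Away.Lemmas
import Mathlib.RingTheory.Idempotents

/-!
# Basic constructions in the category of étale covers of a finite ringed poset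

* pure algebra: the kernel of a map of finite étale algebras is generated by an idempotent
* `IsBCAlong` for quotients, flat base change of kernels
* compatible families of idempotents `IdemFam`, the quotient `quotAlg`, `quotFEt`
* the kernel idempotents `kerIdem` of a morphism of étale covers
-/

set_option autoImplicit false

open TensorProduct CategoryTheory

namespace Groth.Agent.Lib.Helper89.FEtBasic

open _root_.SchFin Groth.Agent.Lib.Helper89.SchFinBC

universe u

/-! ### Pure algebra -/

/-- the annihilator of a finite projective module is generated by an idempotent -/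
theorem exists_idem_annihilator (A P : Type*) [CommRing A] [AddCommGroup P] [Module A P]
    [Module.Finite A P] [Module.Projective A P] :
    ∃ e : A, IsIdempotentElem e ∧ ∀ a : A, (∀ x : P, a • x = 0) ↔ a ∈ Ideal.span {e} := by
  classical
  obtain ⟨n, f, g, _, _, hfg⟩ := Module.Finite.exists_comp_eq_id_of_projective A P
  let E : Fin n → Fin n → A := fun i j => g (f (Pi.single j 1)) i
  let J : Ideal A := Ideal.span (Set.range (fun ij : Fin n × Fin n => E ij.1 ij.2))
  have hfg' : ∀ x, f (g x) = x := fun x => congrArg (fun φ => φ x) hfg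
  have hexp : ∀ v : Fin n → A, f v = ∑ k, v k • f (Pi.single k 1) := by
    intro v
    conv_lhs => rw [← Finset.univ_sum_single v]
    rw [map_sum]
    refine Finset.sum_congr rfl fun k _ => ?_
    rw [← map_smul]
    congr 1
    ext i
    by_cases h : i = k
    · subst h; simp
    · simp [Pi.single_eq_of_ne h]
  have hE : ∀ j, f (Pi.single j 1) = ∑ k, E k j • f (Pi.single k 1) := by
    intro j
    conv_lhs => rw [← hfg' (f (Pi.single j 1))]
    rw [hexp]
  have hJfg : J.FG := by
    refine ⟨Finset.univ.image (fun ij : Fin n × Fin n => E ij.1 ij.2), ?_⟩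
    simp [J]
  have hEJ : ∀ i j, E i j ∈ J := fun i j => Ideal.subset_span ⟨(i, j), rfl⟩
  have hJJ : IsIdempotentElem J := by
    apply le_antisymm
    · exact Ideal.mul_le_right
    · rw [Ideal.span_le]
      rintro _ ⟨⟨i, j⟩, rfl⟩
      have : E i j = ∑ k, E k j * E i k := by
        change g (f (Pi.single j 1)) i = _
        rw [hE j, map_sum, Finset.sum_apply]
        refine Finset.sum_congr rfl fun k _ => ?_
        rw [map_smul]
        rfl
      change E i j ∈ J * J
      rw [this]
      exact Ideal.sum_mem _ fun k _ => Ideal.mul_mem_mul (hEJ k j) (hEJ i k)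
  obtain ⟨ε, hε, hJε⟩ := (Ideal.isIdempotentElem_iff_of_fg J hJfg).mp hJJ
  refine ⟨1 - ε, hε.one_sub, fun a => ⟨fun ha => ?_, fun ha x => ?_⟩⟩
  · have h1 : ∀ i j, a * E i j = 0 := by
      intro i j
      have := ha (f (Pi.single j 1))
      have h2 := congrArg (fun v => g v i) this
      simpa [E] using h2
    have h2 : ∀ y ∈ J, a * y = 0 := by
      intro y hy
      refine Submodule.span_induction (p := fun y _ => a * y = 0) ?_ ?_ ?_ ?_ hy
      · rintro _ ⟨⟨i, j⟩, rfl⟩; exact h1 i j
      · simp
      · intro x y _ _ hx hy; rw [mul_add, hx, hy, add_zero]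
      · intro c x _ hx; rw [smul_eq_mul, mul_left_comm, hx, mul_zero]
    have h3 : a * ε = 0 := h2 ε (by rw [hJε]; exact Ideal.subset_span rfl)
    rw [Ideal.mem_span_singleton]
    exact ⟨a, by rw [mul_comm, mul_sub, mul_one, h3, sub_zero]⟩
  · obtain ⟨c, rfl⟩ := Ideal.mem_span_singleton.mp ha
    have h1 : ∀ y ∈ J, (1 - ε) * y = 0 := by
      intro y hy
      rw [hJε] at hy
      obtain ⟨d, rfl⟩ := Ideal.mem_span_singleton.mp hy
      have := hε.eq
      linear_combination (-d) * this
    have h2 : ∀ j, (1 - ε) • f (Pi.single j 1) = 0 := by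
      intro j
      rw [hE j, Finset.smul_sum]
      refine Finset.sum_eq_zero fun k _ => ?_
      rw [smul_smul, h1 _ (hEJ k j), zero_smul]
    rw [← hfg' x, hexp, Finset.smul_sum]
    refine Finset.sum_eq_zero fun k _ => ?_
    rw [smul_comm, mul_comm, mul_smul, h2, smul_zero, smul_zero]

/-- a map of finite étale algebras makes the target finite projective over the source -/
theorem projective_of_etale {R A B : Type u} [CommRing R] [CommRing A] [CommRing B]
    [Algebra R A] [Algebra R B] [Algebra.Etale R A] [Algebra.Etale R B]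
    [Module.Finite R B] [Algebra A B] [IsScalarTower R A B] :
    Module.Finite A B ∧ Module.Projective A B ∧ Algebra.Etale A B := by
  have h1 : Algebra.Etale A B := Algebra.Etale.of_restrictScalars R A B
  have h2 : Module.Finite A B := Module.Finite.of_restrictScalars_finite R A B
  have h3 : Module.FinitePresentation A B :=
    Module.FinitePresentation.of_finite_of_finitePresentation A B
  exact ⟨h2, Module.Flat.projective_of_finitePresentation, h1⟩

/-- the kernel of a map of finite étale algebras is generated by an idempotent -/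
theorem exists_idem_ker {R A B : Type u} [CommRing R] [CommRing A] [CommRing B]
    [Algebra R A] [Algebra R B] [Algebra.Etale R A] [Algebra.Etale R B]
    [Module.Finite R B] (f : A →ₐ[R] B) :
    ∃ e : A, IsIdempotentElem e ∧ RingHom.ker f.toRingHom = Ideal.span {e} := by
  let _ : Algebra A B := f.toRingHom.toAlgebra
  have : IsScalarTower R A B := IsScalarTower.of_algebraMap_eq fun r => (f.commutes r).symm
  obtain ⟨h2, h3, -⟩ := projective_of_etale (R := R) (A := A) (B := B)
  obtain ⟨e, he, hker⟩ := exists_idem_annihilator A B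
  refine ⟨e, he, ?_⟩
  ext a
  rw [← hker a, RingHom.mem_ker]
  constructor
  · intro ha x
    rw [Algebra.smul_def]
    change f a * x = 0
    change f a = 0 at ha
    rw [ha, zero_mul]
  · intro ha
    have := ha 1
    rw [Algebra.smul_def, mul_one] at this
    exact this

/-- idempotent generators of an ideal are unique -/
theorem idem_unique {A : Type*} [CommRing A] {e e' : A} (he : IsIdempotentElem e)
    (he' : IsIdempotentElem e') (h : e ∈ Ideal.span {e'}) (h' : e' ∈ Ideal.span {e}) : e = e' := by
  obtain ⟨a, ha⟩ := Ideal.mem_span_singleton.mp h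
  obtain ⟨b, hb⟩ := Ideal.mem_span_singleton.mp h'
  have h1 : e * e' = e := by
    rw [ha]; have := he'.eq; linear_combination a * this
  have h2 : e' * e = e' := by
    rw [hb]; have := he.eq; linear_combination b * this
  rw [← h1, mul_comm, h2]

/-! ### Base change lemmas -/

/-- `IsBCAlong` as bijectivity of a canonical map -/
theorem isBCAlong_iff_bijective {R S : Type u} [CommRing R] [CommRing S] (g : R →+* S)
    {M N : Type u} [AddCommGroup M] [AddCommGroup N] [Module R M] [Module S N] (f : M →ₛₗ[g] N) :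
    IsBCAlong g f ↔
    (letI : Algebra R S := g.toAlgebra
     ∃ Φ : S ⊗[R] M →+ N, (∀ s m, Φ (s ⊗ₜ m) = s • f m) ∧ Function.Bijective Φ) := by
  let alg : Algebra R S := g.toAlgebra
  let modN : Module R N := Module.compHom N g
  have tower : IsScalarTower R S N := IsScalarTower.of_algebraMap_smul fun _ _ => rfl
  let fL : M →ₗ[R] N := { toFun := f, map_add' := f.map_add, map_smul' := f.map_smulₛₗ }
  constructor
  · intro h
    have h' : IsBaseChange S fL := h
    exact ⟨h'.equiv.toLinearMap.toAddMonoidHom, fun s m => h'.equiv_tmul s m, h'.equiv.bijective⟩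
  · rintro ⟨Φ, hΦ, hb⟩
    have h : IsBaseChange S fL := isBaseChange_of_bijective fL Φ hΦ hb
    exact h

/-- the image of a base change spans -/
theorem span_range_eq_top_of_isBCAlong {R S : Type u} [CommRing R] [CommRing S] (g : R →+* S)
    {M N : Type u} [AddCommGroup M] [AddCommGroup N] [Module R M] [Module S N] (f : M →ₛₗ[g] N)
    (hf : IsBCAlong g f) : Submodule.span S (Set.range f) = ⊤ := by
  rw [isBCAlong_iff_bijective] at hf
  let alg : Algebra R S := g.toAlgebra
  obtain ⟨Φ, hΦ, hΦb⟩ := hf
  rw [eq_top_iff]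
  rintro n -
  obtain ⟨t, rfl⟩ := hΦb.2 n
  induction t using TensorProduct.induction_on with
  | zero => rw [map_zero]; exact Submodule.zero_mem _
  | tmul s m => rw [hΦ]; exact Submodule.smul_mem _ _ (Submodule.subset_span ⟨m, rfl⟩)
  | add x y hx hy => rw [map_add]; exact Submodule.add_mem _ hx hy

/-- quotients of base changes are base changes -/
theorem isBCAlong_of_quot {R S : Type u} [CommRing R] [CommRing S] (g : R →+* S)
    {M N : Type u} [AddCommGroup M] [AddCommGroup N] [Module R M] [Module S N] (f : M →ₛₗ[g] N)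
    (hf : IsBCAlong g f)
    {QM QN : Type u} [AddCommGroup QM] [AddCommGroup QN] [Module R QM] [Module S QN]
    (πM : M →ₗ[R] QM) (πN : N →ₗ[S] QN) (hπM : Function.Surjective πM)
    (hπN : Function.Surjective πN) (fbar : QM →ₛₗ[g] QN) (hfbar : ∀ m, fbar (πM m) = πN (f m))
    (hker : ∀ n, πN n = 0 → n ∈ Submodule.span S (f '' {m | πM m = 0})) : IsBCAlong g fbar := by
  rw [isBCAlong_iff_bijective] at hf ⊢
  let alg : Algebra R S := g.toAlgebra
  obtain ⟨Φ, hΦ, hΦb⟩ := hf
  let modN : Module R QN := Module.compHom QN g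
  have tower : IsScalarTower R S QN := IsScalarTower.of_algebraMap_smul fun _ _ => rfl
  let fbL : QM →ₗ[R] QN :=
    { toFun := fbar, map_add' := fbar.map_add, map_smul' := fbar.map_smulₛₗ }
  let Ψ : S ⊗[R] QM →ₗ[S] QN := LinearMap.liftBaseChange S fbL
  have hΨ : ∀ s m, Ψ (s ⊗ₜ m) = s • fbar m := fun s m => LinearMap.liftBaseChange_tmul _ _ _ _
  let P : S ⊗[R] M →ₗ[S] S ⊗[R] QM := LinearMap.baseChange S πM
  have hP : ∀ s m, P (s ⊗ₜ m) = s ⊗ₜ πM m := fun s m => LinearMap.baseChange_tmul _ _ _
  have hPsurj : Function.Surjective P := by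
    rw [LinearMap.baseChange_eq_ltensor]
    exact LinearMap.lTensor_surjective S hπM
  have hΦsmul : ∀ (s : S) t, Φ (s • t) = s • Φ t := by
    intro s t
    induction t using TensorProduct.induction_on with
    | zero => rw [smul_zero, map_zero, smul_zero]
    | tmul s' m => rw [TensorProduct.smul_tmul', hΦ, hΦ, smul_eq_mul, mul_smul]
    | add x y hx hy => rw [smul_add, map_add, map_add, hx, hy, smul_add]
  have hsq : ∀ t, Ψ (P t) = πN (Φ t) := by
    intro t
    induction t using TensorProduct.induction_on with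
    | zero => rw [map_zero, map_zero, map_zero, map_zero]
    | tmul s m => rw [hP, hΨ, hΦ, hfbar, map_smul]
    | add x y hx hy => rw [map_add, map_add, map_add, map_add, hx, hy]
  refine ⟨Ψ.toAddMonoidHom, hΨ, ?_, ?_⟩
  · rw [injective_iff_map_eq_zero]
    intro tb htb
    change Ψ tb = 0 at htb
    obtain ⟨t, rfl⟩ := hPsurj tb
    rw [hsq] at htb
    have key : ∀ n ∈ Submodule.span S (f '' {m | πM m = 0}), ∃ t', Φ t' = n ∧ P t' = 0 := by
      intro n hn
      refine Submodule.span_induction (p := fun n _ => ∃ t', Φ t' = n ∧ P t' = 0) ?_ ?_ ?_ ?_ hn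
      · rintro _ ⟨m, hm, rfl⟩
        refine ⟨1 ⊗ₜ m, by rw [hΦ, one_smul], ?_⟩
        rw [hP, show πM m = 0 from hm, tmul_zero]
      · exact ⟨0, map_zero _, map_zero _⟩
      · rintro x y _ _ ⟨t1, h1, h1'⟩ ⟨t2, h2, h2'⟩
        exact ⟨t1 + t2, by rw [map_add, h1, h2], by rw [map_add, h1', h2', add_zero]⟩
      · rintro s x _ ⟨t1, h1, h1'⟩
        exact ⟨s • t1, by rw [hΦsmul, h1], by rw [map_smul, h1', smul_zero]⟩
    obtain ⟨t', ht', ht'0⟩ := key _ (hker _ htb)
    have : t = t' := hΦb.1 ht'.symm
    rw [this, ht'0]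
  · intro nb
    obtain ⟨n, rfl⟩ := hπN nb
    obtain ⟨t, rfl⟩ := hΦb.2 n
    exact ⟨P t, hsq t⟩

/-- flat base change of kernels -/
theorem mem_span_of_flat_ker {R S : Type u} [CommRing R] [CommRing S] (g : R →+* S) (hg : g.Flat)
    {M N M' N' : Type u} [AddCommGroup M] [AddCommGroup N] [Module R M] [Module S N]
    [AddCommGroup M'] [AddCommGroup N'] [Module R M'] [Module S N']
    (fA : M →ₛₗ[g] N) (hA : IsBCAlong g fA) (fB : M' →ₛₗ[g] N') (hB : IsBCAlong g fB)
    (φ : M →ₗ[R] M') (ψ : N →ₗ[S] N') (hcomm : ∀ m, ψ (fA m) = fB (φ m)) (x : N) (hx : ψ x = 0) :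
    x ∈ Submodule.span S (fA '' {m | φ m = 0}) := by
  rw [isBCAlong_iff_bijective] at hA hB
  let alg : Algebra R S := g.toAlgebra
  have flat : Module.Flat R S := hg
  obtain ⟨ΦA, hΦA, hΦAb⟩ := hA
  obtain ⟨ΦB, hΦB, hΦBb⟩ := hB
  obtain ⟨t, rfl⟩ := hΦAb.2 x
  have hsq : ∀ t, ΦB (TensorProduct.AlgebraTensorModule.lTensor S S φ t) = ψ (ΦA t) := by
    intro t
    induction t using TensorProduct.induction_on with
    | zero => rw [map_zero, map_zero, map_zero, map_zero]
    | tmul s m =>
      rw [TensorProduct.AlgebraTensorModule.lTensor_tmul, hΦB, hΦA, map_smul, hcomm]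
    | add x y hx hy => rw [map_add, map_add, map_add, map_add, hx, hy]
  have h0 : TensorProduct.AlgebraTensorModule.lTensor S S φ t = 0 := by
    apply hΦBb.1
    rw [hsq, hx, map_zero]
  have key : ∀ t' : S ⊗[R] (LinearMap.ker φ),
      ΦA (TensorProduct.AlgebraTensorModule.lTensor S S (LinearMap.ker φ).subtype t') ∈
        Submodule.span S (fA '' {m | φ m = 0}) := by
    intro t'
    induction t' using TensorProduct.induction_on with
    | zero => rw [map_zero, map_zero]; exact Submodule.zero_mem _
    | tmul s k =>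
      rw [TensorProduct.AlgebraTensorModule.lTensor_tmul, hΦA]
      exact Submodule.smul_mem _ _ (Submodule.subset_span ⟨k.1, k.2, rfl⟩)
    | add x y hx' hy' =>
      rw [map_add, map_add]
      exact Submodule.add_mem _ hx' hy'
  have h1 : t ∈ LinearMap.ker (TensorProduct.AlgebraTensorModule.lTensor S S φ) := h0
  rw [Module.Flat.ker_lTensor_eq] at h1
  obtain ⟨t', rfl⟩ := h1
  exact key t'

/-! ### Families of idempotents and quotients -/

variable {X : RSpace.{u}}

/-- a compatible family of idempotents of an algebra (an idempotent global section) -/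
structure IdemFam (A : Alg X) where
  /-- the idempotent at a point -/
  e : ∀ p, A.carrier p
  idem : ∀ p, IsIdempotentElem (e p)
  compat : ∀ {p q : X.pt} (h : p ≤ q), A.res h (e p) = e q

/-- the complementary family -/
def IdemFam.compl {A : Alg X} (E : IdemFam A) : IdemFam A where
  e p := 1 - E.e p
  idem p := (E.idem p).one_sub
  compat h := by rw [map_sub, map_one, E.compat h]

lemma IdemFam.span_le_comap {A : Alg X} (E : IdemFam A) {p q : X.pt} (h : p ≤ q) :
    Ideal.span {E.e p} ≤ Ideal.comap (A.res h) (Ideal.span {E.e q}) := by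
  rw [Ideal.span_le]
  rintro _ rfl
  change A.res h (E.e p) ∈ Ideal.span {E.e q}
  rw [E.compat h]
  exact Ideal.subset_span rfl

/-- the quotient of an algebra by a compatible family of idempotents -/
def quotAlg (A : Alg X) (E : IdemFam A) : Alg X where
  carrier p := A.carrier p ⧸ Ideal.span {E.e p}
  res {p q} h := Ideal.quotientMap (Ideal.span {E.e q}) (A.res h) (E.span_le_comap h)
  res_algebraMap {p q} h a := by
    change Ideal.quotientMap _ _ _ (Ideal.Quotient.mk _ (algebraMap _ _ a)) =
      Ideal.Quotient.mk _ (algebraMap _ _ _)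
    rw [Ideal.quotientMap_mk, A.res_algebraMap]
  res_self p b := by
    obtain ⟨b, rfl⟩ := Ideal.Quotient.mk_surjective b
    rw [Ideal.quotientMap_mk, A.res_self]
  res_comp h h' b := by
    obtain ⟨b, rfl⟩ := Ideal.Quotient.mk_surjective b
    rw [Ideal.quotientMap_mk, Ideal.quotientMap_mk, Ideal.quotientMap_mk, A.res_comp]

lemma quotAlg_res_mk (A : Alg X) (E : IdemFam A) {p q : X.pt} (h : p ≤ q) (a : A.carrier p) :
    (quotAlg A E).res h (Ideal.Quotient.mk _ a) = Ideal.Quotient.mk _ (A.res h a) := rfl

theorem quotAlg_isEtCover (A : Alg X) (E : IdemFam A) (hA : A.IsEtCover) :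
    (quotAlg A E).IsEtCover := by
  refine ⟨?_, fun p => ⟨?_, ?_⟩⟩
  · intro p q h
    let fM : A.carrier p →ₛₗ[X.res h] A.carrier q := A.toMod.res h
    have hfM : ∀ a, fM a = A.res h a := fun _ => rfl
    have hAq : IsBCAlong (X.res h) fM := hA.1 p q h
    let fbar : (A.carrier p ⧸ Ideal.span {E.e p}) →ₛₗ[X.res h] (A.carrier q ⧸ Ideal.span {E.e q}) :=
      (quotAlg A E).toMod.res h
    change IsBCAlong (X.res h) fbar
    refine isBCAlong_of_quot (X.res h) fM hAq
      (Ideal.Quotient.mkₐ (X.ring p) (Ideal.span {E.e p})).toLinearMap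
      (Ideal.Quotient.mkₐ (X.ring q) (Ideal.span {E.e q})).toLinearMap
      Ideal.Quotient.mk_surjective Ideal.Quotient.mk_surjective
      fbar (fun m => rfl) ?_
    intro n hn
    have hn' : n ∈ Ideal.span {E.e q} := Ideal.Quotient.eq_zero_iff_mem.mp hn
    obtain ⟨c, rfl⟩ := Ideal.mem_span_singleton'.mp hn'
    have hc : c ∈ Submodule.span (X.ring q) (Set.range fM) := by
      rw [span_range_eq_top_of_isBCAlong _ _ hAq]; trivial
    refine Submodule.span_induction
      (p := fun c _ => c * E.e q ∈ Submodule.span (X.ring q)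
        (fM '' {m | (Ideal.Quotient.mkₐ (X.ring p) (Ideal.span {E.e p})).toLinearMap m = 0}))
      ?_ ?_ ?_ ?_ hc
    · rintro _ ⟨a, rfl⟩
      refine Submodule.subset_span ⟨a * E.e p, ?_, ?_⟩
      · exact Ideal.Quotient.eq_zero_iff_mem.mpr (Ideal.mul_mem_left _ _ (Ideal.subset_span rfl))
      · rw [hfM, hfM, map_mul, E.compat h]
    · rw [zero_mul]; exact Submodule.zero_mem _
    · intro x y _ _ hx hy; rw [add_mul]; exact Submodule.add_mem _ hx hy
    · intro s x _ hx; rw [smul_mul_assoc]; exact Submodule.smul_mem _ _ hx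
  · have := (hA.2 p).1
    exact (inferInstance : Module.Finite (X.ring p) (A.carrier p ⧸ Ideal.span {E.e p}))
  · have := (hA.2 p).2
    have h1 : IsLocalization.Away (1 - E.e p) (A.carrier p ⧸ Ideal.span {1 - (1 - E.e p)}) :=
      IsLocalization.Away.quotient_of_isIdempotentElem (E.idem p).one_sub
    rw [sub_sub_cancel] at h1
    have h2 : Algebra.Etale (A.carrier p) (A.carrier p ⧸ Ideal.span {E.e p}) :=
      Algebra.Etale.of_isLocalizationAway (1 - E.e p)
    exact Algebra.Etale.comp (X.ring p) (A.carrier p) (A.carrier p ⧸ Ideal.span {E.e p})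

/-- the quotient as an étale cover -/
def quotFEt (A : FEt X) (E : IdemFam A.obj) : FEt X :=
  ⟨quotAlg A.obj E, quotAlg_isEtCover A.obj E A.property⟩

/-- the projection to the quotient -/
def quotProj (A : FEt X) (E : IdemFam A.obj) : A ⟶ quotFEt A E :=
  ObjectProperty.homMk
    (⟨fun p => Ideal.Quotient.mkₐ (X.ring p) (Ideal.span {E.e p}), fun _ _ => rfl⟩ :
      Alg.Hom A.obj (quotAlg A.obj E))

lemma quotProj_surjective (A : FEt X) (E : IdemFam A.obj) (p : X.pt) :
    Function.Surjective ((quotProj A E).hom.app p) := Ideal.Quotient.mk_surjective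

lemma quotProj_apply (A : FEt X) (E : IdemFam A.obj) (p : X.pt) (a : A.obj.carrier p) :
    (quotProj A E).hom.app p a = Ideal.Quotient.mk _ a := rfl

lemma quotProj_eq_zero_iff (A : FEt X) (E : IdemFam A.obj) (p : X.pt) (a : A.obj.carrier p) :
    (quotProj A E).hom.app p a = 0 ↔ a ∈ Ideal.span {E.e p} :=
  Ideal.Quotient.eq_zero_iff_mem

/-- the induced map out of the quotient -/
def quotLift {A B : FEt X} (E : IdemFam A.obj) (f : A ⟶ B) (hf : ∀ p, f.hom.app p (E.e p) = 0) :
    quotFEt A E ⟶ B :=
  ObjectProperty.homMk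
    (⟨fun p => Ideal.Quotient.liftₐ (Ideal.span {E.e p}) (f.hom.app p) (by
        intro a ha
        obtain ⟨c, rfl⟩ := Ideal.mem_span_singleton'.mp ha
        rw [map_mul, hf, mul_zero]), fun {p q} h b => by
      obtain ⟨b, rfl⟩ := Ideal.Quotient.mk_surjective b
      exact f.hom.compat h b⟩ : Alg.Hom (quotAlg A.obj E) B.obj)

lemma quotLift_mk {A B : FEt X} (E : IdemFam A.obj) (f : A ⟶ B)
    (hf : ∀ p, f.hom.app p (E.e p) = 0) (p : X.pt) (a : A.obj.carrier p) :
    (quotLift E f hf).hom.app p (Ideal.Quotient.mk _ a) = f.hom.app p a := rfl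

lemma quotProj_quotLift {A B : FEt X} (E : IdemFam A.obj) (f : A ⟶ B)
    (hf : ∀ p, f.hom.app p (E.e p) = 0) : quotProj A E ≫ quotLift E f hf = f := by
  apply ObjectProperty.hom_ext
  apply Alg.hom_ext
  intro p
  rfl

/-! ### Kernel idempotents -/

open Groth.Agent.Lib.Helper89.SchFinLib in
/-- the kernels of a morphism of étale covers are generated by a compatible family of
idempotents -/
theorem exists_kerIdem (hX : X.IsSchematic) {A B : FEt X} (f : A ⟶ B) :
    ∃ E : IdemFam A.obj, ∀ p, RingHom.ker (f.hom.app p).toRingHom = Ideal.span {E.e p} := by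
  have hex : ∀ p, ∃ e : A.obj.carrier p, IsIdempotentElem e ∧
      RingHom.ker (f.hom.app p).toRingHom = Ideal.span {e} := by
    intro p
    have := (A.property.2 p).2
    have := (B.property.2 p).2
    have := (B.property.2 p).1
    exact exists_idem_ker (f.hom.app p)
  choose e he hker using hex
  have hmem : ∀ p (a : A.obj.carrier p), f.hom.app p a = 0 ↔ a ∈ Ideal.span {e p} := by
    intro p a
    rw [← hker p]
    exact Iff.rfl
  refine ⟨⟨e, he, ?_⟩, hker⟩
  intro p q h
  have h1 : IsIdempotentElem (A.obj.res h (e p)) := (he p).map (A.obj.res h)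
  apply idem_unique h1 (he q)
  · rw [← hmem, ← f.hom.compat h, (hmem p (e p)).mpr (Ideal.subset_span rfl), map_zero]
  · let fA : A.obj.carrier p →ₛₗ[X.res h] A.obj.carrier q := A.obj.toMod.res h
    let fB : B.obj.carrier p →ₛₗ[X.res h] B.obj.carrier q := B.obj.toMod.res h
    have hfA : ∀ a, fA a = A.obj.res h a := fun _ => rfl
    have h2 := mem_span_of_flat_ker (X.res h) (hX.1.2 p q h) fA (A.property.1 p q h) fB
      (B.property.1 p q h) (f.hom.app p).toLinearMap (f.hom.app q).toLinearMap
      (fun m => (f.hom.compat h m).symm) (e q) ((hmem q (e q)).mpr (Ideal.subset_span rfl))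
    have h3 : Submodule.span (X.ring q) (fA '' {m | (f.hom.app p).toLinearMap m = 0}) ≤
        (Ideal.span {A.obj.res h (e p)}).restrictScalars (X.ring q) := by
      rw [Submodule.span_le]
      rintro _ ⟨m, hm, rfl⟩
      have hm' : m ∈ Ideal.span {e p} := (hmem p m).mp hm
      obtain ⟨c, rfl⟩ := Ideal.mem_span_singleton'.mp hm'
      change fA (c * e p) ∈ Ideal.span {A.obj.res h (e p)}
      rw [hfA, map_mul]
      exact Ideal.mul_mem_left _ _ (Ideal.subset_span rfl)
    exact h3 h2

end Groth.Agent.Lib.Helper89.FEtBasic
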