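import Mathlib

/-!
# Connected components of spectral spaces

* `connectedComponent_eq_iInter_isClopen_of_spectral`: in a quasi-compact quasi-separated prespectral
  space, connected components are intersections of clopen sets.
* `isHomeomorph_connectedComponentsMap`: a continuous map inducing a bijection on clopen subsets
  induces a homeomorphism on spaces of connected components.
-/

set_option autoImplicit false
set_option linter.style.haveILetI false
open Set Topology TopologicalSpace

namespace Groth.Agent.Lib.Helper89.SpectralPi0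

variable {X Y : Type*} [TopologicalSpace X] [TopologicalSpace Y]

/-- The quasi-component property. -/
def QC (X : Type*) [TopologicalSpace X] : Prop :=
  ∀ x : X, connectedComponent x = ⋂ s : { s : Set X // IsClopen s ∧ x ∈ s }, (s : Set X)

/-- A closed set disjoint from a closed set `b` in a compact prespectral space is contained in a
compact open set disjoint from `b`. -/
lemma exists_compact_open_of_disjoint [CompactSpace X] [PrespectralSpace X] {a b : Set X}
    (ha : IsClosed a) (hb : IsClosed b) (hab : Disjoint a b) :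
    ∃ u : Set X, IsOpen u ∧ IsCompact u ∧ a ⊆ u ∧ Disjoint u b := by
  have hbasis := PrespectralSpace.isTopologicalBasis (X := X)
  have h1 : ∀ p : a, ∃ U : Set X, (IsOpen U ∧ IsCompact U) ∧ (p : X) ∈ U ∧ U ⊆ bᶜ := by
    intro p
    have hp : (p : X) ∈ bᶜ := fun hpb => (Set.disjoint_left.mp hab) p.2 hpb
    obtain ⟨U, hU, hpU, hUb⟩ := hbasis.exists_subset_of_mem_open hp hb.isOpen_compl
    exact ⟨U, hU, hpU, hUb⟩
  choose U hU hpU hUb using h1
  obtain ⟨t, ht⟩ := ha.isCompact.elim_finite_subcover (fun p : a => U p) (fun p => (hU p).1)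
    (fun x hx => Set.mem_iUnion.mpr ⟨⟨x, hx⟩, hpU ⟨x, hx⟩⟩)
  refine ⟨⋃ p ∈ t, U p, isOpen_biUnion fun p _ => (hU p).1,
    t.isCompact_biUnion fun p _ => (hU p).2, ht, ?_⟩
  rw [Set.disjoint_left]
  intro x hx hxb
  obtain ⟨p, hp⟩ := Set.mem_iUnion.mp hx
  obtain ⟨_, hxp⟩ := Set.mem_iUnion.mp hp
  exact hUb p hxp hxb

/-- In a compact space, if the intersection of all clopen neighbourhoods of `x` misses a compact... -/
lemma exists_isClopen_disjoint [CompactSpace X] (x : X) {K : Set X} (hK : IsCompact K)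
    (h : Disjoint K (⋂ s : { s : Set X // IsClopen s ∧ x ∈ s }, (s : Set X))) :
    ∃ s : Set X, IsClopen s ∧ x ∈ s ∧ Disjoint K s := by
  have H1 := hK.inter_iInter_nonempty
    (fun s : { s : Set X // IsClopen s ∧ x ∈ s } => (s : Set X)) fun s => s.2.1.1
  rw [← not_disjoint_iff_nonempty_inter, imp_not_comm, not_forall] at H1
  obtain ⟨si, H2⟩ := H1 h
  refine ⟨⋂ U ∈ si, Subtype.val U, isClopen_biInter_finset fun s _ => s.2.1,
    mem_iInter₂.2 fun s _ => s.2.2, ?_⟩
  rwa [disjoint_iff_inter_eq_empty, ← not_nonempty_iff_eq_empty]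

theorem connectedComponent_eq_iInter_isClopen_of_spectral [CompactSpace X] [PrespectralSpace X]
    [QuasiSeparatedSpace X] : QC X := by
  intro x
  apply Subset.antisymm connectedComponent_subset_iInter_isClopen
  refine IsPreconnected.subset_connectedComponent ?_ (mem_iInter.2 fun s => s.2.2)
  have hs : IsClosed (⋂ s : { s : Set X // IsClopen s ∧ x ∈ s }, (s : Set X)) :=
    isClosed_iInter fun s => s.2.1.1
  rw [isPreconnected_iff_subset_of_fully_disjoint_closed hs]
  intro a b ha hb hab ab_disj
  set T := ⋂ s : { s : Set X // IsClopen s ∧ x ∈ s }, (s : Set X) with hT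
  obtain ⟨u, hu, huc, hau, hub⟩ := exists_compact_open_of_disjoint ha hb ab_disj
  obtain ⟨v, hv, hvc, hbv, hva⟩ := exists_compact_open_of_disjoint hb ha ab_disj.symm
  -- `u ∩ v` is compact and misses `T`
  have huv : IsCompact (u ∩ v) := QuasiSeparatedSpace.inter_isCompact u v hu huc hv hvc
  have h1 : Disjoint (u ∩ v) T := by
    rw [Set.disjoint_left]
    rintro z ⟨hzu, hzv⟩ hzT
    rcases hab hzT with hza | hzb
    · exact (Set.disjoint_left.mp hva) hzv hza
    · exact (Set.disjoint_left.mp hub) hzu hzb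
  obtain ⟨s₁, hs₁, hxs₁, hd₁⟩ := exists_isClopen_disjoint x huv h1
  have h2 : Disjoint (u ∪ v)ᶜ T := by
    rw [Set.disjoint_left]
    intro z hz hzT
    apply hz
    rcases hab hzT with hza | hzb
    · exact Or.inl (hau hza)
    · exact Or.inr (hbv hzb)
  obtain ⟨s₂, hs₂, hxs₂, hd₂⟩ :=
    exists_isClopen_disjoint x (hu.union hv).isClosed_compl.isCompact h2
  -- the clopen set `s = s₁ ∩ s₂`
  have hsub : s₁ ∩ s₂ ⊆ u ∪ v := by
    intro z hz
    by_contra hzn
    exact (Set.disjoint_left.mp hd₂) hzn hz.2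
  have hdis : ∀ z, z ∈ s₁ ∩ s₂ → z ∈ u → z ∈ v → False := fun z hz hzu hzv =>
    (Set.disjoint_left.mp hd₁) ⟨hzu, hzv⟩ hz.1
  have hsu : IsClopen (s₁ ∩ s₂ ∩ u) := by
    refine ⟨?_, (hs₁.inter hs₂).2.inter hu⟩
    have : s₁ ∩ s₂ ∩ u = s₁ ∩ s₂ ∩ vᶜ := by
      ext z
      constructor
      · rintro ⟨hz, hzu⟩; exact ⟨hz, fun hzv => hdis z hz hzu hzv⟩
      · rintro ⟨hz, hzv⟩
        rcases hsub hz with h | h
        · exact ⟨hz, h⟩
        · exact absurd h hzv
    rw [this]
    exact (hs₁.inter hs₂).1.inter hv.isClosed_compl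
  have hsv : IsClopen (s₁ ∩ s₂ ∩ v) := by
    refine ⟨?_, (hs₁.inter hs₂).2.inter hv⟩
    have : s₁ ∩ s₂ ∩ v = s₁ ∩ s₂ ∩ uᶜ := by
      ext z
      constructor
      · rintro ⟨hz, hzv⟩; exact ⟨hz, fun hzu => hdis z hz hzu hzv⟩
      · rintro ⟨hz, hzu⟩
        rcases hsub hz with h | h
        · exact absurd h hzu
        · exact ⟨hz, h⟩
    rw [this]
    exact (hs₁.inter hs₂).1.inter hu.isClosed_compl
  rcases hsub ⟨hxs₁, hxs₂⟩ with hxu | hxv
  · left
    have hTsub : T ⊆ s₁ ∩ s₂ ∩ u :=
      Set.iInter_subset (fun s : { s : Set X // IsClopen s ∧ x ∈ s } => (s : Set X))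
        ⟨s₁ ∩ s₂ ∩ u, hsu, ⟨hxs₁, hxs₂⟩, hxu⟩
    intro z hz
    rcases hab hz with hza | hzb
    · exact hza
    · exact absurd hzb (fun h => (Set.disjoint_left.mp hub) (hTsub hz).2 h)
  · right
    have hTsub : T ⊆ s₁ ∩ s₂ ∩ v :=
      Set.iInter_subset (fun s : { s : Set X // IsClopen s ∧ x ∈ s } => (s : Set X))
        ⟨s₁ ∩ s₂ ∩ v, hsv, ⟨hxs₁, hxs₂⟩, hxv⟩
    intro z hz
    rcases hab hz with hza | hzb
    · exact absurd hza (fun h => (Set.disjoint_left.mp hva) (hTsub hz).2 h)
    · exact hzb

/-- If connected components are intersections of clopens, distinct components are separated by a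
clopen set. -/
lemma exists_isClopen_of_ne (hX : QC X) {x y : X}
    (h : connectedComponent x ≠ connectedComponent y) :
    ∃ s : Set X, IsClopen s ∧ x ∈ s ∧ y ∉ s := by
  by_contra hcon
  push Not at hcon
  apply h
  have hy : y ∈ connectedComponent x := by
    rw [hX x]
    exact mem_iInter.2 fun s => hcon s.1 s.2.1 s.2.2
  exact (connectedComponent_eq hy).symm ▸ rfl

theorem t2Space_connectedComponents (hX : QC X) : T2Space (ConnectedComponents X) := by
  constructor
  intro a b hab
  obtain ⟨x, rfl⟩ := ConnectedComponents.surjective_coe a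
  obtain ⟨y, rfl⟩ := ConnectedComponents.surjective_coe b
  rw [ConnectedComponents.coe_ne_coe] at hab
  obtain ⟨s, hs, hxs, hys⟩ := exists_isClopen_of_ne hX hab
  -- images of `s` and `sᶜ`
  have hsat : ∀ s : Set X, IsClopen s →
      (ConnectedComponents.mk : X → ConnectedComponents X) ⁻¹'
        ((ConnectedComponents.mk : X → ConnectedComponents X) '' s) = s := by
    intro s hs
    rw [connectedComponents_preimage_image, hs.biUnion_connectedComponent_eq]
  have hopen : ∀ s : Set X, IsClopen s →
      IsOpen ((ConnectedComponents.mk : X → ConnectedComponents X) '' s) := by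
    intro s hs
    rw [← ConnectedComponents.isQuotientMap_coe.isOpen_preimage, hsat s hs]
    exact hs.2
  refine ⟨_, _, hopen s hs, hopen sᶜ hs.compl, ⟨x, hxs, rfl⟩, ⟨y, hys, rfl⟩, ?_⟩
  rw [Set.disjoint_left]
  rintro _ ⟨z, hz, rfl⟩ ⟨w, hw, hzw⟩
  have : z ∈ (ConnectedComponents.mk : X → ConnectedComponents X) ⁻¹'
      ((ConnectedComponents.mk : X → ConnectedComponents X) '' sᶜ) := ⟨w, hw, hzw⟩
  rw [hsat _ hs.compl] at this
  exact this hz

theorem isHomeomorph_connectedComponentsMap [CompactSpace X] (hX : QC X) (hY : QC Y)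
    {f : X → Y} (hf : Continuous f)
    (hinj : ∀ R : Set Y, IsClopen R → f ⁻¹' R = Set.univ → R = Set.univ)
    (hsurj : ∀ T : Set X, IsClopen T → ∃ S : Set Y, IsClopen S ∧ f ⁻¹' S = T) :
    IsHomeomorph hf.connectedComponentsMap := by
  haveI := t2Space_connectedComponents hY
  rw [isHomeomorph_iff_continuous_bijective]
  refine ⟨hf.connectedComponentsMap_continuous, ?_, ?_⟩
  · -- injective
    intro a b hab
    obtain ⟨x, rfl⟩ := ConnectedComponents.surjective_coe a
    obtain ⟨y, rfl⟩ := ConnectedComponents.surjective_coe b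
    by_contra hne
    rw [← ne_eq, ConnectedComponents.coe_ne_coe] at hne
    obtain ⟨T, hT, hxT, hyT⟩ := exists_isClopen_of_ne hX hne
    obtain ⟨S, hS, hST⟩ := hsurj T hT
    have h1 : (ConnectedComponents.mk (f x) : ConnectedComponents Y) =
        ConnectedComponents.mk (f y) := hab
    rw [ConnectedComponents.coe_eq_coe'] at h1
    have hfy : f y ∈ S := by
      have hfx : f x ∈ S := by
        have : x ∈ f ⁻¹' S := by rw [hST]; exact hxT
        exact this
      have hsub := hS.connectedComponent_subset hfx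
      have : connectedComponent (f x) = connectedComponent (f y) := (connectedComponent_eq h1).symm
      rw [this] at hsub
      exact hsub mem_connectedComponent
    have : y ∈ f ⁻¹' S := hfy
    rw [hST] at this
    exact hyT this
  · -- surjective
    intro b
    obtain ⟨y, rfl⟩ := ConnectedComponents.surjective_coe b
    -- the preimages of clopen neighbourhoods of `y` form a family of nonempty closed sets
    have hne : (⋂ s : { s : Set Y // IsClopen s ∧ y ∈ s }, f ⁻¹' (s : Set Y)).Nonempty := by
      by_contra hempty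
      rw [Set.not_nonempty_iff_eq_empty] at hempty
      have H1 := (isCompact_univ (X := X)).inter_iInter_nonempty
        (fun s : { s : Set Y // IsClopen s ∧ y ∈ s } => f ⁻¹' (s : Set Y))
        fun s => s.2.1.1.preimage hf
      rw [← not_disjoint_iff_nonempty_inter, imp_not_comm, not_forall] at H1
      obtain ⟨si, H2⟩ := H1 (by rw [hempty]; exact Set.disjoint_empty _)
      rw [Set.univ_inter, Set.not_nonempty_iff_eq_empty] at H2
      -- the finite intersection `R` of these clopens has empty preimage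
      have hR : IsClopen (⋂ U ∈ si, (Subtype.val U : Set Y)) :=
        isClopen_biInter_finset fun s _ => s.2.1
      have hyR : y ∈ ⋂ U ∈ si, (Subtype.val U : Set Y) := mem_iInter₂.2 fun s _ => s.2.2
      have hpre : f ⁻¹' (⋂ U ∈ si, (Subtype.val U : Set Y))ᶜ = Set.univ := by
        rw [Set.preimage_compl, Set.preimage_iInter₂, H2, Set.compl_empty]
      have := hinj _ hR.compl hpre
      have hy' : y ∈ (⋂ U ∈ si, (Subtype.val U : Set Y))ᶜ := by rw [this]; trivial
      exact hy' hyR
    obtain ⟨x, hx⟩ := hne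
    refine ⟨ConnectedComponents.mk x, ?_⟩
    change (ConnectedComponents.mk (f x) : ConnectedComponents Y) = ConnectedComponents.mk y
    rw [ConnectedComponents.coe_eq_coe', hY y]
    exact mem_iInter.2 fun s => (mem_iInter.1 hx s)

end Groth.Agent.Lib.Helper89.SpectralPi0
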