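import Groth.Agent.Lib.Helper89.FEtFF
import Groth.Agent.Lib.Helper89.SpectralPi0

/-!
# Clopen subsets and restriction of finite étale covers

If `FEt.restrict f` is full, then `f⁻¹` is injective on clopen subsets; if it is essentially
surjective, `f⁻¹` is surjective on clopen subsets.  Consequently an equivalence induces a
homeomorphism on `π₀` for quasi-compact quasi-separated schemes.
-/

set_option autoImplicit false
set_option linter.style.haveILetI false
universe u
open AlgebraicGeometry CategoryTheory CategoryTheory.Limits MorphismProperty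

namespace Groth.Agent.Lib.Helper89.FEtClopen

/-- The inclusion of a clopen subset is finite étale. -/
theorem prop_ι {Y : Scheme.{u}} (R : Y.Opens) (hR : IsClosed (R : Set Y)) : FEt.prop R.ι := by
  have h1 : IsClosedImmersion R.ι := by
    rw [IsClosedImmersion.iff_isPreimmersion]
    refine ⟨inferInstance, ?_⟩
    rw [Scheme.Opens.range_ι]
    exact hR
  exact ⟨inferInstance, inferInstance⟩

/-- The finite étale cover given by a clopen subset. -/
noncomputable def clopenObj {Y : Scheme.{u}} (R : Y.Opens) (hR : IsClosed (R : Set Y)) :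
    FEt.Cat Y :=
  MorphismProperty.Over.mk ⊤ R.ι (prop_ι R hR)

theorem eq_univ_of_full {X Y : Scheme.{u}} (f : X ⟶ Y) [(FEt.restrict f).Full]
    (R : Set Y) (hR : IsClopen R) (h : f.base ⁻¹' R = Set.univ) : R = Set.univ := by
  let R' : Y.Opens := ⟨R, hR.2⟩
  have hR' : IsClosed (R' : Set Y) := hR.1
  let A : FEt.Cat Y := clopenObj R' hR'
  let B : FEt.Cat Y := MorphismProperty.Over.mk ⊤ (𝟙 Y) ⟨inferInstance, inferInstance⟩
  -- `pullback.snd R'.ι f` is an isomorphism
  have hsurj : Surjective (pullback.snd R'.ι f) := by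
    constructor
    rw [← Set.range_eq_univ, Scheme.Pullback.range_snd, Scheme.Opens.range_ι]
    exact h
  have hiso : IsIso (pullback.snd R'.ι f) :=
    (isIso_iff_isOpenImmersion_and_surjective _).mpr ⟨inferInstance, hsurj⟩
  let j : X ⟶ pullback R'.ι f := @inv _ _ _ _ (pullback.snd R'.ι f) hiso
  have hj : j ≫ pullback.snd R'.ι f = 𝟙 X := @IsIso.inv_hom_id _ _ _ _ (pullback.snd R'.ι f) hiso
  let φ : (FEt.restrict f).obj B ⟶ (FEt.restrict f).obj A :=
    MorphismProperty.Over.homMk (pullback.snd (𝟙 Y) f ≫ j) (by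
      change (pullback.snd (𝟙 Y) f ≫ j) ≫ pullback.snd R'.ι f = pullback.snd (𝟙 Y) f
      rw [Category.assoc, hj, Category.comp_id]) trivial
  obtain ⟨s, -⟩ := (FEt.restrict f).map_surjective φ
  obtain ⟨t, ht⟩ : ∃ t : Y ⟶ (R' : Scheme.{u}), t ≫ R'.ι = 𝟙 Y := ⟨s.left, Over.w s.hom⟩
  rw [Set.eq_univ_iff_forall]
  intro y
  have h1 : (t ≫ R'.ι) y = y := by rw [ht]; rfl
  have h2 : (t ≫ R'.ι) y ∈ (R' : Set Y) := by
    rw [Scheme.Hom.comp_apply]
    exact (t y).2
  rw [h1] at h2
  exact h2

theorem exists_clopen_of_essSurj {X Y : Scheme.{u}} (f : X ⟶ Y) [(FEt.restrict f).EssSurj]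
    (T : Set X) (hT : IsClopen T) : ∃ S : Set Y, IsClopen S ∧ f.base ⁻¹' S = T := by
  let T' : X.Opens := ⟨T, hT.2⟩
  have hT' : IsClosed (T' : Set X) := hT.1
  let A : FEt.Cat X := clopenObj T' hT'
  let W : FEt.Cat Y := (FEt.restrict f).objPreimage A
  let e : (FEt.restrict f).obj W ≅ A := (FEt.restrict f).objObjPreimageIso A
  let p : W.left ⟶ Y := W.hom
  have hfin : IsFinite p := W.prop.1
  have het : Etale p := W.prop.2
  refine ⟨Set.range p.base, ⟨p.isClosedMap.isClosed_range, p.isOpenMap.isOpen_range⟩, ?_⟩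
  rw [← Scheme.Pullback.range_snd]
  let ε : pullback p f ⟶ (T' : Scheme.{u}) := e.hom.left
  have hε : IsIso ε := inferInstanceAs (IsIso e.hom.left)
  have hw : ε ≫ T'.ι = pullback.snd p f := Over.w e.hom.hom
  rw [← hw, Scheme.Hom.comp_base, TopCat.coe_comp, Set.range_comp]
  have : Set.range ε.base = Set.univ := by
    rw [Set.range_eq_univ]
    exact ε.surjective
  rw [this, Set.image_univ]
  exact Scheme.Opens.range_ι T'

open Groth.Agent.Lib.Helper89.SpectralPi0 in
theorem isHomeomorph_connectedComponentsMap_of_isEquivalence {X Y : Scheme.{u}} [CompactSpace X]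
    [QuasiSeparatedSpace X] [CompactSpace Y] [QuasiSeparatedSpace Y] (f : X ⟶ Y)
    (h : (FEt.restrict f).IsEquivalence) :
    IsHomeomorph f.continuous.connectedComponentsMap :=
  isHomeomorph_connectedComponentsMap connectedComponent_eq_iInter_isClopen_of_spectral
    connectedComponent_eq_iInter_isClopen_of_spectral f.continuous
    (fun R hR hpre => eq_univ_of_full f R hR hpre)
    (fun T hT => exists_clopen_of_essSurj f T hT)

end Groth.Agent.Lib.Helper89.FEtClopen
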