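import Groth.Prelude.Def_FEt
import Mathlib.AlgebraicGeometry.Morphisms.FormallyUnramified
import Mathlib.AlgebraicGeometry.Morphisms.UniversallyOpen
import Mathlib.AlgebraicGeometry.Morphisms.UniversallyClosed
import Mathlib.AlgebraicGeometry.Morphisms.Separated
import Mathlib.AlgebraicGeometry.Morphisms.IsIso
import Mathlib.AlgebraicGeometry.Morphisms.Smooth
import Mathlib.AlgebraicGeometry.Morphisms.Flat
import Mathlib.AlgebraicGeometry.PullbackCarrier

/-!
# Scheme-level finite étale covers: rigidity of morphisms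

`eq_of_pullback_eq`: two `X`-morphisms between finite étale `X`-schemes agree as soon as they
agree after base change along a morphism `i : Y ⟶ X` whose range meets every connected
component of `X` (the equalizer is open and closed in the source, and finite étale maps are
open and closed).
-/

set_option autoImplicit false
universe u
open AlgebraicGeometry CategoryTheory CategoryTheory.Limits

namespace Groth.Agent.Lib.Helper89.FEtFaithful

/-- Key lemma: two morphisms `a b : Y₁ ⟶ Y₂` of `X`-schemes with `Y₂ → X` finite étale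
and `Y₁ → X` finite étale agree as soon as they agree after pullback
to a "component-dense" `i : Y → X`. -/
theorem eq_of_pullback_eq {X Y Y₁ Y₂ : Scheme.{u}} (i : Y ⟶ X)
    (p₁ : Y₁ ⟶ X) (p₂ : Y₂ ⟶ X) [IsFinite p₁] [Etale p₁] [IsFinite p₂] [Etale p₂]
    (a b : Y₁ ⟶ Y₂) (ha : a ≫ p₂ = p₁) (hb : b ≫ p₂ = p₁)
    (h : ∀ x : X, (connectedComponent x ∩ Set.range i.base).Nonempty)
    (hab : pullback.fst p₁ i ≫ a = pullback.fst p₁ i ≫ b) : a = b := by
  -- the equalizer
  let l : Y₁ ⟶ pullback p₂ p₂ := pullback.lift a b (by rw [ha, hb])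
  let E := pullback (pullback.diagonal p₂) l
  let ι : E ⟶ Y₁ := pullback.snd _ _
  have hι : ι ≫ a = ι ≫ b := by
    have h1 : ι ≫ l = pullback.fst _ _ ≫ pullback.diagonal p₂ := pullback.condition.symm
    have h2 := congrArg (· ≫ pullback.fst p₂ p₂) h1
    have h3 := congrArg (· ≫ pullback.snd p₂ p₂) h1
    simp only [Category.assoc, l, pullback.lift_fst, pullback.lift_snd,
      pullback.diagonal_fst, pullback.diagonal_snd, Category.comp_id] at h2 h3
    rw [h2, h3]
  have : IsOpenImmersion ι := inferInstance
  have : IsClosedImmersion ι := inferInstance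
  -- the lift of the pulled-back scheme to the equalizer
  let t : pullback p₁ i ⟶ E := pullback.lift (pullback.fst p₁ i ≫ a) (pullback.fst p₁ i) (by
    apply pullback.hom_ext
    · simp only [Category.assoc, pullback.diagonal_fst, Category.comp_id, l]
      rw [pullback.lift_fst]
    · simp only [Category.assoc, pullback.diagonal_snd, Category.comp_id, l]
      rw [pullback.lift_snd, hab])
  have ht : t ≫ ι = pullback.fst p₁ i := pullback.lift_snd _ _ _
  -- the range of ι is clopen
  have hclopen : IsClopen (Set.range ι.base) :=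
    ⟨ι.isClosedEmbedding.isClosed_range, ι.isOpenEmbedding.isOpen_range⟩
  have hC : IsClopen (Set.range ι.base)ᶜ := hclopen.compl
  have hpC : IsClopen (p₁.base '' (Set.range ι.base)ᶜ) :=
    ⟨p₁.isClosedMap _ hC.1, p₁.isOpenMap _ hC.2⟩
  have hsurj : Function.Surjective ι.base := by
    rw [← Set.range_eq_univ, ← Set.compl_empty_iff, Set.eq_empty_iff_forall_notMem]
    intro c hc
    have hx : p₁.base c ∈ p₁.base '' (Set.range ι.base)ᶜ := ⟨c, hc, rfl⟩
    have hsub := hpC.connectedComponent_subset hx
    obtain ⟨z, hz1, ⟨y, rfl⟩⟩ := h (p₁.base c)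
    obtain ⟨c', hc', hc'z⟩ := hsub hz1
    obtain ⟨w, hw1, hw2⟩ := Scheme.Pullback.exists_preimage_pullback c' y hc'z
    apply hc'
    refine ⟨t.base w, ?_⟩
    rw [← hw1, ← ht]
    rfl
  have : Surjective ι := ⟨hsurj⟩
  have : IsIso ι := (isIso_iff_isOpenImmersion_and_surjective ι).mpr ⟨inferInstance, inferInstance⟩
  exact (cancel_epi ι).mp hι

end Groth.Agent.Lib.Helper89.FEtFaithful
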