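import Mathlib.RingTheory.TensorProduct.Maps
import Mathlib.RingTheory.Etale.Basic
import Mathlib.RingTheory.Finiteness.Basic
import Mathlib.RingTheory.TensorProduct.Finite

/-!
# Pushouts of commutative algebras, with the instances hidden

For `R`-algebra maps `u : C → A`, `v : C → B` the ring `PO u v = A ⊗[C] B` as an `R`-algebra, its
universal property, semilinear functoriality and compatibility with base change.
-/

set_option autoImplicit false
set_option linter.style.haveILetI false

open TensorProduct

namespace Groth.Agent.Lib.Helper89.POAlg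

universe u

section Basic

variable {R C A B : Type u} [CommRing R] [CommRing C] [CommRing A] [CommRing B]
  [Algebra R C] [Algebra R A] [Algebra R B] (u : C →ₐ[R] A) (v : C →ₐ[R] B)

/-- the pushout `A ⊗[C] B` -/
@[implicit_reducible]
def PO : Type u :=
  @TensorProduct C _ A B _ _ u.toRingHom.toAlgebra.toModule v.toRingHom.toAlgebra.toModule

noncomputable instance : CommRing (PO u v) :=
  @Algebra.TensorProduct.instCommRing C A B _ _ u.toRingHom.toAlgebra _ v.toRingHom.toAlgebra

/-- the left inclusion as a ring map -/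
noncomputable def inlRing : A →+* PO u v :=
  letI := u.toRingHom.toAlgebra
  letI := v.toRingHom.toAlgebra
  (Algebra.TensorProduct.includeLeftRingHom : A →+* A ⊗[C] B)

/-- the right inclusion as a ring map -/
noncomputable def inrRing : B →+* PO u v :=
  letI := u.toRingHom.toAlgebra
  letI := v.toRingHom.toAlgebra
  (Algebra.TensorProduct.includeRight : B →ₐ[C] A ⊗[C] B).toRingHom

noncomputable instance : Algebra R (PO u v) := by
  letI := u.toRingHom.toAlgebra
  letI := v.toRingHom.toAlgebra
  exact (inferInstance : Algebra R (A ⊗[C] B))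

lemma inlRing_u (c : C) : inlRing u v (u c) = inrRing u v (v c) := by
  letI := u.toRingHom.toAlgebra
  letI := v.toRingHom.toAlgebra
  change (u c : A) ⊗ₜ[C] (1 : B) = (1 : A) ⊗ₜ[C] (v c : B)
  have h1 : (u c : A) = c • (1 : A) := by rw [Algebra.smul_def, mul_one]; rfl
  have h2 : (v c : B) = c • (1 : B) := by rw [Algebra.smul_def, mul_one]; rfl
  rw [h1, h2, TensorProduct.smul_tmul]

/-- the left inclusion -/
noncomputable def inl : A →ₐ[R] PO u v :=
  { inlRing u v with commutes' := fun _ => rfl }

/-- the right inclusion -/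
noncomputable def inr : B →ₐ[R] PO u v :=
  { inrRing u v with
    commutes' := fun r => by
      change inrRing u v (algebraMap R B r) = inlRing u v (algebraMap R A r)
      rw [← u.commutes r, ← v.commutes r, inlRing_u] }

lemma inl_u (c : C) : inl u v (u c) = inr u v (v c) := inlRing_u u v c

@[elab_as_elim]
lemma induction_on {motive : PO u v → Prop} (x : PO u v)
    (mul : ∀ a b, motive (inl u v a * inr u v b))
    (add : ∀ x y, motive x → motive y → motive (x + y)) : motive x := by
  letI := u.toRingHom.toAlgebra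
  letI := v.toRingHom.toAlgebra
  have key : ∀ x : A ⊗[C] B, motive x := by
    intro x
    induction x using TensorProduct.induction_on with
    | zero =>
      have := mul 0 0
      rwa [map_zero, zero_mul] at this
    | tmul a b =>
      have := mul a b
      have e : inl u v a * inr u v b = (a ⊗ₜ[C] b : A ⊗[C] B) := by
        change (a ⊗ₜ[C] (1 : B)) * ((1 : A) ⊗ₜ[C] b) = _
        rw [Algebra.TensorProduct.tmul_mul_tmul, mul_one, one_mul]
      rwa [e] at this
    | add x y hx hy => exact add x y hx hy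
  exact key x

/-- ring maps out of the pushout are determined by the two inclusions -/
lemma ringHom_ext {W : Type*} [Semiring W] (f g : PO u v →+* W)
    (hl : ∀ a, f (inl u v a) = g (inl u v a)) (hr : ∀ b, f (inr u v b) = g (inr u v b)) : f = g := by
  ext x
  induction x using induction_on with
  | mul a b => rw [map_mul, map_mul, hl, hr]
  | add x y hx hy => rw [map_add, map_add, hx, hy]

variable {u v} in
/-- the universal property -/
noncomputable def desc {W : Type u} [CommRing W] [Algebra R W] (a : A →ₐ[R] W) (b : B →ₐ[R] W)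
    (h : ∀ c, a (u c) = b (v c)) : PO u v →ₐ[R] W :=
  letI := u.toRingHom.toAlgebra
  letI := v.toRingHom.toAlgebra
  letI : Algebra C W := (a.toRingHom.comp u.toRingHom).toAlgebra
  let a' : A →ₐ[C] W := { a.toRingHom with commutes' := fun _ => rfl }
  let b' : B →ₐ[C] W := { b.toRingHom with commutes' := fun c => (h c).symm }
  { (Algebra.TensorProduct.lift (S := C) a' b' (fun _ _ => Commute.all _ _)).toRingHom with
    commutes' := fun r => by
      change (Algebra.TensorProduct.lift (S := C) a' b' (fun _ _ => Commute.all _ _))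
        ((algebraMap R A r) ⊗ₜ[C] (1 : B)) = _
      rw [Algebra.TensorProduct.lift_tmul]
      change a (algebraMap R A r) * b 1 = _
      rw [map_one, mul_one, a.commutes] }

variable {u v} in
@[simp] lemma desc_inl {W : Type u} [CommRing W] [Algebra R W] (a : A →ₐ[R] W) (b : B →ₐ[R] W)
    (h : ∀ c, a (u c) = b (v c)) (x : A) : desc a b h (inl u v x) = a x := by
  letI := u.toRingHom.toAlgebra
  letI := v.toRingHom.toAlgebra
  letI : Algebra C W := (a.toRingHom.comp u.toRingHom).toAlgebra
  change a x * b 1 = a x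
  rw [map_one, mul_one]

variable {u v} in
@[simp] lemma desc_inr {W : Type u} [CommRing W] [Algebra R W] (a : A →ₐ[R] W) (b : B →ₐ[R] W)
    (h : ∀ c, a (u c) = b (v c)) (y : B) : desc a b h (inr u v y) = b y := by
  letI := u.toRingHom.toAlgebra
  letI := v.toRingHom.toAlgebra
  letI : Algebra C W := (a.toRingHom.comp u.toRingHom).toAlgebra
  change a 1 * b y = b y
  rw [map_one, one_mul]

theorem finite [Module.Finite R A] [Module.Finite R B] : Module.Finite R (PO u v) := by
  letI := u.toRingHom.toAlgebra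
  letI := v.toRingHom.toAlgebra
  have t1 : IsScalarTower R C B := IsScalarTower.of_algebraMap_eq fun r => (v.commutes r).symm
  have : Module.Finite C B := Module.Finite.of_restrictScalars_finite R C B
  have h1 : Module.Finite A (A ⊗[C] B) := inferInstance
  have t2 : IsScalarTower R A (A ⊗[C] B) := IsScalarTower.of_algebraMap_eq fun r => rfl
  exact Module.Finite.trans A (A ⊗[C] B)

theorem etale [Algebra.Etale R C] [Algebra.Etale R A] [Algebra.Etale R B] :
    Algebra.Etale R (PO u v) := by
  letI := u.toRingHom.toAlgebra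
  letI := v.toRingHom.toAlgebra
  have t1 : IsScalarTower R C B := IsScalarTower.of_algebraMap_eq fun r => (v.commutes r).symm
  have : Algebra.Etale C B := Algebra.Etale.of_restrictScalars R C B
  have h1 : Algebra.Etale A (A ⊗[C] B) := inferInstance
  have t2 : IsScalarTower R A (A ⊗[C] B) := IsScalarTower.of_algebraMap_eq fun r => rfl
  exact Algebra.Etale.comp R A (A ⊗[C] B)

end Basic

section Map

variable {R C A B : Type u} [CommRing R] [CommRing C] [CommRing A] [CommRing B]
  [Algebra R C] [Algebra R A] [Algebra R B] (u : C →ₐ[R] A) (v : C →ₐ[R] B)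
variable {S C' A' B' : Type u} [CommRing S] [CommRing C'] [CommRing A'] [CommRing B']
  [Algebra S C'] [Algebra S A'] [Algebra S B'] (u' : C' →ₐ[S] A') (v' : C' →ₐ[S] B')
variable (rC : C →+* C') (rA : A →+* A') (rB : B →+* B')
  (hu : ∀ c, rA (u c) = u' (rC c)) (hv : ∀ c, rB (v c) = v' (rC c))

/-- semilinear functoriality of the pushout -/
noncomputable def map : PO u v →+* PO u' v' :=
  letI := u.toRingHom.toAlgebra
  letI := v.toRingHom.toAlgebra
  letI := u'.toRingHom.toAlgebra
  letI := v'.toRingHom.toAlgebra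
  Algebra.TensorProduct.mapRingHom rC rA rB (RingHom.ext hu) (RingHom.ext hv)

lemma map_inl (a : A) : map u v u' v' rC rA rB hu hv (inl u v a) = inl u' v' (rA a) := by
  letI := u.toRingHom.toAlgebra
  letI := v.toRingHom.toAlgebra
  letI := u'.toRingHom.toAlgebra
  letI := v'.toRingHom.toAlgebra
  change Algebra.TensorProduct.mapRingHom rC rA rB (RingHom.ext hu) (RingHom.ext hv)
    (a ⊗ₜ[C] (1 : B)) = (rA a) ⊗ₜ[C'] (1 : B')
  rw [Algebra.TensorProduct.mapRingHom_tmul, map_one]

lemma map_inr (b : B) : map u v u' v' rC rA rB hu hv (inr u v b) = inr u' v' (rB b) := by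
  letI := u.toRingHom.toAlgebra
  letI := v.toRingHom.toAlgebra
  letI := u'.toRingHom.toAlgebra
  letI := v'.toRingHom.toAlgebra
  change Algebra.TensorProduct.mapRingHom rC rA rB (RingHom.ext hu) (RingHom.ext hv)
    ((1 : A) ⊗ₜ[C] b) = (1 : A') ⊗ₜ[C'] (rB b)
  rw [Algebra.TensorProduct.mapRingHom_tmul, map_one]

lemma algebraMap_eq_inl (r : R) : algebraMap R (PO u v) r = inl u v (algebraMap R A r) := rfl

lemma map_algebraMap (g : R →+* S) (hgA : ∀ r, rA (algebraMap R A r) = algebraMap S A' (g r))
    (r : R) : map u v u' v' rC rA rB hu hv (algebraMap R (PO u v) r) =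
      algebraMap S (PO u' v') (g r) := by
  rw [algebraMap_eq_inl, map_inl, hgA, algebraMap_eq_inl]

end Map

section MapId

variable {R C A B : Type u} [CommRing R] [CommRing C] [CommRing A] [CommRing B]
  [Algebra R C] [Algebra R A] [Algebra R B] (u : C →ₐ[R] A) (v : C →ₐ[R] B)

lemma map_self (rC : C →+* C) (rA : A →+* A) (rB : B →+* B)
    (hu : ∀ c, rA (u c) = u (rC c)) (hv : ∀ c, rB (v c) = v (rC c))
    (hA : ∀ a, rA a = a) (hB : ∀ b, rB b = b) (x : PO u v) :
    map u v u v rC rA rB hu hv x = x := by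
  induction x using induction_on with
  | mul a b => rw [map_mul, map_inl, map_inr, hA, hB]
  | add x y hx hy => rw [map_add, hx, hy]

end MapId

section MapComp

variable {R C A B : Type u} [CommRing R] [CommRing C] [CommRing A] [CommRing B]
  [Algebra R C] [Algebra R A] [Algebra R B] (u : C →ₐ[R] A) (v : C →ₐ[R] B)
variable {S C' A' B' : Type u} [CommRing S] [CommRing C'] [CommRing A'] [CommRing B']
  [Algebra S C'] [Algebra S A'] [Algebra S B'] (u' : C' →ₐ[S] A') (v' : C' →ₐ[S] B')
variable {T C'' A'' B'' : Type u} [CommRing T] [CommRing C''] [CommRing A''] [CommRing B'']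
  [Algebra T C''] [Algebra T A''] [Algebra T B''] (u'' : C'' →ₐ[T] A'') (v'' : C'' →ₐ[T] B'')

lemma map_map (rC : C →+* C') (rA : A →+* A') (rB : B →+* B')
    (hu : ∀ c, rA (u c) = u' (rC c)) (hv : ∀ c, rB (v c) = v' (rC c))
    (rC' : C' →+* C'') (rA' : A' →+* A'') (rB' : B' →+* B'')
    (hu' : ∀ c, rA' (u' c) = u'' (rC' c)) (hv' : ∀ c, rB' (v' c) = v'' (rC' c))
    (sC : C →+* C'') (sA : A →+* A'') (sB : B →+* B'')
    (hsu : ∀ c, sA (u c) = u'' (sC c)) (hsv : ∀ c, sB (v c) = v'' (sC c))
    (hA : ∀ a, rA' (rA a) = sA a) (hB : ∀ b, rB' (rB b) = sB b) (x : PO u v) :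
    map u' v' u'' v'' rC' rA' rB' hu' hv' (map u v u' v' rC rA rB hu hv x) =
      map u v u'' v'' sC sA sB hsu hsv x := by
  induction x using induction_on with
  | mul a b => simp only [map_mul, map_inl, map_inr, hA, hB]
  | add x y hx hy => rw [map_add, map_add, map_add, hx, hy]

end MapComp

section BaseChange

variable {R S : Type u} [CommRing R] [CommRing S] [Algebra R S]

/-- a bijective canonical map `S ⊗[R] A → A'` attached to a ring map is an algebra isomorphism -/
theorem exists_algEquiv_of_bijective {A A' : Type u} [CommRing A] [CommRing A'] [Algebra R A]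
    [Algebra S A'] (rA : A →+* A')
    (hA : ∃ Φ : S ⊗[R] A →+ A', (∀ s a, Φ (s ⊗ₜ a) = s • rA a) ∧ Function.Bijective Φ) :
    ∃ e : S ⊗[R] A ≃ₐ[S] A', ∀ s a, e (s ⊗ₜ a) = s • rA a := by
  obtain ⟨Φ, hΦ, hΦb⟩ := hA
  have hΦsmul : ∀ (s : S) t, Φ (s • t) = s • Φ t := by
    intro s t
    induction t using TensorProduct.induction_on with
    | zero => rw [smul_zero, map_zero, smul_zero]
    | tmul s' m => rw [TensorProduct.smul_tmul', hΦ, hΦ, smul_eq_mul, mul_smul]
    | add x y hx hy => rw [smul_add, map_add, map_add, hx, hy, smul_add]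
  let ΦL : S ⊗[R] A →ₗ[S] A' := { toFun := Φ, map_add' := map_add Φ, map_smul' := hΦsmul }
  let ΦA : S ⊗[R] A →ₐ[S] A' := Algebra.TensorProduct.algHomOfLinearMapTensorProduct ΦL
    (fun s₁ s₂ a₁ a₂ => by
      change Φ _ = Φ _ * Φ _
      rw [hΦ, hΦ, hΦ, map_mul, smul_mul_smul_comm])
    (by change Φ _ = 1; rw [hΦ, one_smul, map_one])
  exact ⟨AlgEquiv.ofBijective ΦA hΦb, hΦ⟩

variable {C A B : Type u} [CommRing C] [CommRing A] [CommRing B]
  [Algebra R C] [Algebra R A] [Algebra R B] (u : C →ₐ[R] A) (v : C →ₐ[R] B)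
variable {C' A' B' : Type u} [CommRing C'] [CommRing A'] [CommRing B']
  [Algebra S C'] [Algebra S A'] [Algebra S B'] (u' : C' →ₐ[S] A') (v' : C' →ₐ[S] B')
variable (rC : C →+* C') (rA : A →+* A') (rB : B →+* B')
  (hu : ∀ c, rA (u c) = u' (rC c)) (hv : ∀ c, rB (v c) = v' (rC c))

/-- the pushout commutes with base change -/
theorem exists_bijective_map
    (hgA : ∀ r, rA (algebraMap R A r) = algebraMap S A' (algebraMap R S r))
    (hC : ∃ Φ : S ⊗[R] C →+ C', (∀ s a, Φ (s ⊗ₜ a) = s • rC a) ∧ Function.Bijective Φ)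
    (hA : ∃ Φ : S ⊗[R] A →+ A', (∀ s a, Φ (s ⊗ₜ a) = s • rA a) ∧ Function.Bijective Φ)
    (hB : ∃ Φ : S ⊗[R] B →+ B', (∀ s a, Φ (s ⊗ₜ a) = s • rB a) ∧ Function.Bijective Φ) :
    ∃ Φ : S ⊗[R] PO u v →+ PO u' v',
      (∀ s x, Φ (s ⊗ₜ x) = s • map u v u' v' rC rA rB hu hv x) ∧ Function.Bijective Φ := by
  obtain ⟨eC, heC⟩ := exists_algEquiv_of_bijective rC hC
  obtain ⟨eA, heA⟩ := exists_algEquiv_of_bijective rA hA
  obtain ⟨eB, heB⟩ := exists_algEquiv_of_bijective rB hB
  -- the inverse
  let αA : A' →ₐ[S] S ⊗[R] PO u v :=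
    (Algebra.TensorProduct.map (AlgHom.id S S) (inl u v)).comp eA.symm.toAlgHom
  let αB : B' →ₐ[S] S ⊗[R] PO u v :=
    (Algebra.TensorProduct.map (AlgHom.id S S) (inr u v)).comp eB.symm.toAlgHom
  letI algRA : Algebra R A' := ((algebraMap S A').comp (algebraMap R S)).toAlgebra
  haveI towerA : IsScalarTower R S A' := IsScalarTower.of_algebraMap_eq fun _ => rfl
  letI algRB : Algebra R B' := ((algebraMap S B').comp (algebraMap R S)).toAlgebra
  haveI towerB : IsScalarTower R S B' := IsScalarTower.of_algebraMap_eq fun _ => rfl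
  have huC : ∀ t : S ⊗[R] C, u' (eC t) = eA (Algebra.TensorProduct.map (AlgHom.id S S) u t) := by
    intro t
    have : u'.comp eC.toAlgHom =
        eA.toAlgHom.comp (Algebra.TensorProduct.map (AlgHom.id S S) u) := by
      apply Algebra.TensorProduct.ext'
      intro s c
      change u' (eC (s ⊗ₜ c)) = eA (Algebra.TensorProduct.map (AlgHom.id S S) u (s ⊗ₜ c))
      rw [heC, Algebra.TensorProduct.map_tmul, heA, map_smul, hu]
      rfl
    exact congrArg (fun φ => φ t) this
  have hvC : ∀ t : S ⊗[R] C, v' (eC t) = eB (Algebra.TensorProduct.map (AlgHom.id S S) v t) := by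
    intro t
    have : v'.comp eC.toAlgHom =
        eB.toAlgHom.comp (Algebra.TensorProduct.map (AlgHom.id S S) v) := by
      apply Algebra.TensorProduct.ext'
      intro s c
      change v' (eC (s ⊗ₜ c)) = eB (Algebra.TensorProduct.map (AlgHom.id S S) v (s ⊗ₜ c))
      rw [heC, Algebra.TensorProduct.map_tmul, heB, map_smul, hv]
      rfl
    exact congrArg (fun φ => φ t) this
  have hcond : ∀ c', αA (u' c') = αB (v' c') := by
    intro c'
    obtain ⟨t, rfl⟩ := eC.surjective c'
    change Algebra.TensorProduct.map (AlgHom.id S S) (inl u v) (eA.symm (u' (eC t))) =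
      Algebra.TensorProduct.map (AlgHom.id S S) (inr u v) (eB.symm (v' (eC t)))
    rw [huC, hvC, AlgEquiv.symm_apply_apply, AlgEquiv.symm_apply_apply]
    have : (Algebra.TensorProduct.map (AlgHom.id S S) (inl u v)).comp
        (Algebra.TensorProduct.map (AlgHom.id S S) u) =
        (Algebra.TensorProduct.map (AlgHom.id S S) (inr u v)).comp
        (Algebra.TensorProduct.map (AlgHom.id S S) v) := by
      apply Algebra.TensorProduct.ext'
      intro s c
      change Algebra.TensorProduct.map (AlgHom.id S S) (inl u v)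
        (Algebra.TensorProduct.map (AlgHom.id S S) u (s ⊗ₜ c)) =
        Algebra.TensorProduct.map (AlgHom.id S S) (inr u v)
        (Algebra.TensorProduct.map (AlgHom.id S S) v (s ⊗ₜ c))
      rw [Algebra.TensorProduct.map_tmul, Algebra.TensorProduct.map_tmul,
        Algebra.TensorProduct.map_tmul, Algebra.TensorProduct.map_tmul, inl_u]
    exact congrArg (fun φ => φ t) this
  let Ψ : PO u' v' →ₐ[S] S ⊗[R] PO u v := desc αA αB hcond
  -- the canonical map
  letI algR : Algebra R (PO u' v') :=
    ((algebraMap S (PO u' v')).comp (algebraMap R S)).toAlgebra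
  haveI tower : IsScalarTower R S (PO u' v') := IsScalarTower.of_algebraMap_eq fun _ => rfl
  let mR : PO u v →ₐ[R] PO u' v' :=
    { map u v u' v' rC rA rB hu hv with
      commutes' := fun r => map_algebraMap u v u' v' rC rA rB hu hv (algebraMap R S) hgA r }
  let Φ : S ⊗[R] PO u v →ₐ[S] PO u' v' :=
    Algebra.TensorProduct.lift (Algebra.ofId S (PO u' v')) mR (fun _ _ => Commute.all _ _)
  have hΦ : ∀ s x, Φ (s ⊗ₜ x) = s • map u v u' v' rC rA rB hu hv x := by
    intro s x
    change algebraMap S (PO u' v') s * map u v u' v' rC rA rB hu hv x = _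
    rw [Algebra.smul_def]
  have hΦA : ∀ t : S ⊗[R] A,
      Φ (Algebra.TensorProduct.map (AlgHom.id S S) (inl u v) t) = inl u' v' (eA t) := by
    intro t
    have : Φ.comp (Algebra.TensorProduct.map (AlgHom.id S S) (inl u v)) =
        (inl u' v').comp eA.toAlgHom := by
      apply Algebra.TensorProduct.ext'
      intro s a
      change Φ (Algebra.TensorProduct.map (AlgHom.id S S) (inl u v) (s ⊗ₜ a)) =
        inl u' v' (eA (s ⊗ₜ a))
      rw [Algebra.TensorProduct.map_tmul, heA, map_smul]
      change Φ (s ⊗ₜ inl u v a) = _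
      rw [hΦ, map_inl]
    exact congrArg (fun φ => φ t) this
  have hΦB : ∀ t : S ⊗[R] B,
      Φ (Algebra.TensorProduct.map (AlgHom.id S S) (inr u v) t) = inr u' v' (eB t) := by
    intro t
    have : Φ.comp (Algebra.TensorProduct.map (AlgHom.id S S) (inr u v)) =
        (inr u' v').comp eB.toAlgHom := by
      apply Algebra.TensorProduct.ext'
      intro s a
      change Φ (Algebra.TensorProduct.map (AlgHom.id S S) (inr u v) (s ⊗ₜ a)) =
        inr u' v' (eB (s ⊗ₜ a))
      rw [Algebra.TensorProduct.map_tmul, heB, map_smul]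
      change Φ (s ⊗ₜ inr u v a) = _
      rw [hΦ, map_inr]
    exact congrArg (fun φ => φ t) this
  have h1 : ∀ y, Φ (Ψ y) = y := by
    intro y
    have : (Φ.comp Ψ).toRingHom = RingHom.id _ := by
      apply ringHom_ext
      · intro a'
        change Φ (Ψ (inl u' v' a')) = inl u' v' a'
        rw [desc_inl]
        change Φ (Algebra.TensorProduct.map (AlgHom.id S S) (inl u v) (eA.symm a')) = _
        rw [hΦA, AlgEquiv.apply_symm_apply]
      · intro b'
        change Φ (Ψ (inr u' v' b')) = inr u' v' b'
        rw [desc_inr]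
        change Φ (Algebra.TensorProduct.map (AlgHom.id S S) (inr u v) (eB.symm b')) = _
        rw [hΦB, AlgEquiv.apply_symm_apply]
    exact congrArg (fun φ => φ y) this
  have h2 : ∀ t, Ψ (Φ t) = t := by
    intro t
    have hΨmap : ∀ x, Ψ (map u v u' v' rC rA rB hu hv x) = (1 : S) ⊗ₜ[R] x := by
      intro x
      have : Ψ.toRingHom.comp (map u v u' v' rC rA rB hu hv) =
          (Algebra.TensorProduct.includeRight : PO u v →ₐ[R] S ⊗[R] PO u v).toRingHom := by
        apply ringHom_ext
        · intro a
          change Ψ (map u v u' v' rC rA rB hu hv (inl u v a)) = (1 : S) ⊗ₜ[R] inl u v a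
          rw [map_inl, desc_inl]
          change Algebra.TensorProduct.map (AlgHom.id S S) (inl u v) (eA.symm (rA a)) = _
          have : eA.symm (rA a) = (1 : S) ⊗ₜ[R] a := by
            rw [AlgEquiv.symm_apply_eq, heA, one_smul]
          rw [this, Algebra.TensorProduct.map_tmul]
          rfl
        · intro b
          change Ψ (map u v u' v' rC rA rB hu hv (inr u v b)) = (1 : S) ⊗ₜ[R] inr u v b
          rw [map_inr, desc_inr]
          change Algebra.TensorProduct.map (AlgHom.id S S) (inr u v) (eB.symm (rB b)) = _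
          have : eB.symm (rB b) = (1 : S) ⊗ₜ[R] b := by
            rw [AlgEquiv.symm_apply_eq, heB, one_smul]
          rw [this, Algebra.TensorProduct.map_tmul]
          rfl
      exact congrArg (fun φ => φ x) this
    have : Ψ.comp Φ = AlgHom.id S _ := by
      apply Algebra.TensorProduct.ext'
      intro s x
      change Ψ (Φ (s ⊗ₜ x)) = s ⊗ₜ x
      rw [hΦ, map_smul, hΨmap, TensorProduct.smul_tmul', smul_eq_mul, mul_one]
    exact congrArg (fun φ => φ t) this
  refine ⟨Φ.toLinearMap.toAddMonoidHom, hΦ, ?_, ?_⟩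
  · intro t t' htt'
    have := congrArg Ψ htt'
    change Ψ (Φ t) = Ψ (Φ t') at this
    rwa [h2, h2] at this
  · intro y
    exact ⟨Ψ y, h1 y⟩

end BaseChange

end Groth.Agent.Lib.Helper89.POAlg
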