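import Mathlib.RingTheory.TotallySplit
import Mathlib.RingTheory.Etale.Finite
import Mathlib.FieldTheory.IsAlgClosed.Basic
import Mathlib.RingTheory.Ideal.GoingUp
import Groth.Agent.Lib.Helper89.POAlg

/-!
# Geometric fibres of finite étale algebras as sets of algebra maps to an algebraically closed field
-/

set_option autoImplicit false
set_option linter.style.haveILetI false

open TensorProduct

namespace Groth.Agent.Lib.Helper89.FibAlg

universe u

variable {R : Type u} [CommRing R] {Ω : Type u} [Field Ω] [IsAlgClosed Ω] [Algebra R Ω]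

section Equiv

variable (A : Type u) [CommRing A] [Algebra R A] [Module.Finite R A] [Algebra.Etale R A]

variable (Ω) in
/-- points of the geometric fibre are algebra maps to the field -/
noncomputable def fibEquiv : (A →ₐ[R] Ω) ≃ PrimeSpectrum (Ω ⊗[R] A) :=
  (Algebra.TensorProduct.liftEquivRight R Ω A Ω).trans
    (Algebra.IsFiniteSplit.algHomEquivPrimeSpectrum Ω (Ω ⊗[R] A))

lemma fibEquiv_asIdeal (f : A →ₐ[R] Ω) :
    (fibEquiv Ω A f).asIdeal =
      RingHom.ker (Algebra.TensorProduct.lift (Algebra.ofId Ω Ω) f fun _ _ => Commute.all _ _) :=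
  rfl

end Equiv

section Natural

variable {A B : Type u} [CommRing A] [Algebra R A] [Module.Finite R A] [Algebra.Etale R A]
  [CommRing B] [Algebra R B] [Module.Finite R B] [Algebra.Etale R B]

lemma comap_fibEquiv (g : A →ₐ[R] B) (f : B →ₐ[R] Ω) :
    PrimeSpectrum.comap (Algebra.TensorProduct.map (AlgHom.id Ω Ω) g).toRingHom (fibEquiv Ω B f) =
      fibEquiv Ω A (f.comp g) := by
  apply PrimeSpectrum.ext
  rw [fibEquiv_asIdeal]
  change Ideal.comap _ (fibEquiv Ω B f).asIdeal = _
  rw [fibEquiv_asIdeal]
  ext t
  rw [Ideal.mem_comap, RingHom.mem_ker, RingHom.mem_ker]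
  have : (Algebra.TensorProduct.lift (Algebra.ofId Ω Ω) f fun _ _ => Commute.all _ _).comp
      (Algebra.TensorProduct.map (AlgHom.id Ω Ω) g) =
      Algebra.TensorProduct.lift (Algebra.ofId Ω Ω) (f.comp g) fun _ _ => Commute.all _ _ := by
    apply Algebra.TensorProduct.ext'
    intro s a
    simp
  rw [← this]
  rfl

end Natural

section Pushout

open Groth.Agent.Lib.Helper89.POAlg

variable {C A B : Type u} [CommRing C] [CommRing A] [CommRing B]
  [Algebra R C] [Algebra R A] [Algebra R B] (u : C →ₐ[R] A) (v : C →ₐ[R] B)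

/-- maps out of the pushout are compatible pairs of maps -/
theorem existsUnique_algHom_po (a : A →ₐ[R] Ω) (b : B →ₐ[R] Ω) (h : a.comp u = b.comp v) :
    ∃! z : PO u v →ₐ[R] Ω, z.comp (inl u v) = a ∧ z.comp (inr u v) = b := by
  have h' : ∀ c, a (u c) = b (v c) := fun c => congrArg (fun φ => φ c) h
  refine ⟨desc a b h', ⟨?_, ?_⟩, ?_⟩
  · ext x; exact desc_inl a b h' x
  · ext x; exact desc_inr a b h' x
  · rintro z ⟨hz1, hz2⟩
    apply AlgHom.coe_ringHom_injective
    apply ringHom_ext u v
    · intro x
      change z (inl u v x) = desc a b h' (inl u v x)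
      rw [desc_inl, ← hz1]; rfl
    · intro x
      change z (inr u v x) = desc a b h' (inr u v x)
      rw [desc_inr, ← hz2]; rfl

end Pushout

section Pi

variable {J : Type} [Finite J] (A : J → Type u) [∀ j, CommRing (A j)] [∀ j, Algebra R (A j)]

/-- an algebra map from a finite product to a field factors through exactly one projection -/
theorem existsUnique_algHom_pi (z : (∀ j, A j) →ₐ[R] Ω) :
    ∃! ja : Σ j, (A j →ₐ[R] Ω), z = ja.2.comp (Pi.evalAlgHom R A ja.1) := by
  classical
  cases nonempty_fintype J
  have h01 : ∀ i : J, z (Pi.single i 1) = 0 ∨ z (Pi.single i 1) = 1 := by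
    intro i
    have : z (Pi.single i 1) * z (Pi.single i 1) = z (Pi.single i 1) := by
      rw [← map_mul, ← Pi.single_mul, mul_one]
    rcases eq_or_ne (z (Pi.single i 1)) 0 with h | h
    · exact Or.inl h
    · right
      exact mul_left_cancel₀ h (by rw [this, mul_one])
  have hsum : ∑ i : J, z (Pi.single i (1 : A i)) = 1 := by
    rw [← map_sum, Finset.univ_sum_single]
    exact map_one z
  have hex : ∃ i : J, z (Pi.single i (1 : A i)) = 1 := by
    by_contra hne
    push Not at hne
    have : ∀ i : J, z (Pi.single i (1 : A i)) = 0 := fun i => (h01 i).resolve_right (hne i)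
    rw [Finset.sum_congr rfl (fun i _ => this i), Finset.sum_const_zero] at hsum
    exact zero_ne_one hsum
  obtain ⟨i, hi⟩ := hex
  have hj : ∀ j : J, j ≠ i → z (Pi.single j (1 : A j)) = 0 := by
    intro j hji
    have : z (Pi.single j (1 : A j)) * z (Pi.single i (1 : A i)) = 0 := by
      rw [← map_mul]
      have : (Pi.single j (1 : A j) : ∀ j, A j) * Pi.single i (1 : A i) = 0 := by
        funext k
        by_cases hk : k = j
        · subst hk; simp [Pi.single_eq_of_ne hji]
        · simp [Pi.single_eq_of_ne hk]
      rw [this, map_zero]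
    rwa [hi, mul_one] at this
  have hzx : ∀ x : ∀ j, A j, z x = z (Pi.single i (x i)) := by
    intro x
    have h1 : x = ∑ j : J, x * Pi.single j (1 : A j) := by
      rw [← Finset.mul_sum, Finset.univ_sum_single]
      funext k
      simp
    conv_lhs => rw [h1]
    rw [map_sum, Finset.sum_eq_single i]
    · congr 1
      funext k
      by_cases hk : k = i
      · subst hk; simp
      · simp [Pi.single_eq_of_ne hk]
    · intro j _ hji
      rw [map_mul, hj j hji, mul_zero]
    · intro h; exact absurd (Finset.mem_univ i) h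
  let a : A i →ₐ[R] Ω :=
    { toFun := fun y => z (Pi.single i y)
      map_one' := hi
      map_mul' := fun y y' => by rw [Pi.single_mul, map_mul]
      map_zero' := by rw [Pi.single_zero, map_zero]
      map_add' := fun y y' => by rw [Pi.single_add, map_add]
      commutes' := fun r => by
        have : (Pi.single i (algebraMap R (A i) r) : ∀ j, A j) =
            algebraMap R (∀ j, A j) r * Pi.single i 1 := by
          funext k
          by_cases hk : k = i
          · subst hk; simp
          · simp [Pi.single_eq_of_ne hk]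
        rw [this, map_mul, hi, mul_one, AlgHom.commutes] }
  refine ⟨⟨i, a⟩, ?_, ?_⟩
  · ext x
    exact hzx x
  · rintro ⟨j, a'⟩ hz
    have hji : j = i := by
      by_contra hne
      have h1 := hj j hne
      rw [hz] at h1
      change a' ((Pi.single j (1 : A j) : ∀ j, A j) j) = 0 at h1
      rw [Pi.single_eq_same, map_one] at h1
      exact one_ne_zero h1
    subst hji
    congr 1
    ext y
    change a' y = z (Pi.single j y)
    rw [hz]
    change a' y = a' ((Pi.single j y : ∀ j, A j) j)
    rw [Pi.single_eq_same]

end Pi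

section Extension

variable {A B : Type u} [CommRing A] [CommRing B] [Algebra R A] [Algebra R B]

/-- algebra maps to an algebraically closed field extend along injective integral maps -/
theorem exists_algHom_extension (u : B →ₐ[R] A) (hu : Function.Injective u)
    (hint : u.toRingHom.IsIntegral) (b : B →ₐ[R] Ω) : ∃ a : A →ₐ[R] Ω, a.comp u = b := by
  letI : Algebra B A := u.toRingHom.toAlgebra
  haveI : Algebra.IsIntegral B A := ⟨hint⟩
  haveI hP : (RingHom.ker b.toRingHom).IsPrime := RingHom.ker_isPrime b.toRingHom
  obtain ⟨Q, -, hQprime, hQ⟩ := Ideal.exists_ideal_over_prime_of_isIntegral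
    (RingHom.ker b.toRingHom) (⊥ : Ideal A) (by
      intro x hx
      have : u x = 0 := hx
      rw [show x = 0 from hu (this.trans (map_zero u).symm)]
      exact Ideal.zero_mem _)
  haveI : (Q.comap (algebraMap B A)).IsPrime := Ideal.comap_isPrime _ _
  -- the field as an algebra over the quotient
  let bbar : B ⧸ Q.comap (algebraMap B A) →+* Ω :=
    Ideal.Quotient.lift (Q.comap (algebraMap B A)) b.toRingHom (fun x hx => by
      rw [hQ] at hx; exact hx)
  have hbbar : Function.Injective bbar := by
    rw [injective_iff_map_eq_zero]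
    intro x hx
    obtain ⟨x, rfl⟩ := Ideal.Quotient.mk_surjective x
    rw [Ideal.Quotient.eq_zero_iff_mem, hQ]
    exact hx
  letI : Algebra (B ⧸ Q.comap (algebraMap B A)) Ω := bbar.toAlgebra
  haveI : Module.IsTorsionFree (B ⧸ Q.comap (algebraMap B A)) Ω :=
    Module.isTorsionFree_iff_algebraMap_injective.mpr hbbar
  haveI : Module.IsTorsionFree (B ⧸ Q.comap (algebraMap B A)) (A ⧸ Q) :=
    Module.isTorsionFree_iff_algebraMap_injective.mpr Ideal.algebraMap_quotient_injective
  haveI : Algebra.IsAlgebraic (B ⧸ Q.comap (algebraMap B A)) (A ⧸ Q) :=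
    Algebra.IsIntegral.isAlgebraic
  let l : (A ⧸ Q) →ₐ[B ⧸ Q.comap (algebraMap B A)] Ω := IsAlgClosed.lift
  have hl : ∀ x : B, l (Ideal.Quotient.mk Q (u x)) = b x := by
    intro x
    have := l.commutes (Ideal.Quotient.mk _ x)
    exact this
  refine ⟨{ toRingHom := l.toRingHom.comp (Ideal.Quotient.mk Q)
            commutes' := fun r => ?_ }, ?_⟩
  · change l (Ideal.Quotient.mk Q (algebraMap R A r)) = algebraMap R Ω r
    rw [← u.commutes r, hl, b.commutes]
  · ext x
    exact hl x

end Extension

end Groth.Agent.Lib.Helper89.FibAlg
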