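import Groth.Agent.Lib.Helper89.FEtPushout
import Groth.Agent.Lib.Helper89.FibAlg
import Mathlib.CategoryTheory.Limits.Preserves.Shapes.Pullbacks
import Mathlib.CategoryTheory.Limits.Preserves.Shapes.Products
import Mathlib.CategoryTheory.Limits.Preserves.Shapes.Terminal
import Mathlib.CategoryTheory.Limits.Preserves.Finite

/-!
# The fibre functor of a geometric point on étale covers: fibres as sets of algebra maps
-/

set_option autoImplicit false
set_option linter.style.haveILetI false

open TensorProduct CategoryTheory CategoryTheory.Limits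

namespace Groth.Agent.Lib.Helper89.FEtFib

open _root_.SchFin Groth.Agent.Lib.Helper89.FEtBasic Groth.Agent.Lib.Helper89.FEtProd
  Groth.Agent.Lib.Helper89.FEtPushout Groth.Agent.Lib.Helper89.FibAlg
  Groth.Agent.Lib.Helper89.POAlg

universe u

variable {X : RSpace.{u}} {Ω : Type u} [Field Ω] [IsAlgClosed Ω] (ξ : GeomPt X Ω)

/-- the fibre of a pushout is the fibre product of the fibres -/
theorem fib_pushout {C A B : FEt X} (u : C ⟶ A) (v : C ⟶ B) (x : ξ.Fib A.obj) (y : ξ.Fib B.obj)
    (hxy : ξ.fibMap u.hom x = ξ.fibMap v.hom y) :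
    ∃! z : ξ.Fib (poFEt u v).obj, ξ.fibMap (poInl u v).hom z = x ∧
      ξ.fibMap (poInr u v).hom z = y := by
  letI : Algebra (X.ring ξ.base) Ω := ξ.toField.toAlgebra
  have := (A.property.2 ξ.base).1
  have := (A.property.2 ξ.base).2
  have := (B.property.2 ξ.base).1
  have := (B.property.2 ξ.base).2
  have := (C.property.2 ξ.base).1
  have := (C.property.2 ξ.base).2
  have hP1 : Module.Finite (X.ring ξ.base) (PO (u.hom.app ξ.base) (v.hom.app ξ.base)) :=
    ((poFEt u v).property.2 ξ.base).1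
  have hP2 : Algebra.Etale (X.ring ξ.base) (PO (u.hom.app ξ.base) (v.hom.app ξ.base)) :=
    ((poFEt u v).property.2 ξ.base).2
  let eA := fibEquiv (R := X.ring ξ.base) Ω (A.obj.carrier ξ.base)
  let eB := fibEquiv (R := X.ring ξ.base) Ω (B.obj.carrier ξ.base)
  let eC := fibEquiv (R := X.ring ξ.base) Ω (C.obj.carrier ξ.base)
  let eP := fibEquiv (R := X.ring ξ.base) Ω (PO (u.hom.app ξ.base) (v.hom.app ξ.base))
  obtain ⟨a, rfl⟩ := eA.surjective x
  obtain ⟨b, rfl⟩ := eB.surjective y
  have hab : a.comp (u.hom.app ξ.base) = b.comp (v.hom.app ξ.base) := by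
    apply eC.injective
    change fibEquiv Ω _ _ = fibEquiv Ω _ _
    rw [← comap_fibEquiv, ← comap_fibEquiv]
    exact hxy
  obtain ⟨z₀, ⟨hz1, hz2⟩, hz3⟩ := existsUnique_algHom_po (u.hom.app ξ.base) (v.hom.app ξ.base)
    a b hab
  refine ⟨eP z₀, ⟨?_, ?_⟩, ?_⟩
  · change _ = fibEquiv Ω _ a
    rw [← hz1, ← comap_fibEquiv]; rfl
  · change _ = fibEquiv Ω _ b
    rw [← hz2, ← comap_fibEquiv]; rfl
  · rintro z' ⟨h1, h2⟩
    obtain ⟨z₀', rfl⟩ := eP.surjective z'
    congr 1
    apply hz3
    constructor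
    · apply eA.injective
      change fibEquiv Ω _ _ = fibEquiv Ω _ _
      rw [← comap_fibEquiv]; exact h1
    · apply eB.injective
      change fibEquiv Ω _ _ = fibEquiv Ω _ _
      rw [← comap_fibEquiv]; exact h2

open Groth.Agent.S15622 in
/-- the fibre of a finite product is the disjoint union of the fibres -/
theorem fib_pi {J : Type} [Finite J] (A : J → FEt X) (z : ξ.Fib (piFEt A).obj) :
    ∃! ja : Σ j, ξ.Fib (A j).obj, ξ.fibMap (piProj A ja.1).hom ja.2 = z := by
  letI : Algebra (X.ring ξ.base) Ω := ξ.toField.toAlgebra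
  have hA1 : ∀ j, Module.Finite (X.ring ξ.base) ((A j).obj.carrier ξ.base) :=
    fun j => ((A j).property.2 ξ.base).1
  have hA2 : ∀ j, Algebra.Etale (X.ring ξ.base) ((A j).obj.carrier ξ.base) :=
    fun j => ((A j).property.2 ξ.base).2
  have hP1 : Module.Finite (X.ring ξ.base) (∀ j, (A j).obj.carrier ξ.base) :=
    ((piFEt A).property.2 ξ.base).1
  have hP2 : Algebra.Etale (X.ring ξ.base) (∀ j, (A j).obj.carrier ξ.base) :=
    ((piFEt A).property.2 ξ.base).2
  let eA := fun j => fibEquiv (R := X.ring ξ.base) Ω ((A j).obj.carrier ξ.base)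
  let eP := fibEquiv (R := X.ring ξ.base) Ω (∀ j, (A j).obj.carrier ξ.base)
  obtain ⟨z₀, rfl⟩ := eP.surjective z
  obtain ⟨⟨j, a⟩, hja, huniq⟩ := existsUnique_algHom_pi (R := X.ring ξ.base) (Ω := Ω)
    (fun j => (A j).obj.carrier ξ.base) z₀
  have key : ∀ (j : J) (a : (A j).obj.carrier ξ.base →ₐ[X.ring ξ.base] Ω),
      ξ.fibMap (piProj A j).hom (eA j a) =
        eP (a.comp (Pi.evalAlgHom (X.ring ξ.base) (fun j => (A j).obj.carrier ξ.base) j)) := by
    intro j a
    change _ = fibEquiv (R := X.ring ξ.base) Ω (∀ j, (A j).obj.carrier ξ.base) _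
    rw [← comap_fibEquiv]
    rfl
  refine ⟨⟨j, eA j a⟩, ?_, ?_⟩
  · change ξ.fibMap (piProj A j).hom (eA j a) = eP z₀
    rw [key, ← hja]
  · rintro ⟨j', x'⟩ hx'
    obtain ⟨a', rfl⟩ := (eA j').surjective x'
    change ξ.fibMap (piProj A j').hom (eA j' a') = eP z₀ at hx'
    rw [key] at hx'
    have h1 := huniq ⟨j', a'⟩ (eP.injective hx').symm
    have h2 : j' = j := congrArg Sigma.fst h1
    subst h2
    have h3 : a' = a := eq_of_heq (Sigma.mk.inj h1).2
    rw [h3]

/-- the fibre map of a pointwise injective morphism is surjective -/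
theorem fib_surjective {A B : FEt X} (u : B ⟶ A)
    (hu : Function.Injective (u.hom.app ξ.base)) : Function.Surjective (ξ.fibMap u.hom) := by
  letI : Algebra (X.ring ξ.base) Ω := ξ.toField.toAlgebra
  have := (A.property.2 ξ.base).1
  have := (A.property.2 ξ.base).2
  have := (B.property.2 ξ.base).1
  have := (B.property.2 ξ.base).2
  let eA := fibEquiv (R := X.ring ξ.base) Ω (A.obj.carrier ξ.base)
  let eB := fibEquiv (R := X.ring ξ.base) Ω (B.obj.carrier ξ.base)
  intro y
  obtain ⟨b, rfl⟩ := eB.surjective y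
  have hint : (u.hom.app ξ.base).toRingHom.IsIntegral := by
    letI : Algebra (B.obj.carrier ξ.base) (A.obj.carrier ξ.base) :=
      (u.hom.app ξ.base).toRingHom.toAlgebra
    haveI : IsScalarTower (X.ring ξ.base) (B.obj.carrier ξ.base) (A.obj.carrier ξ.base) :=
      IsScalarTower.of_algebraMap_eq fun r => ((u.hom.app ξ.base).commutes r).symm
    haveI : Module.Finite (B.obj.carrier ξ.base) (A.obj.carrier ξ.base) :=
      Module.Finite.of_restrictScalars_finite (X.ring ξ.base) _ _
    exact (Algebra.IsIntegral.of_finite (B.obj.carrier ξ.base) (A.obj.carrier ξ.base)).isIntegral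
  obtain ⟨a, ha⟩ := exists_algHom_extension (u.hom.app ξ.base) hu hint b
  refine ⟨eA a, ?_⟩
  change _ = fibEquiv Ω _ b
  rw [← ha, ← comap_fibEquiv]
  rfl

/-- the fibre of the structure algebra is a point -/
theorem fib_str_unique : Nonempty (Unique (ξ.Fib (strFEt X).obj)) := by
  letI : Algebra (X.ring ξ.base) Ω := ξ.toField.toAlgebra
  have h1 : Module.Finite (X.ring ξ.base) (X.ring ξ.base) := inferInstance
  have h2 : Algebra.Etale (X.ring ξ.base) (X.ring ξ.base) := inferInstance
  let e := fibEquiv (R := X.ring ξ.base) Ω (X.ring ξ.base)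
  haveI : Unique (X.ring ξ.base →ₐ[X.ring ξ.base] Ω) :=
    { default := Algebra.ofId _ _
      uniq := fun f => AlgHom.ext fun r =>
        (f.commutes r).trans ((Algebra.ofId (X.ring ξ.base) Ω).commutes r).symm }
  exact ⟨e.symm.unique⟩

end Groth.Agent.Lib.Helper89.FEtFib
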