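import Groth.Agent.Lib.Helper89.FEtBasic
import Groth.Agent.S15622

/-!
# The structure algebra, `O × O`, and morphisms attached to idempotent sections
-/

set_option autoImplicit false

open TensorProduct CategoryTheory

namespace Groth.Agent.Lib.Helper89.FEtProd

open _root_.SchFin Groth.Agent.Lib.Helper89.SchFinBC Groth.Agent.Lib.Helper89.FEtBasic

universe u

variable {X : RSpace.{u}}

/-- a ring is a base change of itself along any ring map -/
theorem isBCAlong_self {R S : Type u} [CommRing R] [CommRing S] (g : R →+* S)
    (f : R →ₛₗ[g] S) (hf : ∀ r, f r = g r) : IsBCAlong g f := by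
  rw [isBCAlong_iff_bijective]
  let alg : Algebra R S := g.toAlgebra
  refine ⟨(TensorProduct.rid R S).toLinearMap.toAddMonoidHom, fun s r => ?_,
    (TensorProduct.rid R S).bijective⟩
  change (TensorProduct.rid R S) (s ⊗ₜ r) = s • f r
  rw [TensorProduct.rid_tmul, hf, Algebra.smul_def, smul_eq_mul, mul_comm]
  rfl

theorem str_isEtCover (X : RSpace.{u}) : (Alg.str X).IsEtCover := by
  refine ⟨fun p q h => ?_, fun p => ⟨?_, ?_⟩⟩
  · let f : X.ring p →ₛₗ[X.res h] X.ring q := (Alg.str X).toMod.res (p := p) (q := q) h
    change IsBCAlong (X.res h) f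
    exact isBCAlong_self (X.res h) f (fun _ => rfl)
  · exact (inferInstance : Module.Finite (X.ring p) (X.ring p))
  · exact (inferInstance : Algebra.Etale (X.ring p) (X.ring p))

/-- the structure algebra as an étale cover -/
def strFEt (X : RSpace.{u}) : FEt X := ⟨Alg.str X, str_isEtCover X⟩

/-- the unique morphism from the structure algebra -/
def strHom (A : FEt X) : strFEt X ⟶ A :=
  ObjectProperty.homMk
    (⟨fun p => Algebra.ofId (X.ring p) (A.obj.carrier p),
      fun {p q} h b => A.obj.res_algebraMap h b⟩ : Alg.Hom (Alg.str X) A.obj)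

theorem strHom_unique (A : FEt X) (g : strFEt X ⟶ A) : g = strHom A := by
  apply ObjectProperty.hom_ext
  apply Alg.hom_ext
  intro p
  apply AlgHom.ext
  intro b
  have h1 := (g.hom.app p).commutes b
  have h2 := ((strHom A).hom.app p).commutes b
  exact h1.trans h2.symm

/-- the zero family of idempotents -/
def IdemFam.zero (A : Alg X) : IdemFam A where
  e _ := 0
  idem _ := IsIdempotentElem.zero
  compat _ := map_zero _

lemma res_smul (A : Alg X) {p q : X.pt} (h : p ≤ q) (r : X.ring p) (a : A.carrier p) :
    A.res h (r • a) = X.res h r • A.res h a := by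
  rw [Algebra.smul_def, Algebra.smul_def, map_mul, A.res_algebraMap]

/-- the algebra map `R × R → A` attached to an idempotent -/
def idemAlgHom {R A : Type*} [CommRing R] [CommRing A] [Algebra R A] (e : A)
    (he : IsIdempotentElem e) : (Bool → R) →ₐ[R] A where
  toFun v := v true • e + v false • (1 - e)
  map_one' := by simp
  map_zero' := by simp
  map_add' v w := by simp only [Pi.add_apply, add_smul]; abel
  map_mul' v w := by
    simp only [Pi.mul_apply, Algebra.smul_def, map_mul]
    have := he.eq
    linear_combination (-(algebraMap R A (v true)) * (algebraMap R A (w true)) +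
      (algebraMap R A (v true)) * (algebraMap R A (w false)) +
      (algebraMap R A (v false)) * (algebraMap R A (w true)) -
      (algebraMap R A (v false)) * (algebraMap R A (w false))) * this
  commutes' r := by
    simp only [Pi.algebraMap_apply, Algebra.algebraMap_self, RingHom.id_apply,
      Algebra.smul_def]
    ring

/-- `O × O` -/
def twoFEt (X : RSpace.{u}) : FEt X := Groth.Agent.S15622.piFEt (fun _ : Bool => strFEt X)

/-- the morphism `O × O → A` attached to an idempotent section -/
def idemHom (A : FEt X) (E : IdemFam A.obj) : twoFEt X ⟶ A :=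
  ObjectProperty.homMk
    (⟨fun p => idemAlgHom (R := X.ring p) (E.e p) (E.idem p), fun {p q} h v => by
      have hv : ∀ v' : Bool → X.ring p,
          A.obj.res h (v' true • E.e p + v' false • (1 - E.e p)) =
            X.res h (v' true) • E.e q + X.res h (v' false) • (1 - E.e q) := by
        intro v'
        rw [map_add, res_smul, res_smul, map_sub, map_one, E.compat h]
      exact hv v⟩ :
      Alg.Hom (Groth.Agent.S15622.piAlg (fun _ : Bool => Alg.str X)) A.obj)

lemma idemHom_apply (A : FEt X) (E : IdemFam A.obj) (p : X.pt) (v : Bool → X.ring p) :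
    (idemHom A E).hom.app p v = v true • E.e p + v false • (1 - E.e p) := rfl

open CategoryTheory.Limits in
/-- a pair of morphisms which is pointwise a bijection onto the product is a product -/
theorem isLimit_binaryFan_of_bijective {A B D : FEt X} (f : A ⟶ B) (π : A ⟶ D)
    (hbij : ∀ p, Function.Bijective ((f.hom.app p).prod (π.hom.app p))) :
    Nonempty (IsLimit (BinaryFan.mk f π)) := by
  let e : ∀ p, A.obj.carrier p ≃ₐ[X.ring p] B.obj.carrier p × D.obj.carrier p :=
    fun p => AlgEquiv.ofBijective ((f.hom.app p).prod (π.hom.app p)) (hbij p)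
  have he : ∀ p a, e p a = (f.hom.app p a, π.hom.app p a) := fun p a => rfl
  have hfst : ∀ p y, f.hom.app p ((e p).symm y) = y.1 := by
    intro p y
    have := he p ((e p).symm y)
    rw [AlgEquiv.apply_symm_apply] at this
    exact (congrArg Prod.fst this).symm
  have hsnd : ∀ p y, π.hom.app p ((e p).symm y) = y.2 := by
    intro p y
    have := he p ((e p).symm y)
    rw [AlgEquiv.apply_symm_apply] at this
    exact (congrArg Prod.snd this).symm
  let lift : ∀ {T : FEt X} (_ : T ⟶ B) (_ : T ⟶ D), T ⟶ A := fun {T} u v =>
    ObjectProperty.homMk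
      (⟨fun p => (e p).symm.toAlgHom.comp ((u.hom.app p).prod (v.hom.app p)), fun {p q} h t => by
        change A.obj.res h ((e p).symm (u.hom.app p t, v.hom.app p t)) =
          (e q).symm (u.hom.app q (T.obj.res h t), v.hom.app q (T.obj.res h t))
        apply (e q).injective
        rw [AlgEquiv.apply_symm_apply, he, ← f.hom.compat h, ← π.hom.compat h, hfst, hsnd,
          u.hom.compat h, v.hom.compat h]⟩ : Alg.Hom T.obj A.obj)
  refine ⟨BinaryFan.IsLimit.mk _ (fun {T} u v => lift u v) ?_ ?_ ?_⟩
  · intro T u v
    apply ObjectProperty.hom_ext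
    apply Alg.hom_ext
    intro p
    apply AlgHom.ext
    intro t
    exact hfst p _
  · intro T u v
    apply ObjectProperty.hom_ext
    apply Alg.hom_ext
    intro p
    apply AlgHom.ext
    intro t
    exact hsnd p _
  · intro T u v m hm1 hm2
    apply ObjectProperty.hom_ext
    apply Alg.hom_ext
    intro p
    apply AlgHom.ext
    intro t
    apply (e p).injective
    change e p (m.hom.app p t) = e p ((e p).symm (u.hom.app p t, v.hom.app p t))
    rw [AlgEquiv.apply_symm_apply, he]
    have h1 := congrArg (fun g => g.hom.app p t) hm1
    have h2 := congrArg (fun g => g.hom.app p t) hm2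
    exact Prod.ext h1 h2

/-- the two quotients by complementary idempotent families give a product decomposition -/
theorem quot_prod_bijective (A : FEt X) (E : IdemFam A.obj) (p : X.pt) :
    Function.Bijective (((quotProj A E).hom.app p).prod ((quotProj A E.compl).hom.app p)) := by
  have := RingHom.prod_bijective_of_isIdempotentElem (E.idem p) (E.idem p).one_sub
    (by ring : E.e p + (1 - E.e p) = 1)
    (by have := (E.idem p).eq; linear_combination (-1 : A.obj.carrier p) * this)
  exact this

end Groth.Agent.Lib.Helper89.FEtProd
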