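import Groth.Agent.Lib.Helper89.FEtFib
import Groth.Agent.S15626
import Mathlib.CategoryTheory.Limits.Opposites
import Mathlib.CategoryTheory.ConcreteCategory.EpiMono

/-!
# The fibre functor preserves terminal objects, pullbacks, finite coproducts and epimorphisms
-/

set_option autoImplicit false
set_option linter.style.haveILetI false

open TensorProduct CategoryTheory CategoryTheory.Limits Opposite

namespace Groth.Agent.Lib.Helper89.FEtFibFunctor

open _root_.SchFin Groth.Agent.Lib.Helper89.FEtBasic Groth.Agent.Lib.Helper89.FEtProd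
  Groth.Agent.Lib.Helper89.FEtPushout Groth.Agent.Lib.Helper89.FEtFib Groth.Agent.S15622

universe u

/-! ### Limits in `FintypeCat` -/

theorem fintypeCat_isLimit_pullbackCone {P A B C : FintypeCat.{u}} (fst : P ⟶ A) (snd : P ⟶ B)
    (f : A ⟶ C) (g : B ⟶ C) (comm : fst ≫ f = snd ≫ g)
    (h : ∀ (a : A) (b : B), f a = g b → ∃! z : P, fst z = a ∧ snd z = b) :
    Nonempty (IsLimit (PullbackCone.mk fst snd comm)) := by
  have hcond : ∀ (s : PullbackCone f g) (t : s.pt), f (s.fst t) = g (s.snd t) :=
    fun s t => ConcreteCategory.congr_hom s.condition t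
  refine ⟨PullbackCone.IsLimit.mk comm
    (fun s => FintypeCat.homMk (fun t => (h (s.fst t) (s.snd t) (hcond s t)).choose)) ?_ ?_ ?_⟩
  · intro s
    ext t
    exact (h (s.fst t) (s.snd t) (hcond s t)).choose_spec.1.1
  · intro s
    ext t
    exact (h (s.fst t) (s.snd t) (hcond s t)).choose_spec.1.2
  · intro s m h1 h2
    ext t
    exact (h (s.fst t) (s.snd t) (hcond s t)).choose_spec.2 (m t)
      ⟨ConcreteCategory.congr_hom h1 t, ConcreteCategory.congr_hom h2 t⟩

theorem fintypeCat_isColimit_cofan {J : Type} {A : J → FintypeCat.{u}} {P : FintypeCat.{u}}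
    (inj : ∀ j, A j ⟶ P) (h : ∀ z : P, ∃! ja : Σ j, A j, inj ja.1 ja.2 = z) :
    Nonempty (IsColimit (Cofan.mk P inj)) := by
  refine ⟨Cofan.IsColimit.mk _
    (fun t => FintypeCat.homMk (fun z => t.inj (h z).choose.1 (h z).choose.2)) ?_ ?_⟩
  · intro t j
    ext a
    have h1 := (h (inj j a)).choose_spec.2 ⟨j, a⟩ rfl
    change t.inj (h (inj j a)).choose.1 (h (inj j a)).choose.2 = t.inj j a
    rw [← h1]
  · intro t m hm
    ext z
    have h1 := (h z).choose_spec.1
    change m z = t.inj (h z).choose.1 (h z).choose.2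
    rw [← hm]
    change m z = m (inj (h z).choose.1 (h z).choose.2)
    rw [h1]

theorem fintypeCat_isTerminal_of_unique (T : FintypeCat.{u}) [Unique T] : Nonempty (IsTerminal T) :=
  ⟨IsTerminal.ofUniqueHom (fun Y => FintypeCat.homMk (fun _ => default))
    (fun Y m => by ext y; exact Subsingleton.elim _ _)⟩

variable {X : RSpace.{u}}

/-! ### (Co)limits in the opposite category of étale covers -/

/-- the structure algebra is initial -/
def strIsInitial (X : RSpace.{u}) : IsInitial (strFEt X) :=
  IsInitial.ofUniqueHom (fun A => strHom A) (fun A m => strHom_unique A m)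

/-- the pullback cone in the opposite category attached to the pushout -/
noncomputable def opPullbackCone {A' B' C' : (FEt X)ᵒᵖ} (f : A' ⟶ C') (g : B' ⟶ C') :
    PullbackCone f g :=
  PullbackCone.mk (W := op (poFEt f.unop g.unop)) (poInl f.unop g.unop).op (poInr f.unop g.unop).op
    (Quiver.Hom.unop_inj (po_condition f.unop g.unop))

lemma opCond {A' B' C' : (FEt X)ᵒᵖ} {f : A' ⟶ C'} {g : B' ⟶ C'} (s : PullbackCone f g) :
    f.unop ≫ s.fst.unop = g.unop ≫ s.snd.unop :=
  congrArg Quiver.Hom.unop s.condition

/-- it is a limit -/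
noncomputable def opPullbackIsLimit {A' B' C' : (FEt X)ᵒᵖ} (f : A' ⟶ C') (g : B' ⟶ C') :
    IsLimit (opPullbackCone f g) :=
  PullbackCone.IsLimit.mk _
    (fun s => (poDesc s.fst.unop s.snd.unop (opCond s)).op)
    (fun s => Quiver.Hom.unop_inj (poInl_desc s.fst.unop s.snd.unop (opCond s)))
    (fun s => Quiver.Hom.unop_inj (poInr_desc s.fst.unop s.snd.unop (opCond s)))
    (fun s m h1 h2 => Quiver.Hom.unop_inj (po_hom_ext m.unop
      (poDesc s.fst.unop s.snd.unop (opCond s))
      ((congrArg Quiver.Hom.unop h1).trans (poInl_desc s.fst.unop s.snd.unop (opCond s)).symm)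
      ((congrArg Quiver.Hom.unop h2).trans (poInr_desc s.fst.unop s.snd.unop (opCond s)).symm)))

/-- the product fan of étale covers is a limit -/
def piIsLimit {J : Type} [Finite J] (A : J → FEt X) : IsLimit (Fan.mk (piFEt A) (piProj A)) := by
  refine Fan.IsLimit.mk _ (fun s => ObjectProperty.homMk
    (⟨fun p => AlgHom.pi
        (fun j => (s.proj j).hom.app p), fun {p q} h b => by
      funext j
      exact (s.proj j).hom.compat h b⟩ : Alg.Hom s.pt.obj (piAlg (fun j => (A j).obj)))) ?_ ?_
  · intro s j
    apply ObjectProperty.hom_ext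
    apply Alg.hom_ext
    intro p
    rfl
  · intro s m hm
    apply ObjectProperty.hom_ext
    apply Alg.hom_ext
    intro p
    apply AlgHom.ext
    intro b
    funext j
    have := congrArg (fun t => t.hom.app p b) (hm j)
    exact this

/-- the cofan in the opposite category attached to the product -/
def opCofan {J : Type} [Finite J] (A' : J → (FEt X)ᵒᵖ) : Cofan A' :=
  Cofan.mk (op (piFEt (fun j => (A' j).unop))) (fun j => (piProj (fun j => (A' j).unop) j).op)

/-- it is a colimit -/
def opCofanIsColimit {J : Type} [Finite J] (A' : J → (FEt X)ᵒᵖ) : IsColimit (opCofan A') :=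
  Cofan.IsColimit.mk _
    (fun t => (Fan.IsLimit.lift (piIsLimit (fun j => (A' j).unop)) (fun j => (t.inj j).unop)).op)
    (fun t j => Quiver.Hom.unop_inj
      (Fan.IsLimit.fac (piIsLimit (fun j => (A' j).unop)) (fun j => (t.inj j).unop) j))
    (fun t m hm => Quiver.Hom.unop_inj
      (Fan.IsLimit.hom_ext (piIsLimit (fun j => (A' j).unop)) _ _ (fun j =>
        (congrArg Quiver.Hom.unop (hm j)).trans
          (Fan.IsLimit.fac (piIsLimit (fun j => (A' j).unop)) (fun j => (t.inj j).unop) j).symm)))

/-! ### Preservation -/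

variable {Ω : Type u} [Field Ω] [IsAlgClosed Ω] (ξ : GeomPt X Ω)

theorem preservesTerminal : PreservesLimitsOfShape (Discrete PEmpty.{1}) ξ.fibFunctor := by
  have hT : IsTerminal (op (strFEt X)) := terminalOpOfInitial (strIsInitial X)
  obtain ⟨hU⟩ := fib_str_unique ξ
  haveI : Unique (ξ.fibFunctor.obj (op (strFEt X))) := hU
  obtain ⟨hFT⟩ := fintypeCat_isTerminal_of_unique (ξ.fibFunctor.obj (op (strFEt X)))
  haveI : PreservesLimit (Functor.empty.{0} (FEt X)ᵒᵖ) ξ.fibFunctor :=
    preservesLimit_of_preserves_limit_cone hT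
      ((isLimitMapConeEmptyConeEquiv ξ.fibFunctor _).symm hFT)
  exact preservesLimitsOfShape_pempty_of_preservesTerminal ξ.fibFunctor

theorem preservesLimit_cospan {A' B' C' : (FEt X)ᵒᵖ} (f : A' ⟶ C') (g : B' ⟶ C') :
    PreservesLimit (cospan f g) ξ.fibFunctor := by
  apply preservesLimit_of_preserves_limit_cone (opPullbackIsLimit f g)
  unfold opPullbackCone
  apply (isLimitMapConePullbackConeEquiv ξ.fibFunctor _).symm _
  exact (fintypeCat_isLimit_pullbackCone _ _ _ _ _
    (fun a b hab => fib_pushout ξ f.unop g.unop a b hab)).some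

theorem preservesPullbacks : PreservesLimitsOfShape WalkingCospan ξ.fibFunctor := by
  constructor
  intro K
  haveI := preservesLimit_cospan ξ (K.map WalkingCospan.Hom.inl) (K.map WalkingCospan.Hom.inr)
  exact preservesLimit_of_iso_diagram ξ.fibFunctor (diagramIsoCospan K).symm

theorem preservesColimit_discrete {J : Type} [Finite J] (A' : J → (FEt X)ᵒᵖ) :
    PreservesColimit (Discrete.functor A') ξ.fibFunctor := by
  apply preservesColimit_of_preserves_colimit_cocone (opCofanIsColimit A')
  unfold opCofan
  apply (isColimitMapCoconeCofanMkEquiv ξ.fibFunctor _ _).symm _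
  exact (fintypeCat_isColimit_cofan _ (fun z => fib_pi ξ (fun j => (A' j).unop) z)).some

theorem preservesFiniteCoproducts : PreservesFiniteCoproducts ξ.fibFunctor := by
  constructor
  intro n
  constructor
  intro K
  haveI := preservesColimit_discrete ξ (K.obj ∘ Discrete.mk)
  exact preservesColimit_of_iso_diagram ξ.fibFunctor (Discrete.natIsoFunctor (F := K)).symm

theorem preservesEpimorphisms (hX : X.IsSchematic) : ξ.fibFunctor.PreservesEpimorphisms := by
  constructor
  intro A' B' f hf
  haveI : Mono f.unop := unop_mono_of_epi f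
  have hinj := Groth.Agent.S15626.result X hX f.unop ξ.base
  have hsurj := fib_surjective ξ f.unop hinj
  exact ConcreteCategory.epi_of_surjective _ hsurj

end Groth.Agent.Lib.Helper89.FEtFibFunctor
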