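import Groth.Agent.Lib.Helper89.FEtFF
import Groth.Agent.Lib.Helper89.FEtField

/-!
# Finiteness of geometric fibres of finite étale covers
-/

set_option autoImplicit false
universe u
open AlgebraicGeometry CategoryTheory CategoryTheory.Limits

namespace Groth.Agent.Lib.Helper89.FEtFiberFin

open Groth.Agent.Lib.Helper89

/-- Two sections of a separated unramified morphism (locally of finite type) hitting the same
point of a one-point source agree. -/
lemma section_ext {T W : Scheme.{u}} [Subsingleton T] (q : W ⟶ T) [IsSeparated q]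
    [LocallyOfFiniteType q] [FormallyUnramified q] (σ₁ σ₂ : T ⟶ W) (h₁ : σ₁ ≫ q = 𝟙 T)
    (h₂ : σ₂ ≫ q = 𝟙 T) (t : T) (h : σ₁.base t = σ₂.base t) : σ₁ = σ₂ := by
  have : IsOpenImmersion σ₁ := FEtFF.isOpenImmersion_of_section σ₁ q h₁
  have : IsOpenImmersion σ₂ := FEtFF.isOpenImmersion_of_section σ₂ q h₂
  have hr : Set.range σ₁.base = Set.range σ₂.base := by
    have h1 : Set.range σ₁.base = {σ₁.base t} := by
      ext x; constructor
      · rintro ⟨y, rfl⟩; rw [Subsingleton.elim y t]; rfl
      · rintro rfl; exact ⟨t, rfl⟩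
    have h2 : Set.range σ₂.base = {σ₂.base t} := by
      ext x; constructor
      · rintro ⟨y, rfl⟩; rw [Subsingleton.elim y t]; rfl
      · rintro rfl; exact ⟨t, rfl⟩
    rw [h1, h2, h]
  have hfac := IsOpenImmersion.isoOfRangeEq_hom_fac σ₁ σ₂ hr
  have hid : (IsOpenImmersion.isoOfRangeEq σ₁ σ₂ hr).hom = 𝟙 T := by
    have := congrArg (· ≫ q) hfac
    simp only [Category.assoc, h₁, h₂, Category.comp_id] at this
    exact this
  rw [← hfac, hid, Category.id_comp]


/-- The set of `Ω`-points of `Y` over `ξ : Spec Ω ⟶ X` is finite when `Y ⟶ X` is finite étale. -/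
theorem finite_lifts {X Y : Scheme.{u}} (p : Y ⟶ X) [IsFinite p] [Etale p] {Ω : Type u} [Field Ω]
    (ξ : Spec (CommRingCat.of Ω) ⟶ X) :
    Finite {s : Spec (CommRingCat.of Ω) ⟶ Y // s ≫ p = ξ} := by
  have hsub : Subsingleton (Spec (CommRingCat.of Ω)) :=
    inferInstanceAs (Subsingleton (PrimeSpectrum Ω))
  have hne : Nonempty (Spec (CommRingCat.of Ω)) :=
    inferInstanceAs (Nonempty (PrimeSpectrum Ω))
  obtain ⟨pt⟩ := hne
  have : DiscreteTopology ↥(pullback p ξ) :=
    FEtField.discreteTopology_of_isFinite Ω (pullback.snd p ξ)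
  have : CompactSpace ↥(pullback p ξ) :=
    QuasiCompact.compactSpace_of_compactSpace (pullback.snd p ξ)
  have : Finite ↥(pullback p ξ) := finite_of_compact_of_discrete
  let Φ : {s : Spec (CommRingCat.of Ω) ⟶ Y // s ≫ p = ξ} → ↥(pullback p ξ) := fun s =>
    (pullback.lift s.1 (𝟙 _) (by rw [s.2, Category.id_comp])).base pt
  refine Finite.of_injective Φ ?_
  intro s s' hss
  have h := section_ext (pullback.snd p ξ)
    (pullback.lift s.1 (𝟙 _) (by rw [s.2, Category.id_comp]))
    (pullback.lift s'.1 (𝟙 _) (by rw [s'.2, Category.id_comp]))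
    (pullback.lift_snd _ _ _) (pullback.lift_snd _ _ _) pt hss
  apply Subtype.ext
  have h1 := congrArg (· ≫ pullback.fst p ξ) h
  simpa only [pullback.lift_fst] using h1

end Groth.Agent.Lib.Helper89.FEtFiberFin
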