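import Groth.Agent.Lib.Helper89.FEtBasic
import Mathlib.RingTheory.Finiteness.Nakayama
import Mathlib.RingTheory.Spectrum.Prime.FreeLocus

/-!
# Isomorphisms of étale covers: pointwise bijective morphisms, the rank criterion
-/

set_option autoImplicit false
set_option linter.style.haveILetI false

open TensorProduct CategoryTheory

namespace Groth.Agent.Lib.Helper89.FEtIso

open _root_.SchFin Groth.Agent.Lib.Helper89.FEtBasic

universe u

/-- an injective map of finite étale algebras has a module retraction -/
theorem exists_retraction {R A B : Type u} [CommRing R] [CommRing A] [CommRing B]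
    [Algebra R A] [Algebra R B] [Algebra.Etale R A] [Algebra.Etale R B]
    [Module.Finite R B] (f : A →ₐ[R] B) (hf : Function.Injective f) :
    ∃ l : B →ₗ[R] A, ∀ a, l (f a) = a := by
  classical
  letI : Algebra A B := f.toRingHom.toAlgebra
  haveI : IsScalarTower R A B := IsScalarTower.of_algebraMap_eq fun r => (f.commutes r).symm
  obtain ⟨h2, h3, -⟩ := projective_of_etale (R := R) (A := A) (B := B)
  obtain ⟨n, π, ι, -, -, hπι⟩ := Module.Finite.exists_comp_eq_id_of_projective A B
  have hπι' : ∀ x, π (ι x) = x := fun x => congrArg (fun φ => φ x) hπι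
  let I : Ideal A := Ideal.span (Set.range (ι 1))
  have hexp : ∀ v : Fin n → A, π v = ∑ k, v k • π (Pi.single k 1) := by
    intro v
    conv_lhs => rw [← Finset.univ_sum_single v]
    rw [map_sum]
    refine Finset.sum_congr rfl fun k _ => ?_
    rw [← map_smul]
    congr 1
    ext i
    by_cases h : i = k
    · subst h; simp
    · simp [Pi.single_eq_of_ne h]
  have hle : (⊤ : Submodule A B) ≤ I • ⊤ := by
    rintro b -
    have hb : b = ∑ k, (ι 1 k) • (b * π (Pi.single k 1)) := by
      have h1 : (1 : B) = ∑ k, (ι 1 k) • π (Pi.single k 1) := by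
        conv_lhs => rw [← hπι' 1]
        rw [hexp]
      conv_lhs => rw [← mul_one b, h1, Finset.mul_sum]
      refine Finset.sum_congr rfl fun k _ => ?_
      rw [mul_smul_comm]
    rw [hb]
    refine Submodule.sum_mem _ fun k _ => ?_
    exact Submodule.smul_mem_smul (Ideal.subset_span ⟨k, rfl⟩) Submodule.mem_top
  obtain ⟨r, hr1, hr2⟩ := Submodule.exists_sub_one_mem_and_smul_eq_zero_of_fg_of_le_smul I
    (⊤ : Submodule A B) (Module.finite_def.mp h2) hle
  have hr0 : r = 0 := by
    apply hf
    have := hr2 1 Submodule.mem_top
    rw [Algebra.smul_def, mul_one] at this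
    rw [map_zero]
    exact this
  have h1I : (1 : A) ∈ I := by
    rw [hr0, zero_sub] at hr1
    have := I.neg_mem hr1
    rwa [neg_neg] at this
  obtain ⟨c, hc⟩ := Ideal.mem_span_range_iff_exists_fun.mp h1I
  let lA : B →ₗ[A] A := ∑ k, c k • ((LinearMap.proj k : (Fin n → A) →ₗ[A] A).comp ι)
  have hl1 : lA 1 = 1 := by
    change (∑ k, c k • ((LinearMap.proj k : (Fin n → A) →ₗ[A] A).comp ι)) 1 = 1
    rw [LinearMap.sum_apply]
    simpa using hc
  refine ⟨lA.restrictScalars R, fun a => ?_⟩
  change lA (f a) = a
  have : f a = a • (1 : B) := by rw [Algebra.smul_def, mul_one]; rfl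
  rw [this, map_smul, hl1, smul_eq_mul, mul_one]

/-- an injective map of finite étale algebras with the same ranks is bijective -/
theorem bijective_of_injective_of_rank_eq {R A B : Type u} [CommRing R] [CommRing A] [CommRing B]
    [Algebra R A] [Algebra R B] [Module.Finite R A] [Algebra.Etale R A] [Module.Finite R B]
    [Algebra.Etale R B] (f : A →ₐ[R] B) (hf : Function.Injective f)
    (hr : ∀ P : PrimeSpectrum R, Module.rankAtStalk A P = Module.rankAtStalk B P) :
    Function.Bijective f := by
  refine ⟨hf, ?_⟩
  obtain ⟨l, hl⟩ := exists_retraction f hf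
  -- the complement
  let C : Submodule R B := LinearMap.ker l
  let pr : B →ₗ[R] C :=
    (LinearMap.id - f.toLinearMap.comp l).codRestrict C (fun b => by
      change l (b - f (l b)) = 0
      rw [map_sub, hl, sub_self])
  have hpr : ∀ c : C, pr c.1 = c := by
    intro c
    apply Subtype.ext
    change c.1 - f (l c.1) = c.1
    rw [show l c.1 = 0 from c.2, map_zero, sub_zero]
  let e : B ≃ₗ[R] A × C :=
    LinearEquiv.ofLinearMap (l.prod pr) (f.toLinearMap.coprod C.subtype)
      (by
        apply LinearMap.ext
        rintro ⟨a, c⟩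
        apply Prod.ext
        · change l (f a + c.1) = a
          rw [map_add, hl, show l c.1 = 0 from c.2, add_zero]
        · change pr (f a + c.1) = c
          rw [map_add, hpr]
          have : pr (f a) = 0 := by
            apply Subtype.ext
            change f a - f (l (f a)) = 0
            rw [hl, sub_self]
          rw [this, zero_add])
      (by
        apply LinearMap.ext
        intro b
        change f (l b) + (b - f (l b)) = b
        abel)
  haveI : Module.Flat R C := Module.Flat.of_retract C.subtype pr (by
    apply LinearMap.ext; intro c; exact hpr c)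
  haveI : Module.Finite R C := Module.Finite.of_surjective pr (fun c => ⟨c.1, hpr c⟩)
  have hrank : Module.rankAtStalk (R := R) C = 0 := by
    funext P
    have h1 := Module.rankAtStalk_eq_of_equiv e (R := R)
    rw [Module.rankAtStalk_prod] at h1
    have h2 := congrFun h1 P
    rw [Pi.add_apply, ← hr P] at h2
    simpa using h2
  have hC : Subsingleton C := Module.rankAtStalk_eq_zero_iff_subsingleton.mp hrank
  intro b
  refine ⟨l b, ?_⟩
  have : pr b = 0 := Subsingleton.elim _ _
  have h3 := congrArg Subtype.val this
  change b - f (l b) = 0 at h3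
  rw [sub_eq_zero] at h3
  exact h3.symm

variable {X : RSpace.{u}}

/-- a pointwise bijective morphism of étale covers is an isomorphism -/
theorem isIso_of_bijective {A B : FEt X} (f : A ⟶ B)
    (h : ∀ p, Function.Bijective (f.hom.app p)) : IsIso f := by
  let e : ∀ p, A.obj.carrier p ≃ₐ[X.ring p] B.obj.carrier p :=
    fun p => AlgEquiv.ofBijective (f.hom.app p) (h p)
  let g : B ⟶ A := ObjectProperty.homMk
    (⟨fun p => (e p).symm.toAlgHom, fun {p q} hpq b => by
      change A.obj.res hpq ((e p).symm b) = (e q).symm (B.obj.res hpq b)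
      apply (e q).injective
      rw [AlgEquiv.apply_symm_apply]
      change f.hom.app q (A.obj.res hpq ((e p).symm b)) = _
      rw [← f.hom.compat hpq]
      change B.obj.res hpq (e p ((e p).symm b)) = _
      rw [AlgEquiv.apply_symm_apply]⟩ : Alg.Hom B.obj A.obj)
  refine ⟨⟨g, ?_, ?_⟩⟩
  · apply ObjectProperty.hom_ext
    apply Alg.hom_ext
    intro p
    apply AlgHom.ext
    intro a
    exact (e p).symm_apply_apply a
  · apply ObjectProperty.hom_ext
    apply Alg.hom_ext
    intro p
    apply AlgHom.ext
    intro b
    exact (e p).apply_symm_apply b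

end Groth.Agent.Lib.Helper89.FEtIso
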