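import Groth.Agent.Lib.Helper89.FEtFib
import Groth.Agent.Lib.Helper89.FEtIso
import Mathlib.Algebra.Algebra.Epi
import Mathlib.RingTheory.Flat.FaithfullyFlat.Basic

/-!
# The fibre functor of a geometric point reflects isomorphisms
-/

set_option autoImplicit false
set_option linter.style.haveILetI false

open TensorProduct CategoryTheory CategoryTheory.Limits

namespace Groth.Agent.Lib.Helper89.FEtReflect

open _root_.SchFin Groth.Agent.Lib.Helper89.FEtBasic Groth.Agent.Lib.Helper89.FEtProd
  Groth.Agent.Lib.Helper89.FEtPushout Groth.Agent.Lib.Helper89.FibAlg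
  Groth.Agent.Lib.Helper89.POAlg Groth.Agent.Lib.Helper89.FEtFib
  Groth.Agent.Lib.Helper89.FEtIso

universe u

/-- if the multiplication of the pushout of a finite map with itself is injective, the map is
surjective -/
theorem surjective_of_injective_desc {R A B : Type u} [CommRing R] [CommRing A] [CommRing B]
    [Algebra R A] [Algebra R B] [Module.Finite R A] (u : B →ₐ[R] A)
    (hμ : Function.Injective (desc (u := u) (v := u) (AlgHom.id R A) (AlgHom.id R A)
      (fun _ => rfl))) :
    Function.Surjective u := by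
  letI : Algebra B A := u.toRingHom.toAlgebra
  haveI : IsScalarTower R B A := IsScalarTower.of_algebraMap_eq fun r => (u.commutes r).symm
  haveI : Module.Finite B A := Module.Finite.of_restrictScalars_finite R _ _
  have hepi : Algebra.IsEpi B A := by
    rw [Algebra.isEpi_iff_forall_one_tmul_eq]
    intro a
    change inr u u a = inl u u a
    apply hμ
    rw [desc_inl, desc_inr]
  exact Algebra.isEpi_iff_surjective_algebraMap_of_finite.mp hepi

/-- if `Ω ⊗ D` is trivial and `B' ⊗ D ≅ B'^n` with `B'` faithfully flat, then `n = 0` -/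
theorem eq_zero_of_subsingleton_fibre {R D B' Ω : Type u} [CommRing R] [CommRing D] [CommRing B']
    [Field Ω] [Algebra R D] [Algebra R B'] [Algebra R Ω] [Module.FaithfullyFlat R B'] (n : ℕ)
    (e : B' ⊗[R] D ≃ₐ[B'] (Fin n → B')) (h : Subsingleton (Ω ⊗[R] D)) : n = 0 := by
  by_contra hn
  let i : Fin n := ⟨0, Nat.pos_of_ne_zero hn⟩
  let ψ : D →ₐ[R] B' :=
    (((Pi.evalAlgHom B' (fun _ : Fin n => B') i).comp e.toAlgHom).restrictScalars R).comp
      (Algebra.TensorProduct.includeRight)
  let Ψ : Ω ⊗[R] D →ₐ[Ω] Ω ⊗[R] B' := Algebra.TensorProduct.map (AlgHom.id Ω Ω) ψ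
  haveI : Nontrivial (Ω ⊗[R] B') := Module.FaithfullyFlat.rTensor_nontrivial R B' Ω
  have h1 : (1 : Ω ⊗[R] D) = 0 := Subsingleton.elim _ _
  have h2 := congrArg Ψ h1
  rw [map_one, map_zero] at h2
  exact one_ne_zero h2

variable {X : RSpace.{u}} {Ω : Type u} [Field Ω] [IsAlgClosed Ω] (ξ : GeomPt X Ω)

/-- a morphism of étale covers inducing a surjection on the fibres at a geometric point is
pointwise injective -/
theorem injective_of_fib_surjective (hX : X.IsSchematic)
    (hlt : ∀ A : FEt X, ∃ (B : Alg X) (n : ℕ), B.IsCovering ∧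
      ∀ p : X.pt, Nonempty (TensorProduct (X.ring p) (B.carrier p) (A.obj.carrier p)
        ≃ₐ[B.carrier p] (Fin n → B.carrier p)))
    {A B : FEt X} (g : B ⟶ A) (hs : Function.Surjective (ξ.fibMap g.hom)) (p : X.pt) :
    Function.Injective (g.hom.app p) := by
  obtain ⟨E, hE⟩ := exists_kerIdem hX g
  have ge0 : ∀ q, g.hom.app q (E.e q) = 0 := by
    intro q
    have : E.e q ∈ RingHom.ker (g.hom.app q).toRingHom := by
      rw [hE q]; exact Ideal.subset_span rfl
    exact this
  letI : Algebra (X.ring ξ.base) Ω := ξ.toField.toAlgebra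
  -- the fibre of the complementary quotient is empty
  have hempty : IsEmpty (ξ.Fib (quotFEt B E.compl).obj) := by
    constructor
    intro d
    obtain ⟨a, ha⟩ := hs (ξ.fibMap (quotProj B E.compl).hom d)
    have h1 : (1 : Ω) ⊗ₜ[X.ring ξ.base] (1 - E.e ξ.base) ∈
        (ξ.fibMap (quotProj B E.compl).hom d).asIdeal := by
      change (Algebra.TensorProduct.map (AlgHom.id Ω Ω)
        ((quotProj B E.compl).hom.app ξ.base)) _ ∈ d.asIdeal
      rw [Algebra.TensorProduct.map_tmul]
      have : (quotProj B E.compl).hom.app ξ.base (1 - E.e ξ.base) = 0 :=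
        (quotProj_eq_zero_iff B E.compl ξ.base _).mpr (Ideal.subset_span rfl)
      rw [this, tmul_zero]
      exact zero_mem _
    rw [← ha] at h1
    change (Algebra.TensorProduct.map (AlgHom.id Ω Ω) (g.hom.app ξ.base)) _ ∈ a.asIdeal at h1
    rw [Algebra.TensorProduct.map_tmul, map_sub, ge0, sub_zero, map_one, map_one] at h1
    exact a.isPrime.ne_top ((Ideal.eq_top_iff_one _).mpr h1)
  have hsub : Subsingleton (Ω ⊗[X.ring ξ.base] (quotFEt B E.compl).obj.carrier ξ.base) := by
    by_contra h
    rw [not_subsingleton_iff_nontrivial] at h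
    obtain ⟨d⟩ := (PrimeSpectrum.nonempty_iff_nontrivial.mpr h)
    exact hempty.false d
  obtain ⟨B'', n, hcov, hiso⟩ := hlt (quotFEt B E.compl)
  have hn : n = 0 := by
    haveI := (hcov.2 ξ.base).2
    exact eq_zero_of_subsingleton_fibre n (hiso ξ.base).some hsub
  subst hn
  have hD : Subsingleton ((quotFEt B E.compl).obj.carrier p) := by
    haveI := (hcov.2 p).2
    haveI : Subsingleton (B''.carrier p ⊗[X.ring p] (quotFEt B E.compl).obj.carrier p) :=
      (hiso p).some.toEquiv.injective.subsingleton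
    exact Module.FaithfullyFlat.lTensor_reflects_triviality (X.ring p) (B''.carrier p) _
  have htop : Ideal.span {1 - E.e p} = (⊤ : Ideal (B.obj.carrier p)) :=
    Ideal.Quotient.subsingleton_iff.mp hD
  have h1 : (1 : B.obj.carrier p) ∈ Ideal.span {1 - E.e p} := by rw [htop]; trivial
  obtain ⟨c, hc⟩ := Ideal.mem_span_singleton'.mp h1
  have he0 : E.e p = 0 := by
    have hid : E.e p * E.e p = E.e p := E.idem p
    calc E.e p = E.e p * 1 := (mul_one _).symm
      _ = E.e p * (c * (1 - E.e p)) := by rw [hc]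
      _ = c * (E.e p - E.e p * E.e p) := by ring
      _ = 0 := by rw [hid, sub_self, mul_zero]
  rw [injective_iff_map_eq_zero]
  intro a ha
  have : a ∈ RingHom.ker (g.hom.app p).toRingHom := ha
  rw [hE p, he0] at this
  simpa using this

/-- the codiagonal of a morphism inducing an injection on fibres induces a surjection on fibres -/
theorem fib_codiag_surjective {A B : FEt X} (u : B ⟶ A)
    (hi : Function.Injective (ξ.fibMap u.hom)) :
    Function.Surjective (ξ.fibMap (poDesc (u := u) (v := u) (𝟙 A) (𝟙 A) rfl).hom) := by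
  intro z
  set μ := poDesc (u := u) (v := u) (𝟙 A) (𝟙 A) rfl with hμ
  have hcomp : ∀ {P Q R : FEt X} (f : P ⟶ Q) (g : Q ⟶ R) (t : ξ.Fib R.obj),
      ξ.fibMap f.hom (ξ.fibMap g.hom t) = ξ.fibMap (f ≫ g).hom t := by
    intro P Q R f g t
    change _ = ξ.fibMap (f.hom ≫ g.hom) t
    rw [ξ.fibMap_comp]
    rfl
  have hid : ∀ (t : ξ.Fib A.obj), ξ.fibMap (𝟙 A : A ⟶ A).hom t = t := by
    intro t
    change ξ.fibMap (𝟙 A.obj) t = t
    rw [ξ.fibMap_id]
    rfl
  have hxy : ξ.fibMap (poInl u u).hom z = ξ.fibMap (poInr u u).hom z := by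
    apply hi
    rw [hcomp, hcomp, po_condition]
  obtain ⟨z₀, -, huniq⟩ := fib_pushout ξ u u (ξ.fibMap (poInl u u).hom z)
    (ξ.fibMap (poInr u u).hom z) (by rw [hxy])
  refine ⟨ξ.fibMap (poInl u u).hom z, ?_⟩
  have h1 : ξ.fibMap μ.hom (ξ.fibMap (poInl u u).hom z) = z₀ := by
    apply huniq
    constructor
    · rw [hcomp, hμ, poInl_desc, hid]
    · rw [hcomp, hμ, poInr_desc, hid, hxy]
  have h2 : z = z₀ := huniq z ⟨rfl, rfl⟩
  rw [h1, h2]

/-- a morphism of étale covers inducing a bijection on the fibres at a geometric point is an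
isomorphism -/
theorem isIso_of_fib_bijective (hX : X.IsSchematic)
    (hlt : ∀ A : FEt X, ∃ (B : Alg X) (n : ℕ), B.IsCovering ∧
      ∀ p : X.pt, Nonempty (TensorProduct (X.ring p) (B.carrier p) (A.obj.carrier p)
        ≃ₐ[B.carrier p] (Fin n → B.carrier p)))
    {A B : FEt X} (u : B ⟶ A) (hb : Function.Bijective (ξ.fibMap u.hom)) : IsIso u := by
  apply isIso_of_bijective
  intro p
  refine ⟨injective_of_fib_surjective ξ hX hlt u hb.2 p, ?_⟩
  have hμ := injective_of_fib_surjective ξ hX hlt _ (fib_codiag_surjective ξ u hb.1) p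
  have := (A.property.2 p).1
  exact surjective_of_injective_desc (u.hom.app p) hμ

end Groth.Agent.Lib.Helper89.FEtReflect
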