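import Groth.Agent.Lib.Helper89.InvBC

/-!
# Points of the invariants: two points of a split algebra agreeing on the invariants are conjugate
-/

set_option autoImplicit false
set_option linter.style.haveILetI false

open TensorProduct

namespace Groth.Agent.Lib.Helper89.InvFib

open Groth.Agent.Lib.Helper89.InvBC

universe u w

/-- a ring map from `B'^n` to a field, semilinear over a ring map from `B'`, is determined by the
coordinate idempotent it does not kill -/
lemma eq_of_single {B' Ω : Type*} [CommRing B'] [Field Ω] (β : B' →+* Ω) {n : ℕ}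
    (ψ ψ' : (Fin n → B') →+* Ω) (hψ : ∀ b v, ψ (b • v) = β b * ψ v)
    (hψ' : ∀ b v, ψ' (b • v) = β b * ψ' v) (i : Fin n) (h1 : ψ (Pi.single i 1) ≠ 0)
    (h2 : ψ' (Pi.single i 1) ≠ 0) : ψ = ψ' := by
  classical
  have key : ∀ (φ : (Fin n → B') →+* Ω), (∀ b v, φ (b • v) = β b * φ v) →
      φ (Pi.single i 1) ≠ 0 → ∀ t, φ t = β (t i) := by
    intro φ hφ h t
    have hmul : (Pi.single i (1 : B') * Pi.single i 1 : Fin n → B') = Pi.single i 1 := by
      funext k
      rw [Pi.mul_apply, Pi.single_apply]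
      by_cases hk : k = i
      · rw [if_pos hk, one_mul]
      · rw [if_neg hk, zero_mul]
    have hone : φ (Pi.single i 1) = 1 := by
      have h3 := congrArg φ hmul
      rw [map_mul] at h3
      exact (mul_eq_left₀ h).mp h3
    have hzero : ∀ j, j ≠ i → φ (Pi.single j 1) = 0 := by
      intro j hj
      have hmul' : (Pi.single j (1 : B') * Pi.single i 1 : Fin n → B') = 0 := by
        funext k
        rw [Pi.mul_apply, Pi.single_apply, Pi.single_apply]
        by_cases hk : k = j
        · have : k ≠ i := fun h => hj (hk.symm.trans h)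
          rw [if_neg this, mul_zero]; rfl
        · rw [if_neg hk, zero_mul]; rfl
      have h3 := congrArg φ hmul'
      rw [map_mul, hone, mul_one, map_zero] at h3
      exact h3
    have ht : t = ∑ j, t j • (Pi.single j (1 : B') : Fin n → B') := by
      funext k
      rw [Finset.sum_apply, Finset.sum_eq_single k]
      · rw [Pi.smul_apply, Pi.single_eq_same, smul_eq_mul, mul_one]
      · intro j _ hj
        rw [Pi.smul_apply, Pi.single_eq_of_ne (Ne.symm hj), smul_zero]
      · intro h; exact (h (Finset.mem_univ _)).elim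
    conv_lhs => rw [ht]
    rw [map_sum, Finset.sum_eq_single i]
    · rw [hφ, hone, mul_one]
    · intro j _ hj
      rw [hφ, hzero j hj, mul_zero]
    · intro h; exact (h (Finset.mem_univ _)).elim
  apply RingHom.ext
  intro t
  rw [key ψ hψ h1 t, key ψ' hψ' h2 t]

/-- two points of an algebra split by a flat algebra which agree on the invariants of a finite
group-like family of endomorphisms are conjugate -/
theorem exists_comp_eq_of_eqOn_inv {R A B' Ω : Type u} [CommRing R] [CommRing A] [Algebra R A]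
    [CommRing B'] [Algebra R B'] [Module.Flat R B'] [Field Ω] [Algebra R Ω] {G : Type w}
    [Finite G] (ρ : G → (A →ₐ[R] A)) (h1 : ∃ γ₀, ρ γ₀ = AlgHom.id R A)
    (hperm : ∀ δ, ∃ σ : G ≃ G, ∀ γ, (ρ δ).comp (ρ γ) = ρ (σ γ)) {n : ℕ}
    (e : B' ⊗[R] A ≃ₐ[B'] (Fin n → B')) (β : B' →ₐ[R] Ω) (a a' : A →ₐ[R] Ω)
    (haa' : ∀ x ∈ inv ρ, a x = a' x) : ∃ γ, a.comp (ρ γ) = a' := by
  classical
  haveI := Fintype.ofFinite G
  by_contra hne
  push Not at hne
  let â : B' ⊗[R] A →ₐ[R] Ω := Algebra.TensorProduct.productMap β a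
  let â' : B' ⊗[R] A →ₐ[R] Ω := Algebra.TensorProduct.productMap β a'
  have hâ : ∀ b x, â (b ⊗ₜ x) = β b * a x := fun b x =>
    Algebra.TensorProduct.productMap_apply_tmul β a b x
  have hâ' : ∀ b x, â' (b ⊗ₜ x) = β b * a' x := fun b x =>
    Algebra.TensorProduct.productMap_apply_tmul β a' b x
  have hsmul : ∀ (φ : B' ⊗[R] A →ₐ[R] Ω), (∀ b x, φ (b ⊗ₜ x) = β b * φ (1 ⊗ₜ x)) →
      ∀ (b : B') (z : B' ⊗[R] A), φ (b • z) = β b * φ z := by
    intro φ hφ b z
    induction z using TensorProduct.induction_on with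
    | zero => rw [smul_zero, map_zero, mul_zero]
    | tmul b' x =>
      rw [TensorProduct.smul_tmul', smul_eq_mul, hφ, hφ b' x, map_mul, mul_assoc]
    | add z z' hz hz' => rw [smul_add, map_add, map_add, hz, hz', mul_add]
  have hâs : ∀ (b : B') (z : B' ⊗[R] A), â (b • z) = β b * â z :=
    hsmul â (fun b x => by rw [hâ, hâ, map_one, one_mul])
  have hâ's : ∀ (b : B') (z : B' ⊗[R] A), â' (b • z) = β b * â' z :=
    hsmul â' (fun b x => by rw [hâ', hâ', map_one, one_mul])
  -- the coordinate of â'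
  let χ' : (Fin n → B') →+* Ω := â'.toRingHom.comp e.symm.toAlgHom.toRingHom
  have hχ' : ∀ t, χ' t = â' (e.symm t) := fun _ => rfl
  have hχ's : ∀ b v, χ' (b • v) = β b * χ' v := by
    intro b v
    rw [hχ', hχ', map_smul, hâ's]
  have hsum : ∑ i, χ' (Pi.single i 1) = 1 := by
    have h1' : (∑ i, Pi.single i (1 : B') : Fin n → B') = 1 := Finset.univ_sum_single 1
    rw [← map_sum, h1', map_one]
  obtain ⟨i', hi'⟩ : ∃ i', χ' (Pi.single i' 1) ≠ 0 := by
    by_contra hall
    push Not at hall
    rw [Finset.sum_eq_zero (fun i _ => hall i)] at hsum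
    exact zero_ne_one hsum
  have hidem : ∀ (φ : (Fin n → B') →+* Ω), φ (Pi.single i' 1) ≠ 0 → φ (Pi.single i' 1) = 1 := by
    intro φ h
    have hmul : (Pi.single i' (1 : B') * Pi.single i' 1 : Fin n → B') = Pi.single i' 1 := by
      funext k
      rw [Pi.mul_apply, Pi.single_apply]
      by_cases hk : k = i'
      · rw [if_pos hk, one_mul]
      · rw [if_neg hk, zero_mul]
    have h3 := congrArg φ hmul
    rw [map_mul] at h3
    exact (mul_eq_left₀ h).mp h3
  let t₀ : B' ⊗[R] A := e.symm (1 - Pi.single i' 1)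
  have ht₀' : â' t₀ = 0 := by
    change χ' (1 - Pi.single i' 1) = 0
    rw [map_sub, map_one, hidem χ' hi', sub_self]
  -- the coordinates of the conjugates of â
  have ht₀ : ∀ γ, â (bc ρ B' γ t₀) = 1 := by
    intro γ
    let χ : (Fin n → B') →+* Ω :=
      (â.toRingHom.comp (bc ρ B' γ).toRingHom).comp e.symm.toAlgHom.toRingHom
    have hχ : ∀ t, χ t = â (bc ρ B' γ (e.symm t)) := fun _ => rfl
    have hχs : ∀ b v, χ (b • v) = β b * χ v := by
      intro b v
      rw [hχ, hχ, map_smul, map_smul, hâs]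
    have hzero : χ (Pi.single i' 1) = 0 := by
      by_contra hnz
      have heq := eq_of_single β.toRingHom χ χ' hχs hχ's i' hnz hi'
      apply hne γ
      apply AlgHom.ext
      intro x
      have h2 := congrArg (fun φ : (Fin n → B') →+* Ω => φ (e (1 ⊗ₜ x))) heq
      change χ (e (1 ⊗ₜ x)) = χ' (e (1 ⊗ₜ x)) at h2
      rw [hχ, hχ', e.symm_apply_apply, bc_tmul, hâ, hâ', map_one, one_mul, one_mul] at h2
      exact h2
    change χ (1 - Pi.single i' 1) = 1
    rw [map_sub, map_one, hzero, sub_zero]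
  -- the norm
  let N : B' ⊗[R] A := ∏ γ, bc ρ B' γ t₀
  have hbc : ∀ δ γ z, bc ρ B' δ (bc ρ B' γ z) =
      Algebra.TensorProduct.map (AlgHom.id B' B') ((ρ δ).comp (ρ γ)) z := by
    intro δ γ z
    induction z using TensorProduct.induction_on with
    | zero => rw [map_zero, map_zero, map_zero]
    | tmul b x => rfl
    | add z z' hz hz' => rw [map_add, map_add, map_add, hz, hz']
  have hN : N ∈ inv (bc ρ B') := by
    rw [mem_inv]
    intro δ
    obtain ⟨σ, hσ⟩ := hperm δ
    change bc ρ B' δ (∏ γ, bc ρ B' γ t₀) = ∏ γ, bc ρ B' γ t₀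
    rw [map_prod]
    have : ∀ γ, bc ρ B' δ (bc ρ B' γ t₀) = bc ρ B' (σ γ) t₀ := by
      intro γ
      rw [hbc, hσ]
      rfl
    simp_rw [this]
    exact Equiv.prod_comp σ (fun γ => bc ρ B' γ t₀)
  obtain ⟨x, hx⟩ := mem_range_of_mem_inv_bc ρ B' N hN
  have hagree : ∀ x : B' ⊗[R] inv ρ,
      â (Algebra.TensorProduct.map (AlgHom.id B' B') (inv ρ).val x) =
      â' (Algebra.TensorProduct.map (AlgHom.id B' B') (inv ρ).val x) := by
    intro x
    induction x using TensorProduct.induction_on with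
    | zero => rw [map_zero, map_zero, map_zero]
    | tmul b c =>
      rw [Algebra.TensorProduct.map_tmul, hâ, hâ']
      change β b * a c.1 = β b * a' c.1
      rw [haa' c.1 c.2]
    | add z z' hz hz' => rw [map_add, map_add, map_add, hz, hz']
  have h2 := hagree x
  rw [hx] at h2
  have hN1 : â N = 1 := by
    change â (∏ γ, bc ρ B' γ t₀) = 1
    rw [map_prod]
    exact Finset.prod_eq_one (fun γ _ => ht₀ γ)
  have hN0 : â' N = 0 := by
    obtain ⟨γ₀, hγ₀⟩ := h1
    change â' (∏ γ, bc ρ B' γ t₀) = 0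
    rw [map_prod]
    apply Finset.prod_eq_zero (Finset.mem_univ γ₀)
    have : bc ρ B' γ₀ t₀ = t₀ := by
      change Algebra.TensorProduct.map (AlgHom.id B' B') (ρ γ₀) t₀ = t₀
      rw [hγ₀, Algebra.TensorProduct.map_id]
      rfl
    rw [this, ht₀']
  rw [hN1, hN0] at h2
  exact one_ne_zero h2

end Groth.Agent.Lib.Helper89.InvFib
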