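import Groth.Agent.Lib.Helper89.FEtInv
import Groth.Agent.Lib.Helper89.InvFib
import Groth.Agent.Lib.Helper89.FEtFibFunctor
import Groth.Agent.Lib.Helper89.FEtReflect
import Groth.Agent.S15628
import Mathlib.CategoryTheory.Galois.Basic
import Mathlib.CategoryTheory.Limits.Shapes.Opposites.Products
import Mathlib.CategoryTheory.Limits.Shapes.Opposites.Pullbacks

/-!
# The category of étale covers with the fibre functor of a geometric point is a Galois category
-/

set_option autoImplicit false
set_option linter.style.haveILetI false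

open TensorProduct CategoryTheory CategoryTheory.Limits Opposite

namespace Groth.Agent.Lib.Helper89.FEtGalois

open _root_.SchFin Groth.Agent.Lib.Helper89.FEtBasic Groth.Agent.Lib.Helper89.InvBC
  Groth.Agent.Lib.Helper89.InvFib Groth.Agent.Lib.Helper89.FEtInv
  Groth.Agent.Lib.Helper89.FibAlg Groth.Agent.Lib.Helper89.FEtFib
  Groth.Agent.Lib.Helper89.FEtFibFunctor Groth.Agent.Lib.Helper89.FEtReflect
  Groth.Agent.Lib.Helper89.FEtPushout

universe u w

/-! ### Quotients by monoid actions in `FintypeCat` -/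

theorem fintypeCat_isColimit_singleObj {M : Type w} [Monoid M] (K : SingleObj M ⥤ FintypeCat.{u})
    (c : Cocone K) (hsurj : Function.Surjective (c.ι.app (SingleObj.star M)))
    (horb : ∀ x y : K.obj (SingleObj.star M),
      c.ι.app (SingleObj.star M) x = c.ι.app (SingleObj.star M) y →
      ∃ γ : M, K.map (show SingleObj.star M ⟶ SingleObj.star M from γ) x = y) :
    Nonempty (IsColimit c) := by
  refine ⟨{ desc := fun s => FintypeCat.homMk
              (fun z => s.ι.app (SingleObj.star M) (Function.surjInv hsurj z))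
            fac := ?_
            uniq := ?_ }⟩
  · intro s j
    ext x
    change s.ι.app (SingleObj.star M)
      (Function.surjInv hsurj (c.ι.app (SingleObj.star M) x)) = s.ι.app (SingleObj.star M) x
    obtain ⟨γ, hγ⟩ := horb _ _ (Function.surjInv_eq hsurj (c.ι.app (SingleObj.star M) x))
    have h3 := ConcreteCategory.congr_hom
      (s.w (show SingleObj.star M ⟶ SingleObj.star M from γ))
      (Function.surjInv hsurj (c.ι.app (SingleObj.star M) x))
    exact h3.symm.trans (congrArg (s.ι.app (SingleObj.star M)) hγ)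
  · intro s m hm
    ext z
    change m z = s.ι.app (SingleObj.star M) (Function.surjInv hsurj z)
    rw [← hm (SingleObj.star M)]
    change m z = m (c.ι.app (SingleObj.star M) (Function.surjInv hsurj z))
    rw [Function.surjInv_eq hsurj z]

variable {X : RSpace.{u}}

/-! ### The fibre of the invariants -/

section Orbit

variable {Ω : Type u} [Field Ω] [IsAlgClosed Ω] (ξ : GeomPt X Ω)

theorem fib_inv_orbit {G : Type w} [Finite G] (hX : X.IsSchematic) (A : FEt X)
    (ρ : G → (A ⟶ A))
    (hlt : ∃ (B : Alg X) (n : ℕ), B.IsCovering ∧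
      ∀ p : X.pt, Nonempty (TensorProduct (X.ring p) (B.carrier p) (A.obj.carrier p)
        ≃ₐ[B.carrier p] (Fin n → B.carrier p)))
    (h1 : ∃ γ₀, ρ γ₀ = 𝟙 A) (hperm : ∀ δ, ∃ σ : G ≃ G, ∀ γ, ρ γ ≫ ρ δ = ρ (σ γ))
    (x y : ξ.Fib A.obj)
    (hxy : ξ.fibMap (invFEtIncl hX A ρ hlt).hom x = ξ.fibMap (invFEtIncl hX A ρ hlt).hom y) :
    ∃ γ, ξ.fibMap (ρ γ).hom x = y := by
  letI : Algebra (X.ring ξ.base) Ω := ξ.toField.toAlgebra
  have := (A.property.2 ξ.base).1
  have := (A.property.2 ξ.base).2
  have hI1 : Module.Finite (X.ring ξ.base) (inv (fun γ => (ρ γ).hom.app ξ.base)) :=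
    ((invFEt hX A ρ hlt).property.2 ξ.base).1
  have hI2 : Algebra.Etale (X.ring ξ.base) (inv (fun γ => (ρ γ).hom.app ξ.base)) :=
    ((invFEt hX A ρ hlt).property.2 ξ.base).2
  let eA := fibEquiv (R := X.ring ξ.base) Ω (A.obj.carrier ξ.base)
  let eI := fibEquiv (R := X.ring ξ.base) Ω (inv (fun γ => (ρ γ).hom.app ξ.base))
  obtain ⟨a, rfl⟩ := eA.surjective x
  obtain ⟨a', rfl⟩ := eA.surjective y
  have haa' : a.comp (inv (fun γ => (ρ γ).hom.app ξ.base)).val =
      a'.comp (inv (fun γ => (ρ γ).hom.app ξ.base)).val := by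
    apply eI.injective
    change fibEquiv Ω _ _ = fibEquiv Ω _ _
    rw [← comap_fibEquiv, ← comap_fibEquiv]
    exact hxy
  obtain ⟨B, n, hcov, hiso⟩ := hlt
  haveI := (hcov.2 ξ.base).1
  haveI := (hcov.2 ξ.base).2
  have hint : (Algebra.ofId (X.ring ξ.base) (B.carrier ξ.base)).toRingHom.IsIntegral :=
    (Algebra.IsIntegral.of_finite (X.ring ξ.base) (B.carrier ξ.base)).isIntegral
  obtain ⟨β, -⟩ := exists_algHom_extension (Algebra.ofId (X.ring ξ.base) (B.carrier ξ.base))
    (FaithfulSMul.algebraMap_injective (X.ring ξ.base) (B.carrier ξ.base)) hint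
    (Algebra.ofId (X.ring ξ.base) Ω)
  obtain ⟨γ₀, hγ₀⟩ := h1
  obtain ⟨γ, hγ⟩ := exists_comp_eq_of_eqOn_inv (fun γ => (ρ γ).hom.app ξ.base)
    ⟨γ₀, by rw [hγ₀]; rfl⟩
    (fun δ => by
      obtain ⟨σ, hσ⟩ := hperm δ
      exact ⟨σ, fun γ => by
        have := congrArg (fun k : A ⟶ A => k.hom.app ξ.base) (hσ γ)
        exact this⟩)
    (hiso ξ.base).some β a a' (fun x hx => congrArg (fun k => k ⟨x, hx⟩) haa')
  refine ⟨γ, ?_⟩
  change _ = fibEquiv Ω _ a'
  rw [← hγ, ← comap_fibEquiv]
  rfl

end Orbit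

/-! ### Quotients in the opposite category -/

section Quot

variable {G : Type w} [Monoid G] [Finite G] (hX : X.IsSchematic)
    (hlt : ∀ A : FEt X, ∃ (B : Alg X) (n : ℕ), B.IsCovering ∧
      ∀ p : X.pt, Nonempty (TensorProduct (X.ring p) (B.carrier p) (A.obj.carrier p)
        ≃ₐ[B.carrier p] (Fin n → B.carrier p)))
    (K : SingleObj G ⥤ (FEt X)ᵒᵖ)

/-- the family of endomorphisms of the underlying cover -/
def opAct : G → ((K.obj (SingleObj.star G)).unop ⟶ (K.obj (SingleObj.star G)).unop) :=
  fun γ => (K.map (show SingleObj.star G ⟶ SingleObj.star G from γ)).unop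

/-- the cocone of invariants -/
def opInvCocone : Cocone K where
  pt := op (invFEt hX (K.obj (SingleObj.star G)).unop (opAct K)
    (hlt (K.obj (SingleObj.star G)).unop))
  ι :=
    { app := fun _ => (invFEtIncl hX (K.obj (SingleObj.star G)).unop (opAct K)
        (hlt (K.obj (SingleObj.star G)).unop)).op
      naturality := fun _ _ f => by
        change K.map f ≫ (invFEtIncl hX (K.obj (SingleObj.star G)).unop (opAct K)
          (hlt (K.obj (SingleObj.star G)).unop)).op =
          (invFEtIncl hX (K.obj (SingleObj.star G)).unop (opAct K)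
            (hlt (K.obj (SingleObj.star G)).unop)).op ≫ 𝟙 _
        rw [Category.comp_id]
        exact Quiver.Hom.unop_inj
          (invFEtIncl_comp hX (K.obj (SingleObj.star G)).unop (opAct K)
            (hlt (K.obj (SingleObj.star G)).unop) f) }

omit [Finite G] in
lemma opLiftCond (s : Cocone K) (γ : G) :
    (s.ι.app (SingleObj.star G)).unop ≫ opAct K γ = (s.ι.app (SingleObj.star G)).unop :=
  congrArg Quiver.Hom.unop (s.w (show SingleObj.star G ⟶ SingleObj.star G from γ))

/-- the cocone of invariants is a colimit -/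
def opInvIsColimit : IsColimit (opInvCocone hX hlt K) where
  desc s := (invFEtLift hX (K.obj (SingleObj.star G)).unop (opAct K)
    (hlt (K.obj (SingleObj.star G)).unop) (s.ι.app (SingleObj.star G)).unop
    (opLiftCond K s)).op
  fac s _ := Quiver.Hom.unop_inj (invFEtLift_incl hX (K.obj (SingleObj.star G)).unop (opAct K)
    (hlt (K.obj (SingleObj.star G)).unop) (s.ι.app (SingleObj.star G)).unop (opLiftCond K s))
  uniq s _ hm := Quiver.Hom.unop_inj (invFEt_hom_ext hX (K.obj (SingleObj.star G)).unop (opAct K)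
    (hlt (K.obj (SingleObj.star G)).unop) _ _
    ((congrArg Quiver.Hom.unop (hm (SingleObj.star G))).trans
      (invFEtLift_incl hX (K.obj (SingleObj.star G)).unop (opAct K)
        (hlt (K.obj (SingleObj.star G)).unop) (s.ι.app (SingleObj.star G)).unop
        (opLiftCond K s)).symm))

include hX hlt in
theorem hasColimitsOfShape_singleObj_op : HasColimitsOfShape (SingleObj G) (FEt X)ᵒᵖ :=
  ⟨fun K => ⟨⟨⟨opInvCocone hX hlt K, opInvIsColimit hX hlt K⟩⟩⟩⟩

end Quot

section Preserve

variable {G : Type w} [Group G] [Finite G] (hX : X.IsSchematic)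
    (hlt : ∀ A : FEt X, ∃ (B : Alg X) (n : ℕ), B.IsCovering ∧
      ∀ p : X.pt, Nonempty (TensorProduct (X.ring p) (B.carrier p) (A.obj.carrier p)
        ≃ₐ[B.carrier p] (Fin n → B.carrier p)))
    {Ω : Type u} [Field Ω] [IsAlgClosed Ω] (ξ : GeomPt X Ω)

include hX hlt in
theorem preservesColimit_singleObj (K : SingleObj G ⥤ (FEt X)ᵒᵖ) :
    PreservesColimit K ξ.fibFunctor := by
  apply preservesColimit_of_preserves_colimit_cocone (opInvIsColimit hX hlt K)
  refine (fintypeCat_isColimit_singleObj (K ⋙ ξ.fibFunctor)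
    (ξ.fibFunctor.mapCocone (opInvCocone hX hlt K)) ?_ ?_).some
  · exact fib_surjective ξ (invFEtIncl hX (K.obj (SingleObj.star G)).unop (opAct K)
      (hlt (K.obj (SingleObj.star G)).unop))
      (invFEtIncl_injective hX (K.obj (SingleObj.star G)).unop (opAct K)
        (hlt (K.obj (SingleObj.star G)).unop) ξ.base)
  · intro x y hxy
    refine fib_inv_orbit ξ hX (K.obj (SingleObj.star G)).unop (opAct K)
      (hlt (K.obj (SingleObj.star G)).unop) ⟨1, ?_⟩ ?_ x y hxy
    · change (K.map (𝟙 (SingleObj.star G))).unop = 𝟙 _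
      rw [K.map_id]
      rfl
    · intro δ
      refine ⟨Equiv.mulRight δ, fun γ => ?_⟩
      change (K.map (show SingleObj.star G ⟶ SingleObj.star G from γ)).unop ≫
        (K.map (show SingleObj.star G ⟶ SingleObj.star G from δ)).unop =
        (K.map (show SingleObj.star G ⟶ SingleObj.star G from γ * δ)).unop
      rw [← unop_comp, ← K.map_comp]
      rfl

include hX hlt in
theorem preservesColimitsOfShape_singleObj :
    PreservesColimitsOfShape (SingleObj G) ξ.fibFunctor :=
  ⟨fun {K} => preservesColimit_singleObj hX hlt ξ K⟩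

end Preserve

/-! ### Monomorphisms of the opposite category are direct summands -/

theorem mono_directSummand (hX : X.IsSchematic)
    (hepi : ∀ (A B : FEt X) (f : A ⟶ B), Epi f → ∀ p : X.pt, Function.Surjective (f.hom.app p))
    {P Q : (FEt X)ᵒᵖ} (i : P ⟶ Q) [Mono i] :
    ∃ (Z : (FEt X)ᵒᵖ) (u : Z ⟶ Q), Nonempty (IsColimit (BinaryCofan.mk i u)) := by
  haveI : Epi i.unop := unop_epi_of_mono i
  obtain ⟨D, π, ⟨hlim⟩⟩ := Groth.Agent.S15628.result X hX i.unop (hepi _ _ i.unop inferInstance)
  refine ⟨op D, π.op, ⟨BinaryCofan.IsColimit.mk _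
    (fun f g => (BinaryFan.IsLimit.lift' hlim f.unop g.unop).1.op) ?_ ?_ ?_⟩⟩
  · intro T f g
    exact Quiver.Hom.unop_inj (BinaryFan.IsLimit.lift' hlim f.unop g.unop).2.1
  · intro T f g
    exact Quiver.Hom.unop_inj (BinaryFan.IsLimit.lift' hlim f.unop g.unop).2.2
  · intro T f g m h1 h2
    apply Quiver.Hom.unop_inj
    apply BinaryFan.IsLimit.hom_ext hlim
    · exact (congrArg Quiver.Hom.unop h1).trans
        (BinaryFan.IsLimit.lift' hlim f.unop g.unop).2.1.symm
    · exact (congrArg Quiver.Hom.unop h2).trans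
        (BinaryFan.IsLimit.lift' hlim f.unop g.unop).2.2.symm

/-! ### The Galois category -/

theorem preGaloisCategory (hX : X.IsSchematic)
    (hlt : ∀ A : FEt X, ∃ (B : Alg X) (n : ℕ), B.IsCovering ∧
      ∀ p : X.pt, Nonempty (TensorProduct (X.ring p) (B.carrier p) (A.obj.carrier p)
        ≃ₐ[B.carrier p] (Fin n → B.carrier p)))
    (hepi : ∀ (A B : FEt X) (f : A ⟶ B), Epi f → ∀ p : X.pt, Function.Surjective (f.hom.app p)) :
    PreGaloisCategory (FEt X)ᵒᵖ := by
  haveI := hasInitial X
  haveI := hasPushouts X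
  haveI : HasFiniteProducts (FEt X) :=
    ⟨fun n => Groth.Agent.S15622.hasLimitsOfShape_discrete X (Fin n)⟩
  exact
    { hasTerminal := inferInstance
      hasPullbacks := inferInstance
      hasFiniteCoproducts := inferInstance
      hasQuotientsByFiniteGroups := fun G _ _ => hasColimitsOfShape_singleObj_op hX hlt
      monoInducesIsoOnDirectSummand := fun i _ => mono_directSummand hX hepi i }

theorem exists_fiberFunctor (hX : X.IsSchematic)
    (hlt : ∀ A : FEt X, ∃ (B : Alg X) (n : ℕ), B.IsCovering ∧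
      ∀ p : X.pt, Nonempty (TensorProduct (X.ring p) (B.carrier p) (A.obj.carrier p)
        ≃ₐ[B.carrier p] (Fin n → B.carrier p)))
    (hepi : ∀ (A B : FEt X) (f : A ⟶ B), Epi f → ∀ p : X.pt, Function.Surjective (f.hom.app p))
    {Ω : Type u} [Field Ω] [IsAlgClosed Ω] (ξ : GeomPt X Ω) :
    ∃ h : PreGaloisCategory (FEt X)ᵒᵖ,
      @PreGaloisCategory.FiberFunctor (FEt X)ᵒᵖ _ h ξ.fibFunctor := by
  refine ⟨preGaloisCategory hX hlt hepi, ?_⟩
  letI := preGaloisCategory hX hlt hepi
  exact
    { preservesTerminalObjects := preservesTerminal ξ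
      preservesPullbacks := preservesPullbacks ξ
      preservesFiniteCoproducts := preservesFiniteCoproducts ξ
      preservesEpis := preservesEpimorphisms ξ hX
      preservesQuotientsByFiniteGroups := fun G _ _ =>
        preservesColimitsOfShape_singleObj hX hlt ξ
      reflectsIsos := by
        constructor
        intro P Q f hf
        rw [← CategoryTheory.isIso_unop_iff]
        apply isIso_of_fib_bijective ξ hX hlt
        exact ConcreteCategory.bijective_of_isIso (ξ.fibFunctor.map f) }

end Groth.Agent.Lib.Helper89.FEtGalois
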