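import Groth.Agent.Lib.Helper89.InvBC
import Mathlib.RingTheory.Etale.Pi
import Mathlib.RingTheory.Etale.Locus
import Mathlib.RingTheory.Etale.Descent
import Mathlib.RingTheory.Localization.BaseChange

/-!
# Invariants of a finite family of endomorphisms of a split algebra are étale
-/

set_option autoImplicit false
set_option linter.style.haveILetI false

open TensorProduct

namespace Groth.Agent.Lib.Helper89.InvSplit

open Groth.Agent.Lib.Helper89.InvBC

universe u w

/-- the invariants of a family of endomorphisms of `L^n` whose matrices have entries `0` and `1`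
are étale -/
theorem etale_inv_of_zero_one {L : Type u} [CommRing L] {n : ℕ} {G : Type w} [Finite G]
    (ρ : G → ((Fin n → L) →ₐ[L] (Fin n → L)))
    (h01 : ∀ g i j, ρ g (Pi.single i 1) j = 0 ∨ ρ g (Pi.single i 1) j = 1) :
    Algebra.Etale L (inv ρ) := by
  classical
  rcases subsingleton_or_nontrivial L with hL | hL
  · haveI : Subsingleton (inv ρ) := ⟨fun a b => Subtype.ext (funext fun i => Subsingleton.elim _ _)⟩
    exact Algebra.Etale.of_equiv (AlgEquiv.ofBijective (Algebra.ofId L (inv ρ))
      ⟨fun _ _ _ => Subsingleton.elim _ _, fun y => ⟨0, Subsingleton.elim _ _⟩⟩)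
  · have hsum : ∀ g j, ∑ i, ρ g (Pi.single i 1) j = 1 := by
      intro g j
      have h1 : (∑ i, Pi.single i (1 : L) : Fin n → L) = 1 := Finset.univ_sum_single 1
      calc ∑ i, ρ g (Pi.single i 1) j = (ρ g (∑ i, Pi.single i 1)) j := by
            rw [map_sum, Finset.sum_apply]
        _ = 1 := by rw [h1, map_one]; rfl
    have hex : ∀ g j, ∃ i, ρ g (Pi.single i 1) j = 1 := by
      intro g j
      by_contra hne
      push Not at hne
      have : ∑ i, ρ g (Pi.single i 1) j = 0 :=
        Finset.sum_eq_zero (fun i _ => (h01 g i j).resolve_right (hne i))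
      rw [hsum] at this
      exact one_ne_zero this
    choose τ hτ using hex
    have hother : ∀ g j i, i ≠ τ g j → ρ g (Pi.single i 1) j = 0 := by
      intro g j i hi
      have hmul : (Pi.single i (1 : L) * Pi.single (τ g j) 1 : Fin n → L) = 0 := by
        funext k
        rw [Pi.mul_apply, Pi.single_apply, Pi.single_apply]
        by_cases h1 : k = i
        · have h2 : k ≠ τ g j := fun h => hi (h1.symm.trans h)
          rw [if_neg h2, mul_zero]; rfl
        · rw [if_neg h1, zero_mul]; rfl
      have := congrFun (congrArg (ρ g) hmul) j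
      rw [map_mul, map_zero, Pi.mul_apply, hτ, mul_one] at this
      exact this
    have hact : ∀ g t j, ρ g t j = t (τ g j) := by
      intro g t j
      have ht : t = ∑ i, t i • (Pi.single i (1 : L) : Fin n → L) := by
        funext k
        rw [Finset.sum_apply, Finset.sum_eq_single k]
        · rw [Pi.smul_apply, Pi.single_eq_same, smul_eq_mul, mul_one]
        · intro i _ hi
          rw [Pi.smul_apply, Pi.single_eq_of_ne (Ne.symm hi), smul_zero]
        · intro h; exact (h (Finset.mem_univ _)).elim
      conv_lhs => rw [ht]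
      rw [map_sum, Finset.sum_apply, Finset.sum_eq_single (τ g j)]
      · rw [map_smul, Pi.smul_apply, hτ, smul_eq_mul, mul_one]
      · intro i _ hi
        rw [map_smul, Pi.smul_apply, hother g j i hi, smul_zero]
      · intro h; exact (h (Finset.mem_univ _)).elim
    -- the quotient of the index set
    let r : Fin n → Fin n → Prop := fun j j' => ∃ g, j' = τ g j
    let Ψ : (Quot r → L) →ₐ[L] (Fin n → L) :=
      AlgHom.pi (A := fun _ : Fin n => L)
        (fun j => Pi.evalAlgHom L (fun _ : Quot r => L) (Quot.mk r j))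
    have hΨ : ∀ f j, Ψ f j = f (Quot.mk r j) := fun _ _ => rfl
    have hΨinj : Function.Injective Ψ := by
      intro f f' h
      funext q
      obtain ⟨j, rfl⟩ := Quot.exists_rep q
      exact congrFun h j
    have hrange : Ψ.range = inv ρ := by
      ext t
      rw [mem_inv]
      constructor
      · rintro ⟨f, rfl⟩ g
        funext j
        rw [hact]
        change f (Quot.mk r (τ g j)) = f (Quot.mk r j)
        have hq : Quot.mk r j = Quot.mk r (τ g j) := Quot.sound (⟨g, rfl⟩ : r j (τ g j))
        rw [hq]
      · intro h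
        refine ⟨Quot.lift t ?_, ?_⟩
        · rintro j j' ⟨g, rfl⟩
          rw [← hact g t j, h g]
        · funext j
          rfl
    haveI : Finite (Quot r) := Quot.finite r
    exact Algebra.Etale.of_equiv
      ((AlgEquiv.ofInjective Ψ hΨinj).trans (Subalgebra.equivOfEq _ _ hrange))

/-- the matrix entries of an algebra endomorphism of `S^n` are idempotent -/
lemma entry_idem {S : Type u} [CommRing S] {n : ℕ} (φ : (Fin n → S) →ₐ[S] (Fin n → S))
    (i j : Fin n) : φ (Pi.single i 1) j * (1 - φ (Pi.single i 1) j) = 0 := by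
  classical
  have h1 : (Pi.single i (1 : S) * Pi.single i 1 : Fin n → S) = Pi.single i 1 := by
    funext k
    rw [Pi.mul_apply, Pi.single_apply]
    by_cases h : k = i
    · rw [if_pos h, one_mul]
    · rw [if_neg h, zero_mul]
  have h2 := congrFun (congrArg φ h1) j
  rw [map_mul, Pi.mul_apply] at h2
  rw [mul_sub, mul_one, h2, sub_self]

/-- base change of a split algebra -/
noncomputable def splitBC (S : Type u) [CommRing S] (n : ℕ) (L : Type u) [CommRing L]
    [Algebra S L] : L ⊗[S] (Fin n → S) ≃ₐ[L] (Fin n → L) :=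
  Algebra.TensorProduct.piScalarRight S L L (Fin n)

lemma splitBC_one_tmul (S : Type u) [CommRing S] (n : ℕ) (L : Type u) [CommRing L]
    [Algebra S L] (v : Fin n → S) (j : Fin n) :
    splitBC S n L (1 ⊗ₜ v) j = algebraMap S L (v j) := by
  change v j • (1 : L) = _
  rw [Algebra.smul_def, mul_one]

lemma splitBC_symm_single (S : Type u) [CommRing S] (n : ℕ) (L : Type u) [CommRing L]
    [Algebra S L] (i : Fin n) :
    (splitBC S n L).symm (Pi.single i 1) = 1 ⊗ₜ Pi.single i 1 := by
  classical
  rw [AlgEquiv.symm_apply_eq]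
  funext j
  rw [splitBC_one_tmul, Pi.single_apply, Pi.single_apply]
  by_cases h : j = i
  · rw [if_pos h, if_pos h, map_one]
  · rw [if_neg h, if_neg h, map_zero]

/-- the invariants of a finite family of endomorphisms of `S^n` become étale after inverting an
element over which the matrix entries become `0` or `1` -/
theorem etale_inv_bc_of_zero_one {S : Type u} [CommRing S] {n : ℕ} {G : Type w} [Finite G]
    (ρ : G → ((Fin n → S) →ₐ[S] (Fin n → S))) (L : Type u) [CommRing L] [Algebra S L]
    [Module.Flat S L]
    (h01 : ∀ g i j, algebraMap S L (ρ g (Pi.single i 1) j) = 0 ∨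
      algebraMap S L (ρ g (Pi.single i 1) j) = 1) :
    Algebra.Etale L (L ⊗[S] inv ρ) := by
  let E := splitBC S n L
  let ρ'' : G → ((Fin n → L) →ₐ[L] (Fin n → L)) :=
    fun g => (E.toAlgHom.comp (bc ρ L g)).comp E.symm.toAlgHom
  have h : ∀ g a, ρ'' g (E a) = E (bc ρ L g a) := by
    intro g a
    change E (bc ρ L g (E.symm (E a))) = _
    rw [E.symm_apply_apply]
  have h01' : ∀ g i j, ρ'' g (Pi.single i 1) j = 0 ∨ ρ'' g (Pi.single i 1) j = 1 := by
    intro g i j
    have : ρ'' g (Pi.single i 1) j = algebraMap S L (ρ g (Pi.single i 1) j) := by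
      change E (bc ρ L g (E.symm (Pi.single i 1))) j = _
      rw [splitBC_symm_single, bc_tmul, splitBC_one_tmul]
    rw [this]
    exact h01 g i j
  haveI := etale_inv_of_zero_one ρ'' h01'
  exact Algebra.Etale.of_equiv ((invBCEquiv ρ L).trans (invCongr (bc ρ L) ρ'' E h)).symm

/-- the invariants of a finite family of endomorphisms of a split algebra over a Noetherian ring
are étale -/
theorem etale_inv_split {S : Type u} [CommRing S] [IsNoetherianRing S] {n : ℕ} {G : Type w}
    [Finite G] (ρ : G → ((Fin n → S) →ₐ[S] (Fin n → S))) : Algebra.Etale S (inv ρ) := by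
  classical
  haveI := Fintype.ofFinite G
  haveI : Module.Finite S (inv ρ) :=
    Module.Finite.of_injective (inv ρ).val.toLinearMap Subtype.val_injective
  haveI : Algebra.FinitePresentation S (inv ρ) :=
    Algebra.FinitePresentation.of_finiteType.mp inferInstance
  rw [← Algebra.etaleLocus_eq_univ_iff_etale, Set.eq_univ_iff_forall]
  intro P
  let q : Ideal S := P.asIdeal.comap (algebraMap S (inv ρ))
  haveI : q.IsPrime := Ideal.comap_isPrime _ _
  let c : G → Fin n → Fin n → S := fun g i j => ρ g (Pi.single i 1) j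
  have hc : ∀ g i j, c g i j * (1 - c g i j) = 0 := fun g i j => entry_idem (ρ g) i j
  let d : G → Fin n → Fin n → S := fun g i j => if c g i j ∈ q then 1 - c g i j else c g i j
  let s : S := ∏ g, ∏ i, ∏ j, d g i j
  have hd : ∀ g i j, d g i j ∉ q := by
    intro g i j
    by_cases h : c g i j ∈ q
    · change (if c g i j ∈ q then 1 - c g i j else c g i j) ∉ q
      rw [if_pos h]
      intro h2
      have : (1 : S) ∈ q := by
        have := q.add_mem h2 h
        rwa [sub_add_cancel] at this
      exact (Ideal.IsPrime.ne_top inferInstance) ((Ideal.eq_top_iff_one _).mpr this)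
    · change (if c g i j ∈ q then 1 - c g i j else c g i j) ∉ q
      rw [if_neg h]
      exact h
  have hs : s ∉ q := by
    intro h
    obtain ⟨g, -, h⟩ := (Ideal.IsPrime.prod_mem_iff (hp := inferInstance)).mp h
    obtain ⟨i, -, h⟩ := (Ideal.IsPrime.prod_mem_iff (hp := inferInstance)).mp h
    obtain ⟨j, -, h⟩ := (Ideal.IsPrime.prod_mem_iff (hp := inferInstance)).mp h
    exact hd g i j h
  have hds : ∀ g i j, d g i j ∣ s := by
    intro g i j
    exact (Finset.dvd_prod_of_mem _ (Finset.mem_univ j)).trans
      ((Finset.dvd_prod_of_mem _ (Finset.mem_univ i)).trans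
        (Finset.dvd_prod_of_mem (fun g => ∏ i, ∏ j, d g i j) (Finset.mem_univ g)))
  have hP : P ∈ (PrimeSpectrum.basicOpen (algebraMap S (inv ρ) s) : Set _) := hs
  refine (Algebra.basicOpen_subset_etaleLocus_iff.mpr ?_) hP
  -- the localisation of the base
  let Ss := Localization.Away s
  have h01 : ∀ g i j, algebraMap S Ss (ρ g (Pi.single i 1) j) = 0 ∨
      algebraMap S Ss (ρ g (Pi.single i 1) j) = 1 := by
    intro g i j
    have hunit : IsUnit (algebraMap S Ss s) := IsLocalization.Away.algebraMap_isUnit s
    obtain ⟨k, hk⟩ := hds g i j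
    have hunit' : IsUnit (algebraMap S Ss (d g i j)) := by
      have h3 : algebraMap S Ss s = algebraMap S Ss (d g i j) * algebraMap S Ss k := by
        rw [← map_mul]
        exact congrArg (algebraMap S Ss) hk
      rw [h3] at hunit
      exact isUnit_of_mul_isUnit_left hunit
    by_cases h : c g i j ∈ q
    · left
      have h1 : d g i j = 1 - c g i j := if_pos h
      have h2 : algebraMap S Ss (c g i j) * algebraMap S Ss (d g i j) = 0 := by
        rw [← map_mul, h1, hc, map_zero]
      exact (hunit'.mul_left_eq_zero).mp h2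
    · right
      have h1 : d g i j = c g i j := if_neg h
      have h2 : algebraMap S Ss (1 - c g i j) * algebraMap S Ss (d g i j) = 0 := by
        rw [← map_mul, h1, mul_comm, hc, map_zero]
      have h3 := (hunit'.mul_left_eq_zero).mp h2
      rw [map_sub, map_one, sub_eq_zero] at h3
      exact h3.symm
  haveI : Algebra.Etale Ss (Ss ⊗[S] inv ρ) := etale_inv_bc_of_zero_one ρ Ss h01
  haveI : Algebra.FormallyEtale S (Ss ⊗[S] inv ρ) :=
    Algebra.FormallyEtale.comp S Ss (Ss ⊗[S] inv ρ)
  haveI : Algebra.FormallyEtale S (inv ρ ⊗[S] Ss) :=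
    Algebra.FormallyEtale.of_equiv (Algebra.TensorProduct.comm S Ss (inv ρ))
  let e1 : (inv ρ ⊗[S] Ss) ≃ₐ[inv ρ] Localization.Away (algebraMap S (inv ρ) s) :=
    IsLocalization.algEquiv (Submonoid.powers (algebraMap S (inv ρ) s)) _ _
  exact Algebra.FormallyEtale.of_equiv (A := inv ρ ⊗[S] Ss) (e1.restrictScalars S)

/-- the invariants of a finite family of endomorphisms of an algebra over a Noetherian ring split
by a finite faithfully flat algebra are étale -/
theorem etale_inv_of_split {R A : Type u} [CommRing R] [CommRing A] [Algebra R A]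
    [IsNoetherianRing R] {G : Type w} [Finite G] (ρ : G → (A →ₐ[R] A)) (B' : Type u)
    [CommRing B'] [Algebra R B'] [Module.Finite R B'] [Module.FaithfullyFlat R B'] {n : ℕ}
    (e : B' ⊗[R] A ≃ₐ[B'] (Fin n → B')) : Algebra.Etale R (inv ρ) := by
  haveI : IsNoetherianRing B' := IsNoetherianRing.of_finite R B'
  let ρ' : G → ((Fin n → B') →ₐ[B'] (Fin n → B')) :=
    fun g => (e.toAlgHom.comp (bc ρ B' g)).comp e.symm.toAlgHom
  have h : ∀ g a, ρ' g (e a) = e (bc ρ B' g a) := by
    intro g a
    change e (bc ρ B' g (e.symm (e a))) = _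
    rw [e.symm_apply_apply]
  haveI := etale_inv_split ρ'
  haveI : Algebra.Etale B' (B' ⊗[R] inv ρ) :=
    Algebra.Etale.of_equiv ((invBCEquiv ρ B').trans (invCongr (bc ρ B') ρ' e h)).symm
  exact Algebra.Etale.of_etale_tensorProduct_of_faithfullyFlat B'

end Groth.Agent.Lib.Helper89.InvSplit
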