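import Groth.Agent.Lib.Helper89.FEtBasic
import Groth.Agent.Lib.Helper89.InvSplit
import Mathlib.CategoryTheory.SingleObj
import Mathlib.CategoryTheory.Limits.Shapes.SingleObj

/-!
# Invariants of a finite family of endomorphisms of an étale cover
-/

set_option autoImplicit false
set_option linter.style.haveILetI false

open TensorProduct CategoryTheory CategoryTheory.Limits

namespace Groth.Agent.Lib.Helper89.FEtInv

open _root_.SchFin Groth.Agent.Lib.Helper89.FEtBasic Groth.Agent.Lib.Helper89.InvBC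
  Groth.Agent.Lib.Helper89.InvSplit

universe u w

/-- invariants commute with flat base change, in the form used for quasi-coherence -/
theorem isBCAlong_inv {R S : Type u} [CommRing R] [CommRing S] (g : R →+* S) (hg : g.Flat)
    {A A' : Type u} [CommRing A] [CommRing A'] [Algebra R A] [Algebra S A'] (r : A →+* A')
    {G : Type w} [Finite G] (ρ : G → (A →ₐ[R] A)) (ρ' : G → (A' →ₐ[S] A'))
    (hcomm : ∀ γ a, ρ' γ (r a) = r (ρ γ a)) (fA : A →ₛₗ[g] A') (hfA : ∀ a, fA a = r a)
    (hBC : IsBCAlong g fA) (fI : inv ρ →ₛₗ[g] inv ρ') (hfI : ∀ x, (fI x : A') = r x.1) :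
    IsBCAlong g fI := by
  rw [isBCAlong_iff_bijective] at hBC ⊢
  letI alg : Algebra R S := g.toAlgebra
  haveI flat : Module.Flat R S := hg
  obtain ⟨Φ, hΦ, hΦb⟩ := hBC
  -- equivariance
  have hequiv : ∀ γ t, Φ (bc ρ S γ t) = ρ' γ (Φ t) := by
    intro γ t
    induction t using TensorProduct.induction_on with
    | zero => rw [map_zero, map_zero, map_zero]
    | tmul s a => rw [bc_tmul, hΦ, hΦ, hfA, hfA, map_smul, hcomm]
    | add x y hx hy => rw [map_add, map_add, map_add, map_add, hx, hy]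
  let ι : S ⊗[R] inv ρ →ₐ[S] S ⊗[R] A := Algebra.TensorProduct.map (AlgHom.id S S) (inv ρ).val
  have hι : ∀ x, ι x ∈ inv (bc ρ S) := by
    intro x
    rw [← invBCEquiv_coe]
    exact (invBCEquiv ρ S x).2
  have hιinj : Function.Injective ι := by
    intro x y hxy
    apply (invBCEquiv ρ S).injective
    apply Subtype.ext
    rw [invBCEquiv_coe, invBCEquiv_coe]
    exact hxy
  let Ψ : S ⊗[R] inv ρ →+ inv ρ' :=
    (Φ.comp ι.toRingHom.toAddMonoidHom).codRestrict (inv ρ') (fun x => by
      rw [mem_inv]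
      intro γ
      change ρ' γ (Φ (ι x)) = Φ (ι x)
      rw [← hequiv, (mem_inv _ _).mp (hι x) γ])
  have hΨ : ∀ x, (Ψ x : A') = Φ (ι x) := fun _ => rfl
  refine ⟨Ψ, ?_, ?_, ?_⟩
  · intro s m
    apply Subtype.ext
    rw [hΨ]
    change Φ (s ⊗ₜ m.1) = ((s • fI m : inv ρ') : A')
    rw [hΦ, hfA]
    change _ = s • (fI m : A')
    rw [hfI]
  · intro x y hxy
    apply hιinj
    apply hΦb.1
    rw [← hΨ, ← hΨ, hxy]
  · intro y
    obtain ⟨t, ht⟩ := hΦb.2 y.1
    have htinv : t ∈ inv (bc ρ S) := by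
      rw [mem_inv]
      intro γ
      apply hΦb.1
      rw [hequiv, ht, (mem_inv _ _).mp y.2 γ]
    obtain ⟨x, hx⟩ := mem_range_of_mem_inv_bc ρ S t htinv
    refine ⟨x, ?_⟩
    apply Subtype.ext
    rw [hΨ]
    change Φ (Algebra.TensorProduct.map (AlgHom.id S S) (inv ρ).val x) = y.1
    rw [hx, ht]

variable {X : RSpace.{u}} {G : Type w}

/-- the pointwise invariants of a family of endomorphisms of an algebra -/
def invAlg (A : Alg X) (ρ : G → (A ⟶ A)) : Alg X where
  carrier p := inv (fun γ => (ρ γ).app p)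
  res {p q} h := ((A.res h).comp (inv (fun γ => (ρ γ).app p)).val.toRingHom).codRestrict
    (inv (fun γ => (ρ γ).app q)) (fun x => by
      rw [mem_inv]
      intro γ
      change (ρ γ).app q (A.res h x.1) = A.res h x.1
      rw [← (ρ γ).compat h, (mem_inv _ _).mp x.2 γ])
  res_algebraMap h a := Subtype.ext (A.res_algebraMap h a)
  res_self p b := Subtype.ext (A.res_self p b.1)
  res_comp h h' b := Subtype.ext (A.res_comp h h' b.1)

lemma invAlg_res_coe (A : Alg X) (ρ : G → (A ⟶ A)) {p q : X.pt} (h : p ≤ q)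
    (x : inv (fun γ => (ρ γ).app p)) :
    (show inv (fun γ => (ρ γ).app q) from (invAlg A ρ).res h x).1 = A.res h x.1 := rfl

/-- the inclusion of the invariants -/
def invIncl (A : Alg X) (ρ : G → (A ⟶ A)) : invAlg A ρ ⟶ A :=
  ⟨fun p => (inv (fun γ => (ρ γ).app p)).val, fun _ _ => rfl⟩

/-- a morphism equalised by the family factors through the invariants -/
def invLift {W A : Alg X} (ρ : G → (A ⟶ A)) (f : W ⟶ A) (hf : ∀ γ, f ≫ ρ γ = f) :
    W ⟶ invAlg A ρ :=
  ⟨fun p => (f.app p).codRestrict (inv (fun γ => (ρ γ).app p)) (fun w => by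
      rw [mem_inv]
      intro γ
      exact congrArg (fun k : W ⟶ A => k.app p w) (hf γ)),
    fun h w => Subtype.ext (f.compat h w)⟩

theorem invAlg_isEtCover [Finite G] (hX : X.IsSchematic) (A : FEt X)
    (ρ : G → (A.obj ⟶ A.obj))
    (hlt : ∃ (B : Alg X) (n : ℕ), B.IsCovering ∧
      ∀ p : X.pt, Nonempty (TensorProduct (X.ring p) (B.carrier p) (A.obj.carrier p)
        ≃ₐ[B.carrier p] (Fin n → B.carrier p))) :
    (invAlg A.obj ρ).IsEtCover := by
  refine ⟨?_, fun p => ⟨?_, ?_⟩⟩
  · intro p q h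
    let fA : A.obj.carrier p →ₛₗ[X.res h] A.obj.carrier q := A.obj.toMod.res h
    let fI : inv (fun γ => (ρ γ).app p) →ₛₗ[X.res h] inv (fun γ => (ρ γ).app q) :=
      (invAlg A.obj ρ).toMod.res h
    change IsBCAlong (X.res h) fI
    exact isBCAlong_inv (X.res h) (hX.1.2 p q h) (A.obj.res h) (fun γ => (ρ γ).app p)
      (fun γ => (ρ γ).app q) (fun γ a => ((ρ γ).compat h a).symm) fA (fun _ => rfl)
      (A.property.1 p q h) fI (fun _ => rfl)
  · haveI : IsNoetherianRing (X.ring p) := hX.1.1 p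
    haveI := (A.property.2 p).1
    exact Module.Finite.of_injective (inv (fun γ => (ρ γ).app p)).val.toLinearMap
      Subtype.val_injective
  · haveI : IsNoetherianRing (X.ring p) := hX.1.1 p
    obtain ⟨B, n, hcov, hiso⟩ := hlt
    haveI := (hcov.2 p).1
    haveI := (hcov.2 p).2
    exact etale_inv_of_split (fun γ => (ρ γ).app p) (B.carrier p) (hiso p).some

/-- the invariants as an étale cover -/
def invFEt [Finite G] (hX : X.IsSchematic) (A : FEt X) (ρ : G → (A ⟶ A))
    (hlt : ∃ (B : Alg X) (n : ℕ), B.IsCovering ∧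
      ∀ p : X.pt, Nonempty (TensorProduct (X.ring p) (B.carrier p) (A.obj.carrier p)
        ≃ₐ[B.carrier p] (Fin n → B.carrier p))) : FEt X :=
  ⟨invAlg A.obj (fun γ => (ρ γ).hom), invAlg_isEtCover hX A (fun γ => (ρ γ).hom) hlt⟩

variable [Finite G] (hX : X.IsSchematic) (A : FEt X) (ρ : G → (A ⟶ A))
    (hlt : ∃ (B : Alg X) (n : ℕ), B.IsCovering ∧
      ∀ p : X.pt, Nonempty (TensorProduct (X.ring p) (B.carrier p) (A.obj.carrier p)
        ≃ₐ[B.carrier p] (Fin n → B.carrier p)))

/-- the inclusion of the invariants -/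
def invFEtIncl : invFEt hX A ρ hlt ⟶ A :=
  ObjectProperty.homMk (invIncl A.obj (fun γ => (ρ γ).hom))

lemma invFEtIncl_injective (p : X.pt) : Function.Injective ((invFEtIncl hX A ρ hlt).hom.app p) :=
  Subtype.val_injective

lemma invFEtIncl_comp (γ : G) : invFEtIncl hX A ρ hlt ≫ ρ γ = invFEtIncl hX A ρ hlt := by
  apply ObjectProperty.hom_ext
  apply Alg.hom_ext
  intro p
  apply AlgHom.ext
  intro x
  exact (mem_inv _ _).mp x.2 γ

/-- the universal property of the invariants -/
def invFEtLift {W : FEt X} (f : W ⟶ A) (hf : ∀ γ, f ≫ ρ γ = f) : W ⟶ invFEt hX A ρ hlt :=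
  ObjectProperty.homMk (invLift (fun γ => (ρ γ).hom) f.hom
    (fun γ => congrArg (fun k : W ⟶ A => k.hom) (hf γ)))

lemma invFEtLift_incl {W : FEt X} (f : W ⟶ A) (hf : ∀ γ, f ≫ ρ γ = f) :
    invFEtLift hX A ρ hlt f hf ≫ invFEtIncl hX A ρ hlt = f := by
  apply ObjectProperty.hom_ext
  apply Alg.hom_ext
  intro p
  rfl

lemma invFEt_hom_ext {W : FEt X} (m m' : W ⟶ invFEt hX A ρ hlt)
    (h : m ≫ invFEtIncl hX A ρ hlt = m' ≫ invFEtIncl hX A ρ hlt) : m = m' := by
  apply ObjectProperty.hom_ext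
  apply Alg.hom_ext
  intro p
  apply AlgHom.ext
  intro w
  apply invFEtIncl_injective hX A ρ hlt p
  exact congrArg (fun k : W ⟶ A => k.hom.app p w) h

/-- the cone of invariants of a diagram indexed by a one-object category -/
def invCone {M : Type w} [Monoid M] [Finite M] (hX : X.IsSchematic)
    (hlt : ∀ A : FEt X, ∃ (B : Alg X) (n : ℕ), B.IsCovering ∧
      ∀ p : X.pt, Nonempty (TensorProduct (X.ring p) (B.carrier p) (A.obj.carrier p)
        ≃ₐ[B.carrier p] (Fin n → B.carrier p)))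
    (F : SingleObj M ⥤ FEt X) : Cone F where
  pt := invFEt hX (F.obj (SingleObj.star M))
    (fun γ => F.map (show SingleObj.star M ⟶ SingleObj.star M from γ))
    (hlt (F.obj (SingleObj.star M)))
  π :=
    { app := fun _ => invFEtIncl hX (F.obj (SingleObj.star M))
        (fun γ => F.map (show SingleObj.star M ⟶ SingleObj.star M from γ))
        (hlt (F.obj (SingleObj.star M)))
      naturality := fun _ _ f => (Category.id_comp _).trans
        (invFEtIncl_comp hX (F.obj (SingleObj.star M))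
          (fun γ => F.map (show SingleObj.star M ⟶ SingleObj.star M from γ))
          (hlt (F.obj (SingleObj.star M))) f).symm }

/-- the cone of invariants is a limit -/
def invConeIsLimit {M : Type w} [Monoid M] [Finite M] (hX : X.IsSchematic)
    (hlt : ∀ A : FEt X, ∃ (B : Alg X) (n : ℕ), B.IsCovering ∧
      ∀ p : X.pt, Nonempty (TensorProduct (X.ring p) (B.carrier p) (A.obj.carrier p)
        ≃ₐ[B.carrier p] (Fin n → B.carrier p)))
    (F : SingleObj M ⥤ FEt X) : IsLimit (invCone hX hlt F) where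
  lift s := invFEtLift hX (F.obj (SingleObj.star M))
    (fun γ => F.map (show SingleObj.star M ⟶ SingleObj.star M from γ))
    (hlt (F.obj (SingleObj.star M))) (s.π.app (SingleObj.star M))
    (fun γ => s.w (show SingleObj.star M ⟶ SingleObj.star M from γ))
  fac _ _ := invFEtLift_incl hX (F.obj (SingleObj.star M))
    (fun γ => F.map (show SingleObj.star M ⟶ SingleObj.star M from γ))
    (hlt (F.obj (SingleObj.star M))) _ _
  uniq _ _ hm := invFEt_hom_ext hX (F.obj (SingleObj.star M))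
    (fun γ => F.map (show SingleObj.star M ⟶ SingleObj.star M from γ))
    (hlt (F.obj (SingleObj.star M))) _ _
    ((hm (SingleObj.star M)).trans (invFEtLift_incl hX (F.obj (SingleObj.star M))
      (fun γ => F.map (show SingleObj.star M ⟶ SingleObj.star M from γ))
      (hlt (F.obj (SingleObj.star M))) _ _).symm)

theorem hasLimitsOfShape_singleObj (M : Type w) [Monoid M] [Finite M] (hX : X.IsSchematic)
    (hlt : ∀ A : FEt X, ∃ (B : Alg X) (n : ℕ), B.IsCovering ∧
      ∀ p : X.pt, Nonempty (TensorProduct (X.ring p) (B.carrier p) (A.obj.carrier p)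
        ≃ₐ[B.carrier p] (Fin n → B.carrier p))) :
    HasLimitsOfShape (SingleObj M) (FEt X) :=
  ⟨fun F => ⟨⟨⟨invCone hX hlt F, invConeIsLimit hX hlt F⟩⟩⟩⟩

end Groth.Agent.Lib.Helper89.FEtInv
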