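import Groth.Agent.Lib.Helper89.FEtProd
import Groth.Agent.Lib.Helper89.POAlg
import Mathlib.CategoryTheory.Limits.Shapes.Pullback.HasPullback

/-!
# Pushouts of étale covers of a finite ringed poset (pointwise tensor products)
-/

set_option autoImplicit false
set_option linter.style.haveILetI false

open TensorProduct CategoryTheory CategoryTheory.Limits

namespace Groth.Agent.Lib.Helper89.FEtPushout

open _root_.SchFin Groth.Agent.Lib.Helper89.SchFinBC Groth.Agent.Lib.Helper89.FEtBasic
  Groth.Agent.Lib.Helper89.POAlg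

universe u

variable {X : RSpace.{u}}

/-- the pointwise pushout of algebras -/
noncomputable def poAlg {C A B : Alg X} (u : C ⟶ A) (v : C ⟶ B) : Alg X where
  carrier p := PO (u.app p) (v.app p)
  res {p q} h := POAlg.map (u.app p) (v.app p) (u.app q) (v.app q) (C.res h) (A.res h) (B.res h)
    (fun c => u.compat h c) (fun c => v.compat h c)
  res_algebraMap {p q} h a := map_algebraMap (u.app p) (v.app p) (u.app q) (v.app q) (C.res h)
    (A.res h) (B.res h) (fun c => u.compat h c) (fun c => v.compat h c) (X.res h)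
    (fun r => A.res_algebraMap h r) a
  res_self p b := map_self (u.app p) (v.app p) _ _ _ _ _ (A.res_self p) (B.res_self p) b
  res_comp {p q s} h h' b := map_map (u.app p) (v.app p) (u.app q) (v.app q) (u.app s) (v.app s)
    _ _ _ _ _ _ _ _ _ _ _ _ _ _ _ (fun a => A.res_comp h h' a) (fun b => B.res_comp h h' b) b

theorem poAlg_isEtCover {C A B : Alg X} (u : C ⟶ A) (v : C ⟶ B) (hC : C.IsEtCover)
    (hA : A.IsEtCover) (hB : B.IsEtCover) : (poAlg u v).IsEtCover := by
  refine ⟨fun p q h => ?_, fun p => ⟨?_, ?_⟩⟩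
  · let f : PO (u.app p) (v.app p) →ₛₗ[X.res h] PO (u.app q) (v.app q) := (poAlg u v).toMod.res h
    change IsBCAlong (X.res h) f
    rw [isBCAlong_iff_bijective]
    letI : Algebra (X.ring p) (X.ring q) := (X.res h).toAlgebra
    have h1 := (isBCAlong_iff_bijective _ _).mp (hC.1 p q h)
    have h2 := (isBCAlong_iff_bijective _ _).mp (hA.1 p q h)
    have h3 := (isBCAlong_iff_bijective _ _).mp (hB.1 p q h)
    obtain ⟨Φ, hΦ, hb⟩ := exists_bijective_map (u.app p) (v.app p) (u.app q) (v.app q) (C.res h)
      (A.res h) (B.res h) (fun c => u.compat h c) (fun c => v.compat h c)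
      (fun r => A.res_algebraMap h r)
      (by obtain ⟨Φ, hΦ, hb⟩ := h1; exact ⟨Φ, fun s a => hΦ s a, hb⟩)
      (by obtain ⟨Φ, hΦ, hb⟩ := h2; exact ⟨Φ, fun s a => hΦ s a, hb⟩)
      (by obtain ⟨Φ, hΦ, hb⟩ := h3; exact ⟨Φ, fun s a => hΦ s a, hb⟩)
    exact ⟨Φ, fun s x => hΦ s x, hb⟩
  · have := (hA.2 p).1
    have := (hB.2 p).1
    exact POAlg.finite (u.app p) (v.app p)
  · have := (hA.2 p).2
    have := (hB.2 p).2
    have := (hC.2 p).2
    exact POAlg.etale (u.app p) (v.app p)

variable {C A B : FEt X} (u : C ⟶ A) (v : C ⟶ B)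

/-- the pushout as an étale cover -/
noncomputable def poFEt : FEt X :=
  ⟨poAlg u.hom v.hom, poAlg_isEtCover u.hom v.hom C.property A.property B.property⟩

/-- the left inclusion -/
noncomputable def poInl : A ⟶ poFEt u v :=
  ObjectProperty.homMk
    (⟨fun p => inl (u.hom.app p) (v.hom.app p), fun {p q} h a =>
      map_inl (u.hom.app p) (v.hom.app p) (u.hom.app q) (v.hom.app q) _ _ _
        (fun c => u.hom.compat h c) (fun c => v.hom.compat h c) a⟩ :
      Alg.Hom A.obj (poAlg u.hom v.hom))

/-- the right inclusion -/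
noncomputable def poInr : B ⟶ poFEt u v :=
  ObjectProperty.homMk
    (⟨fun p => inr (u.hom.app p) (v.hom.app p), fun {p q} h a =>
      map_inr (u.hom.app p) (v.hom.app p) (u.hom.app q) (v.hom.app q) _ _ _
        (fun c => u.hom.compat h c) (fun c => v.hom.compat h c) a⟩ :
      Alg.Hom B.obj (poAlg u.hom v.hom))

lemma po_condition : u ≫ poInl u v = v ≫ poInr u v := by
  apply ObjectProperty.hom_ext
  apply Alg.hom_ext
  intro p
  apply AlgHom.ext
  intro c
  change inl (u.hom.app p) (v.hom.app p) (u.hom.app p c) =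
    inr (u.hom.app p) (v.hom.app p) (v.hom.app p c)
  exact inl_u (u.hom.app p) (v.hom.app p) c

variable {u v} in
lemma comp_app_eq {W : FEt X} (a : A ⟶ W) (b : B ⟶ W) (h : u ≫ a = v ≫ b) (p : X.pt)
    (c : C.obj.carrier p) :
    a.hom.app p (u.hom.app p c) = b.hom.app p (v.hom.app p c) :=
  congrArg (fun g => g.hom.app p c) h

variable {u v} in
/-- the universal property -/
noncomputable def poDesc {W : FEt X} (a : A ⟶ W) (b : B ⟶ W) (h : u ≫ a = v ≫ b) :
    poFEt u v ⟶ W :=
  ObjectProperty.homMk
    (⟨fun p => desc (a.hom.app p) (b.hom.app p)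
        (fun c => comp_app_eq a b h p c), fun {p q} hpq x => by
      have hx : ∀ x : PO (u.hom.app p) (v.hom.app p),
          W.obj.res hpq (desc (a.hom.app p) (b.hom.app p)
            (fun c => comp_app_eq a b h p c) x) =
          desc (a.hom.app q) (b.hom.app q) (fun c => comp_app_eq a b h q c)
            (POAlg.map (u.hom.app p) (v.hom.app p) (u.hom.app q) (v.hom.app q) (C.obj.res hpq)
              (A.obj.res hpq) (B.obj.res hpq) (fun c => u.hom.compat hpq c)
              (fun c => v.hom.compat hpq c) x) := by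
        intro x
        induction x using POAlg.induction_on with
        | mul a' b' =>
          rw [map_mul, map_mul, map_mul, desc_inl, desc_inr, map_inl, map_inr, map_mul,
            desc_inl, desc_inr, a.hom.compat hpq, b.hom.compat hpq]
        | add x y hx hy => rw [map_add, map_add, map_add, map_add, hx, hy]
      exact hx x⟩ : Alg.Hom (poAlg u.hom v.hom) W.obj)

variable {u v} in
lemma poInl_desc {W : FEt X} (a : A ⟶ W) (b : B ⟶ W) (h : u ≫ a = v ≫ b) :
    poInl u v ≫ poDesc a b h = a := by
  apply ObjectProperty.hom_ext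
  apply Alg.hom_ext
  intro p
  apply AlgHom.ext
  intro x
  exact desc_inl _ _ (fun c => comp_app_eq a b h p c) x

variable {u v} in
lemma poInr_desc {W : FEt X} (a : A ⟶ W) (b : B ⟶ W) (h : u ≫ a = v ≫ b) :
    poInr u v ≫ poDesc a b h = b := by
  apply ObjectProperty.hom_ext
  apply Alg.hom_ext
  intro p
  apply AlgHom.ext
  intro x
  exact desc_inr _ _ (fun c => comp_app_eq a b h p c) x

variable {u v} in
lemma po_hom_ext {W : FEt X} (m m' : poFEt u v ⟶ W) (hl : poInl u v ≫ m = poInl u v ≫ m')
    (hr : poInr u v ≫ m = poInr u v ≫ m') : m = m' := by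
  apply ObjectProperty.hom_ext
  apply Alg.hom_ext
  intro p
  apply AlgHom.coe_ringHom_injective
  apply ringHom_ext (u.hom.app p) (v.hom.app p)
  · intro x
    exact congrArg (fun g => g.hom.app p x) hl
  · intro x
    exact congrArg (fun g => g.hom.app p x) hr

/-- the pushout cocone -/
noncomputable def poCocone : PushoutCocone u v :=
  PushoutCocone.mk (poInl u v) (poInr u v) (po_condition u v)

/-- the pushout cocone is a colimit -/
noncomputable def poIsColimit : IsColimit (poCocone u v) :=
  PushoutCocone.IsColimit.mk _ (fun s => poDesc s.inl s.inr s.condition)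
    (fun s => poInl_desc _ _ _) (fun s => poInr_desc _ _ _)
    (fun s m h1 h2 => po_hom_ext _ _ (h1.trans (poInl_desc _ _ _).symm)
      (h2.trans (poInr_desc _ _ _).symm))

theorem hasPushouts (X : RSpace.{u}) : HasPushouts (FEt X) :=
  @hasPushouts_of_hasColimit_span _ _ (fun {_ _ _ u v} => ⟨⟨⟨poCocone u v, poIsColimit u v⟩⟩⟩)

open Groth.Agent.Lib.Helper89.FEtProd in
theorem hasInitial (X : RSpace.{u}) : HasInitial (FEt X) :=
  @hasInitial_of_unique _ _ (strFEt X) (fun A => ⟨strHom A⟩)
    (fun A => ⟨fun g g' => (strHom_unique A g).trans (strHom_unique A g').symm⟩)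

end Groth.Agent.Lib.Helper89.FEtPushout
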