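import Mathlib

/-!
# Local-to-global for bijectivity of `g.app`

If `g : X ⟶ Y`, `q : Y ⟶ S` and the opens `U ⊆ S` with `g.app (q⁻¹U)` bijective form a basis of `S`,
then `g.app ⊤` is bijective.
-/

set_option autoImplicit false
set_option linter.style.haveILetI false
universe u
open AlgebraicGeometry CategoryTheory TopologicalSpace Opposite

namespace Groth.Agent.Lib.Helper89.FLFBase

theorem appTop_bijective_of_basis {X Y S : Scheme.{u}} (g : X ⟶ Y) (q : Y ⟶ S)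
    (hloc : ∀ (s : S) (O : S.Opens), s ∈ O →
      ∃ U : S.Opens, s ∈ U ∧ U ≤ O ∧ Function.Bijective (g.app (q ⁻¹ᵁ U)).hom) :
    Function.Bijective (g.app ⊤).hom := by
  let ι := {U : S.Opens // Function.Bijective (g.app (q ⁻¹ᵁ U)).hom}
  -- naturality in elementwise form
  have hnat : ∀ {V₁ V₂ : Y.Opens} (i : V₂ ≤ V₁) (a : Γ(Y, V₁)),
      (g.app V₂).hom ((Y.presheaf.map (homOfLE i).op).hom a) =
        (X.presheaf.map (homOfLE (g.preimage_mono i)).op).hom ((g.app V₁).hom a) := by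
    intro V₁ V₂ i a
    exact congrArg (fun m => m.hom a) (g.naturality (homOfLE i).op)
  have hcoverO : ∀ O : S.Opens, q ⁻¹ᵁ O ≤
      iSup (fun U : {U : ι // U.1 ≤ O} => q ⁻¹ᵁ U.1.1) := by
    intro O y hy
    obtain ⟨U, hsU, hUO, hU⟩ := hloc (q y) O hy
    exact Opens.mem_iSup.mpr ⟨⟨⟨U, hU⟩, hUO⟩, hsU⟩
  have hcover : (⊤ : Y.Opens) ≤ iSup (fun U : ι => q ⁻¹ᵁ U.1) := by
    intro y _
    obtain ⟨U, hsU, -, hU⟩ := hloc (q y) ⊤ trivial
    exact Opens.mem_iSup.mpr ⟨⟨U, hU⟩, hsU⟩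
  have hcoverX : (g ⁻¹ᵁ (⊤ : Y.Opens)) ≤ iSup (fun U : ι => g ⁻¹ᵁ (q ⁻¹ᵁ U.1)) := by
    intro x _
    obtain ⟨U, hU⟩ := Opens.mem_iSup.mp (hcover (show g x ∈ (⊤ : Y.Opens) from trivial))
    exact Opens.mem_iSup.mpr ⟨U, hU⟩
  have hinj : Function.Injective (g.app ⊤).hom := by
    rw [injective_iff_map_eq_zero]
    intro x hx
    apply Y.sheaf.eq_of_locally_eq' (fun U : ι => q ⁻¹ᵁ U.1) ⊤ (fun U => homOfLE le_top) hcover
    intro U
    change (Y.presheaf.map (homOfLE (le_top : q ⁻¹ᵁ U.1 ≤ ⊤)).op).hom x =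
      (Y.presheaf.map (homOfLE (le_top : q ⁻¹ᵁ U.1 ≤ ⊤)).op).hom 0
    apply U.2.1
    rw [hnat, hnat, hx, map_zero, map_zero, map_zero]
  refine ⟨hinj, fun d => ?_⟩
  -- local preimages
  have hex : ∀ U : ι, ∃ x : Γ(Y, q ⁻¹ᵁ U.1), (g.app (q ⁻¹ᵁ U.1)).hom x =
      (X.presheaf.map (homOfLE (g.preimage_mono (le_top : q ⁻¹ᵁ U.1 ≤ ⊤))).op).hom d :=
    fun U => U.2.2 _
  choose x hx using hex
  have hcompat : TopCat.Presheaf.IsCompatible Y.presheaf (fun U : ι => q ⁻¹ᵁ U.1) x := by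
    intro U₁ U₂
    apply Y.sheaf.eq_of_locally_eq' (fun U : {U : ι // U.1 ≤ U₁.1 ⊓ U₂.1} => q ⁻¹ᵁ U.1.1)
      (q ⁻¹ᵁ U₁.1 ⊓ q ⁻¹ᵁ U₂.1)
      (fun U => homOfLE (le_inf (q.preimage_mono (U.2.trans inf_le_left))
        (q.preimage_mono (U.2.trans inf_le_right)))) (hcoverO (U₁.1 ⊓ U₂.1))
    intro U₃
    -- both sides equal `x U₃`
    have key : ∀ (U : ι) (h : U₃.1.1 ≤ U.1),
        (Y.presheaf.map (homOfLE (q.preimage_mono h)).op).hom (x U) = x U₃.1 := by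
      intro U h
      apply U₃.1.2.1
      rw [hnat, hx U, hx U₃.1]
      change (X.presheaf.map _ ≫ X.presheaf.map _).hom d = _
      rw [← Functor.map_comp]
      rfl
    have e1 := key U₁ (U₃.2.trans inf_le_left)
    have e2 := key U₂ (U₃.2.trans inf_le_right)
    refine Eq.trans ?_ (e1.trans (Eq.trans e2.symm ?_))
    · change (Y.presheaf.map _ ≫ Y.presheaf.map _).hom (x U₁) = _
      rw [← Functor.map_comp]
      rfl
    · change _ = (Y.presheaf.map _ ≫ Y.presheaf.map _).hom (x U₂)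
      rw [← Functor.map_comp]
      rfl
  obtain ⟨y, hy, -⟩ : ∃! y : Γ(Y, ⊤), ∀ U : ι,
      (Y.presheaf.map (homOfLE (le_top : q ⁻¹ᵁ U.1 ≤ ⊤)).op).hom y = x U :=
    Y.sheaf.existsUnique_gluing' (fun U : ι => q ⁻¹ᵁ U.1) ⊤ (fun U => homOfLE le_top) hcover x
      hcompat
  refine ⟨y, ?_⟩
  apply X.sheaf.eq_of_locally_eq' (fun U : ι => g ⁻¹ᵁ (q ⁻¹ᵁ U.1)) (g ⁻¹ᵁ ⊤)
    (fun U => homOfLE (g.preimage_mono le_top)) hcoverX
  intro U
  have e1 := hnat (le_top : q ⁻¹ᵁ U.1 ≤ ⊤) y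
  rw [hy U, hx U] at e1
  exact e1.symm

end Groth.Agent.Lib.Helper89.FLFBase
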