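import Groth.Agent.Lib.Helper89.FLFBaseLocal
import Groth.Agent.Lib.Helper89.FLFBaseGlobal
import Groth.Agent.Lib.Helper89.FLFBaseFree
import Groth.Agent.Lib.Helper89.SchemeIdem
import Groth.Agent.Lib.Helper89.FEtFF

/-!
# `O_S ≅ f_* O_X` implies full faithfulness of restriction of finite étale covers

* `exists_affine_coordBasis`: a finite flat finitely presented morphism is free over a basis of
  affine opens of the target.
* `appTop_bijective_of_isPullback`: `O_S ≅ f_*O_X` is stable under base change along finite locally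
  free morphisms (global sections form).
* `restrict_full_faithful_of_app_bijective`.
-/

set_option autoImplicit false
set_option linter.style.haveILetI false
universe u
open AlgebraicGeometry CategoryTheory CategoryTheory.Limits TopologicalSpace Opposite

namespace Groth.Agent.Lib.Helper89.FLFBase

theorem exists_affine_coordBasis {W S : Scheme.{u}} (p : W ⟶ S) [IsFinite p] [Flat p]
    [LocallyOfFinitePresentation p] (s : S) (O : S.Opens) (hs : s ∈ O) :
    ∃ U : S.Opens, s ∈ U ∧ U ≤ O ∧ IsAffineOpen U ∧ IsAffineOpen (p ⁻¹ᵁ U) ∧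
      ∃ (n : ℕ) (b : Fin n → Γ(W, p ⁻¹ᵁ U)), IsCoordBasis (p.app U).hom b := by
  obtain ⟨_, ⟨U₀, hU₀, rfl⟩, hs₀, hU₀O⟩ :=
    S.isBasis_affineOpens.exists_subset_of_mem_open hs O.2
  have hV₀ : IsAffineOpen (p ⁻¹ᵁ U₀) := hU₀.preimage p
  letI algAB : Algebra Γ(S, U₀) Γ(W, p ⁻¹ᵁ U₀) := (p.app U₀).hom.toAlgebra
  haveI : Module.Finite Γ(S, U₀) Γ(W, p ⁻¹ᵁ U₀) := IsFinite.finite_app p U₀ hU₀
  haveI : Module.Flat Γ(S, U₀) Γ(W, p ⁻¹ᵁ U₀) := by
    have := p.flat_appLE hU₀ hV₀ le_rfl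
    rw [← Scheme.Hom.app_eq_appLE] at this
    exact this
  haveI : Algebra.FinitePresentation Γ(S, U₀) Γ(W, p ⁻¹ᵁ U₀) := by
    have := p.finitePresentation_appLE hU₀ hV₀ le_rfl
    rw [← Scheme.Hom.app_eq_appLE] at this
    exact this
  -- the prime of `s`
  let 𝔭 : Ideal Γ(S, U₀) := Ideal.comap (S.presheaf.germ U₀ s hs₀).hom
    (IsLocalRing.maximalIdeal (S.presheaf.stalk s))
  haveI : 𝔭.IsPrime := Ideal.comap_isPrime _ _
  obtain ⟨r, hr, hfree⟩ := exists_away_free (A := Γ(S, U₀)) (B := Γ(W, p ⁻¹ᵁ U₀)) 𝔭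
  have hsr : s ∈ S.basicOpen r := by
    rw [Scheme.mem_basicOpen _ _ _ hs₀]
    by_contra hnu
    exact hr hnu
  have hUU₀ : S.basicOpen r ≤ U₀ := S.basicOpen_le r
  have hU : IsAffineOpen (S.basicOpen r) := hU₀.basicOpen r
  have hV : IsAffineOpen (p ⁻¹ᵁ S.basicOpen r) := hU.preimage p
  refine ⟨S.basicOpen r, hsr, hUU₀.trans hU₀O, hU, hV, ?_⟩
  letI algAA' : Algebra Γ(S, U₀) Γ(S, S.basicOpen r) :=
    (S.presheaf.map (homOfLE hUU₀).op).hom.toAlgebra
  letI algA'B' : Algebra Γ(S, S.basicOpen r) Γ(W, p ⁻¹ᵁ S.basicOpen r) :=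
    (p.app (S.basicOpen r)).hom.toAlgebra
  letI algBB' : Algebra Γ(W, p ⁻¹ᵁ U₀) Γ(W, p ⁻¹ᵁ S.basicOpen r) :=
    (W.presheaf.map (homOfLE (p.preimage_mono hUU₀)).op).hom.toAlgebra
  letI algAB' : Algebra Γ(S, U₀) Γ(W, p ⁻¹ᵁ S.basicOpen r) :=
    ((p.app (S.basicOpen r)).hom.comp (S.presheaf.map (homOfLE hUU₀).op).hom).toAlgebra
  haveI : IsScalarTower Γ(S, U₀) Γ(S, S.basicOpen r) Γ(W, p ⁻¹ᵁ S.basicOpen r) :=
    IsScalarTower.of_algebraMap_eq fun _ => rfl
  haveI : IsScalarTower Γ(S, U₀) Γ(W, p ⁻¹ᵁ U₀) Γ(W, p ⁻¹ᵁ S.basicOpen r) :=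
    IsScalarTower.of_algebraMap_eq fun x =>
      congrArg (fun m => m.hom x) (p.naturality (homOfLE hUU₀).op)
  haveI : IsLocalization.Away r Γ(S, S.basicOpen r) := hU₀.isLocalization_basicOpen r
  haveI : IsLocalization.Away (algebraMap Γ(S, U₀) Γ(W, p ⁻¹ᵁ U₀) r)
      Γ(W, p ⁻¹ᵁ S.basicOpen r) :=
    hV₀.isLocalization_of_eq_basicOpen ((p.app U₀).hom r)
      (homOfLE (p.preimage_mono hUU₀)) (Scheme.preimage_basicOpen p r)
  haveI : Module.Finite Γ(S, S.basicOpen r) Γ(W, p ⁻¹ᵁ S.basicOpen r) :=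
    IsFinite.finite_app p _ hU
  exact exists_coordBasis_of_away (A := Γ(S, U₀)) (B := Γ(W, p ⁻¹ᵁ U₀)) r

theorem appTop_bijective_of_isPullback {W' W X S : Scheme.{u}} {g' : W' ⟶ W} {p' : W' ⟶ X}
    {p : W ⟶ S} {f : X ⟶ S} (H : IsPullback g' p' p f) [IsFinite p] [Flat p]
    [LocallyOfFinitePresentation p] (hf : ∀ U : S.Opens, Function.Bijective (f.app U)) :
    Function.Bijective (g'.app ⊤).hom := by
  apply appTop_bijective_of_basis g' p
  intro s O hs
  obtain ⟨U, hsU, hUO, hU, hV, n, b, hb⟩ := exists_affine_coordBasis p s O hs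
  exact ⟨U, hsU, hUO, app_bijective H hf U hU hV b hb⟩

open Groth.Agent.Lib.Helper89.FEtFF Groth.Agent.Lib.Helper89.SchemeIdem in
theorem restrict_full_faithful_of_app_bijective {X S : Scheme.{u}} (f : X ⟶ S)
    (hf : ∀ U : S.Opens, Function.Bijective (f.app U)) :
    (FEt.restrict f).Full ∧ (FEt.restrict f).Faithful := by
  apply full_faithful_of_clopen
  · intro W W' p p' g' sq hp1 hp2 R hR hpre
    haveI := hp1
    haveI := hp2
    exact clopen_inj_of_app_bijective g' (appTop_bijective_of_isPullback sq hf) R hR hpre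
  · intro W W' p p' g' sq hp1 hp2 T hT
    haveI := hp1
    haveI := hp2
    exact clopen_surj_of_app_bijective g' (appTop_bijective_of_isPullback sq hf) T hT

end Groth.Agent.Lib.Helper89.FLFBase
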