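import Mathlib

/-!
# Bases and pushouts of commutative rings

If `D` is the pushout of `C ← A → B` and `B` is free over `A` with basis `b`, then `D` is free over
`C` with basis the image of `b` — in elementary "unique coordinates" form.
-/

set_option autoImplicit false
set_option linter.style.haveILetI false
universe u
open CategoryTheory CategoryTheory.Limits TensorProduct

namespace Groth.Agent.Lib.Helper89.FLFBase

/-- Elementary freeness: unique coordinates with respect to a finite family. -/
def IsCoordBasis {A B : Type*} [CommRing A] [CommRing B] (φ : A →+* B) {n : ℕ} (b : Fin n → B) :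
    Prop :=
  ∀ x : B, ∃! a : Fin n → A, x = ∑ k, φ (a k) * b k

theorem isCoordBasis_of_isPushout {A B C D : CommRingCat.{u}} (α : A ⟶ C) (φ : A ⟶ B)
    (σ : C ⟶ D) (ψ : B ⟶ D) (H : IsPushout α φ σ ψ) {n : ℕ} (b : Fin n → B)
    (hb : IsCoordBasis φ.hom b) : IsCoordBasis σ.hom (fun k => ψ.hom (b k)) := by
  letI algAB : Algebra A B := φ.hom.toAlgebra
  letI algAC : Algebra A C := α.hom.toAlgebra
  -- the basis of `B` over `A`
  have hbij : Function.Bijective (Fintype.linearCombination A b) := by
    constructor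
    · intro a a' h
      obtain ⟨a₀, -, huniq⟩ := hb (Fintype.linearCombination A b a)
      have h1 : a = a₀ := huniq a (by
        rw [Fintype.linearCombination_apply]
        exact Finset.sum_congr rfl fun k _ => by rw [Algebra.smul_def]; rfl)
      have h2 : a' = a₀ := huniq a' (by
        rw [h, Fintype.linearCombination_apply]
        exact Finset.sum_congr rfl fun k _ => by rw [Algebra.smul_def]; rfl)
      rw [h1, h2]
    · intro x
      obtain ⟨a, ha, -⟩ := hb x
      refine ⟨a, ?_⟩
      rw [ha, Fintype.linearCombination_apply]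
      exact Finset.sum_congr rfl fun k _ => by rw [Algebra.smul_def]; rfl
  let e : (Fin n → A) ≃ₗ[A] B := LinearEquiv.ofBijective _ hbij
  let bb : Module.Basis (Fin n) A B := Module.Basis.ofEquivFun e.symm
  have hbb : ∀ k, bb k = b k := by
    intro k
    have : bb k = e (Pi.single k 1) := by
      simp [bb, Module.Basis.ofEquivFun]
    rw [this]
    simp [e, Fintype.linearCombination_apply, Pi.single_apply]
  let bC : Module.Basis (Fin n) C (C ⊗[A] B) := Algebra.TensorProduct.basis C bb
  have hbC : ∀ k, bC k = 1 ⊗ₜ b k := fun k => by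
    rw [Algebra.TensorProduct.basis_apply, hbb]
  -- the comparison isomorphism
  have HT := CommRingCat.isPushout_tensorProduct A C B
  let ε : CommRingCat.of (C ⊗[A] B) ≅ D := HT.isoIsPushout _ _ H
  have hl : CommRingCat.ofHom (S := C ⊗[A] B) Algebra.TensorProduct.includeLeftRingHom ≫ ε.hom = σ :=
    IsPushout.inl_isoIsPushout_hom _ _ HT H
  have hr : CommRingCat.ofHom (S := C ⊗[A] B) Algebra.TensorProduct.includeRight.toRingHom ≫ ε.hom =
      ψ := IsPushout.inr_isoIsPushout_hom _ _ HT H
  have hεl : ∀ c : C, ε.hom.hom (c ⊗ₜ 1) = σ.hom c := fun c =>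
    congrArg (fun m : C ⟶ D => m.hom c) hl
  have hεr : ∀ x : B, ε.hom.hom (1 ⊗ₜ x) = ψ.hom x := fun x =>
    congrArg (fun m : B ⟶ D => m.hom x) hr
  have hεsum : ∀ c : Fin n → C, ε.hom.hom (∑ k, c k • bC k) = ∑ k, σ.hom (c k) * ψ.hom (b k) := by
    intro c
    rw [map_sum]
    refine Finset.sum_congr rfl fun k _ => ?_
    have : c k • bC k = (c k ⊗ₜ (1 : B)) * ((1 : C) ⊗ₜ b k) := by
      rw [hbC, Algebra.TensorProduct.tmul_mul_tmul, mul_one, one_mul, TensorProduct.smul_tmul',
        smul_eq_mul, mul_one]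
    rw [this, map_mul, hεl, hεr]
  intro d
  have h1 : ε.hom.hom (ε.inv.hom d) = d :=
    congrArg (fun m : D ⟶ D => m.hom d) ε.inv_hom_id
  have h0 : ∀ t : C ⊗[A] B, ε.inv.hom (ε.hom.hom t) = t := fun t =>
    congrArg (fun m : CommRingCat.of (C ⊗[A] B) ⟶ CommRingCat.of (C ⊗[A] B) => m.hom t)
      ε.hom_inv_id
  refine ⟨bC.repr (ε.inv.hom d), ?_, ?_⟩
  · show d = ∑ k, σ.hom (bC.repr (ε.inv.hom d) k) * ψ.hom (b k)
    rw [← hεsum, bC.sum_repr, h1]
  · intro c hc
    change d = ∑ k, σ.hom (c k) * ψ.hom (b k) at hc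
    rw [← hεsum] at hc
    have h2 : ε.inv.hom d = ∑ k, c k • bC k := by
      rw [hc]
      exact h0 _
    rw [h2, Module.Basis.repr_sum_self]

end Groth.Agent.Lib.Helper89.FLFBase
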