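import Groth.Agent.Lib.Helper89.FLFBaseAlg

/-!
# Sections of the base change of a finite free morphism

Let `f : X ⟶ S` satisfy `O_S ≅ f_* O_X`, and let `p : W ⟶ S` be a morphism, `U ⊆ S` an affine open
with `p⁻¹U` affine and `Γ(W, p⁻¹U)` finite free over `Γ(S, U)`.  Then for the base change
`g' : W' = W ×_S X ⟶ W`, the map `Γ(W, p⁻¹U) → Γ(W', g'⁻¹p⁻¹U)` is bijective (no finiteness
condition on `f`).
-/

set_option autoImplicit false
set_option linter.style.haveILetI false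
universe u
open AlgebraicGeometry CategoryTheory CategoryTheory.Limits TopologicalSpace Opposite

namespace Groth.Agent.Lib.Helper89.FLFBase

variable {W' W X S : Scheme.{u}} {g' : W' ⟶ W} {p' : W' ⟶ X} {p : W ⟶ S} {f : X ⟶ S}

section

variable (H : IsPullback g' p' p f) (U : S.Opens)

/-- the opens `p'⁻¹Z ∩ g'⁻¹p⁻¹U` -/
abbrev UY (Z : X.Opens) : W'.Opens := p' ⁻¹ᵁ Z ⊓ g' ⁻¹ᵁ (p ⁻¹ᵁ U)

include H in
theorem preimage_eq : g' ⁻¹ᵁ (p ⁻¹ᵁ U) = p' ⁻¹ᵁ (f ⁻¹ᵁ U) := by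
  rw [← Scheme.Hom.comp_preimage, ← Scheme.Hom.comp_preimage, H.w]

include H in
theorem isCoordBasis_affine (hU : IsAffineOpen U) (hV : IsAffineOpen (p ⁻¹ᵁ U))
    {n : ℕ} (b : Fin n → Γ(W, p ⁻¹ᵁ U)) (hb : IsCoordBasis (p.app U).hom b)
    (Z : X.Opens) (hZ : IsAffineOpen Z) (hZU : Z ≤ f ⁻¹ᵁ U) :
    IsCoordBasis (p'.appLE Z (UY (g' := g') (p' := p') (p := p) U Z) inf_le_left).hom
      (fun k => (g'.appLE (p ⁻¹ᵁ U) (UY (g' := g') (p' := p') (p := p) U Z) inf_le_right).hom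
        (b k)) := by
  have hiso := isIso_pushoutSection_of_isAffineOpen H.flip (US := U) (UT := p ⁻¹ᵁ U) (UX := Z)
    le_rfl hZU (UY := UY (g' := g') (p' := p') (p := p) U Z) rfl hU hV hZ
  have hpo := (isIso_pushoutSection_iff H.flip (US := U) (UT := p ⁻¹ᵁ U) (UX := Z)
    le_rfl hZU (UY := UY (g' := g') (p' := p') (p := p) U Z) rfl).mp hiso
  have hb' : IsCoordBasis (p.appLE U (p ⁻¹ᵁ U) le_rfl).hom b := by
    rw [← Scheme.Hom.app_eq_appLE]; exact hb
  exact isCoordBasis_of_isPushout _ _ _ _ hpo b hb'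

end

section Main

variable (H : IsPullback g' p' p f) (hf : ∀ U : S.Opens, Function.Bijective (f.app U))
  (U : S.Opens) (hU : IsAffineOpen U) (hV : IsAffineOpen (p ⁻¹ᵁ U))
  {n : ℕ} (b : Fin n → Γ(W, p ⁻¹ᵁ U)) (hb : IsCoordBasis (p.app U).hom b)

/-- index type: affine opens of `X` inside `f⁻¹U` -/
abbrev Idx (f : X ⟶ S) (U : S.Opens) : Type u := {Z : X.Opens // IsAffineOpen Z ∧ Z ≤ f ⁻¹ᵁ U}

theorem cover_X : f ⁻¹ᵁ U ≤ iSup (fun Z : Idx f U => Z.1) := by
  intro x hx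
  obtain ⟨_, ⟨Z, hZ, rfl⟩, hxZ, hZU⟩ :=
    X.isBasis_affineOpens.exists_subset_of_mem_open hx (f ⁻¹ᵁ U).2
  exact Opens.mem_iSup.mpr ⟨⟨Z, hZ, hZU⟩, hxZ⟩

include H in
theorem cover_W' : g' ⁻¹ᵁ (p ⁻¹ᵁ U) ≤
    iSup (fun Z : Idx f U => UY (g' := g') (p' := p') (p := p) U Z.1) := by
  intro w hw
  have hw' : p' w ∈ f ⁻¹ᵁ U := by
    have : w ∈ p' ⁻¹ᵁ (f ⁻¹ᵁ U) := by rw [← preimage_eq H U]; exact hw
    exact this
  obtain ⟨Z, hZ⟩ := Opens.mem_iSup.mp (cover_X (f := f) U hw')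
  exact Opens.mem_iSup.mpr ⟨Z, ⟨hZ, hw⟩⟩

/-- `σ_Z` -/
noncomputable abbrev sig (g' : W' ⟶ W) (p' : W' ⟶ X) (p : W ⟶ S) (U : S.Opens) (Z : X.Opens) :
    Γ(X, Z) →+* Γ(W', UY (g' := g') (p' := p') (p := p) U Z) :=
  (p'.appLE Z (UY (g' := g') (p' := p') (p := p) U Z) inf_le_left).hom

/-- `ψ_Z` -/
noncomputable abbrev psi (g' : W' ⟶ W) (p' : W' ⟶ X) (p : W ⟶ S) (U : S.Opens) (Z : X.Opens) :
    Γ(W, p ⁻¹ᵁ U) →+* Γ(W', UY (g' := g') (p' := p') (p := p) U Z) :=
  (g'.appLE (p ⁻¹ᵁ U) (UY (g' := g') (p' := p') (p := p) U Z) inf_le_right).hom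

theorem res_sig {Z Z' : X.Opens} (h : Z' ≤ Z) (c : Γ(X, Z)) :
    (W'.presheaf.map (homOfLE (show UY (g' := g') (p' := p') (p := p) U Z' ≤
      UY (g' := g') (p' := p') (p := p) U Z from
        inf_le_inf_right _ (p'.preimage_mono h))).op).hom (sig g' p' p U Z c) =
      sig g' p' p U Z' ((X.presheaf.map (homOfLE h).op).hom c) := by
  have h1 : p'.appLE Z (UY (g' := g') (p' := p') (p := p) U Z) inf_le_left ≫
      W'.presheaf.map (homOfLE (show UY (g' := g') (p' := p') (p := p) U Z' ≤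
        UY (g' := g') (p' := p') (p := p) U Z from
          inf_le_inf_right _ (p'.preimage_mono h))).op =
      X.presheaf.map (homOfLE h).op ≫
        p'.appLE Z' (UY (g' := g') (p' := p') (p := p) U Z') inf_le_left := by
    rw [Scheme.Hom.appLE_map, Scheme.Hom.map_appLE]
  exact congrArg (fun m => m.hom c) h1

theorem res_psi {Z Z' : X.Opens} (h : Z' ≤ Z) (x : Γ(W, p ⁻¹ᵁ U)) :
    (W'.presheaf.map (homOfLE (show UY (g' := g') (p' := p') (p := p) U Z' ≤
      UY (g' := g') (p' := p') (p := p) U Z from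
        inf_le_inf_right _ (p'.preimage_mono h))).op).hom (psi g' p' p U Z x) =
      psi g' p' p U Z' x := by
  have h1 : g'.appLE (p ⁻¹ᵁ U) (UY (g' := g') (p' := p') (p := p) U Z) inf_le_right ≫
      W'.presheaf.map (homOfLE (show UY (g' := g') (p' := p') (p := p) U Z' ≤
        UY (g' := g') (p' := p') (p := p) U Z from
          inf_le_inf_right _ (p'.preimage_mono h))).op =
      g'.appLE (p ⁻¹ᵁ U) (UY (g' := g') (p' := p') (p := p) U Z') inf_le_right := by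
    rw [Scheme.Hom.appLE_map]
  exact congrArg (fun m => m.hom x) h1

/-- restriction of `g'.app V x` to `UY Z` is `ψ_Z x` -/
theorem res_app (Z : X.Opens) (x : Γ(W, p ⁻¹ᵁ U)) :
    (W'.presheaf.map (homOfLE (show UY (g' := g') (p' := p') (p := p) U Z ≤ g' ⁻¹ᵁ (p ⁻¹ᵁ U) from
      inf_le_right)).op).hom ((g'.app (p ⁻¹ᵁ U)).hom x) = psi g' p' p U Z x := rfl

include H in
/-- the commutation `ψ_Z ∘ p^# = σ_Z ∘ res ∘ f^#` -/
theorem psi_app (Z : X.Opens) (hZU : Z ≤ f ⁻¹ᵁ U) (a : Γ(S, U)) :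
    psi g' p' p U Z ((p.app U).hom a) =
      sig g' p' p U Z ((X.presheaf.map (homOfLE hZU).op).hom ((f.app U).hom a)) := by
  have h1 : p.app U ≫ g'.appLE (p ⁻¹ᵁ U) (UY (g' := g') (p' := p') (p := p) U Z) inf_le_right =
      (f.app U ≫ X.presheaf.map (homOfLE hZU).op) ≫
        p'.appLE Z (UY (g' := g') (p' := p') (p := p) U Z) inf_le_left := by
    have e1 : f.app U ≫ X.presheaf.map (homOfLE hZU).op = f.appLE U Z hZU := rfl
    rw [e1, Scheme.Hom.app_eq_appLE, Scheme.Hom.appLE_comp_appLE, Scheme.Hom.appLE_comp_appLE]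
    congr 1
    exact H.w
  exact congrArg (fun m => m.hom a) h1

include H hf hU hV hb in
theorem app_injective : Function.Injective (g'.app (p ⁻¹ᵁ U)).hom := by
  rw [injective_iff_map_eq_zero]
  intro x hx
  obtain ⟨a, ha, -⟩ := hb x
  -- all coordinates vanish
  have hzero : ∀ k, a k = 0 := by
    intro k
    apply (hf U).1
    rw [map_zero]
    apply X.sheaf.eq_of_locally_eq' (fun Z : Idx f U => Z.1) (f ⁻¹ᵁ U)
      (fun Z => homOfLE Z.2.2) (cover_X U)
    intro Z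
    have hcb := isCoordBasis_affine H U hU hV b hb Z.1 Z.2.1 Z.2.2
    -- two expressions of `0 = ψ_Z x`
    have h0 : psi g' p' p U Z.1 x = 0 := by
      rw [← res_app U Z.1 x, hx, map_zero]
    have h1 : psi g' p' p U Z.1 x = ∑ k, sig g' p' p U Z.1
        ((X.presheaf.map (homOfLE Z.2.2).op).hom ((f.app U).hom (a k))) *
          psi g' p' p U Z.1 (b k) := by
      rw [ha, map_sum]
      refine Finset.sum_congr rfl fun k _ => ?_
      rw [map_mul, psi_app H U Z.1 Z.2.2]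
    have h2 : psi g' p' p U Z.1 x = ∑ k, sig g' p' p U Z.1 ((fun _ => (0 : Γ(X, Z.1))) k) *
          psi g' p' p U Z.1 (b k) := by
      rw [h0]; simp
    obtain ⟨c₀, -, huniq⟩ := hcb (psi g' p' p U Z.1 x)
    have e1 := huniq _ h1
    have e2 := huniq _ h2
    have e3 := congrFun (e1.trans e2.symm) k
    exact e3.trans (map_zero (X.presheaf.map (homOfLE Z.2.2).op).hom).symm
  rw [ha]
  simp [hzero]

include H hf hU hV hb in
theorem app_surjective : Function.Surjective (g'.app (p ⁻¹ᵁ U)).hom := by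
  intro d
  -- local coordinates of `d`
  have hcb := fun Z : Idx f U => isCoordBasis_affine H U hU hV b hb Z.1 Z.2.1 Z.2.2
  let dZ : ∀ Z : Idx f U, Γ(W', UY (g' := g') (p' := p') (p := p) U Z.1) := fun Z =>
    (W'.presheaf.map (homOfLE (show UY (g' := g') (p' := p') (p := p) U Z.1 ≤
      g' ⁻¹ᵁ (p ⁻¹ᵁ U) from inf_le_right)).op).hom d
  choose c hc hcuniq using fun Z : Idx f U => hcb Z (dZ Z)
  -- compatibility under restriction
  have hres : ∀ (Z Z' : Idx f U) (h : Z'.1 ≤ Z.1) (k : Fin n),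
      (X.presheaf.map (homOfLE h).op).hom (c Z k) = c Z' k := by
    intro Z Z' h k
    have h1 : dZ Z' = (W'.presheaf.map (homOfLE (show UY (g' := g') (p' := p') (p := p) U Z'.1 ≤
        UY (g' := g') (p' := p') (p := p) U Z.1 from
          inf_le_inf_right _ (p'.preimage_mono h))).op).hom (dZ Z) := by
      change _ = (W'.presheaf.map _ ≫ W'.presheaf.map _).hom d
      rw [← Functor.map_comp]
      rfl
    have h2 : dZ Z' = ∑ k, sig g' p' p U Z'.1 ((X.presheaf.map (homOfLE h).op).hom (c Z k)) *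
        psi g' p' p U Z'.1 (b k) := by
      rw [h1, hc Z, map_sum]
      refine Finset.sum_congr rfl fun k _ => ?_
      rw [map_mul]
      congr 1
      · exact res_sig U h (c Z k)
      · exact res_psi U h (b k)
    exact congrFun (hcuniq Z' _ h2) k
  -- glue the coordinates
  have hglue : ∀ k, ∃ γ : Γ(X, f ⁻¹ᵁ U), ∀ Z : Idx f U,
      (X.presheaf.map (homOfLE Z.2.2).op).hom γ = c Z k := by
    intro k
    have hcompat : TopCat.Presheaf.IsCompatible X.presheaf (fun Z : Idx f U => Z.1)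
        (fun Z => c Z k) := by
      intro Z₁ Z₂
      -- check on affine opens inside the intersection
      let J : Type u := {Z : X.Opens // IsAffineOpen Z ∧ Z ≤ Z₁.1 ⊓ Z₂.1}
      have hcov : Z₁.1 ⊓ Z₂.1 ≤ iSup (fun Z : J => Z.1) := by
        intro x hx
        obtain ⟨_, ⟨Z, hZ, rfl⟩, hxZ, hZU⟩ :=
          X.isBasis_affineOpens.exists_subset_of_mem_open hx (Z₁.1 ⊓ Z₂.1).2
        exact Opens.mem_iSup.mpr ⟨⟨Z, hZ, hZU⟩, hxZ⟩
      apply X.sheaf.eq_of_locally_eq' (fun Z : J => Z.1) (Z₁.1 ⊓ Z₂.1)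
        (fun Z => homOfLE Z.2.2) hcov
      intro Z
      let Z' : Idx f U := ⟨Z.1, Z.2.1, Z.2.2.trans (inf_le_left.trans Z₁.2.2)⟩
      have e1 := hres Z₁ Z' (Z.2.2.trans inf_le_left) k
      have e2 := hres Z₂ Z' (Z.2.2.trans inf_le_right) k
      have e1' : (X.presheaf.map (homOfLE Z.2.2).op).hom
          ((X.presheaf.map (Opens.infLELeft Z₁.1 Z₂.1).op).hom (c Z₁ k)) = c Z' k := by
        rw [← e1]
        change (X.presheaf.map _ ≫ X.presheaf.map _).hom (c Z₁ k) = _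
        rw [← Functor.map_comp]
        rfl
      have e2' : (X.presheaf.map (homOfLE Z.2.2).op).hom
          ((X.presheaf.map (Opens.infLERight Z₁.1 Z₂.1).op).hom (c Z₂ k)) = c Z' k := by
        rw [← e2]
        change (X.presheaf.map _ ≫ X.presheaf.map _).hom (c Z₂ k) = _
        rw [← Functor.map_comp]
        rfl
      exact e1'.trans e2'.symm
    obtain ⟨γ, hγ, -⟩ := X.sheaf.existsUnique_gluing' (fun Z : Idx f U => Z.1) (f ⁻¹ᵁ U)
      (fun Z => homOfLE Z.2.2) (cover_X U) (fun Z => c Z k) hcompat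
    exact ⟨γ, hγ⟩
  choose γ hγ using hglue
  choose a ha using fun k => (hf U).2 (γ k)
  refine ⟨∑ k, (p.app U).hom (a k) * b k, ?_⟩
  apply W'.sheaf.eq_of_locally_eq' (fun Z : Idx f U => UY (g' := g') (p' := p') (p := p) U Z.1)
    (g' ⁻¹ᵁ (p ⁻¹ᵁ U)) (fun Z => homOfLE inf_le_right) (cover_W' H U)
  intro Z
  change (W'.presheaf.map (homOfLE (show UY (g' := g') (p' := p') (p := p) U Z.1 ≤
      g' ⁻¹ᵁ (p ⁻¹ᵁ U) from inf_le_right)).op).hom
      ((g'.app (p ⁻¹ᵁ U)).hom (∑ k, (p.app U).hom (a k) * b k)) = dZ Z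
  rw [res_app U Z.1, hc Z, map_sum]
  refine Finset.sum_congr rfl fun k _ => ?_
  rw [map_mul, psi_app H U Z.1 Z.2.2]
  congr 2
  have := ha k
  change (f.app U).hom (a k) = γ k at this
  rw [this]
  exact hγ k Z

include H hf hU hV hb in
theorem app_bijective : Function.Bijective (g'.app (p ⁻¹ᵁ U)).hom :=
  ⟨app_injective H hf U hU hV b hb, app_surjective H hf U hU hV b hb⟩

end Main

end Groth.Agent.Lib.Helper89.FLFBase
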