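import Groth.Agent.Lib.Helper89.FLFBaseLocal

/-!
# Global coordinates on the base change of a finite free morphism

Let `H : IsPullback g' p' p f` with `p : W ⟶ S`, `U ⊆ S` affine with `p⁻¹U` affine and
`Γ(W, p⁻¹U)` free over `Γ(S, U)` with coordinate basis `b`.  Then `Γ(W', g'⁻¹p⁻¹U)` is free over
`Γ(X, f⁻¹U)` with coordinate basis `g'^♯ b` (no condition on `f`).
-/

set_option autoImplicit false
set_option linter.style.haveILetI false
universe u
open AlgebraicGeometry CategoryTheory CategoryTheory.Limits TopologicalSpace Opposite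

namespace Groth.Agent.Lib.Helper89.FLFBase

variable {W' W X S : Scheme.{u}} {g' : W' ⟶ W} {p' : W' ⟶ X} {p : W ⟶ S} {f : X ⟶ S}

section

variable (H : IsPullback g' p' p f)
  (U : S.Opens) (hU : IsAffineOpen U) (hV : IsAffineOpen (p ⁻¹ᵁ U))
  {n : ℕ} (b : Fin n → Γ(W, p ⁻¹ᵁ U)) (hb : IsCoordBasis (p.app U).hom b)

/-- `p'^♯ : Γ(X, f⁻¹U) → Γ(W', g'⁻¹p⁻¹U)` -/
noncomputable abbrev sigTop (H : IsPullback g' p' p f) (U : S.Opens) :
    Γ(X, f ⁻¹ᵁ U) →+* Γ(W', g' ⁻¹ᵁ (p ⁻¹ᵁ U)) :=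
  (p'.appLE (f ⁻¹ᵁ U) (g' ⁻¹ᵁ (p ⁻¹ᵁ U)) (by rw [preimage_eq H U])).hom

theorem res_sigTop (Z : X.Opens) (hZU : Z ≤ f ⁻¹ᵁ U) (γ : Γ(X, f ⁻¹ᵁ U)) :
    (W'.presheaf.map (homOfLE (show UY (g' := g') (p' := p') (p := p) U Z ≤ g' ⁻¹ᵁ (p ⁻¹ᵁ U) from
      inf_le_right)).op).hom (sigTop H U γ) =
      sig g' p' p U Z ((X.presheaf.map (homOfLE hZU).op).hom γ) := by
  have h1 : p'.appLE (f ⁻¹ᵁ U) (g' ⁻¹ᵁ (p ⁻¹ᵁ U)) (by rw [preimage_eq H U]) ≫
      W'.presheaf.map (homOfLE (show UY (g' := g') (p' := p') (p := p) U Z ≤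
        g' ⁻¹ᵁ (p ⁻¹ᵁ U) from inf_le_right)).op =
      X.presheaf.map (homOfLE hZU).op ≫
        p'.appLE Z (UY (g' := g') (p' := p') (p := p) U Z) inf_le_left := by
    rw [Scheme.Hom.appLE_map, Scheme.Hom.map_appLE]
  exact congrArg (fun m => m.hom γ) h1

include hU hV hb in
theorem isCoordBasis_global :
    IsCoordBasis (sigTop H U) (fun k => (g'.app (p ⁻¹ᵁ U)).hom (b k)) := by
  intro d
  -- local coordinates of `d`
  have hcb := fun Z : Idx f U => isCoordBasis_affine H U hU hV b hb Z.1 Z.2.1 Z.2.2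
  let dZ : ∀ Z : Idx f U, Γ(W', UY (g' := g') (p' := p') (p := p) U Z.1) := fun Z =>
    (W'.presheaf.map (homOfLE (show UY (g' := g') (p' := p') (p := p) U Z.1 ≤
      g' ⁻¹ᵁ (p ⁻¹ᵁ U) from inf_le_right)).op).hom d
  choose c hc hcuniq using fun Z : Idx f U => hcb Z (dZ Z)
  -- compatibility under restriction
  have hres : ∀ (Z Z' : Idx f U) (h : Z'.1 ≤ Z.1) (k : Fin n),
      (X.presheaf.map (homOfLE h).op).hom (c Z k) = c Z' k := by
    intro Z Z' h k
    have h1 : dZ Z' = (W'.presheaf.map (homOfLE (show UY (g' := g') (p' := p') (p := p) U Z'.1 ≤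
        UY (g' := g') (p' := p') (p := p) U Z.1 from
          inf_le_inf_right _ (p'.preimage_mono h))).op).hom (dZ Z) := by
      change _ = (W'.presheaf.map _ ≫ W'.presheaf.map _).hom d
      rw [← Functor.map_comp]
      rfl
    have h2 : dZ Z' = ∑ k, sig g' p' p U Z'.1 ((X.presheaf.map (homOfLE h).op).hom (c Z k)) *
        psi g' p' p U Z'.1 (b k) := by
      rw [h1, hc Z, map_sum]
      refine Finset.sum_congr rfl fun k _ => ?_
      rw [map_mul]
      congr 1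
      · exact res_sig U h (c Z k)
      · exact res_psi U h (b k)
    exact congrFun (hcuniq Z' _ h2) k
  -- glue the coordinates
  have hglue : ∀ k, ∃ γ : Γ(X, f ⁻¹ᵁ U), ∀ Z : Idx f U,
      (X.presheaf.map (homOfLE Z.2.2).op).hom γ = c Z k := by
    intro k
    have hcompat : TopCat.Presheaf.IsCompatible X.presheaf (fun Z : Idx f U => Z.1)
        (fun Z => c Z k) := by
      intro Z₁ Z₂
      let J : Type u := {Z : X.Opens // IsAffineOpen Z ∧ Z ≤ Z₁.1 ⊓ Z₂.1}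
      have hcov : Z₁.1 ⊓ Z₂.1 ≤ iSup (fun Z : J => Z.1) := by
        intro x hx
        obtain ⟨_, ⟨Z, hZ, rfl⟩, hxZ, hZU⟩ :=
          X.isBasis_affineOpens.exists_subset_of_mem_open hx (Z₁.1 ⊓ Z₂.1).2
        exact Opens.mem_iSup.mpr ⟨⟨Z, hZ, hZU⟩, hxZ⟩
      apply X.sheaf.eq_of_locally_eq' (fun Z : J => Z.1) (Z₁.1 ⊓ Z₂.1)
        (fun Z => homOfLE Z.2.2) hcov
      intro Z
      let Z' : Idx f U := ⟨Z.1, Z.2.1, Z.2.2.trans (inf_le_left.trans Z₁.2.2)⟩
      have e1 := hres Z₁ Z' (Z.2.2.trans inf_le_left) k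
      have e2 := hres Z₂ Z' (Z.2.2.trans inf_le_right) k
      have e1' : (X.presheaf.map (homOfLE Z.2.2).op).hom
          ((X.presheaf.map (Opens.infLELeft Z₁.1 Z₂.1).op).hom (c Z₁ k)) = c Z' k := by
        rw [← e1]
        change (X.presheaf.map _ ≫ X.presheaf.map _).hom (c Z₁ k) = _
        rw [← Functor.map_comp]
        rfl
      have e2' : (X.presheaf.map (homOfLE Z.2.2).op).hom
          ((X.presheaf.map (Opens.infLERight Z₁.1 Z₂.1).op).hom (c Z₂ k)) = c Z' k := by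
        rw [← e2]
        change (X.presheaf.map _ ≫ X.presheaf.map _).hom (c Z₂ k) = _
        rw [← Functor.map_comp]
        rfl
      exact e1'.trans e2'.symm
    obtain ⟨γ, hγ, -⟩ := X.sheaf.existsUnique_gluing' (fun Z : Idx f U => Z.1) (f ⁻¹ᵁ U)
      (fun Z => homOfLE Z.2.2) (cover_X U) (fun Z => c Z k) hcompat
    exact ⟨γ, hγ⟩
  choose γ hγ using hglue
  -- local form of a global expression
  have hloc : ∀ (γ' : Fin n → Γ(X, f ⁻¹ᵁ U)) (Z : Idx f U),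
      (W'.presheaf.map (homOfLE (show UY (g' := g') (p' := p') (p := p) U Z.1 ≤
        g' ⁻¹ᵁ (p ⁻¹ᵁ U) from inf_le_right)).op).hom
        (∑ k, sigTop H U (γ' k) * (g'.app (p ⁻¹ᵁ U)).hom (b k)) =
      ∑ k, sig g' p' p U Z.1 ((X.presheaf.map (homOfLE Z.2.2).op).hom (γ' k)) *
        psi g' p' p U Z.1 (b k) := by
    intro γ' Z
    rw [map_sum]
    refine Finset.sum_congr rfl fun k _ => ?_
    rw [map_mul, res_sigTop H U Z.1 Z.2.2, res_app U Z.1]
  refine ⟨γ, ?_, ?_⟩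
  · apply W'.sheaf.eq_of_locally_eq' (fun Z : Idx f U => UY (g' := g') (p' := p') (p := p) U Z.1)
      (g' ⁻¹ᵁ (p ⁻¹ᵁ U)) (fun Z => homOfLE inf_le_right) (cover_W' H U)
    intro Z
    change dZ Z = (W'.presheaf.map (homOfLE (show UY (g' := g') (p' := p') (p := p) U Z.1 ≤
        g' ⁻¹ᵁ (p ⁻¹ᵁ U) from inf_le_right)).op).hom _
    rw [hloc γ Z, hc Z]
    refine Finset.sum_congr rfl fun k _ => ?_
    rw [hγ k Z]
  · intro γ' hγ'
    funext k
    apply X.sheaf.eq_of_locally_eq' (fun Z : Idx f U => Z.1) (f ⁻¹ᵁ U)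
      (fun Z => homOfLE Z.2.2) (cover_X U)
    intro Z
    change (X.presheaf.map (homOfLE Z.2.2).op).hom (γ' k) =
      (X.presheaf.map (homOfLE Z.2.2).op).hom (γ k)
    rw [hγ k Z]
    have h2 : dZ Z = ∑ k, sig g' p' p U Z.1 ((X.presheaf.map (homOfLE Z.2.2).op).hom (γ' k)) *
        psi g' p' p U Z.1 (b k) := by
      change (W'.presheaf.map _).hom d = _
      rw [hγ', hloc γ' Z]
    exact congrFun (hcuniq Z _ h2) k

end

end Groth.Agent.Lib.Helper89.FLFBase
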