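import Mathlib
import Groth.Agent.Lib.Helper89.FS4
import Groth.Agent.Lib.Helper89.FS7

set_option autoImplicit false
universe u

open CategoryTheory CategoryTheory.Limits AlgebraicGeometry TopologicalSpace

namespace Groth.Agent.Lib.Helper89.FS

variable {k : Type u} [Field k] (L : Type u) [Field L] [Algebra k L]
  {X : Scheme.{u}} (f : X ⟶ Spec (CommRingCat.of k))

lemma specMap_algEquiv_pE (τ : L ≃ₐ[k] L) :
    Spec.map (CommRingCat.ofHom (τ : L →+* L)) ≫ pE k L = pE k L := by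
  rw [← Spec.map_comp, ← CommRingCat.ofHom_comp]
  congr 2
  ext c
  exact τ.commutes c

/-- the action of the automorphism group on `X_L` -/
noncomputable def act (τ : L ≃ₐ[k] L) : pullback f (pE k L) ⟶ pullback f (pE k L) :=
  pullback.lift (pullback.fst f (pE k L))
    (pullback.snd f (pE k L) ≫ Spec.map (CommRingCat.ofHom (τ : L →+* L)))
    (by rw [Category.assoc, specMap_algEquiv_pE, pullback.condition])

@[reassoc (attr := simp)]
lemma act_fst (τ : L ≃ₐ[k] L) : act L f τ ≫ pullback.fst f (pE k L) = pullback.fst f (pE k L) :=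
  pullback.lift_fst _ _ _

@[reassoc (attr := simp)]
lemma act_snd (τ : L ≃ₐ[k] L) : act L f τ ≫ pullback.snd f (pE k L) =
    pullback.snd f (pE k L) ≫ Spec.map (CommRingCat.ofHom (τ : L →+* L)) :=
  pullback.lift_snd _ _ _

lemma act_one : act L f 1 = 𝟙 _ := by
  apply pullback.hom_ext
  · simp
  · rw [act_snd, Category.id_comp]
    have : CommRingCat.ofHom ((1 : L ≃ₐ[k] L) : L →+* L) = 𝟙 _ := rfl
    rw [this, Spec.map_id, Category.comp_id]

lemma act_mul (τ₁ τ₂ : L ≃ₐ[k] L) : act L f (τ₁ * τ₂) = act L f τ₁ ≫ act L f τ₂ := by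
  apply pullback.hom_ext
  · simp
  · rw [act_snd, Category.assoc, act_snd, act_snd_assoc, ← Spec.map_comp]
    rfl

/-- the stabiliser of a morphism out of `X_L` -/
noncomputable def stab {Y : Scheme.{u}} (g : pullback f (pE k L) ⟶ Y) : Subgroup (L ≃ₐ[k] L) where
  carrier := {τ | act L f τ ≫ g = g}
  mul_mem' {a b} ha hb := by
    show act L f (a * b) ≫ g = g
    rw [act_mul, Category.assoc, hb, ha]
  one_mem' := by
    show act L f 1 ≫ g = g
    rw [act_one, Category.id_comp]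
  inv_mem' {a} ha := by
    show act L f a⁻¹ ≫ g = g
    have h1 : act L f a⁻¹ ≫ act L f a = 𝟙 _ := by rw [← act_mul, inv_mul_cancel, act_one]
    calc act L f a⁻¹ ≫ g = act L f a⁻¹ ≫ act L f a ≫ g := by rw [ha]
      _ = g := by rw [reassoc_of% h1]

lemma mem_stab {Y : Scheme.{u}} (g : pullback f (pE k L) ⟶ Y) (τ : L ≃ₐ[k] L) :
    τ ∈ stab L f g ↔ act L f τ ≫ g = g := Iff.rfl

/-- two field valued points of `X_L` over the same point of `X` differ by an automorphism -/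
theorem exists_act_eq [Normal k L] {Ω : Type u} [Field Ω]
    (t₁ t₂ : Spec (CommRingCat.of Ω) ⟶ pullback f (pE k L))
    (h : t₁ ≫ pullback.fst f (pE k L) = t₂ ≫ pullback.fst f (pE k L)) :
    ∃ τ : L ≃ₐ[k] L, t₂ = t₁ ≫ act L f τ ∧
      ∀ M : IntermediateField k L, t₁ ≫ h₀ M L f = t₂ ≫ h₀ M L f → ∀ m ∈ M, τ m = m := by
  obtain ⟨φ₁, hφ₁⟩ := Spec.map_surjective (t₁ ≫ pullback.snd f (pE k L))
  obtain ⟨φ₂, hφ₂⟩ := Spec.map_surjective (t₂ ≫ pullback.snd f (pE k L))
  have hk : CommRingCat.ofHom (algebraMap k L) ≫ φ₁ = CommRingCat.ofHom (algebraMap k L) ≫ φ₂ := by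
    apply Spec.map_injective
    rw [Spec.map_comp, Spec.map_comp, hφ₁, hφ₂, Category.assoc, Category.assoc,
      ← pullback.condition, reassoc_of% h]
  have hk' : φ₁.hom.comp (algebraMap k L) = φ₂.hom.comp (algebraMap k L) :=
    congr(($hk).hom)
  obtain ⟨τ, hτ⟩ := exists_algEquiv_of_normal φ₁.hom φ₂.hom hk'
  have hφ : φ₂ = CommRingCat.ofHom (τ : L →+* L) ≫ φ₁ := by
    ext l
    exact hτ l
  have ht : t₂ = t₁ ≫ act L f τ := by
    apply pullback.hom_ext
    · rw [Category.assoc, act_fst, h]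
    · rw [Category.assoc, act_snd, ← hφ₂, hφ, Spec.map_comp, hφ₁, Category.assoc]
  refine ⟨τ, ht, ?_⟩
  intro M hM m hm
  have h1 : t₁ ≫ pullback.snd f (pE k L) ≫ tLK M L =
      t₂ ≫ pullback.snd f (pE k L) ≫ tLK M L := by
    rw [← h₀_snd, reassoc_of% hM]
  rw [← Category.assoc, ← Category.assoc, ← hφ₁, ← hφ₂, hφ, ← Spec.map_comp, ← Spec.map_comp] at h1
  have h2 := Spec.map_injective h1
  have h3 : φ₁.hom (algebraMap M L ⟨m, hm⟩) = φ₁.hom (τ (algebraMap M L ⟨m, hm⟩)) :=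
    congr(($h2).hom ⟨m, hm⟩)
  exact (φ₁.hom.injective h3).symm

end Groth.Agent.Lib.Helper89.FS
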