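import Mathlib
import Groth.Agent.Lib.Helper89.FS5
import Groth.Agent.Lib.Helper89.FS8
import Groth.Agent.Lib.Helper89.EtaleDescent2
import Groth.Agent.Lib.Helper89.SplitSections

set_option autoImplicit false
universe u

open CategoryTheory CategoryTheory.Limits AlgebraicGeometry TopologicalSpace

namespace Groth.Agent.Lib.Helper89.FS

open Groth.Agent.Lib.Helper89.EtaleDescent

variable {k : Type u} [Field k] (L : Type u) [Field L] [Algebra k L] [FiniteDimensional k L]
  [IsGalois k L] {X : Scheme.{u}} (f : X ⟶ Spec (CommRingCat.of k))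
  {X' : Scheme.{u}} (π : X' ⟶ X) (g : pullback f (pE k L) ⟶ X')

/-- the fixed field of the stabiliser of `g` -/
noncomputable def fixM : IntermediateField k L := IntermediateField.fixedField (stab L f g)

omit [FiniteDimensional k L] [IsGalois k L] in
lemma fixes_of_mem_stab {τ : L ≃ₐ[k] L} (hτ : τ ∈ stab L f g) {m : L} (hm : m ∈ fixM L f g) :
    τ m = m :=
  (IntermediateField.mem_fixedField_iff _ m).mp hm τ hτ

omit [IsGalois k L] in
lemma mem_stab_of_fixes {τ : L ≃ₐ[k] L} (h : ∀ m ∈ fixM L f g, τ m = m) : τ ∈ stab L f g := by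
  have h1 := IntermediateField.fixingSubgroup_fixedField (stab L f g)
  rw [← h1]
  exact (IntermediateField.mem_fixingSubgroup_iff _ τ).mpr h

omit [FiniteDimensional k L] [IsGalois k L] in
lemma act_h₀ {τ : L ≃ₐ[k] L} (hτ : τ ∈ stab L f g) :
    act L f τ ≫ h₀ (fixM L f g) L f = h₀ (fixM L f g) L f := by
  apply pullback.hom_ext
  · rw [Category.assoc, h₀_fst, act_fst]
  · rw [Category.assoc, h₀_snd, act_snd_assoc, ← Spec.map_comp]
    congr 2
    ext m
    exact fixes_of_mem_stab L f g hτ m.2

section descent

variable [IsFinite π] [Etale π] (hg : g ≫ π = pullback.fst f (pE k L))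

include hg in
/-- the morphism `g` descends to `X_M` -/
theorem exists_descent :
    ∃ gb : pullback f (pE k (fixM L f g)) ⟶ X', gb ≫ π = pullback.fst f (pE k (fixM L f g)) ∧
      h₀ (fixM L f g) L f ≫ gb = g := by
  set M := fixM L f g with hM
  set p := h₀ M L f with hp
  have hsub : SGA1.UnivSubmersive p := univSubmersive_of_fpqc p
  -- the key cocycle condition
  have key : pullback.fst p p ≫ g = pullback.snd p p ≫ g := by
    refine eq_of_forall_point π _ _ ?_ ?_
    · rw [Category.assoc, Category.assoc, hg, ← h₀_fst M L f, ← hp, pullback.condition_assoc]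
    · intro z
      refine ⟨Spec (CommRingCat.of ((pullback p p).residueField z)),
        (pullback p p).fromSpecResidueField z, ?_, ?_⟩
      · rw [Scheme.range_fromSpecResidueField]
        rfl
      · set t := (pullback p p).fromSpecResidueField z
        have h1 : (t ≫ pullback.fst p p) ≫ pullback.fst f (pE k L) =
            (t ≫ pullback.snd p p) ≫ pullback.fst f (pE k L) := by
          rw [← h₀_fst M L f, ← hp, Category.assoc, Category.assoc, pullback.condition_assoc]
        obtain ⟨τ, hτ, hτM⟩ := exists_act_eq L f (t ≫ pullback.fst p p) (t ≫ pullback.snd p p) h1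
        have hτs : τ ∈ stab L f g := mem_stab_of_fixes L f g (hτM M (by
          rw [Category.assoc, Category.assoc, pullback.condition]))
        calc t ≫ pullback.fst p p ≫ g = (t ≫ pullback.fst p p) ≫ g := (Category.assoc _ _ _).symm
          _ = (t ≫ pullback.fst p p) ≫ act L f τ ≫ g := by rw [(mem_stab L f g τ).mp hτs]
          _ = ((t ≫ pullback.fst p p) ≫ act L f τ) ≫ g := (Category.assoc _ _ _).symm
          _ = (t ≫ pullback.snd p p) ≫ g := congrArg (· ≫ g) hτ.symm
          _ = t ≫ pullback.snd p p ≫ g := Category.assoc _ _ _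
  let τ₀ : pullback f (pE k L) ⟶ pullback π (pullback.fst f (pE k M)) :=
    pullback.lift g p (by rw [hg, hp, h₀_fst])
  let τ : pullback f (pE k L) ⟶ pullback (pullback.snd π (pullback.fst f (pE k M))) p :=
    pullback.lift τ₀ (𝟙 _) (by rw [Category.id_comp]; exact pullback.lift_snd _ _ _)
  have hτ_fst : τ ≫ pullback.fst _ _ = τ₀ := pullback.lift_fst _ _ _
  have hτ_snd : τ ≫ pullback.snd _ _ = 𝟙 _ := pullback.lift_snd _ _ _
  have hcoc : pullback.fst p p ≫ τ ≫ pullback.fst _ _ = pullback.snd p p ≫ τ ≫ pullback.fst _ _ := by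
    rw [hτ_fst]
    apply pullback.hom_ext
    · rw [Category.assoc, Category.assoc, pullback.lift_fst, key]
    · rw [Category.assoc, Category.assoc, pullback.lift_snd, pullback.condition]
  obtain ⟨σ, hσ1, hσ2⟩ := exists_section_descent_submersive p hsub
    (pullback.snd π (pullback.fst f (pE k M))) τ hτ_snd hcoc
  refine ⟨σ ≫ pullback.fst π (pullback.fst f (pE k M)), ?_, ?_⟩
  · rw [Category.assoc, pullback.condition, reassoc_of% hσ1]
  · calc p ≫ σ ≫ pullback.fst π (pullback.fst f (pE k M))
        = (p ≫ σ) ≫ pullback.fst π (pullback.fst f (pE k M)) := (Category.assoc _ _ _).symm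
      _ = (τ ≫ pullback.fst _ _) ≫ pullback.fst π (pullback.fst f (pE k M)) := by rw [hσ2]
      _ = τ₀ ≫ pullback.fst π (pullback.fst f (pE k M)) := by rw [hτ_fst]
      _ = g := pullback.lift_fst _ _ _

end descent

end Groth.Agent.Lib.Helper89.FS
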