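import Mathlib
import Groth.Agent.Lib.Helper89.FS9

set_option autoImplicit false
universe u

open CategoryTheory CategoryTheory.Limits AlgebraicGeometry TopologicalSpace

namespace Groth.Agent.Lib.Helper89.FS

variable {k : Type u} [Field k] (L : Type u) [Field L] [Algebra k L] [FiniteDimensional k L]
  [IsGalois k L] {X : Scheme.{u}} (f : X ⟶ Spec (CommRingCat.of k))
  {X' : Scheme.{u}} (π : X' ⟶ X) (g : pullback f (pE k L) ⟶ X')

omit [IsGalois k L] in
/-- geometric points lift along `X_L ⟶ X_M` -/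
lemma exists_lift (M : IntermediateField k L) {Ω : Type u} [Field Ω] [IsAlgClosed Ω]
    (t : Spec (CommRingCat.of Ω) ⟶ pullback f (pE k M)) :
    ∃ tt : Spec (CommRingCat.of Ω) ⟶ pullback f (pE k L), tt ≫ h₀ M L f = t := by
  obtain ⟨ψ, hψ⟩ := Spec.map_surjective (t ≫ pullback.snd f (pE k M))
  letI : Algebra M Ω := ψ.hom.toAlgebra
  haveI : Algebra.IsAlgebraic M L := Algebra.IsAlgebraic.of_finite M L
  let φ : L →ₐ[M] Ω := IsAlgClosed.lift
  have hφ : CommRingCat.ofHom (algebraMap M L) ≫ CommRingCat.ofHom (φ : L →+* Ω) = ψ := by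
    ext m
    exact φ.commutes m
  refine ⟨(isPullback_h₀ M L f).lift t (Spec.map (CommRingCat.ofHom (φ : L →+* Ω))) ?_,
    (isPullback_h₀ M L f).lift_fst _ _ _⟩
  rw [← hψ, ← hφ, Spec.map_comp]

variable [IsFinite π] [Etale π] (hg : g ≫ π = pullback.fst f (pE k L))
  [ConnectedSpace ↥(pullback f (pE k L))]
  (gb : pullback f (pE k (fixM L f g)) ⟶ X')
  (hgb1 : gb ≫ π = pullback.fst f (pE k (fixM L f g)))
  (hgb2 : h₀ (fixM L f g) L f ≫ gb = g)

include hg hgb1 hgb2 in
/-- the descended morphism is injective on geometric points -/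
lemma geom_inj {Ω : Type u} [Field Ω] [IsAlgClosed Ω]
    (t₁ t₂ : Spec (CommRingCat.of Ω) ⟶ pullback f (pE k (fixM L f g)))
    (h : t₁ ≫ gb = t₂ ≫ gb) : t₁ = t₂ := by
  obtain ⟨tt₁, h1⟩ := exists_lift L f (fixM L f g) t₁
  obtain ⟨tt₂, h2⟩ := exists_lift L f (fixM L f g) t₂
  have hfst : tt₁ ≫ pullback.fst f (pE k L) = tt₂ ≫ pullback.fst f (pE k L) := by
    rw [← h₀_fst (fixM L f g) L f, reassoc_of% h1, reassoc_of% h2, ← hgb1, reassoc_of% h]
  obtain ⟨τ, hτ, -⟩ := exists_act_eq L f tt₁ tt₂ hfst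
  have hne : Nonempty ↥(Spec (CommRingCat.of Ω)) :=
    inferInstanceAs (Nonempty (PrimeSpectrum Ω))
  have hτs : τ ∈ stab L f g := by
    rw [mem_stab]
    refine eq_of_connected π (act L f τ ≫ g) g ?_ tt₁ ?_
    · rw [Category.assoc, hg, act_fst]
    · calc tt₁ ≫ act L f τ ≫ g = (tt₁ ≫ act L f τ) ≫ g := (Category.assoc _ _ _).symm
        _ = tt₂ ≫ g := by rw [← hτ]
        _ = tt₂ ≫ h₀ (fixM L f g) L f ≫ gb := by rw [hgb2]
        _ = t₂ ≫ gb := by rw [reassoc_of% h2]
        _ = t₁ ≫ gb := h.symm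
        _ = tt₁ ≫ h₀ (fixM L f g) L f ≫ gb := by rw [reassoc_of% h1]
        _ = tt₁ ≫ g := by rw [hgb2]
  calc t₁ = tt₁ ≫ h₀ (fixM L f g) L f := h1.symm
    _ = tt₁ ≫ act L f τ ≫ h₀ (fixM L f g) L f := by rw [act_h₀ L f g hτs]
    _ = (tt₁ ≫ act L f τ) ≫ h₀ (fixM L f g) L f := (Category.assoc _ _ _).symm
    _ = tt₂ ≫ h₀ (fixM L f g) L f := by rw [← hτ]
    _ = t₂ := h2

omit [IsGalois k L] in
lemma prop_pE_fixM (M : IntermediateField k L) [Algebra.IsSeparable k L] : FEt.prop (pE k M) := by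
  haveI : Algebra.IsSeparable k M := Algebra.isSeparable_tower_bot_of_isSeparable k M L
  exact prop_pE M

include hg hgb1 hgb2 in
theorem isIso_descent [ConnectedSpace X'] : IsIso gb := by
  have hpM := prop_pE_fixM L (fixM L f g)
  have : IsFinite (pE k (fixM L f g)) := hpM.1
  have : Etale (pE k (fixM L f g)) := hpM.2
  have hfin : IsFinite (gb ≫ π) := by rw [hgb1]; infer_instance
  have het : Etale (gb ≫ π) := by rw [hgb1]; infer_instance
  have h1 : Etale gb := Etale.of_comp gb π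
  have h2 : IsFinite gb := IsFinite.of_comp gb π
  -- surjectivity
  have hsurj : Surjective gb := by
    have hclopen : IsClopen (Set.range gb) := ⟨gb.isClosedMap.isClosed_range, gb.isOpenMap.isOpen_range⟩
    have hne : (Set.range gb).Nonempty := by
      obtain ⟨x⟩ := (inferInstance : Nonempty ↥(pullback f (pE k L)))
      exact ⟨gb (h₀ (fixM L f g) L f x), ⟨_, rfl⟩⟩
    exact ⟨Set.range_eq_univ.mp (hclopen.eq_univ hne)⟩
  -- monomorphism
  have hmono : Mono gb := by
    constructor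
    intro T u v huv
    refine eq_of_forall_point (pullback.fst f (pE k (fixM L f g))) u v ?_ ?_
    · rw [← hgb1, reassoc_of% huv]
    · intro y
      obtain ⟨Ω, _, _, a, s, has⟩ := SplitSections.exists_geom_point T y
      refine ⟨Spec (CommRingCat.of Ω), a, ⟨s, has⟩, ?_⟩
      apply geom_inj L f π g hg gb hgb1 hgb2
      rw [Category.assoc, Category.assoc, huv]
  have h3 : IsOpenImmersion gb := IsOpenImmersion.of_flat_of_mono gb
  exact (isIso_iff_isOpenImmersion_and_surjective gb).mpr ⟨h3, hsurj⟩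

end Groth.Agent.Lib.Helper89.FS
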