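import Mathlib
import Groth.Agent.Lib.Helper89.FS4

set_option autoImplicit false
universe u

open CategoryTheory CategoryTheory.Limits AlgebraicGeometry TopologicalSpace

namespace Groth.Agent.Lib.Helper89.FS

/-- the normal closure of a finite separable subextension of a normal extension is Galois -/
lemma isGalois_normalClosure {k K : Type*} [Field k] [Field K] [Algebra k K] [Normal k K]
    (L : IntermediateField k K) [Algebra.IsSeparable k L] :
    IsGalois k (IntermediateField.normalClosure k L K) := by
  have hsep : Algebra.IsSeparable k (IntermediateField.normalClosure k L K) := by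
    rw [← le_separableClosure_iff]
    refine iSup_le fun φ => ?_
    rintro _ ⟨x, rfl⟩
    rw [mem_separableClosure_iff]
    have hx : _root_.IsSeparable k x := Algebra.IsSeparable.isSeparable k x
    unfold _root_.IsSeparable at hx ⊢
    have : minpoly k (φ x) = minpoly k x := minpoly.algHom_eq φ φ.injective x
    show (minpoly k (φ x)).Separable
    rw [this]
    exact hx
  exact ⟨⟩

variable {k : Type u} [Field k] (K : Type u) [Field K] [Algebra k K] [Normal k K]
  {X : Scheme.{u}} (f : X ⟶ Spec (CommRingCat.of k)) [CompactSpace X] [QuasiSeparatedSpace X]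
  {Y : Scheme.{u}} (π : Y ⟶ X) [IsFinite π] [Etale π]

theorem exists_section_galois
    (s' : pullback f (pE k K) ⟶ pullback π (pullback.fst f (pE k K)))
    (hs' : s' ≫ pullback.snd π (pullback.fst f (pE k K)) = 𝟙 _) :
    ∃ (L : IntermediateField k K), FiniteDimensional k L ∧ IsGalois k L ∧
      ∃ g : pullback f (pE k L) ⟶ Y, g ≫ π = pullback.fst f (pE k L) := by
  have hcY : CompactSpace Y := QuasiCompact.compactSpace_of_compactSpace π
  have hqY : QuasiSeparatedSpace Y := quasiSeparatedSpace_of_quasiSeparated π
  have hgen := gen_eq_top k K (π ≫ f) _ _ (isPullback_big K f π)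
  have hopen : IsOpenImmersion s' := by
    have h1 : Etale (s' ≫ pullback.snd π (pullback.fst f (pE k K))) := by
      rw [hs']; infer_instance
    have h2 : Etale s' := Etale.of_comp s' (pullback.snd π (pullback.fst f (pE k K)))
    have h3 : Mono s' := mono_of_mono_fac hs'
    exact IsOpenImmersion.of_flat_of_mono _
  have hclosed : IsClosedImmersion s' := by
    have h1 : IsClosedImmersion (s' ≫ pullback.snd π (pullback.fst f (pE k K))) := by
      rw [hs']; infer_instance
    exact IsClosedImmersion.of_comp s' (pullback.snd π (pullback.fst f (pE k K)))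
  obtain ⟨e, he, hbe⟩ : ∃ e : Γ(pullback π (pullback.fst f (pE k K)), ⊤), e * e = e ∧
      ((pullback π (pullback.fst f (pE k K))).basicOpen e : Set _) = Set.range s' := by
    obtain ⟨e, he, hb, -⟩ := SchemeIdem.exists_idem_of_isClopen s'.opensRange
      s'.isClosedEmbedding.isClosed_range
    exact ⟨e, he, by rw [hb]; rfl⟩
  obtain ⟨L₀, hfd₀, hsep₀, hL₀⟩ := exists_finite_separable_of_idem (k := k) _ _ hgen e he
  let L : IntermediateField k K := IntermediateField.normalClosure k L₀ K
  have hfd : FiniteDimensional k L := inferInstance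
  have hgal : IsGalois k L := isGalois_normalClosure L₀
  have hL : e ∈ gen ((pullback.fst π (pullback.fst f (pE k K))).appTop).hom
      (bMap (pullback.snd π (pullback.fst f (pE k K)) ≫ pullback.snd f (pE k K))) (L : Set K) :=
    gen_mono _ _ (show (L₀ : Set K) ⊆ L from IntermediateField.le_normalClosure L₀) hL₀
  refine ⟨L, hfd, hgal, ?_⟩
  obtain ⟨eL, heL⟩ : ∃ eL : Γ(pullback π (pullback.fst f (pE k L)), ⊤),
      ((hU L K f π).appTop).hom eL = e := by
    have h1 := gen_le_range L K f π (x := e) (by
      convert hL using 2
      ext c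
      constructor
      · rintro ⟨c', rfl⟩
        exact c'.2
      · intro hc
        exact ⟨⟨c, hc⟩, rfl⟩)
    exact h1
  let W : (pullback π (pullback.fst f (pE k L))).Opens :=
    (pullback π (pullback.fst f (pE k L))).basicOpen eL
  have hW : (((hU L K f π) ⁻¹ᵁ W : (pullback π (pullback.fst f (pE k K))).Opens) : Set _) =
      Set.range s' := by
    rw [← hbe, ← heL]
    simp only [W, Scheme.preimage_basicOpen_top]
  have hiso : IsIso (W.ι ≫ pullback.snd π (pullback.fst f (pE k L))) :=
    isIso_of_section (isPullback_hU L K f π) W s' hs' hW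
  refine ⟨inv (W.ι ≫ pullback.snd π (pullback.fst f (pE k L))) ≫ W.ι ≫
    pullback.fst π (pullback.fst f (pE k L)), ?_⟩
  rw [Category.assoc, Category.assoc, pullback.condition, ← Category.assoc W.ι,
    IsIso.inv_hom_id_assoc]

end Groth.Agent.Lib.Helper89.FS
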