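import Mathlib
import Groth.Agent.Lib.Helper89.FS6
import Groth.Agent.Lib.Helper89.FS10

set_option autoImplicit false
universe u

open CategoryTheory CategoryTheory.Limits AlgebraicGeometry TopologicalSpace

namespace Groth.Agent.Lib.Helper89.FS

theorem exists_iso_restrict {k : Type u} [Field k] (K : Type u) [Field K] [Algebra k K]
    [Normal k K] {X : Scheme.{u}} (f : X ⟶ Spec (CommRingCat.of k)) [CompactSpace X]
    [QuasiSeparatedSpace X] [ConnectedSpace ↥(pullback f (pE k K))]
    (X' : FEt.Cat X) [ConnectedSpace X'.left]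
    (σ : pullback f (pE k K) ⟶ X'.left) (hσ : σ ≫ X'.hom = pullback.fst f (pE k K)) :
    ∃ S' : FEt.Cat (Spec (CommRingCat.of k)), Nonempty ((FEt.restrict f).obj S' ≅ X') := by
  have hUf : IsFinite X'.hom := X'.prop.1
  have hUe : Etale X'.hom := X'.prop.2
  let s' : pullback f (pE k K) ⟶ pullback X'.hom (pullback.fst f (pE k K)) :=
    pullback.lift σ (𝟙 _) (by rw [hσ, Category.id_comp])
  have hs' : s' ≫ pullback.snd X'.hom (pullback.fst f (pE k K)) = 𝟙 _ := pullback.lift_snd _ _ _
  obtain ⟨L, hfd, hgal, g, hg⟩ := exists_section_galois K f X'.hom s' hs'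
  haveI : ConnectedSpace ↥(pullback f (pE k L)) :=
    (h₀ L K f).surjective.connectedSpace (h₀ L K f).continuous
  obtain ⟨gb, hgb1, hgb2⟩ := exists_descent L f X'.hom g hg
  have hiso := isIso_descent (X' := X'.left) L f X'.hom g hg gb hgb1 hgb2
  let S' : FEt.Cat (Spec (CommRingCat.of k)) :=
    MorphismProperty.Over.mk ⊤ (pE k (fixM L f g)) (prop_pE_fixM L (fixM L f g))
  refine ⟨S', ⟨?_⟩⟩
  let e : ((FEt.restrict f).obj S').left ≅ X'.left :=
    pullbackSymmetry (pE k (fixM L f g)) f ≪≫ asIso gb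
  refine MorphismProperty.Over.isoMk e ?_
  show (pullbackSymmetry (pE k (fixM L f g)) f ≪≫ asIso gb).hom ≫ X'.hom = pullback.snd _ _
  rw [Iso.trans_hom, asIso_hom, Category.assoc, hgb1, pullbackSymmetry_hom_comp_fst]

end Groth.Agent.Lib.Helper89.FS
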