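import Mathlib.Algebra.Algebra.Epi
import Mathlib.Algebra.Category.Ring.Epi
import Mathlib.RingTheory.RingHom.Flat
import Mathlib.RingTheory.Flat.FaithfullyFlat.Algebra
import Mathlib.RingTheory.Localization.AtPrime.Basic

/-!
# Flat epimorphisms of commutative rings

* `bijective_of_faithfullyFlat_of_isEpi`: a faithfully flat ring epimorphism is bijective.
* `isEpi_of_isLocalization`: localizations are epimorphisms.
* `bijective_localRingHom_of_flat_of_isEpi`: a flat epimorphism `A → B` induces isomorphisms
  `A_(P ∩ A) → B_P` for all primes `P` of `B`.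
-/

set_option autoImplicit false

open TensorProduct CategoryTheory

namespace Groth.Agent.Lib.Helper89.FlatEpi

universe u

/-- a faithfully flat epimorphism is bijective -/
theorem bijective_of_faithfullyFlat_of_isEpi (R S : Type*) [CommRing R] [CommRing S] [Algebra R S]
    [Module.FaithfullyFlat R S] [Algebra.IsEpi R S] : Function.Bijective (algebraMap R S) := by
  have hmul : Function.Bijective (lift (LinearMap.mul R S)) :=
    ⟨Algebra.IsEpi.injective_lift_mul, fun s => ⟨s ⊗ₜ 1, by simp⟩⟩
  have hcomp : ∀ t : S ⊗[R] R, lift (LinearMap.mul R S) ((Algebra.linearMap R S).lTensor S t) =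
      TensorProduct.rid R S t := by
    intro t
    induction t using TensorProduct.induction_on with
    | zero => simp
    | tmul s r => simp [Algebra.smul_def, mul_comm]
    | add x y hx hy => simp only [map_add, hx, hy]
  have h2 : Function.Bijective ((Algebra.linearMap R S).lTensor S) := by
    rw [← Function.Bijective.of_comp_iff' hmul]
    have : (lift (LinearMap.mul R S)) ∘ ((Algebra.linearMap R S).lTensor S) =
        (TensorProduct.rid R S) := funext hcomp
    rw [this]
    exact (TensorProduct.rid R S).bijective
  exact (Module.FaithfullyFlat.lTensor_bijective_iff_bijective R S _).mp h2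

/-- localizations are epimorphisms -/
theorem isEpi_of_isLocalization {R : Type*} [CommRing R] (M : Submonoid R) (S : Type*) [CommRing S]
    [Algebra R S] [IsLocalization M S] : Algebra.IsEpi R S := by
  rw [Algebra.isEpi_iff_forall_one_tmul_eq]
  intro x
  obtain ⟨⟨b, s⟩, hx⟩ := IsLocalization.surj M x
  -- hx : x * algebraMap s = algebraMap b
  obtain ⟨u, hu⟩ := IsLocalization.map_units S s
  have hs : algebraMap R S s * (↑u⁻¹ : S) = 1 := by rw [← hu]; exact u.mul_inv
  have hx' : (s : R) • x = (b : R) • (1 : S) := by
    rw [Algebra.smul_def, Algebra.smul_def, mul_one, mul_comm]; exact hx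
  have hxb : x = (b : R) • (↑u⁻¹ : S) := by
    rw [Algebra.smul_def]
    calc x = x * (algebraMap R S s * ↑u⁻¹) := by rw [hs, mul_one]
      _ = (x * algebraMap R S s) * ↑u⁻¹ := by ring
      _ = algebraMap R S b * ↑u⁻¹ := by rw [hx]
  calc (1 : S) ⊗ₜ[R] x = ((s : R) • (↑u⁻¹ : S)) ⊗ₜ[R] x := by
        rw [Algebra.smul_def, hs]
    _ = (↑u⁻¹ : S) ⊗ₜ[R] ((s : R) • x) := by rw [smul_tmul]
    _ = (↑u⁻¹ : S) ⊗ₜ[R] ((b : R) • (1 : S)) := by rw [hx']
    _ = ((b : R) • (↑u⁻¹ : S)) ⊗ₜ[R] 1 := by rw [smul_tmul]
    _ = x ⊗ₜ[R] 1 := by rw [← hxb]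

/-- A flat epimorphism induces isomorphisms on localizations at primes. -/
theorem bijective_localRingHom_of_flat_of_isEpi {A B : Type u} [CommRing A] [CommRing B]
    (f : A →+* B) (hflat : f.Flat)
    (hepi : letI := f.toAlgebra; Algebra.IsEpi A B)
    (P : Ideal B) [P.IsPrime] :
    Function.Bijective (Localization.localRingHom (P.comap f) P f rfl) := by
  have hfl2 := RingHom.Flat.localRingHom hflat P (P.comap f) rfl
  have hloc := Localization.isLocalHom_localRingHom (P.comap f) P f rfl
  algebraize [f, Localization.localRingHom (Ideal.comap f P) P f rfl]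
  have tower : IsScalarTower A (Localization.AtPrime (Ideal.comap f P)) (Localization.AtPrime P) :=
    .of_algebraMap_eq fun x ↦ (Localization.localRingHom_to_map _ _ _ rfl x).symm
  have hloc' : IsLocalHom (algebraMap (Localization.AtPrime (Ideal.comap f P))
      (Localization.AtPrime P)) := hloc
  have hff : Module.FaithfullyFlat (Localization.AtPrime (Ideal.comap f P))
      (Localization.AtPrime P) := Module.FaithfullyFlat.of_flat_of_isLocalHom
  -- epimorphism
  have e1 : Epi (CommRingCat.ofHom (algebraMap A B)) := CommRingCat.epi_iff_epi.mpr hepi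
  have e2 : Epi (CommRingCat.ofHom (algebraMap B (Localization.AtPrime P))) :=
    CommRingCat.epi_iff_epi.mpr (isEpi_of_isLocalization P.primeCompl _)
  have e3 : Epi (CommRingCat.ofHom (algebraMap A (Localization.AtPrime (Ideal.comap f P))) ≫
      CommRingCat.ofHom (algebraMap (Localization.AtPrime (Ideal.comap f P))
        (Localization.AtPrime P))) := by
    have : CommRingCat.ofHom (algebraMap A (Localization.AtPrime (Ideal.comap f P))) ≫
      CommRingCat.ofHom (algebraMap (Localization.AtPrime (Ideal.comap f P))
        (Localization.AtPrime P)) = CommRingCat.ofHom (algebraMap A B) ≫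
        CommRingCat.ofHom (algebraMap B (Localization.AtPrime P)) := by
      ext x
      change algebraMap (Localization.AtPrime (Ideal.comap f P)) (Localization.AtPrime P)
        (algebraMap A _ x) = algebraMap B (Localization.AtPrime P) (algebraMap A B x)
      rw [← IsScalarTower.algebraMap_apply, ← IsScalarTower.algebraMap_apply]
    rw [this]
    exact epi_comp _ _
  have e4 : Epi (CommRingCat.ofHom (algebraMap (Localization.AtPrime (Ideal.comap f P))
        (Localization.AtPrime P))) := epi_of_epi (CommRingCat.ofHom (algebraMap A _)) _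
  have hepi' : Algebra.IsEpi (Localization.AtPrime (Ideal.comap f P)) (Localization.AtPrime P) :=
    CommRingCat.epi_iff_epi.mp e4
  exact bijective_of_faithfullyFlat_of_isEpi _ _

end Groth.Agent.Lib.Helper89.FlatEpi
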