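import Groth.Agent.Lib.Helper89.ThickFEt3
import Groth.Agent.Lib.Helper89.EtThick3
import Groth.Prelude.Def_FSch4

/-!
# Étale covers of a formal system of thickenings

For a system `𝔛` of thickenings `X 0 ⟶ X 1 ⟶ ⋯` (each a surjective closed immersion), restriction to
level `0` is an equivalence from adic systems of finite étale covers to finite étale covers of `X 0`.
-/

set_option autoImplicit false
set_option linter.style.haveILetI false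
universe u
open AlgebraicGeometry CategoryTheory CategoryTheory.Limits MorphismProperty FSch

namespace Groth.Agent.Lib.Helper89.FormalEt

variable (𝔛 : Sys.{u})

/-- A finite étale cover of the `n`-th level. -/
structure Stage (n : ℕ) where
  R : Scheme.{u}
  r : R ⟶ 𝔛.X n
  fin : IsFinite r
  et : Etale r

variable {𝔛}

theorem exists_next (h𝔛 : 𝔛.IsFormal) (n : ℕ) (T : Stage 𝔛 n) :
    ∃ (T' : Stage 𝔛 (n + 1)) (A : T.R ⟶ T'.R), IsPullback A T.r T'.r (𝔛.ι n) := by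
  haveI := (h𝔛 n).1
  haveI : Surjective (𝔛.ι n) := ⟨(h𝔛 n).2⟩
  haveI := T.fin
  haveI := T.et
  obtain ⟨G, g, A, hfin, het, sq⟩ := ThickFEt.exists_global_model (𝔛.ι n) T.r
  exact ⟨⟨G, g, hfin, het⟩, A, sq⟩

/-- The tower of lifts of a finite étale cover of level `0`. -/
noncomputable def tower (h𝔛 : 𝔛.IsFormal) (T₀ : Stage 𝔛 0) : ∀ n, Stage 𝔛 n
  | 0 => T₀
  | n + 1 => (exists_next h𝔛 n (tower h𝔛 T₀ n)).choose

/-- The transition maps of the tower. -/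
noncomputable def towerι (h𝔛 : 𝔛.IsFormal) (T₀ : Stage 𝔛 0) (n : ℕ) :
    (tower h𝔛 T₀ n).R ⟶ (tower h𝔛 T₀ (n + 1)).R :=
  (exists_next h𝔛 n (tower h𝔛 T₀ n)).choose_spec.choose

lemma tower_sq (h𝔛 : 𝔛.IsFormal) (T₀ : Stage 𝔛 0) (n : ℕ) :
    IsPullback (towerι h𝔛 T₀ n) (tower h𝔛 T₀ n).r (tower h𝔛 T₀ (n + 1)).r (𝔛.ι n) :=
  (exists_next h𝔛 n (tower h𝔛 T₀ n)).choose_spec.choose_spec

/-- The tower as a system. -/
noncomputable def towerSys (h𝔛 : 𝔛.IsFormal) (T₀ : Stage 𝔛 0) : Sys.{u} where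
  X n := (tower h𝔛 T₀ n).R
  ι n := towerι h𝔛 T₀ n

/-- The structure morphism of the tower. -/
noncomputable def towerHom (h𝔛 : 𝔛.IsFormal) (T₀ : Stage 𝔛 0) : towerSys h𝔛 T₀ ⟶ 𝔛 :=
  (⟨fun n => (tower h𝔛 T₀ n).r, fun n => ((tower_sq h𝔛 T₀ n).w).symm⟩ : Hom _ _)

lemma towerHom_isEtaleCover (h𝔛 : 𝔛.IsFormal) (T₀ : Stage 𝔛 0) :
    IsEtaleCover (towerHom h𝔛 T₀) :=
  ⟨fun n => tower_sq h𝔛 T₀ n, fun n => ⟨(tower h𝔛 T₀ n).fin, (tower h𝔛 T₀ n).et⟩⟩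

theorem essSurj_level (h𝔛 : 𝔛.IsFormal) : (EtCov.level 𝔛 0).EssSurj := by
  constructor
  intro Y₀
  let T₀ : Stage 𝔛 0 := ⟨Y₀.left, Y₀.hom, Y₀.prop.1, Y₀.prop.2⟩
  let R : EtCov 𝔛 := ⟨Over.mk (towerHom h𝔛 T₀), towerHom_isEtaleCover h𝔛 T₀⟩
  refine ⟨R, ⟨MorphismProperty.Over.isoMk (Iso.refl _) ?_⟩⟩
  simp only [Iso.refl_hom]
  rfl

section FullFaithful

variable (R R' : EtCov 𝔛)

/-- The structure map of level `n`. -/
abbrev rr (R : EtCov 𝔛) (n : ℕ) : R.obj.left.X n ⟶ 𝔛.X n := (R.obj.hom : Hom _ _).app n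

lemma rr_et (R : EtCov 𝔛) (n : ℕ) : Etale (rr R n) := (R.property.2 n).2

lemma rr_sq (R : EtCov 𝔛) (n : ℕ) :
    IsPullback (R.obj.left.ι n) (rr R n) (rr R (n + 1)) (𝔛.ι n) := R.property.1 n

/-- Level `n + 1` as a model of level `n`. -/
noncomputable def emodel (R : EtCov 𝔛) (n : ℕ) : EtThick.EModel (𝔛.ι n) (rr R n) :=
  ⟨R.obj.left.X (n + 1), rr R (n + 1), R.obj.left.ι n, rr_et R (n + 1), rr_sq R n⟩

variable {R R'}

/-- The sequence of lifts of a morphism at level `0`. -/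
noncomputable def liftSeq (h𝔛 : 𝔛.IsFormal) (φ₀ : R.obj.left.X 0 ⟶ R'.obj.left.X 0)
    (hφ₀ : φ₀ ≫ rr R' 0 = rr R 0) :
    ∀ n, {φ : R.obj.left.X n ⟶ R'.obj.left.X n // φ ≫ rr R' n = rr R n}
  | 0 => ⟨φ₀, hφ₀⟩
  | n + 1 =>
    haveI := (h𝔛 n).1
    haveI : Surjective (𝔛.ι n) := ⟨(h𝔛 n).2⟩
    ⟨((emodel R n).exists_hom (emodel R' n) (liftSeq h𝔛 φ₀ hφ₀ n).1 (liftSeq h𝔛 φ₀ hφ₀ n).2).choose,
      ((emodel R n).exists_hom (emodel R' n) (liftSeq h𝔛 φ₀ hφ₀ n).1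
        (liftSeq h𝔛 φ₀ hφ₀ n).2).choose_spec.1⟩

lemma liftSeq_comm (h𝔛 : 𝔛.IsFormal) (φ₀ : R.obj.left.X 0 ⟶ R'.obj.left.X 0)
    (hφ₀ : φ₀ ≫ rr R' 0 = rr R 0) (n : ℕ) :
    (liftSeq h𝔛 φ₀ hφ₀ n).1 ≫ R'.obj.left.ι n = R.obj.left.ι n ≫ (liftSeq h𝔛 φ₀ hφ₀ (n + 1)).1 :=
  haveI := (h𝔛 n).1
  haveI : Surjective (𝔛.ι n) := ⟨(h𝔛 n).2⟩
  (((emodel R n).exists_hom (emodel R' n) (liftSeq h𝔛 φ₀ hφ₀ n).1
        (liftSeq h𝔛 φ₀ hφ₀ n).2).choose_spec.2).symm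

theorem full_level (h𝔛 : 𝔛.IsFormal) : (EtCov.level 𝔛 0).Full := by
  refine ⟨fun {R R'} φ => ?_⟩
  have hφ₀ : φ.left ≫ rr R' 0 = rr R 0 := Over.w φ.hom
  let Φ : R.obj.left ⟶ R'.obj.left :=
    (⟨fun n => (liftSeq h𝔛 φ.left hφ₀ n).1, fun n => liftSeq_comm h𝔛 φ.left hφ₀ n⟩ : Hom _ _)
  have hΦ : Φ ≫ R'.obj.hom = R.obj.hom := by
    apply Hom.ext
    funext n
    exact (liftSeq h𝔛 φ.left hφ₀ n).2
  refine ⟨ObjectProperty.homMk (Over.homMk Φ hΦ), ?_⟩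
  apply MorphismProperty.Over.Hom.ext
  rfl

theorem faithful_level (h𝔛 : 𝔛.IsFormal) : (EtCov.level 𝔛 0).Faithful := by
  refine ⟨fun {R R'} φ ψ h => ?_⟩
  apply ObjectProperty.hom_ext
  apply Over.OverMorphism.ext
  apply Hom.ext
  funext n
  have hφ : ∀ n, (φ.hom.left : Hom _ _).app n ≫ rr R' n = rr R n := fun n => by
    change (φ.hom.left ≫ R'.obj.hom : Hom _ _).app n = _
    rw [Over.w φ.hom]
  have hψ : ∀ n, (ψ.hom.left : Hom _ _).app n ≫ rr R' n = rr R n := fun n => by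
    change (ψ.hom.left ≫ R'.obj.hom : Hom _ _).app n = _
    rw [Over.w ψ.hom]
  induction n with
  | zero =>
    exact congrArg (fun m => m.left) h
  | succ n ih =>
    haveI : Surjective (𝔛.ι n) := ⟨(h𝔛 n).2⟩
    haveI : Surjective (R.obj.left.ι n) :=
      MorphismProperty.of_isPullback (rr_sq R n).flip inferInstance
    haveI := rr_et R' (n + 1)
    refine ThickFEt.eq_of_surjective_comp_eq (R.obj.left.ι n) _ _ (rr R' (n + 1))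
      ((hφ (n + 1)).trans (hψ (n + 1)).symm) ?_
    rw [← (φ.hom.left : Hom _ _).comm n, ← (ψ.hom.left : Hom _ _).comm n, ih]

theorem isEquivalence_level (h𝔛 : 𝔛.IsFormal) : (EtCov.level 𝔛 0).IsEquivalence :=
  haveI := faithful_level h𝔛
  haveI := full_level h𝔛
  haveI := essSurj_level h𝔛
  { }

end FullFaithful

end Groth.Agent.Lib.Helper89.FormalEt
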