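import Mathlib.Algebra.Group.ForwardDiff
import Mathlib.Data.Nat.Choose.Basic
import Mathlib.Data.Nat.Factorial.Basic
import Mathlib.Tactic.Ring
import Mathlib.Tactic.Linarith
import Mathlib.Tactic.LinearCombination

/-!
# Iterated forward differences (with arbitrary step) of monomials

For a commutative ring `A` and a step `h : A`:
* `fwdDiff_iter_pow_lt` : `Δ_[h]^[n] (t ↦ t ^ j) = 0` for `j < n`;
* `fwdDiff_iter_pow_self` : `Δ_[h]^[n] (t ↦ t ^ n) = n! h ^ n`;
* `fwdDiff_iter_pow_succ` : `Δ_[h]^[n] (t ↦ t ^ (n+1)) = (n+1)! h ^ n t + n! C(n+1,2) h ^ (n+1)`.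
-/

namespace Groth.Agent.Lib.Helper89

open Finset Nat Function
open fwdDiff

variable {A : Type*} [CommRing A]

lemma fwdDiff_pow (h : A) (j : ℕ) :
    (Δ_[h] fun (t : A) ↦ t ^ j) =
      ∑ i ∈ range j, ((j.choose i : A) * h ^ (j - i)) • fun t ↦ t ^ i := by
  ext x
  simp only [fwdDiff, add_pow, sum_range_succ, Nat.sub_self, pow_zero, mul_one, Nat.choose_self,
    Nat.cast_one, add_sub_cancel_right, Finset.sum_apply, Pi.smul_apply, smul_eq_mul]
  refine Finset.sum_congr rfl fun i _ => ?_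
  ring

theorem fwdDiff_iter_pow_lt (h : A) {j n : ℕ} (hj : j < n) :
    Δ_[h]^[n] (fun (t : A) ↦ t ^ j) = 0 := by
  induction n generalizing j with
  | zero => omega
  | succ n ih =>
    rw [iterate_succ_apply, fwdDiff_pow, fwdDiff_iter_finsetSum]
    exact sum_eq_zero fun i hi ↦ by
      rw [fwdDiff_iter_const_smul, ih (by have := mem_range.1 hi; omega), smul_zero]

theorem fwdDiff_iter_pow_self (h : A) (n : ℕ) :
    Δ_[h]^[n] (fun (t : A) ↦ t ^ n) = fun _ ↦ (n ! : A) * h ^ n := by
  induction n with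
  | zero => ext x; simp
  | succ n IH =>
    rw [iterate_succ_apply, fwdDiff_pow, fwdDiff_iter_finsetSum, sum_range_succ,
      sum_eq_zero (fun i hi ↦ by
        rw [fwdDiff_iter_const_smul, fwdDiff_iter_pow_lt h (mem_range.1 hi), smul_zero]),
      zero_add, fwdDiff_iter_const_smul, IH]
    ext x
    simp only [Pi.smul_apply, smul_eq_mul, Nat.choose_succ_self_right, Nat.factorial_succ,
      Nat.cast_mul, Nat.cast_add, Nat.cast_one]
    have : n + 1 - n = 1 := by omega
    rw [this]
    ring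

lemma choose_two_identity (n : ℕ) :
    (n + 1)! * (n + 2).choose 2 =
      (n + 2).choose 2 * n ! + (n + 2) * (n ! * (n + 1).choose 2) := by
  have h2 : (n + 1).choose 2 * 2 = (n + 1) * n := by
    have := Nat.add_one_mul_choose_eq n 1
    simp only [Nat.choose_one_right] at this
    exact this.symm
  have h3 : (n + 2).choose 2 = (n + 1) + (n + 1).choose 2 := by
    rw [Nat.choose_succ_succ' (n + 1) 1, Nat.choose_one_right]
  rw [h3, Nat.factorial_succ]
  generalize (n + 1).choose 2 = c at *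
  generalize (n !) = f at *
  have h4 : 2 * c = (n + 1) * n := by omega
  have h5 : (n + 1) * f * (n + 1 + c) * 2 = ((n + 1 + c) * f + (n + 2) * (f * c)) * 2 := by
    calc (n + 1) * f * (n + 1 + c) * 2 = f * ((n + 1) * (n + 1) * 2 + (n + 1) * (2 * c)) := by ring
      _ = f * ((n + 1) * (n + 1) * 2 + (n + 1) * ((n + 1) * n)) := by rw [h4]
      _ = f * ((n + 1) * 2 + (n + 3) * ((n + 1) * n)) := by ring
      _ = f * ((n + 1) * 2 + (n + 3) * (2 * c)) := by rw [h4]
      _ = ((n + 1 + c) * f + (n + 2) * (f * c)) * 2 := by ring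
  exact Nat.eq_of_mul_eq_mul_right (by norm_num) h5

theorem fwdDiff_iter_pow_succ (h : A) (n : ℕ) :
    Δ_[h]^[n] (fun (t : A) ↦ t ^ (n + 1)) =
      fun t ↦ ((n + 1)! : A) * h ^ n * t + ((n ! * (n + 1).choose 2 : ℕ) : A) * h ^ (n + 1) := by
  induction n with
  | zero => ext x; simp
  | succ n IH =>
    rw [iterate_succ_apply, fwdDiff_pow, fwdDiff_iter_finsetSum, sum_range_succ, sum_range_succ,
      sum_eq_zero (fun i hi ↦ by
        rw [fwdDiff_iter_const_smul, fwdDiff_iter_pow_lt h (mem_range.1 hi), smul_zero]),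
      zero_add, fwdDiff_iter_const_smul, fwdDiff_iter_const_smul, IH, fwdDiff_iter_pow_self]
    ext x
    have e1 : n + 1 + 1 - n = 2 := by omega
    have e2 : n + 1 + 1 - (n + 1) = 1 := by omega
    have e3 : (n + 1 + 1).choose n = (n + 2).choose 2 := by
      rw [show n + 1 + 1 = n + 2 from rfl, ← Nat.choose_symm_of_eq_add (show n + 2 = 2 + n by omega)]
    simp only [Pi.add_apply, Pi.smul_apply, smul_eq_mul, e1, e2, e3, Nat.choose_succ_self_right]
    have key2 := congrArg (Nat.cast : ℕ → A) (choose_two_identity n)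
    simp only [Nat.cast_mul, Nat.cast_add, Nat.cast_ofNat, Nat.cast_one] at key2 ⊢
    have hf : ((n + 1 + 1)! : A) = ((n : A) + 1 + 1) * ((n + 1)! : A) := by
      rw [Nat.factorial_succ (n + 1)]; push_cast; ring
    rw [hf]
    linear_combination (-(h ^ (n + 1 + 1))) * key2

end Groth.Agent.Lib.Helper89
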