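import Groth.Agent.Lib.Helper89.GalFunctor
import Groth.Agent.Lib.Helper53.GalTriv

set_option autoImplicit false
set_option linter.unusedSectionVars false

open CategoryTheory CategoryTheory.Limits CategoryTheory.PreGaloisCategory

namespace Groth.Agent.Lib.Helper89.GalKer

open Groth.Agent.Lib.Helper89.GalFunctor Groth.Agent.Helper53.Gal

universe u v w

variable {C C' : Type u} [Category.{v} C] [Category.{v} C'] [GaloisCategory C] [GaloisCategory C']
  (H : C ⥤ C') (F' : C' ⥤ FintypeCat.{w}) [FiberFunctor F'] [FiberFunctor (H ⋙ F')]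

attribute [local instance] whiskerAction

omit [GaloisCategory C] [GaloisCategory C'] [FiberFunctor F'] [FiberFunctor (H ⋙ F')] in
lemma mem_ker_autWhisker_iff (σ : Aut F') :
    σ ∈ (Pi1X.autWhisker H F').ker ↔ ∀ (X : C) (x : F'.obj (H.obj X)), σ.hom.app (H.obj X) x = x := by
  rw [MonoidHom.mem_ker]
  constructor
  · intro h X x
    have := congrArg (fun τ : Aut (H ⋙ F') => τ.hom.app X x) h
    exact this
  · intro h
    ext X x
    exact h X x

lemma continuous_autWhisker : Continuous (Pi1X.autWhisker H F') := by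
  rw [← toAut_eq_autWhisker]
  exact toAut_continuous (H ⋙ F') (Aut F')

/-- Elements of the kernel act trivially on every object dominated by a subobject of some `H X`. -/
lemma ker_smul_eq_of_exists {σ : Aut F'} (hσ : σ ∈ (Pi1X.autWhisker H F').ker)
    {X : C} {Y' X' : C'} (i : Y' ⟶ H.obj X) (q : Y' ⟶ X') [Mono i]
    (hq : Function.Surjective (F'.map q)) (a' : F'.obj X') : σ.hom.app X' a' = a' := by
  rw [mem_ker_autWhisker_iff] at hσ
  obtain ⟨y, rfl⟩ := hq a'
  have hinj : Function.Injective (F'.map i) :=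
    (ConcreteCategory.mono_iff_injective_of_preservesPullback (F'.map i)).mp inferInstance
  have hy : σ.hom.app Y' y = y := by
    apply hinj
    rw [← FunctorToFintypeCat.naturality F' F' σ.hom i y]
    exact hσ X _
  rw [FunctorToFintypeCat.naturality F' F' σ.hom q y, hy]

/-- An open set containing the kernel contains the stabilizer (for the whiskered action) of a point
of some `H A`, `A` Galois. -/
lemma exists_galois_stabilizer_le {U' : Set (Aut F')} (hU' : IsOpen U')
    (hker : ((Pi1X.autWhisker H F').ker : Set (Aut F')) ⊆ U') :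
    ∃ (A : C) (_ : IsGalois A) (a : F'.obj (H.obj A)),
      ∀ σ : Aut F', σ.hom.app (H.obj A) a = a → σ ∈ U' := by
  set h := Pi1X.autWhisker H F'
  have hK : IsCompact (U'ᶜ) := hU'.isClosed_compl.isCompact
  have hhK : IsClosed (h '' U'ᶜ) := (hK.image (continuous_autWhisker H F')).isClosed
  have h1 : (1 : Aut (H ⋙ F')) ∈ (h '' U'ᶜ)ᶜ := by
    rintro ⟨σ, hσ, hσ1⟩
    exact hσ (hker hσ1)
  have hnhds : (h '' U'ᶜ)ᶜ ∈ nhds (1 : Aut (H ⋙ F')) := hhK.isOpen_compl.mem_nhds h1
  obtain ⟨A, -, hA⟩ := (nhds_one_has_basis_stabilizers (H ⋙ F')).mem_iff.mp hnhds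
  refine ⟨A.obj, A.isGalois, A.pt, fun σ hσ => ?_⟩
  by_contra hσU
  have : h σ ∈ (h '' U'ᶜ)ᶜ := hA (show h σ ∈ MulAction.stabilizer _ A.pt from hσ)
  exact this ⟨σ, hσU, rfl⟩

/-- If the kernel of the induced map fixes a point of a connected object `X'`, then `X'` receives a
map from a connected subobject of some `H A`. -/
lemma exists_of_ker_le (X' : C') [IsConnected X'] (a' : F'.obj X')
    (hker : (Pi1X.autWhisker H F').ker ≤ MulAction.stabilizer (Aut F') a') :
    ∃ (X : C) (Y' : C') (i : Y' ⟶ H.obj X) (_ : Y' ⟶ X'), Mono i ∧ IsConnected Y' := by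
  obtain ⟨A, hA, a, hAa⟩ := exists_galois_stabilizer_le H F'
    (U' := (MulAction.stabilizer (Aut F') a' : Set (Aut F')))
    (stabilizer_isOpen (Aut F') a') hker
  obtain ⟨Y', i, y, hy, hconn, hmono⟩ := fiber_in_connected_component F' (H.obj A) a
  have hstab : ∀ σ : Aut F', σ.hom.app Y' y = y → σ.hom.app X' a' = a' := by
    intro σ hσ
    apply hAa σ
    rw [← hy, FunctorToFintypeCat.naturality F' F' σ.hom i y, hσ]
  have htrans : ∀ z : F'.obj Y', ∃ σ : Aut F', σ • y = z :=
    fun z => MulAction.exists_smul_eq (Aut F') y z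
  choose s hs using htrans
  let g : F'.obj Y' → F'.obj X' := fun z => s z • a'
  have hg : ∀ (σ : Aut F') (z : F'.obj Y'), g (σ • z) = σ • g z := by
    intro σ z
    change s (σ • z) • a' = σ • s z • a'
    have h1 : ((σ * s z)⁻¹ * s (σ • z)) • y = y := by
      rw [mul_smul, hs, inv_smul_eq_iff, mul_smul, hs]
    have h2 := hstab _ h1
    have h3 : ((σ * s z)⁻¹ * s (σ • z)) • a' = a' := h2
    rw [mul_smul, inv_smul_eq_iff, mul_smul] at h3
    exact h3
  obtain ⟨q, -⟩ := exists_hom_of_equivariant F' g hg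
  exact ⟨A, Y', i, q, hmono, hconn⟩

end Groth.Agent.Lib.Helper89.GalKer
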