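import Groth.Agent.Lib.Helper89.GalKer

set_option autoImplicit false
set_option linter.unusedSectionVars false

open CategoryTheory CategoryTheory.Limits CategoryTheory.PreGaloisCategory

namespace Groth.Agent.Lib.Helper89.GalOpen

open Groth.Agent.Lib.Helper89.GalFunctor Groth.Agent.Helper53.Gal

universe u v w

variable {C : Type u} [Category.{v} C] [GaloisCategory C]
  (F : C ⥤ FintypeCat.{w}) [FiberFunctor F]

open scoped FintypeCatDiscrete

lemma isContinuous_ofMulAction (G : Type*) [Group G] [TopologicalSpace G] (D : FintypeCat.{w})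
    [MulAction G D] (h : ∀ d d' : D, IsOpen {g : G | g • d = d'}) :
    (Action.FintypeCat.ofMulAction G D).IsContinuous := by
  rw [Action.isContinuous_def]
  change Continuous (fun p : G × D => (p.1 • p.2 : D))
  rw [continuous_prod_of_discrete_right]
  intro d
  rw [continuous_discrete_rng]
  intro d'
  exact h d d'

/-- Every open subgroup of the fundamental group is the stabilizer of a point of a connected
object. -/
lemma exists_connected_with_stabilizer (V : Subgroup (Aut F)) (hV : IsOpen (V : Set (Aut F))) :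
    ∃ (X : C) (a : F.obj X), IsConnected X ∧ MulAction.stabilizer (Aut F) a = V := by
  classical
  have hfin : Finite (Aut F ⧸ V) := V.quotient_finite_of_isOpen hV
  let n := Nat.card (Aut F ⧸ V)
  let e : ULift.{w} (Fin n) ≃ Aut F ⧸ V := Equiv.ulift.trans (Finite.equivFin _).symm
  let : MulAction (Aut F) (ULift.{w} (Fin n)) := e.mulAction (Aut F)
  have hsmul : ∀ (g : Aut F) (d : ULift.{w} (Fin n)), e (g • d) = g • e d := fun g d => by
    change e (e.symm (g • e d)) = _
    simp
  let D : FintypeCat.{w} := FintypeCat.of (ULift.{w} (Fin n))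
  let Y : Action FintypeCat.{w} (Aut F) := Action.FintypeCat.ofMulAction (Aut F) D
  have hY : Y.IsContinuous := by
    apply isContinuous_ofMulAction
    intro d d'
    obtain ⟨x, hx⟩ := QuotientGroup.mk_surjective (e d)
    obtain ⟨y, hy⟩ := QuotientGroup.mk_surjective (e d')
    have : {g : Aut F | g • d = d'} = (fun g : Aut F => (g * x)⁻¹ * y) ⁻¹' (V : Set (Aut F)) := by
      ext g
      simp only [Set.mem_preimage, Set.mem_ofPred_eq, SetLike.mem_coe]
      rw [← e.apply_eq_iff_eq, hsmul, ← hx, ← hy]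
      exact QuotientGroup.eq
    rw [this]
    exact hV.preimage (by fun_prop)
  obtain ⟨X, ⟨ε⟩⟩ := Functor.EssSurj.mem_essImage (F := functorToContAction F) (⟨Y, hY⟩ : ContAction FintypeCat.{w} (Aut F))
  let εA : (functorToAction F).obj X ≅ Y := (ObjectProperty.ι _).mapIso ε
  let β : F.obj X → ULift.{w} (Fin n) := εA.hom.hom
  have hβeq : ∀ (σ : Aut F) (x : F.obj X), β (σ • x) = σ • β x := fun σ x =>
    ConcreteCategory.congr_hom (εA.hom.comm σ) x
  have hiso : IsIso εA.hom.hom := (Action.forget _ _).map_isIso εA.hom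
  have hβbij : Function.Bijective β := ConcreteCategory.bijective_of_isIso εA.hom.hom
  let d₀ : ULift.{w} (Fin n) := e.symm (QuotientGroup.mk 1)
  obtain ⟨a, ha⟩ := hβbij.2 d₀
  refine ⟨X, a, ?_, ?_⟩
  · have : Nonempty (F.obj X) := ⟨a⟩
    have : MulAction.IsPretransitive (Aut F) (F.obj X) := ⟨fun x y => by
      obtain ⟨g, hg⟩ := MulAction.exists_smul_eq (Aut F) (e (β x)) (e (β y))
      refine ⟨g, hβbij.1 ?_⟩
      rw [hβeq]
      apply e.injective
      rw [hsmul, hg]⟩
    exact isConnected_of_pretransitive F X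
  · ext σ
    rw [MulAction.mem_stabilizer_iff, ← hβbij.1.eq_iff, hβeq, ha, ← e.apply_eq_iff_eq, hsmul]
    simp only [d₀, Equiv.apply_symm_apply]
    change (QuotientGroup.mk (σ * 1) : Aut F ⧸ V) = QuotientGroup.mk 1 ↔ _
    rw [QuotientGroup.eq]
    simp

/-- A closed subgroup of the fundamental group is separated from any element outside it by an open
subgroup. -/
lemma exists_open_subgroup_of_not_mem (R : Subgroup (Aut F)) (hR : IsClosed (R : Set (Aut F)))
    (τ : Aut F) (hτ : τ ∉ R) :
    ∃ V : Subgroup (Aut F), IsOpen (V : Set (Aut F)) ∧ R ≤ V ∧ τ ∉ V := by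
  have hW : (fun g : Aut F => τ * g) ⁻¹' (R : Set (Aut F))ᶜ ∈ nhds (1 : Aut F) := by
    apply (hR.isOpen_compl.preimage (by fun_prop)).mem_nhds
    simpa using hτ
  obtain ⟨A, -, hA⟩ := (nhds_one_has_basis_stabilizers F).mem_iff.mp hW
  have hN : (MulAction.stabilizer (Aut F) A.pt).Normal :=
    stabilizer_normal_of_isGalois F A.obj A.pt
  refine ⟨R ⊔ MulAction.stabilizer (Aut F) A.pt, ?_, le_sup_left, ?_⟩
  · exact Subgroup.isOpen_mono le_sup_right (stabilizer_isOpen (Aut F) A.pt)
  · intro hmem
    rw [Subgroup.mem_sup_of_normal_right] at hmem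
    obtain ⟨r, hr, n, hn, hrn⟩ := hmem
    have : τ * n⁻¹ ∈ (R : Set (Aut F))ᶜ := hA (inv_mem hn)
    apply this
    rw [← hrn]
    simpa using hr

/-- A point of a fibre fixed by the fundamental group is the image of a section from the terminal
object. -/
lemma exists_section_of_fixed (X : C) (a : F.obj X) (h : ∀ σ : Aut F, σ.hom.app X a = a) :
    ∃ s : ⊤_ C ⟶ X, ∀ t : F.obj (⊤_ C), F.map s t = a :=
  exists_hom_of_equivariant F (fun _ => a) (fun σ _ => (h σ).symm)

end Groth.Agent.Lib.Helper89.GalOpen
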