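import Groth.Agent.Lib.Helper89.DepthConn3
import Groth.Agent.Lib.Helper91.HartogsSch5

/-!
# Hartogs for finite étale covers of a local ring of depth `≥ 2`

If `A` is a Noetherian local ring of depth `≥ 2` and `Y → Spec A` is finite étale, then restriction
of functions from `Y` to the preimage of the punctured spectrum is bijective.
-/

set_option autoImplicit false
set_option linter.style.haveILetI false
universe u
open AlgebraicGeometry CategoryTheory CategoryTheory.Limits MorphismProperty Topology

namespace Groth.Agent.Lib.Helper89.DepthConn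

theorem depth_of_hasRegPair (B : Type u) [CommRing B] [IsLocalRing B] (h : HasRegPair B) :
    (2 : ℕ∞) ≤ LocCoh.depth B B := by
  obtain ⟨x, hx, y, hy, hxy⟩ := h
  unfold LocCoh.depth LocCoh.idealDepth
  have hne : ¬ (IsLocalRing.maximalIdeal B • (⊤ : Submodule B B) = ⊤) := by
    rw [Ideal.smul_top_eq_map, Algebra.algebraMap_self, Ideal.map_id]
    intro h
    have h1 : (1 : B) ∈ (IsLocalRing.maximalIdeal B).restrictScalars B := by rw [h]; trivial
    exact (Ideal.ne_top_iff_one _).mp (IsLocalRing.maximalIdeal.isMaximal B).ne_top h1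
  rw [if_neg hne]
  refine le_trans ?_ (le_iSup₂ (f := fun (rs : List B)
    (_ : RingTheory.Sequence.IsWeaklyRegular B rs ∧ ∀ r ∈ rs, r ∈ IsLocalRing.maximalIdeal B) =>
      (rs.length : ℕ∞)) [x, y] ⟨(regPair_iff_isWeaklyRegular x y).mp hxy, ?_⟩)
  · simp
  · intro r hr
    simp only [List.mem_cons, List.not_mem_nil, or_false] at hr
    rcases hr with rfl | rfl
    · exact hx
    · exact hy

variable (A : Type u) [CommRing A] [IsLocalRing A]

/-- Stalks of a flat scheme over `Spec A` at points over the closed point have a regular pair. -/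
theorem hasRegPair_stalk_of_flat (h : HasRegPair A) {Y : Scheme.{u}}
    (p : Y ⟶ Spec (CommRingCat.of A)) [Flat p] (y : Y) (hy : p y ∉ FEt.puncturedSpec A) :
    HasRegPair (Y.presheaf.stalk y) := by
  have h1 := hasRegPair_stalk_of_not_mem A h (p y) hy
  exact h1.map (p.stalkMap y).hom (Flat.stalkMap p y)

theorem isIso_ι_appTop_of_depth [IsNoetherianRing A] (hA : (2 : ℕ∞) ≤ LocCoh.depth A A)
    {Y : Scheme.{u}} (p : Y ⟶ Spec (CommRingCat.of A)) [Flat p] [LocallyOfFiniteType p] :
    IsIso (p ⁻¹ᵁ FEt.puncturedSpec A).ι.appTop := by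
  haveI : IsLocallyNoetherian Y := LocallyOfFiniteType.isLocallyNoetherian p
  apply Groth.Agent.Lib.Helper91.Hartogs.isIso_ι_appTop
  intro y hy
  exact depth_of_hasRegPair _ (hasRegPair_stalk_of_flat A (hasRegPair_of_depth A hA) p y hy)

end Groth.Agent.Lib.Helper89.DepthConn
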