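import Groth.Agent.Lib.Helper89.HensZMT2
import Groth.Agent.Lib.Helper89.FEtFF

/-!
# A henselian pair gives a henselian couple

For a henselian pair `(A, I)` and an integral morphism `ν : Y ⟶ Spec A`, clopen subsets of
`Y ×_A Spec (A/I)` are the same as clopen subsets of `Y`.
-/

set_option autoImplicit false
set_option linter.style.haveILetI false
universe u
open AlgebraicGeometry CategoryTheory CategoryTheory.Limits MorphismProperty

namespace Groth.Agent.Lib.Helper89.HensZMT

section

variable {A : Type u} [CommRing A] (I : Ideal A) [HenselianRing A I]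
  {Y : Scheme.{u}} (ν : Y ⟶ Spec (CommRingCat.of A)) [IsIntegralHom ν]

/-- Transport to `Spec B`: data extracted from an integral morphism to `Spec A`. -/
lemma exists_spec_data :
    ∃ (B : CommRingCat.{u}) (h : Y ⟶ Spec B) (ψ : CommRingCat.of A ⟶ B),
      IsIso h ∧ ψ.hom.IsIntegral ∧ h ≫ Spec.map ψ = ν := by
  haveI : IsAffine Y := isAffine_of_isAffineHom ν
  refine ⟨Γ(Y, ⊤), Y.isoSpec.hom, Spec.preimage (Y.isoSpec.inv ≫ ν), inferInstance, ?_, ?_⟩
  · rw [← IsIntegralHom.SpecMap_iff, Spec.map_preimage]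
    infer_instance
  · rw [Spec.map_preimage, Iso.hom_inv_id_assoc]

/-- Existence part of the henselian couple property. -/
theorem couple_exists (T : Set ↥(pullback ν (Spec.map (CommRingCat.ofHom (Ideal.Quotient.mk I)))))
    (hT : IsClopen T) :
    ∃ S : Set Y, IsClopen S ∧
      (pullback.fst ν (Spec.map (CommRingCat.ofHom (Ideal.Quotient.mk I)))).base ⁻¹' S = T := by
  obtain ⟨B, h, ψ, hh, hψ, hhψ⟩ := exists_spec_data ν
  algebraize [ψ.hom]
  haveI : IsClosedImmersion (Spec.map (CommRingCat.ofHom (Ideal.Quotient.mk I))) :=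
    IsClosedImmersion.spec_of_surjective _ Ideal.Quotient.mk_surjective
  obtain ⟨q, hq⟩ : ∃ q : pullback ν (Spec.map (CommRingCat.ofHom (Ideal.Quotient.mk I))) ⟶ Spec B,
      q = pullback.fst ν (Spec.map (CommRingCat.ofHom (Ideal.Quotient.mk I))) ≫ h := ⟨_, rfl⟩
  haveI : IsClosedImmersion q := by rw [hq]; infer_instance
  have hqinj : Function.Injective q.base := q.isClosedEmbedding.injective
  have hbase : ∀ z, PrimeSpectrum.comap ψ.hom (q.base z) =
      ν.base ((pullback.fst ν (Spec.map (CommRingCat.ofHom (Ideal.Quotient.mk I)))).base z) := by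
    intro z
    have h1 : q ≫ Spec.map ψ =
        pullback.fst ν (Spec.map (CommRingCat.ofHom (Ideal.Quotient.mk I))) ≫ ν := by
      rw [hq, Category.assoc, hhψ]
    exact congrArg (fun g => g.base z) h1
  have hmemV : ∀ p : PrimeSpectrum B,
      p ∈ PrimeSpectrum.zeroLocus (I.map (algebraMap A B) : Set B) ↔
        I ≤ (PrimeSpectrum.comap ψ.hom p).asIdeal := by
    intro p
    rw [PrimeSpectrum.mem_zeroLocus, SetLike.coe_subset_coe, Ideal.map_le_iff_le_comap]
    rfl
  have hhinv : ∀ p : PrimeSpectrum B, h.base ((inv h).base p) = p := by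
    intro p
    have := congrArg (fun g : Spec B ⟶ Spec B => g.base p) (IsIso.inv_hom_id h)
    exact this
  -- the range of `q` is `V(IB)`
  have hrange : (Set.range q.base : Set (PrimeSpectrum B)) =
      PrimeSpectrum.zeroLocus (I.map (algebraMap A B) : Set B) := by
    ext p
    constructor
    · rintro ⟨z, rfl⟩
      refine (hmemV _).mpr ?_
      have h1 : (pullback.fst ν (Spec.map (CommRingCat.ofHom (Ideal.Quotient.mk I)))).base z ∈
          ν.base ⁻¹' Set.range (Spec.map (CommRingCat.ofHom (Ideal.Quotient.mk I))).base := by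
        rw [← Scheme.Pullback.range_fst]; exact Set.mem_range_self z
      rw [Set.mem_preimage, range_specMap_quotient] at h1
      change I ≤ (PrimeSpectrum.comap ψ.hom (q.base z)).asIdeal
      rw [hbase]
      exact h1
    · intro hp
      have hp' := (hmemV _).mp hp
      have h1 : (inv h).base p ∈ Set.range
          (pullback.fst ν (Spec.map (CommRingCat.ofHom (Ideal.Quotient.mk I)))).base := by
        rw [Scheme.Pullback.range_fst, Set.mem_preimage, range_specMap_quotient]
        have : ν.base ((inv h).base p) = PrimeSpectrum.comap ψ.hom p := by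
          rw [← hhψ]
          change PrimeSpectrum.comap ψ.hom (h.base ((inv h).base p)) = _
          rw [hhinv]
        change I ≤ (ν.base ((inv h).base p) : PrimeSpectrum A).asIdeal
        rw [this]
        exact hp'
      obtain ⟨z, hz⟩ := h1
      refine ⟨z, ?_⟩
      rw [hq]
      change h.base ((pullback.fst ν
        (Spec.map (CommRingCat.ofHom (Ideal.Quotient.mk I)))).base z) = p
      rw [hz, hhinv]
  -- the open set `O`
  have hOopen : IsOpen ((q.base '' Tᶜ)ᶜ : Set (PrimeSpectrum B)) :=
    (q.isClosedEmbedding.isClosedMap _ hT.compl.isClosed).isOpen_compl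
  have hOT : ((q.base '' Tᶜ)ᶜ : Set (PrimeSpectrum B)) ∩
      PrimeSpectrum.zeroLocus (I.map (algebraMap A B) : Set B) = q.base '' T := by
    rw [← hrange]
    ext p
    constructor
    · rintro ⟨h1, ⟨z, rfl⟩⟩
      by_cases hz : z ∈ T
      · exact ⟨z, hz, rfl⟩
      · exact absurd ⟨z, hz, rfl⟩ h1
    · rintro ⟨z, hz, rfl⟩
      refine ⟨?_, ⟨z, rfl⟩⟩
      rintro ⟨z', hz', hzz'⟩
      exact hz' (hqinj hzz' ▸ hz)
  have hclosed : IsClosed (((q.base '' Tᶜ)ᶜ : Set (PrimeSpectrum B)) ∩
      PrimeSpectrum.zeroLocus (I.map (algebraMap A B) : Set B)) := by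
    rw [hOT]
    exact q.isClosedEmbedding.isClosedMap _ hT.isClosed
  obtain ⟨e, he, -, heT⟩ := exists_idem_basicOpen (A := A) (B := B) I _ hOopen hclosed
  have hDclopen : IsClopen (PrimeSpectrum.basicOpen e : Set (PrimeSpectrum B)) :=
    PrimeSpectrum.isClopen_iff.mpr ⟨e, he, rfl⟩
  refine ⟨h.base ⁻¹' (PrimeSpectrum.basicOpen e : Set (PrimeSpectrum B)),
    hDclopen.preimage h.continuous, ?_⟩
  ext z
  have hz : q.base z ∈ PrimeSpectrum.zeroLocus (I.map (algebraMap A B) : Set B) := by
    rw [← hrange]; exact Set.mem_range_self z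
  have hqz : h.base ((pullback.fst ν
      (Spec.map (CommRingCat.ofHom (Ideal.Quotient.mk I)))).base z) = q.base z := by
    rw [hq]; rfl
  constructor
  · intro hzS
    have h1 : q.base z ∈ (PrimeSpectrum.basicOpen e : Set (PrimeSpectrum B)) := by
      rw [← hqz]; exact hzS
    have h2 : q.base z ∈ (PrimeSpectrum.basicOpen e : Set (PrimeSpectrum B)) ∩
        PrimeSpectrum.zeroLocus (I.map (algebraMap A B) : Set B) := ⟨h1, hz⟩
    rw [heT, hOT] at h2
    obtain ⟨z', hz', hzz'⟩ := h2
    exact hqinj hzz' ▸ hz'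
  · intro hzT
    have h2 : q.base z ∈ (PrimeSpectrum.basicOpen e : Set (PrimeSpectrum B)) ∩
        PrimeSpectrum.zeroLocus (I.map (algebraMap A B) : Set B) := by
      rw [heT, hOT]; exact ⟨z, hzT, rfl⟩
    have h3 : h.base ((pullback.fst ν
        (Spec.map (CommRingCat.ofHom (Ideal.Quotient.mk I)))).base z) ∈
        (PrimeSpectrum.basicOpen e : Set (PrimeSpectrum B)) := by
      rw [hqz]
      exact h2.1
    exact h3

/-- Uniqueness part of the henselian couple property: a clopen subset of `Y` containing the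
preimage of `V(I)` is everything. -/
theorem couple_unique (R : Set Y) (hR : IsClopen R)
    (hpre : (pullback.fst ν (Spec.map (CommRingCat.ofHom (Ideal.Quotient.mk I)))).base ⁻¹' R =
      Set.univ) : R = Set.univ := by
  obtain ⟨B, h, ψ, hh, hψ, hhψ⟩ := exists_spec_data ν
  algebraize [ψ.hom]
  have hmemV : ∀ p : PrimeSpectrum B,
      p ∈ PrimeSpectrum.zeroLocus (I.map (algebraMap A B) : Set B) ↔
        I ≤ (PrimeSpectrum.comap ψ.hom p).asIdeal := by
    intro p
    rw [PrimeSpectrum.mem_zeroLocus, SetLike.coe_subset_coe, Ideal.map_le_iff_le_comap]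
    rfl
  have hC : IsClosed ((h.base '' Rᶜ : Set (Spec B)) : Set (PrimeSpectrum B)) :=
    h.homeomorph.isClosedMap _ hR.compl.isClosed
  have hCV : ((h.base '' Rᶜ : Set (Spec B)) : Set (PrimeSpectrum B)) ∩
      PrimeSpectrum.zeroLocus (I.map (algebraMap A B) : Set B) = ∅ := by
    rw [Set.eq_empty_iff_forall_notMem]
    rintro p ⟨⟨y, hy, rfl⟩, hp⟩
    have hp' := (hmemV _).mp hp
    have h1 : y ∈ Set.range
        (pullback.fst ν (Spec.map (CommRingCat.ofHom (Ideal.Quotient.mk I)))).base := by
      rw [Scheme.Pullback.range_fst, Set.mem_preimage, range_specMap_quotient]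
      have : ν.base y = PrimeSpectrum.comap ψ.hom (h.base y) := by
        rw [← hhψ]; rfl
      change I ≤ (ν.base y : PrimeSpectrum A).asIdeal
      rw [this]
      exact hp'
    obtain ⟨z, rfl⟩ := h1
    have : z ∈ (pullback.fst ν (Spec.map (CommRingCat.ofHom (Ideal.Quotient.mk I)))).base ⁻¹' R := by
      rw [hpre]; trivial
    exact hy this
  have hJ : I.map (algebraMap A B) ≤ Ideal.jacobson ⊥ :=
    Groth.Agent.Lib.Helper37.map_le_jacobson_of_isIntegral (HenselianRing.jac (R := A) (I := I))
  have hempty := eq_empty_of_inter_zeroLocus_eq_empty _ hJ _ hC hCV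
  rw [Set.eq_univ_iff_forall]
  intro y
  by_contra hy
  have : h.base y ∈ ((h.base '' Rᶜ : Set (Spec B)) : Set (PrimeSpectrum B)) := ⟨y, hy, rfl⟩
  rw [hempty] at this
  exact this

/-- `Spec (A/I) ⟶ Spec A` detects clopen subsets of finite étale covers, for a henselian pair. -/
theorem clopenInj_of_henselian :
    FEtFF.ClopenInj (Spec.map (CommRingCat.ofHom (Ideal.Quotient.mk I))) := by
  apply FEtFF.clopenInj_of_pullback
  intro W p _ _ R hR hpre
  exact couple_unique I p R hR hpre

theorem clopenSurj_of_henselian :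
    FEtFF.ClopenSurj (Spec.map (CommRingCat.ofHom (Ideal.Quotient.mk I))) := by
  apply FEtFF.clopenSurj_of_pullback
  intro W p _ _ T hT
  exact couple_exists I p T hT

/-- For a henselian pair, restriction of finite étale covers to `Spec (A/I)` is fully faithful. -/
theorem restrict_full_faithful_of_henselian :
    (FEt.restrict (Spec.map (CommRingCat.ofHom (Ideal.Quotient.mk I)))).Full ∧
      (FEt.restrict (Spec.map (CommRingCat.ofHom (Ideal.Quotient.mk I)))).Faithful :=
  FEtFF.full_faithful_of_clopen _ (clopenInj_of_henselian I) (clopenSurj_of_henselian I)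

end

end Groth.Agent.Lib.Helper89.HensZMT
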