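import Groth.Agent.Lib.Helper89.HensCouple
import Groth.Agent.Lib.Helper37.HenselIdem2

/-!
# A henselian couple gives a henselian pair
-/

set_option autoImplicit false
set_option linter.style.haveILetI false
universe u
open AlgebraicGeometry CategoryTheory CategoryTheory.Limits MorphismProperty

namespace Groth.Agent.Lib.Helper89.HensZMT

section

variable {A : Type u} [CommRing A] (I : Ideal A) (B : Type u) [CommRing B] [Algebra A B]

/-- The range of `Spec B ×_A Spec (A/I) ⟶ Spec B` is `V(IB)`. -/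
lemma mem_range_fst_iff (p : Spec (CommRingCat.of B)) :
    p ∈ Set.range (pullback.fst (Spec.map (CommRingCat.ofHom (algebraMap A B)))
      (Spec.map (CommRingCat.ofHom (Ideal.Quotient.mk I)))).base ↔
      I.map (algebraMap A B) ≤ PrimeSpectrum.asIdeal p := by
  rw [Scheme.Pullback.range_fst, Set.mem_preimage, range_specMap_quotient,
    Ideal.map_le_iff_le_comap]
  rfl

/-- The range of `Spec (B/IB) ⟶ Spec B` is `V(IB)`. -/
lemma mem_range_comap_iff (p : PrimeSpectrum B) :
    p ∈ Set.range (PrimeSpectrum.comap (Ideal.Quotient.mk (I.map (algebraMap A B)))) ↔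
      I.map (algebraMap A B) ≤ p.asIdeal := by
  rw [range_comap_of_surjective _ _ Ideal.Quotient.mk_surjective, Ideal.mk_ker,
    PrimeSpectrum.mem_zeroLocus, SetLike.coe_subset_coe]

/-- (T1) The preimage in `Spec B ×_A Spec (A/I)` of a subset of `Spec B` only depends on its
preimage in `Spec (B/IB)`. -/
lemma preimage_fst_eq_of_preimage_comap_eq (U₁ U₂ : Set (PrimeSpectrum B))
    (h : PrimeSpectrum.comap (Ideal.Quotient.mk (I.map (algebraMap A B))) ⁻¹' U₁ =
      PrimeSpectrum.comap (Ideal.Quotient.mk (I.map (algebraMap A B))) ⁻¹' U₂) :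
    (pullback.fst (Spec.map (CommRingCat.ofHom (algebraMap A B)))
      (Spec.map (CommRingCat.ofHom (Ideal.Quotient.mk I)))).base ⁻¹' U₁ =
    (pullback.fst (Spec.map (CommRingCat.ofHom (algebraMap A B)))
      (Spec.map (CommRingCat.ofHom (Ideal.Quotient.mk I)))).base ⁻¹' U₂ := by
  ext z
  have hz := (mem_range_fst_iff I B _).mp (Set.mem_range_self z)
  obtain ⟨w, hw⟩ := (mem_range_comap_iff I B _).mpr hz
  have h1 : ∀ U : Set (PrimeSpectrum B),
      z ∈ (pullback.fst (Spec.map (CommRingCat.ofHom (algebraMap A B)))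
        (Spec.map (CommRingCat.ofHom (Ideal.Quotient.mk I)))).base ⁻¹' U ↔
      w ∈ PrimeSpectrum.comap (Ideal.Quotient.mk (I.map (algebraMap A B))) ⁻¹' U := by
    intro U
    constructor
    · intro hzU
      change PrimeSpectrum.comap (Ideal.Quotient.mk (I.map (algebraMap A B))) w ∈ U
      rw [hw]
      exact hzU
    · intro hwU
      have : PrimeSpectrum.comap (Ideal.Quotient.mk (I.map (algebraMap A B))) w ∈ U := hwU
      rw [hw] at this
      exact this
  rw [h1, h1, h]

/-- (T2) Clopen subsets of `Spec (B/IB)` give clopen subsets of `Spec B ×_A Spec (A/I)`. -/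
lemma isClopen_preimage_fst_image_comap
    (D : Set (PrimeSpectrum (B ⧸ I.map (algebraMap A B)))) (hD : IsClopen D) :
    IsClopen ((pullback.fst (Spec.map (CommRingCat.ofHom (algebraMap A B)))
      (Spec.map (CommRingCat.ofHom (Ideal.Quotient.mk I)))).base ⁻¹'
        (PrimeSpectrum.comap (Ideal.Quotient.mk (I.map (algebraMap A B))) '' D)) := by
  have hce := PrimeSpectrum.isClosedEmbedding_comap_of_surjective _
    (Ideal.Quotient.mk (I.map (algebraMap A B))) Ideal.Quotient.mk_surjective
  have hc1 : IsClosed (PrimeSpectrum.comap (Ideal.Quotient.mk (I.map (algebraMap A B))) '' D) :=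
    hce.isClosedMap _ hD.isClosed
  have hc2 : IsClosed (PrimeSpectrum.comap (Ideal.Quotient.mk (I.map (algebraMap A B))) '' Dᶜ) :=
    hce.isClosedMap _ hD.compl.isClosed
  refine ⟨hc1.preimage (pullback.fst (Spec.map (CommRingCat.ofHom (algebraMap A B)))
      (Spec.map (CommRingCat.ofHom (Ideal.Quotient.mk I)))).continuous, ?_⟩
  have heq : (pullback.fst (Spec.map (CommRingCat.ofHom (algebraMap A B)))
      (Spec.map (CommRingCat.ofHom (Ideal.Quotient.mk I)))).base ⁻¹'
        (PrimeSpectrum.comap (Ideal.Quotient.mk (I.map (algebraMap A B))) '' D) =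
      ((pullback.fst (Spec.map (CommRingCat.ofHom (algebraMap A B)))
      (Spec.map (CommRingCat.ofHom (Ideal.Quotient.mk I)))).base ⁻¹'
        (PrimeSpectrum.comap (Ideal.Quotient.mk (I.map (algebraMap A B))) '' Dᶜ))ᶜ := by
    ext z
    have hz := (mem_range_fst_iff I B _).mp (Set.mem_range_self z)
    obtain ⟨w, hw⟩ := (mem_range_comap_iff I B _).mpr hz
    have h1 : ∀ D' : Set (PrimeSpectrum (B ⧸ I.map (algebraMap A B))),
        z ∈ (pullback.fst (Spec.map (CommRingCat.ofHom (algebraMap A B)))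
          (Spec.map (CommRingCat.ofHom (Ideal.Quotient.mk I)))).base ⁻¹'
          (PrimeSpectrum.comap (Ideal.Quotient.mk (I.map (algebraMap A B))) '' D') ↔ w ∈ D' := by
      intro D'
      constructor
      · intro hzD
        have : PrimeSpectrum.comap (Ideal.Quotient.mk (I.map (algebraMap A B))) w ∈
            PrimeSpectrum.comap (Ideal.Quotient.mk (I.map (algebraMap A B))) '' D' := by
          rw [hw]; exact hzD
        exact (hce.injective.mem_set_image).mp this
      · intro hwD
        have : PrimeSpectrum.comap (Ideal.Quotient.mk (I.map (algebraMap A B))) w ∈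
            PrimeSpectrum.comap (Ideal.Quotient.mk (I.map (algebraMap A B))) '' D' :=
          ⟨w, hwD, rfl⟩
        rw [hw] at this
        exact this
    rw [Set.mem_compl_iff, h1, h1, Set.mem_compl_iff, not_not]
  rw [heq]
  exact (hc2.preimage (pullback.fst (Spec.map (CommRingCat.ofHom (algebraMap A B)))
      (Spec.map (CommRingCat.ofHom (Ideal.Quotient.mk I)))).continuous).isOpen_compl

lemma preimage_comap_eq_of_preimage_fst_eq
    (D : Set (PrimeSpectrum (B ⧸ I.map (algebraMap A B)))) (U : Set (PrimeSpectrum B))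
    (h : (pullback.fst (Spec.map (CommRingCat.ofHom (algebraMap A B)))
      (Spec.map (CommRingCat.ofHom (Ideal.Quotient.mk I)))).base ⁻¹' U =
      (pullback.fst (Spec.map (CommRingCat.ofHom (algebraMap A B)))
      (Spec.map (CommRingCat.ofHom (Ideal.Quotient.mk I)))).base ⁻¹'
        (PrimeSpectrum.comap (Ideal.Quotient.mk (I.map (algebraMap A B))) '' D)) :
    PrimeSpectrum.comap (Ideal.Quotient.mk (I.map (algebraMap A B))) ⁻¹' U = D := by
  have hce := PrimeSpectrum.isClosedEmbedding_comap_of_surjective _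
    (Ideal.Quotient.mk (I.map (algebraMap A B))) Ideal.Quotient.mk_surjective
  ext w
  have hw := (mem_range_comap_iff I B _).mp (Set.mem_range_self w)
  obtain ⟨z, hz⟩ := (mem_range_fst_iff I B _).mpr hw
  have h1 : z ∈ (pullback.fst (Spec.map (CommRingCat.ofHom (algebraMap A B)))
      (Spec.map (CommRingCat.ofHom (Ideal.Quotient.mk I)))).base ⁻¹' U ↔
      z ∈ (pullback.fst (Spec.map (CommRingCat.ofHom (algebraMap A B)))
      (Spec.map (CommRingCat.ofHom (Ideal.Quotient.mk I)))).base ⁻¹'
        (PrimeSpectrum.comap (Ideal.Quotient.mk (I.map (algebraMap A B))) '' D) := by rw [h]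
  constructor
  · intro hwU
    have h2 : PrimeSpectrum.comap (Ideal.Quotient.mk (I.map (algebraMap A B))) w ∈ U := hwU
    rw [← hz] at h2
    have h3 := h1.mp h2
    have h4 : PrimeSpectrum.comap (Ideal.Quotient.mk (I.map (algebraMap A B))) w ∈
        PrimeSpectrum.comap (Ideal.Quotient.mk (I.map (algebraMap A B))) '' D := by
      rw [← hz]; exact h3
    exact (hce.injective.mem_set_image).mp h4
  · intro hwD
    have h4 : PrimeSpectrum.comap (Ideal.Quotient.mk (I.map (algebraMap A B))) w ∈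
        PrimeSpectrum.comap (Ideal.Quotient.mk (I.map (algebraMap A B))) '' D := ⟨w, hwD, rfl⟩
    rw [← hz] at h4
    have h3 := h1.mpr h4
    have h2 : PrimeSpectrum.comap (Ideal.Quotient.mk (I.map (algebraMap A B))) w ∈ U := by
      rw [← hz]; exact h3
    exact h2

end

/-- A henselian couple `(Spec A, Spec (A/I))` gives a henselian pair `(A, I)`. -/
theorem henselianRing_of_couple {A : Type u} [CommRing A] (I : Ideal A)
    (H : ∀ (Y : Scheme.{u}) (g : Y ⟶ Spec (CommRingCat.of A)), IsFinite g →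
      ∀ V : Set ↥(pullback g (Spec.map (CommRingCat.ofHom (Ideal.Quotient.mk I)))), IsClopen V →
        ∃! U : Set ↥Y, IsClopen U ∧
          (pullback.fst g (Spec.map (CommRingCat.ofHom (Ideal.Quotient.mk I)))).base ⁻¹' U = V) :
    HenselianRing A I := by
  have hfin : ∀ (B : Type u) [CommRing B] [Algebra A B] [Module.Finite A B],
      IsFinite (Spec.map (CommRingCat.ofHom (algebraMap A B))) := by
    intro B _ _ _
    exact (IsFinite.SpecMap_iff _).mpr (RingHom.finite_algebraMap.mpr inferInstance)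
  have key1 : ∀ (B : Type u) [CommRing B] [Algebra A B] [Module.Finite A B] (e₁ e₂ : B),
      IsIdempotentElem e₁ → IsIdempotentElem e₂ →
      Ideal.Quotient.mk (I.map (algebraMap A B)) e₁ =
        Ideal.Quotient.mk (I.map (algebraMap A B)) e₂ → e₁ = e₂ := by
    intro B _ _ _ e₁ e₂ he₁ he₂ h
    have hc1 : IsClopen (PrimeSpectrum.basicOpen e₁ : Set (PrimeSpectrum B)) :=
      PrimeSpectrum.isClopen_iff.mpr ⟨e₁, he₁, rfl⟩
    have hc2 : IsClopen (PrimeSpectrum.basicOpen e₂ : Set (PrimeSpectrum B)) :=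
      PrimeSpectrum.isClopen_iff.mpr ⟨e₂, he₂, rfl⟩
    have hcomap : PrimeSpectrum.comap (Ideal.Quotient.mk (I.map (algebraMap A B))) ⁻¹'
        (PrimeSpectrum.basicOpen e₁ : Set (PrimeSpectrum B)) =
        PrimeSpectrum.comap (Ideal.Quotient.mk (I.map (algebraMap A B))) ⁻¹'
        (PrimeSpectrum.basicOpen e₂ : Set (PrimeSpectrum B)) := by
      change (PrimeSpectrum.basicOpen (Ideal.Quotient.mk (I.map (algebraMap A B)) e₁) :
          Set (PrimeSpectrum (B ⧸ I.map (algebraMap A B)))) =
        (PrimeSpectrum.basicOpen (Ideal.Quotient.mk (I.map (algebraMap A B)) e₂) :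
          Set (PrimeSpectrum (B ⧸ I.map (algebraMap A B))))
      rw [h]
    have hpre := preimage_fst_eq_of_preimage_comap_eq I B _ _ hcomap
    obtain ⟨U, -, huniq⟩ := H _ _ (hfin B) _
      (hc1.preimage (pullback.fst (Spec.map (CommRingCat.ofHom (algebraMap A B)))
        (Spec.map (CommRingCat.ofHom (Ideal.Quotient.mk I)))).continuous)
    have h1 := huniq (PrimeSpectrum.basicOpen e₁ : Set (PrimeSpectrum B)) ⟨hc1, rfl⟩
    have h2 := huniq (PrimeSpectrum.basicOpen e₂ : Set (PrimeSpectrum B)) ⟨hc2, hpre.symm⟩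
    have h3 : (PrimeSpectrum.basicOpen e₁ : Set (PrimeSpectrum B)) =
        (PrimeSpectrum.basicOpen e₂ : Set (PrimeSpectrum B)) := h1.trans h2.symm
    exact PrimeSpectrum.basicOpen_injOn_isIdempotentElem he₁ he₂ (SetLike.ext' h3)
  have key2 : ∀ (B : Type u) [CommRing B] [Algebra A B] [Module.Finite A B] (ε : B),
      ε * ε - ε ∈ I.map (algebraMap A B) →
      ∃ e : B, IsIdempotentElem e ∧ e - ε ∈ I.map (algebraMap A B) := by
    intro B _ _ _ ε hε
    have hidem : IsIdempotentElem (Ideal.Quotient.mk (I.map (algebraMap A B)) ε) := by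
      change _ * _ = _
      rw [← map_mul, Ideal.Quotient.eq]
      exact hε
    have hD : IsClopen (PrimeSpectrum.basicOpen (Ideal.Quotient.mk (I.map (algebraMap A B)) ε) :
        Set (PrimeSpectrum (B ⧸ I.map (algebraMap A B)))) :=
      PrimeSpectrum.isClopen_iff.mpr ⟨_, hidem, rfl⟩
    have hV := isClopen_preimage_fst_image_comap I B _ hD
    obtain ⟨U, ⟨hUc, hUV⟩, -⟩ := H _ _ (hfin B) _ hV
    have hcU := preimage_comap_eq_of_preimage_fst_eq I B _ U hUV
    obtain ⟨e, he, hUe⟩ := PrimeSpectrum.isClopen_iff.mp hUc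
    refine ⟨e, he, ?_⟩
    have h1 : (PrimeSpectrum.basicOpen (Ideal.Quotient.mk (I.map (algebraMap A B)) e) :
        Set (PrimeSpectrum (B ⧸ I.map (algebraMap A B)))) =
        (PrimeSpectrum.basicOpen (Ideal.Quotient.mk (I.map (algebraMap A B)) ε) : Set _) := by
      rw [← hcU, hUe]
      rfl
    have h2 := PrimeSpectrum.basicOpen_injOn_isIdempotentElem
      (he.map (Ideal.Quotient.mk (I.map (algebraMap A B)))) hidem (SetLike.ext' h1)
    exact Ideal.Quotient.eq.mp h2
  have hjac : I ≤ Ideal.jacobson ⊥ :=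
    Groth.Agent.Lib.Helper37.le_jacobson_of_idempotents_injOn I
      (fun J e₁ he₁ e₂ he₂ h => key1 (A ⧸ J) e₁ e₂ he₁ he₂ h)
  exact Groth.Agent.Lib.Helper37.henselianRing_of_idempotent_lift I hjac
    (fun f hf ε hε => by
      haveI : Module.Finite A (AdjoinRoot f) := hf.finite_adjoinRoot
      exact key2 (AdjoinRoot f) ε hε)

/-- A henselian pair gives a henselian couple. -/
theorem couple_of_henselianRing {A : Type u} [CommRing A] (I : Ideal A) [HenselianRing A I]
    (Y : Scheme.{u}) (g : Y ⟶ Spec (CommRingCat.of A)) (hg : IsFinite g)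
    (V : Set ↥(pullback g (Spec.map (CommRingCat.ofHom (Ideal.Quotient.mk I)))))
    (hV : IsClopen V) :
    ∃! U : Set ↥Y, IsClopen U ∧
      (pullback.fst g (Spec.map (CommRingCat.ofHom (Ideal.Quotient.mk I)))).base ⁻¹' U = V := by
  obtain ⟨U, hU, hUV⟩ := couple_exists I g V hV
  refine ⟨U, ⟨hU, hUV⟩, ?_⟩
  rintro U' ⟨hU', hU'V⟩
  have hR : IsClopen ((U ∩ U') ∪ (Uᶜ ∩ U'ᶜ)) := (hU.inter hU').union (hU.compl.inter hU'.compl)
  have hpre : (pullback.fst g (Spec.map (CommRingCat.ofHom (Ideal.Quotient.mk I)))).base ⁻¹'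
      ((U ∩ U') ∪ (Uᶜ ∩ U'ᶜ)) = Set.univ := by
    rw [Set.preimage_union, Set.preimage_inter, Set.preimage_inter, Set.preimage_compl,
      Set.preimage_compl, hUV, hU'V, Set.inter_self, Set.inter_self, Set.union_compl_self]
  have huniv := couple_unique I g _ hR hpre
  ext y
  have hy : y ∈ (U ∩ U') ∪ (Uᶜ ∩ U'ᶜ) := by rw [huniv]; trivial
  rcases hy with ⟨h1, h2⟩ | ⟨h1, h2⟩
  · exact ⟨fun _ => h1, fun _ => h2⟩
  · exact ⟨fun h => absurd h h2, fun h => absurd h h1⟩

end Groth.Agent.Lib.Helper89.HensZMT
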