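import Mathlib
import Groth.Agent.Lib.Helper89.HensZMT4
import Groth.Agent.Lib.Helper7.GUSchUnram

/-!
# Étale separated schemes over a henselian local ring: the local pieces
-/

set_option autoImplicit false
set_option linter.style.haveILetI false
universe u
open AlgebraicGeometry CategoryTheory CategoryTheory.Limits MorphismProperty

namespace Groth.Agent.Lib.Helper89.HensTw

open Groth.Agent.Lib.Helper89.HensZMT

/-- On an affine open `W` all of whose points specialise to `x ∈ W`, the germ map at `x` is an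
isomorphism. -/
theorem isIso_germ {X : Scheme.{u}} (W : X.Opens) (hW : IsAffineOpen W) (x : X) (hx : x ∈ W)
    (h : ∀ y ∈ W, y ⤳ x) : IsIso (X.presheaf.germ W x hx) := by
  letI := TopCat.Presheaf.algebra_section_stalk X.presheaf (⟨x, hx⟩ : W)
  haveI hloc : IsLocalization.AtPrime (X.presheaf.stalk x) (hW.primeIdealOf ⟨x, hx⟩).asIdeal :=
    hW.isLocalization_stalk ⟨x, hx⟩
  have hunits : (hW.primeIdealOf ⟨x, hx⟩).asIdeal.primeCompl ≤ IsUnit.submonoid Γ(X, W) := by
    intro s hs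
    have hs' : s ∉ (hW.primeIdealOf ⟨x, hx⟩).asIdeal := hs
    rw [Groth.Agent.Lib.Helper7.GUSch.notMem_primeIdealOf_iff x hW hx s] at hs'
    have hxs : x ∈ X.basicOpen s := (X.mem_basicOpen s x hx).mpr hs'
    change IsUnit s
    apply AlgebraicGeometry.RingedSpace.isUnit_of_isUnit_germ (X := X.toRingedSpace) W s
    intro y hy
    have hys : y ∈ X.basicOpen s := (h y hy).mem_open (X.basicOpen s).isOpen hxs
    exact (X.mem_basicOpen s y hy).mp hys
  have hbij : Function.Bijective (algebraMap Γ(X, W) (X.presheaf.stalk x)) :=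
    (IsLocalization.atUnits Γ(X, W) _ (S := X.presheaf.stalk x) hunits).bijective
  exact (ConcreteCategory.isIso_iff_bijective _).mpr hbij

/-- The key existence statement: a clopen finite local piece around a point of the closed fibre. -/
theorem exists_local_piece (R : Type u) [CommRing R] [HenselianLocalRing R] {X : Scheme.{u}}
    (f : X ⟶ Spec (CommRingCat.of R)) [Etale f] [IsSeparated f] (x : X)
    (hx : f.base x = IsLocalRing.closedPoint R) :
    ∃ W : X.Opens, IsClosed (W : Set X) ∧ IsFinite (W.ι ≫ f) ∧ x ∈ W ∧ ∀ y ∈ W, y ⤳ x := by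
  haveI := locallyQuasiFinite_of_etale f
  obtain ⟨O, hO, hOx⟩ := (isDiscrete_iff_forall_mem_exists_isOpen.mp
    (f.isDiscrete_preimage_singleton (IsLocalRing.closedPoint R))) x hx
  have hxO : x ∈ O := by
    have : x ∈ ({x} : Set X) := rfl
    rw [← hOx] at this
    exact this.1
  obtain ⟨V, hV, hxV, hVO⟩ : ∃ V : X.Opens, IsAffineOpen V ∧ x ∈ V ∧ (V : Set X) ⊆ O := by
    obtain ⟨_, ⟨V, hV, rfl⟩, hxV, hVO⟩ := X.isBasis_affineOpens.exists_subset_of_mem_open hxO hO
    exact ⟨V, hV, hxV, hVO⟩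
  haveI : IsAffine V := hV
  let g : (V : Scheme.{u}) ⟶ Spec (CommRingCat.of R) := V.ι ≫ f
  haveI : Etale g := inferInstanceAs (Etale (V.ι ≫ f))
  haveI : IsSeparated g := inferInstanceAs (IsSeparated (V.ι ≫ f))
  haveI : LocallyQuasiFinite g := locallyQuasiFinite_of_etale g
  haveI : QuasiCompact g := inferInstance
  obtain ⟨W₀, hW₀c, hW₀f, hW₀x⟩ := exists_clopen_finite_local R g
  have hW₀f' : IsFinite ((W₀.ι ≫ V.ι) ≫ f) := by
    rw [Category.assoc]; exact hW₀f
  have hprop : IsProper (W₀.ι ≫ V.ι) := by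
    haveI := hW₀f'
    exact IsProper.of_comp (W₀.ι ≫ V.ι) f
  refine ⟨V.ι ''ᵁ W₀, ?_, ?_, ?_, ?_⟩
  · have : ((V.ι ''ᵁ W₀ : X.Opens) : Set X) = Set.range (W₀.ι ≫ V.ι).base := by
      rw [Scheme.Hom.comp_base, TopCat.coe_comp, Set.range_comp, Scheme.Opens.range_ι]
      rfl
    rw [this]
    exact (W₀.ι ≫ V.ι).isClosedMap.isClosed_range
  · rw [← Scheme.Hom.isoImage_inv_ι_assoc]
    haveI := hW₀f
    exact inferInstanceAs (IsFinite ((V.ι.isoImage W₀).inv ≫ W₀.ι ≫ V.ι ≫ f))
  · exact ⟨⟨x, hxV⟩, hW₀x ⟨x, hxV⟩ hx, rfl⟩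
  · intro y hy
    -- the closed subset `closure {y}` of `W`
    set W : X.Opens := V.ι ''ᵁ W₀ with hWdef
    have hWf : IsFinite (W.ι ≫ f) := by
      rw [hWdef, ← Scheme.Hom.isoImage_inv_ι_assoc]
      haveI := hW₀f
      exact inferInstanceAs (IsFinite ((V.ι.isoImage W₀).inv ≫ W₀.ι ≫ V.ι ≫ f))
    have hDc : IsClosed (W.ι.base ⁻¹' (closure {y})) := isClosed_closure.preimage W.ι.continuous
    have himg : IsClosed ((W.ι ≫ f).base '' (W.ι.base ⁻¹' (closure {y}))) :=
      (W.ι ≫ f).isClosedMap _ hDc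
    have hne : ((W.ι ≫ f).base '' (W.ι.base ⁻¹' (closure {y}))).Nonempty :=
      ⟨_, ⟨⟨y, hy⟩, subset_closure rfl, rfl⟩⟩
    obtain ⟨d, hd, hdc⟩ := closedPoint_mem_of_isClosed
      (R := R) ((W.ι ≫ f).base '' (W.ι.base ⁻¹' (closure {y}))) himg hne
    have hdV : (W.ι.base d) ∈ V := by
      obtain ⟨w, -, hw⟩ := d.2
      have : W.ι.base d = d.1 := rfl
      rw [this, ← hw]; exact w.2
    have hdx : W.ι.base d = x := by
      have : W.ι.base d ∈ ({x} : Set X) := by
        rw [← hOx]; exact ⟨hVO hdV, hdc⟩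
      exact this
    rw [specializes_iff_mem_closure, ← hdx]
    exact hd

end Groth.Agent.Lib.Helper89.HensTw
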