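import Mathlib
import Groth.Agent.Lib.Helper89.HensTw1
import Groth.Agent.S19144

/-!
# Étale separated schemes over a henselian local ring: structure
-/

set_option autoImplicit false
set_option linter.style.haveILetI false
universe u
open AlgebraicGeometry CategoryTheory CategoryTheory.Limits MorphismProperty

namespace Groth.Agent.Lib.Helper89.HensTw

open Groth.Agent.Lib.Helper89.HensZMT

theorem part1 (R : Type u) [CommRing R] [HenselianLocalRing R] {X : Scheme.{u}}
    (f : X ⟶ Spec (CommRingCat.of R)) [Etale f] [IsSeparated f] (x : X)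
    (hx : f.base x = IsLocalRing.closedPoint R) :
    IsOpenImmersion (X.fromSpecStalk x) ∧ IsClosedImmersion (X.fromSpecStalk x) ∧
      IsFinite (X.fromSpecStalk x ≫ f) ∧ Etale (X.fromSpecStalk x ≫ f) ∧
      Surjective (X.fromSpecStalk x ≫ f) := by
  obtain ⟨W, hWc, hWf, hxW, hspec⟩ := exists_local_piece R f x hx
  haveI := hWf
  have hW : IsAffineOpen W := isAffine_of_isAffineHom (W.ι ≫ f)
  haveI := isIso_germ W hW x hxW hspec
  have heq : X.fromSpecStalk x = Spec.map (X.presheaf.germ W x hxW) ≫ hW.fromSpec := by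
    rw [← hW.fromSpecStalk_eq_fromSpecStalk hxW]; rfl
  have hoi : IsOpenImmersion (X.fromSpecStalk x) := by rw [heq]; infer_instance
  have hrange : Set.range (X.fromSpecStalk x).base = (W : Set X) := by
    have h1 : Set.range (X.fromSpecStalk x).base = { y | y ⤳ x } := Scheme.range_fromSpecStalk
    rw [h1]
    ext y
    exact ⟨fun h => h.mem_open W.isOpen hxW, fun h => hspec y h⟩
  have hci : IsClosedImmersion (X.fromSpecStalk x) :=
    IsClosedImmersion.of_isPreimmersion _ (by
      have : Set.range (X.fromSpecStalk x) = (W : Set X) := hrange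
      rw [this]; exact hWc)
  have hfin : IsFinite (X.fromSpecStalk x ≫ f) := by
    rw [heq, ← hW.isoSpec_inv_ι, Category.assoc, Category.assoc]
    exact inferInstanceAs (IsFinite (Spec.map (X.presheaf.germ W x hxW) ≫ hW.isoSpec.inv ≫ W.ι ≫ f))
  have het : Etale (X.fromSpecStalk x ≫ f) := by haveI := hoi; infer_instance
  refine ⟨hoi, hci, hfin, het, ⟨?_⟩⟩
  haveI := het
  have hopen : IsOpen (Set.range (X.fromSpecStalk x ≫ f).base) :=
    (X.fromSpecStalk x ≫ f).isOpenMap.isOpen_range
  have huniv := eq_univ_of_closedPoint_mem (R := R) _ hopen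
    ⟨IsLocalRing.closedPoint _, by
      rw [Scheme.Hom.comp_base, TopCat.comp_app]
      erw [Scheme.fromSpecStalk_closedPoint]
      exact hx⟩
  intro p
  have : p ∈ Set.range (X.fromSpecStalk x ≫ f).base := by rw [huniv]; trivial
  exact this

/-- Points of the closed fibre below a common generalisation are comparable. -/
theorem spec_of (R : Type u) [CommRing R] [HenselianLocalRing R] {X : Scheme.{u}}
    (f : X ⟶ Spec (CommRingCat.of R)) [Etale f] [IsSeparated f] (x x' y : X)
    (hx : f.base x = IsLocalRing.closedPoint R) (hyx : y ⤳ x) (hyx' : y ⤳ x') : x' ⤳ x := by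
  obtain ⟨W, hWc, hWf, hxW, hspec⟩ := exists_local_piece R f x hx
  have hyW : y ∈ W := hyx.mem_open W.isOpen hxW
  have hx'W : x' ∈ (W : Set X) := by
    have h1 : closure {y} ⊆ (W : Set X) := hWc.closure_subset_iff.mpr (by simpa using hyW)
    exact h1 (specializes_iff_mem_closure.mp hyx')
  exact hspec x' hx'W

theorem part2 (R : Type u) [CommRing R] [HenselianLocalRing R] {X : Scheme.{u}}
    (f : X ⟶ Spec (CommRingCat.of R)) [Etale f] [IsSeparated f]
    (hval : ValuativeCriterion.Existence f) (y : X) :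
    ∃! x : X, f.base x = IsLocalRing.closedPoint R ∧
      y ∈ Set.range (X.fromSpecStalk x).base := by
  have hr : ∀ x : X, Set.range (X.fromSpecStalk x).base = { y | y ⤳ x } :=
    fun x => Scheme.range_fromSpecStalk
  have hyc : f.base y ⤳ IsLocalRing.closedPoint R := by
    have h0 : ∀ p : PrimeSpectrum R, p ⤳ IsLocalRing.closedPoint R := by
      intro p
      rw [← PrimeSpectrum.le_iff_specializes]
      exact IsLocalRing.le_maximalIdeal p.2.ne_top
    exact h0 (f.base y)
  obtain ⟨x, hyx, hfx⟩ := ValuativeCriterion.Existence.specializingMap f hval hyc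
  refine ⟨x, ⟨hfx, by rw [hr]; exact hyx⟩, ?_⟩
  rintro x' ⟨hfx', hyx'⟩
  rw [hr] at hyx'
  have h1 : x' ⤳ x := spec_of R f x x' y hfx hyx hyx'
  have h2 : x ⤳ x' := spec_of R f x' x y hfx' hyx' hyx
  exact (h1.antisymm h2).eq

theorem main (R : Type u) [CommRing R] [HenselianLocalRing R]
    (X : Over (Spec (CommRingCat.of R))) (hX : TwC.IsTwConst TwC.Topology.etale X) :
    (∀ x : X.left, X.hom.base x = IsLocalRing.closedPoint R →
      IsOpenImmersion (X.left.fromSpecStalk x) ∧ IsClosedImmersion (X.left.fromSpecStalk x) ∧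
        IsFinite (X.left.fromSpecStalk x ≫ X.hom) ∧ Etale (X.left.fromSpecStalk x ≫ X.hom) ∧
        Surjective (X.left.fromSpecStalk x ≫ X.hom)) ∧
    (∀ y : X.left, ∃! x : X.left, X.hom.base x = IsLocalRing.closedPoint R ∧
      y ∈ Set.range (X.left.fromSpecStalk x).base) ∧
    (∀ σ₁ σ₂ : Spec (CommRingCat.of R) ⟶ X.left, σ₁ ≫ X.hom = 𝟙 _ → σ₂ ≫ X.hom = 𝟙 _ →
      Spec.map (CommRingCat.ofHom (IsLocalRing.residue R)) ≫ σ₁ = Spec.map (CommRingCat.ofHom (IsLocalRing.residue R)) ≫ σ₂ → σ₁ = σ₂) ∧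
    (∀ τ : Spec (CommRingCat.of (IsLocalRing.ResidueField R)) ⟶ X.left,
      τ ≫ X.hom = Spec.map (CommRingCat.ofHom (IsLocalRing.residue R)) →
      ∃ σ : Spec (CommRingCat.of R) ⟶ X.left, σ ≫ X.hom = 𝟙 _ ∧ Spec.map (CommRingCat.ofHom (IsLocalRing.residue R)) ≫ σ = τ) := by
  obtain ⟨hsep, het, hval⟩ := Groth.Agent.S19144.result X hX
  haveI := hsep
  haveI := het
  refine ⟨fun x hx => part1 R X.hom x hx,
    fun y => part2 R X.hom (ValuativeCriterion.iff.mp hval).1 y, ?_, ?_⟩
  · intro σ₁ σ₂ h₁ h₂ h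
    apply section_unique R X.hom σ₁ σ₂ h₁ h₂
    have hp : (Spec.map (CommRingCat.ofHom (IsLocalRing.residue R))).base
        (⊥ : PrimeSpectrum (IsLocalRing.ResidueField R)) = IsLocalRing.closedPoint R :=
      IsLocalRing.PrimeSpectrum.comap_residue _ _
    have := congrArg (fun g => g.base (⊥ : PrimeSpectrum (IsLocalRing.ResidueField R))) h
    simp only [Scheme.Hom.comp_base, TopCat.comp_app] at this
    rw [← hp]
    exact this
  · intro τ hτ
    exact exists_section R X.hom τ hτ

end Groth.Agent.Lib.Helper89.HensTw
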