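import Mathlib
import Groth.Agent.Lib.Helper37.HenselIdem

/-!
# Henselian pairs and Zariski's main theorem: the commutative algebra core

`exists_idem_basicOpen`: let `(A, I)` be a henselian pair, `B` an integral `A`-algebra and `O` an
open subset of `Spec B` such that `O ∩ V(IB)` is closed.  Then there is an idempotent `e` of `B`
with `D(e) ⊆ O` and `D(e) ∩ V(IB) = O ∩ V(IB)`.
-/

set_option autoImplicit false
universe u

namespace Groth.Agent.Lib.Helper89.HensZMT

open PrimeSpectrum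

/-- A closed subset of `Spec B` not meeting `V(J)`, with `J` in the Jacobson radical, is empty. -/
lemma eq_empty_of_inter_zeroLocus_eq_empty {B : Type*} [CommRing B] (J : Ideal B)
    (hJ : J ≤ Ideal.jacobson ⊥) (C : Set (PrimeSpectrum B)) (hC : IsClosed C)
    (h : C ∩ zeroLocus (J : Set B) = ∅) : C = ∅ := by
  obtain ⟨K, rfl⟩ := (isClosed_iff_zeroLocus_ideal _).mp hC
  rw [← zeroLocus_sup, zeroLocus_empty_iff_eq_top] at h
  rw [zeroLocus_empty_iff_eq_top]
  have h1 : (1 : B) ∈ K ⊔ J := by rw [h]; trivial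
  obtain ⟨k, hk, j, hj, hkj⟩ := Submodule.mem_sup.mp h1
  have hu : IsUnit k := by
    have := Ideal.mem_jacobson_bot.mp (hJ hj) (-1)
    have e : j * -1 + 1 = k := by linear_combination (-1 : B) * hkj
    rwa [e] at this
  exact Ideal.eq_top_of_isUnit_mem _ hk hu

theorem exists_idem_basicOpen {A B : Type*} [CommRing A] [CommRing B] [Algebra A B]
    [Algebra.IsIntegral A B] (I : Ideal A) [hI : HenselianRing A I]
    (O : Set (PrimeSpectrum B)) (hO : IsOpen O)
    (hT : IsClosed (O ∩ zeroLocus (I.map (algebraMap A B) : Set B))) :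
    ∃ e : B, IsIdempotentElem e ∧ (basicOpen e : Set (PrimeSpectrum B)) ⊆ O ∧
      (basicOpen e : Set (PrimeSpectrum B)) ∩ zeroLocus (I.map (algebraMap A B) : Set B) =
        O ∩ zeroLocus (I.map (algebraMap A B) : Set B) := by
  set J : Ideal B := I.map (algebraMap A B) with hJdef
  have hqs : Function.Surjective (Ideal.Quotient.mk J) := Ideal.Quotient.mk_surjective
  have hrange : Set.range (comap (Ideal.Quotient.mk J)) = zeroLocus (J : Set B) := by
    rw [range_comap_of_surjective _ _ hqs, Ideal.mk_ker]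
  -- the clopen subset of `Spec (B/J)`
  have hpre : (comap (Ideal.Quotient.mk J)) ⁻¹' (O ∩ zeroLocus (J : Set B)) =
      (comap (Ideal.Quotient.mk J)) ⁻¹' O := by
    ext p
    simp only [Set.mem_preimage, Set.mem_inter_iff, and_iff_left_iff_imp]
    intro _
    rw [← hrange]; exact Set.mem_range_self p
  have hclopen : IsClopen ((comap (Ideal.Quotient.mk J)) ⁻¹' O) := by
    refine ⟨?_, hO.preimage (continuous_comap (Ideal.Quotient.mk J))⟩
    rw [← hpre]
    exact hT.preimage (continuous_comap (Ideal.Quotient.mk J))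
  obtain ⟨ebar, hebar, hebarO⟩ := PrimeSpectrum.isClopen_iff.mp hclopen
  obtain ⟨b, rfl⟩ := hqs ebar
  have hb : b * b - b ∈ J := by
    rw [← Ideal.Quotient.eq_zero_iff_mem, map_sub, map_mul, hebar.eq, sub_self]
  obtain ⟨e, he, heb⟩ := Groth.Agent.Lib.Helper37.exists_idempotent_lift I b hb
  have hqe : Ideal.Quotient.mk J e = Ideal.Quotient.mk J b := by
    rw [← sub_eq_zero, ← map_sub, Ideal.Quotient.eq_zero_iff_mem]; exact heb
  -- on `V(J)`, `D(e)` agrees with `O`
  have hclaim : ∀ p ∈ zeroLocus (J : Set B), p ∈ (basicOpen e : Set (PrimeSpectrum B)) ↔ p ∈ O := by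
    intro p hp
    rw [← hrange] at hp
    obtain ⟨pbar, rfl⟩ := hp
    have h1 : pbar ∈ (comap (Ideal.Quotient.mk J)) ⁻¹' O ↔
        pbar ∈ (basicOpen (Ideal.Quotient.mk J b) : Set _) := by rw [hebarO]
    rw [Set.mem_preimage] at h1
    rw [h1]
    change e ∉ (comap (Ideal.Quotient.mk J) pbar).asIdeal ↔ Ideal.Quotient.mk J b ∉ pbar.asIdeal
    rw [comap_asIdeal, Ideal.mem_comap, hqe]
  have hinter : (basicOpen e : Set (PrimeSpectrum B)) ∩ zeroLocus (J : Set B) =
      O ∩ zeroLocus (J : Set B) := by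
    ext p
    constructor
    · rintro ⟨h1, h2⟩; exact ⟨(hclaim p h2).mp h1, h2⟩
    · rintro ⟨h1, h2⟩; exact ⟨(hclaim p h2).mpr h1, h2⟩
  refine ⟨e, he, ?_, hinter⟩
  -- `D(e) ⊆ O`
  have hDclosed : IsClosed (basicOpen e : Set (PrimeSpectrum B)) :=
    (PrimeSpectrum.isClopen_iff.mpr ⟨e, he, rfl⟩).isClosed
  have hCclosed : IsClosed ((basicOpen e : Set (PrimeSpectrum B)) ∩ Oᶜ) :=
    hDclosed.inter hO.isClosed_compl
  have hCempty : ((basicOpen e : Set (PrimeSpectrum B)) ∩ Oᶜ) ∩ zeroLocus (J : Set B) = ∅ := by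
    rw [Set.eq_empty_iff_forall_notMem]
    rintro p ⟨⟨h1, h2⟩, h3⟩
    exact h2 ((hclaim p h3).mp h1)
  have hJjac : J ≤ Ideal.jacobson ⊥ :=
    Groth.Agent.Lib.Helper37.map_le_jacobson_of_isIntegral hI.jac
  have := eq_empty_of_inter_zeroLocus_eq_empty J hJjac _ hCclosed hCempty
  intro p hp
  by_contra hpO
  have : p ∈ ((basicOpen e : Set (PrimeSpectrum B)) ∩ Oᶜ) := ⟨hp, hpO⟩
  rw [‹(basicOpen e : Set (PrimeSpectrum B)) ∩ Oᶜ = ∅›] at this
  exact this

end Groth.Agent.Lib.Helper89.HensZMT
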