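import Groth.Agent.Lib.Helper89.HensZMT

/-!
# Henselian pairs and Zariski's main theorem: the finite part splits off

`exists_clopen_finite`: `(A, I)` a henselian pair, `f : X ⟶ Spec A` quasi-finite, separated, with
finite base change to `Spec (A/I)`.  Then there is an open and closed `W ⊆ X`, finite over
`Spec A`, containing all points over `V(I)`.
-/

set_option autoImplicit false
set_option linter.style.haveILetI false
universe u
open AlgebraicGeometry CategoryTheory CategoryTheory.Limits MorphismProperty

namespace Groth.Agent.Lib.Helper89.HensZMT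

/-- Étale morphisms are locally quasi-finite. -/
theorem locallyQuasiFinite_of_etale {X Y : Scheme.{u}} (f : X ⟶ Y) [Etale f] :
    LocallyQuasiFinite f := by
  rw [HasRingHomProperty.iff_appLE (P := @LocallyQuasiFinite)]
  intro U V hUV
  have h1 : RingHom.Etale (f.appLE U V hUV).hom :=
    HasRingHomProperty.appLE (P := @Etale) f inferInstance U V hUV
  algebraize [(f.appLE U V hUV).hom]
  have : Algebra.Etale Γ(Y, U) Γ(X, V) := RingHom.etale_algebraMap.1 h1
  have : Algebra.QuasiFinite Γ(Y, U) Γ(X, V) := inferInstance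
  exact RingHom.quasiFinite_algebraMap.2 this

/-- Zariski's main theorem over an affine base, in the form: a quasi-finite separated morphism to
`Spec A` factors as an open immersion into `Spec B` with `B` integral over `A`. -/
theorem exists_factor_spec {A : CommRingCat.{u}} {X : Scheme.{u}} (f : X ⟶ Spec A)
    [LocallyQuasiFinite f] [LocallyOfFiniteType f] [QuasiCompact f] [IsSeparated f] :
    ∃ (B : CommRingCat.{u}) (j : X ⟶ Spec B) (ψ : A ⟶ B),
      IsOpenImmersion j ∧ ψ.hom.IsIntegral ∧ j ≫ Spec.map ψ = f := by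
  haveI : IsAffine f.normalization := isAffine_of_isAffineHom f.fromNormalization
  refine ⟨Γ(f.normalization, ⊤), f.toNormalization ≫ f.normalization.isoSpec.hom,
    Spec.preimage (f.normalization.isoSpec.inv ≫ f.fromNormalization), inferInstance, ?_, ?_⟩
  · rw [← IsIntegralHom.SpecMap_iff, Spec.map_preimage]
    infer_instance
  · rw [Spec.map_preimage, Category.assoc, Iso.hom_inv_id_assoc,
      Scheme.Hom.toNormalization_fromNormalization]

/-- The range of `Spec (A/I) ⟶ Spec A`. -/
lemma range_specMap_quotient {A : Type u} [CommRing A] (I : Ideal A) :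
    Set.range (Spec.map (CommRingCat.ofHom (Ideal.Quotient.mk I))).base =
      {p : PrimeSpectrum A | I ≤ p.asIdeal} := by
  have h1 : Set.range (PrimeSpectrum.comap (Ideal.Quotient.mk I)) =
      PrimeSpectrum.zeroLocus (I : Set A) := by
    rw [range_comap_of_surjective _ _ Ideal.Quotient.mk_surjective, Ideal.mk_ker]
  ext p
  constructor
  · rintro ⟨q, rfl⟩
    have : PrimeSpectrum.comap (Ideal.Quotient.mk I) q ∈ PrimeSpectrum.zeroLocus (I : Set A) := by
      rw [← h1]; exact Set.mem_range_self q
    exact (PrimeSpectrum.mem_zeroLocus _ _).mp this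
  · intro hp
    have : p ∈ PrimeSpectrum.zeroLocus (I : Set A) := (PrimeSpectrum.mem_zeroLocus _ _).mpr hp
    rw [← h1] at this
    obtain ⟨q, rfl⟩ := this
    exact ⟨q, rfl⟩

theorem exists_clopen_finite {A : Type u} [CommRing A] (I : Ideal A) [HenselianRing A I]
    {X : Scheme.{u}} (f : X ⟶ Spec (CommRingCat.of A))
    [LocallyQuasiFinite f] [LocallyOfFiniteType f] [QuasiCompact f] [IsSeparated f]
    (hfin : IsFinite (pullback.snd f (Spec.map (CommRingCat.ofHom (Ideal.Quotient.mk I))))) :
    ∃ W : X.Opens, IsClosed (W : Set X) ∧ IsFinite (W.ι ≫ f) ∧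
      ∀ x : X, I ≤ (f.base x : PrimeSpectrum A).asIdeal → x ∈ W := by
  obtain ⟨B, j, ψ, hj, hψ, hjψ⟩ := exists_factor_spec f
  algebraize [ψ.hom]
  have hbase : ∀ x : X, PrimeSpectrum.comap ψ.hom (j.base x) = f.base x := by
    intro x
    rw [← hjψ]
    rfl
  have hmemV : ∀ p : PrimeSpectrum B,
      p ∈ PrimeSpectrum.zeroLocus (I.map (algebraMap A B) : Set B) ↔
        I ≤ (PrimeSpectrum.comap ψ.hom p).asIdeal := by
    intro p
    rw [PrimeSpectrum.mem_zeroLocus, SetLike.coe_subset_coe, Ideal.map_le_iff_le_comap]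
    rfl
  -- `T` is closed
  have hTeq : ((Set.range j.base : Set (PrimeSpectrum B)) ∩
      PrimeSpectrum.zeroLocus (I.map (algebraMap A B) : Set B)) =
      Set.range (pullback.fst f (Spec.map (CommRingCat.ofHom (Ideal.Quotient.mk I))) ≫ j).base := by
    ext p
    constructor
    · rintro ⟨⟨x, rfl⟩, hp⟩
      have hp' := (hmemV _).mp hp
      rw [hbase] at hp'
      have hx : x ∈ Set.range (pullback.fst f
          (Spec.map (CommRingCat.ofHom (Ideal.Quotient.mk I)))).base := by
        rw [Scheme.Pullback.range_fst, Set.mem_preimage, range_specMap_quotient]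
        exact hp'
      obtain ⟨z, rfl⟩ := hx
      exact ⟨z, rfl⟩
    · rintro ⟨z, rfl⟩
      refine ⟨⟨(pullback.fst f (Spec.map (CommRingCat.ofHom (Ideal.Quotient.mk I)))).base z, rfl⟩,
        ?_⟩
      have h1 : (pullback.fst f (Spec.map (CommRingCat.ofHom (Ideal.Quotient.mk I)))).base z ∈
          f.base ⁻¹' Set.range (Spec.map (CommRingCat.ofHom (Ideal.Quotient.mk I))).base := by
        rw [← Scheme.Pullback.range_fst]; exact Set.mem_range_self z
      rw [Set.mem_preimage, range_specMap_quotient] at h1
      have h2 := hbase ((pullback.fst f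
        (Spec.map (CommRingCat.ofHom (Ideal.Quotient.mk I)))).base z)
      refine (hmemV _).mpr ?_
      change I ≤ (PrimeSpectrum.comap ψ.hom (j.base ((pullback.fst f
        (Spec.map (CommRingCat.ofHom (Ideal.Quotient.mk I)))).base z))).asIdeal
      rw [h2]
      exact h1
  have hT : IsClosed ((Set.range j.base : Set (PrimeSpectrum B)) ∩
      PrimeSpectrum.zeroLocus (I.map (algebraMap A B) : Set B)) := by
    rw [hTeq]
    haveI := hfin
    haveI : IsClosedImmersion (Spec.map (CommRingCat.ofHom (Ideal.Quotient.mk I))) :=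
      IsClosedImmersion.spec_of_surjective _ Ideal.Quotient.mk_surjective
    haveI : IsFinite (pullback.snd f (Spec.map (CommRingCat.ofHom (Ideal.Quotient.mk I))) ≫
        Spec.map (CommRingCat.ofHom (Ideal.Quotient.mk I))) := inferInstance
    haveI : UniversallyClosed ((pullback.fst f
        (Spec.map (CommRingCat.ofHom (Ideal.Quotient.mk I))) ≫ j) ≫ Spec.map ψ) := by
      rw [Category.assoc, hjψ, pullback.condition]
      infer_instance
    haveI : UniversallyClosed (pullback.fst f
        (Spec.map (CommRingCat.ofHom (Ideal.Quotient.mk I))) ≫ j) :=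
      UniversallyClosed.of_comp_of_isSeparated _ (Spec.map ψ)
    exact (pullback.fst f
      (Spec.map (CommRingCat.ofHom (Ideal.Quotient.mk I))) ≫ j).isClosedMap.isClosed_range
  obtain ⟨e, he, heO, heT⟩ := exists_idem_basicOpen (A := A) (B := B) I
    (Set.range j.base : Set (PrimeSpectrum B)) j.isOpenEmbedding.isOpen_range hT
  have hDclopen : IsClopen (PrimeSpectrum.basicOpen e : Set (PrimeSpectrum B)) :=
    PrimeSpectrum.isClopen_iff.mpr ⟨e, he, rfl⟩
  refine ⟨⟨j.base ⁻¹' (PrimeSpectrum.basicOpen e : Set (PrimeSpectrum B)),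
    hDclopen.isOpen.preimage j.continuous⟩, hDclopen.isClosed.preimage j.continuous, ?_, ?_⟩
  · -- finiteness
    set W : X.Opens := ⟨j.base ⁻¹' (PrimeSpectrum.basicOpen e : Set (PrimeSpectrum B)),
      hDclopen.isOpen.preimage j.continuous⟩ with hW
    have hrange : Set.range (W.ι ≫ j).base = (PrimeSpectrum.basicOpen e : Set (PrimeSpectrum B)) := by
      ext p
      constructor
      · rintro ⟨w, rfl⟩
        exact w.2
      · intro hp
        obtain ⟨x, rfl⟩ := heO hp
        exact ⟨⟨x, hp⟩, rfl⟩
    haveI : IsClosedImmersion (W.ι ≫ j) := by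
      rw [IsClosedImmersion.iff_isPreimmersion]
      refine ⟨inferInstance, ?_⟩
      rw [hrange]
      exact hDclopen.isClosed
    haveI : IsIntegralHom (Spec.map ψ) := IsIntegralHom.SpecMap_iff.mpr hψ
    haveI : IsIntegralHom (W.ι ≫ f) := by
      rw [← hjψ, ← Category.assoc]
      infer_instance
    exact (IsFinite.iff_isIntegralHom_and_locallyOfFiniteType _).mpr ⟨inferInstance, inferInstance⟩
  · intro x hx
    have h1 : j.base x ∈ (Set.range j.base : Set (PrimeSpectrum B)) ∩
        PrimeSpectrum.zeroLocus (I.map (algebraMap A B) : Set B) := by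
      refine ⟨Set.mem_range_self x, (hmemV _).mpr ?_⟩
      rw [hbase]
      exact hx
    rw [← heT] at h1
    exact h1.1

end Groth.Agent.Lib.Helper89.HensZMT
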