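import Groth.Agent.Lib.Helper89.HensZMT2

/-!
# Quasi-finite separated schemes over a henselian local ring
-/

set_option autoImplicit false
set_option linter.style.haveILetI false
universe u
open AlgebraicGeometry CategoryTheory CategoryTheory.Limits MorphismProperty

namespace Groth.Agent.Lib.Helper89.HensZMT

/-- A nonempty closed subset of the spectrum of a local ring contains the closed point. -/
lemma closedPoint_mem_of_isClosed {R : Type*} [CommRing R] [IsLocalRing R]
    (C : Set (PrimeSpectrum R)) (hC : IsClosed C) (hne : C.Nonempty) :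
    IsLocalRing.closedPoint R ∈ C := by
  obtain ⟨p, hp⟩ := hne
  have : p ⤳ IsLocalRing.closedPoint R := by
    rw [← PrimeSpectrum.le_iff_specializes]
    exact IsLocalRing.le_maximalIdeal p.2.ne_top
  exact this.mem_closed hC hp

/-- An open subset of the spectrum of a local ring containing the closed point is everything. -/
lemma eq_univ_of_closedPoint_mem {R : Type*} [CommRing R] [IsLocalRing R]
    (O : Set (PrimeSpectrum R)) (hO : IsOpen O) (h : IsLocalRing.closedPoint R ∈ O) :
    O = Set.univ := by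
  rw [Set.eq_univ_iff_forall]
  intro p
  have : p ⤳ IsLocalRing.closedPoint R := by
    rw [← PrimeSpectrum.le_iff_specializes]
    exact IsLocalRing.le_maximalIdeal p.2.ne_top
  exact this.mem_open hO h

theorem exists_clopen_finite_local (R : Type u) [CommRing R] [HenselianLocalRing R]
    {X : Scheme.{u}} (f : X ⟶ Spec (CommRingCat.of R))
    [LocallyQuasiFinite f] [LocallyOfFiniteType f] [QuasiCompact f] [IsSeparated f] :
    ∃ W : X.Opens, IsClosed (W : Set X) ∧ IsFinite (W.ι ≫ f) ∧
      ∀ x : X, f.base x = IsLocalRing.closedPoint R → x ∈ W := by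
  letI : Field (R ⧸ IsLocalRing.maximalIdeal R) := Ideal.Quotient.field _
  haveI : IsLocallyArtinian
      (Spec (CommRingCat.of (R ⧸ IsLocalRing.maximalIdeal R))) :=
    Scheme.isLocallyArtinianScheme_Spec.mpr
      (inferInstanceAs (IsArtinianRing (R ⧸ IsLocalRing.maximalIdeal R)))
  have hfin : IsFinite (pullback.snd f (Spec.map (CommRingCat.ofHom
      (Ideal.Quotient.mk (IsLocalRing.maximalIdeal R))))) :=
    IsFinite.of_locallyQuasiFinite _
  obtain ⟨W, h1, h2, h3⟩ := exists_clopen_finite (IsLocalRing.maximalIdeal R) f hfin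
  refine ⟨W, h1, h2, fun x hx => h3 x ?_⟩
  rw [hx]
  exact le_rfl

theorem clopen_finite_unique (R : Type u) [CommRing R] [IsLocalRing R]
    {X : Scheme.{u}} (f : X ⟶ Spec (CommRingCat.of R)) (W W' : X.Opens)
    (hWf : IsFinite (W.ι ≫ f))
    (h' : ∀ x : X, f.base x = IsLocalRing.closedPoint R → x ∈ W') : W ≤ W' := by
  intro x hxW
  by_contra hxW'
  -- the closed subset `W ∖ W'` of `W`
  have hDc : IsClosed (W.ι.base ⁻¹' ((W' : Set X)ᶜ)) :=
    (W'.isOpen.isClosed_compl).preimage W.ι.continuous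
  have himg : IsClosed ((W.ι ≫ f).base '' (W.ι.base ⁻¹' ((W' : Set X)ᶜ))) :=
    (W.ι ≫ f).isClosedMap _ hDc
  have hne : ((W.ι ≫ f).base '' (W.ι.base ⁻¹' ((W' : Set X)ᶜ))).Nonempty :=
    ⟨_, ⟨⟨x, hxW⟩, hxW', rfl⟩⟩
  obtain ⟨d, hd, hdc⟩ := closedPoint_mem_of_isClosed
    (R := R) ((W.ι ≫ f).base '' (W.ι.base ⁻¹' ((W' : Set X)ᶜ))) himg hne
  exact hd (h' (W.ι.base d) hdc)

end Groth.Agent.Lib.Helper89.HensZMT
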