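import Groth.Agent.Lib.Helper20.ThickAffine2
import Groth.Prelude.Def_OmegaPn

/-!
# Infinitesimal neighbourhoods of a section are finite over the base
-/

set_option autoImplicit false
universe u
open AlgebraicGeometry CategoryTheory CategoryTheory.Limits TopologicalSpace

namespace Groth.Agent.Lib.Helper89.InfNbhdFinite

/-- If `t ≫ h` has ideal `I`, `h` is a closed immersion with ideal containing `I ^ m`, then the ideal
of `t` has vanishing `m`-th power. -/
theorem ker_pow_eq_bot_of_comp {Y Z X : Scheme.{u}} (t : Y ⟶ Z) (h : Z ⟶ X)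
    [IsClosedImmersion h] [QuasiCompact t] (m : ℕ) (hm : (t ≫ h).ker ^ m ≤ h.ker) :
    t.ker ^ m = ⊥ := by
  rw [← le_bot_iff]
  have haff : ∀ W : X.affineOpens, IsAffineOpen (h ⁻¹ᵁ W.1) := fun W => W.2.preimage h
  refine Scheme.IdealSheafData.le_of_iSup_eq_top
    (fun W : X.affineOpens => (⟨h ⁻¹ᵁ W.1, haff W⟩ : Z.affineOpens)) ?_ ?_
  · rw [eq_top_iff]
    intro z _
    obtain ⟨_, ⟨W, hW, rfl⟩, hzW, -⟩ :=
      X.isBasis_affineOpens.exists_subset_of_mem_open (Set.mem_univ (h z)) isOpen_univ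
    exact Opens.mem_iSup.mpr ⟨⟨W, hW⟩, hzW⟩
  · intro W
    change (t.ker.ideal ⟨h ⁻¹ᵁ W.1, haff W⟩) ^ m ≤ ⊥
    rw [Scheme.Hom.ker_apply]
    have hm' := hm W
    change ((t ≫ h).ker.ideal W) ^ m ≤ h.ker.ideal W at hm'
    rw [Scheme.Hom.ker_apply, Scheme.Hom.ker_apply] at hm'
    have hcomp : RingHom.ker ((t ≫ h).app W.1).hom =
        Ideal.comap (h.app W.1).hom (RingHom.ker (t.app (h ⁻¹ᵁ W.1)).hom) := by
      ext x
      rw [Ideal.mem_comap, RingHom.mem_ker, RingHom.mem_ker]
      have : ((t ≫ h).app W.1).hom x = (t.app (h ⁻¹ᵁ W.1)).hom ((h.app W.1).hom x) := by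
        rw [Scheme.Hom.comp_app]; rfl
      constructor
      · intro hx; rw [← this]; exact hx
      · intro hx; rw [this]; exact hx
    rw [hcomp] at hm'
    have hsurj : Function.Surjective (h.app W.1).hom := h.app_surjective W.1 W.2
    rw [← Ideal.map_comap_of_surjective _ hsurj (RingHom.ker (t.app (h ⁻¹ᵁ W.1)).hom),
      ← Ideal.map_pow]
    refine (Ideal.map_mono hm').trans ?_
    rw [Ideal.map_le_iff_le_comap]
    exact le_of_eq rfl

open PrinPart in
theorem isFinite_infNbhd {X Y : Scheme.{u}} (g : X ⟶ Y) [LocallyOfFiniteType g] (f : Y ⟶ X)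
    [IsClosedImmersion f] (hf : f ≫ g = 𝟙 Y) (n : ℕ) :
    IsFinite (infNbhdι f n ≫ g) := by
  have hh : IsClosedImmersion (infNbhdι f n) := by
    unfold infNbhdι; infer_instance
  have htι : toInfNbhd f n ≫ infNbhdι f n = f := toInfNbhd_ι f n
  have ht : IsClosedImmersion (toInfNbhd f n) := by
    have : IsClosedImmersion (toInfNbhd f n ≫ infNbhdι f n) := by rw [htι]; infer_instance
    exact IsClosedImmersion.of_comp_isClosedImmersion (toInfNbhd f n) (infNbhdι f n)
  have hts : Function.Surjective (toInfNbhd f n) := toInfNbhd_surjective f n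
  have hker : (toInfNbhd f n).ker ^ (n + 1) = ⊥ := by
    apply ker_pow_eq_bot_of_comp (toInfNbhd f n) (infNbhdι f n)
    rw [htι]
    unfold infNbhdι
    rw [Scheme.IdealSheafData.ker_subschemeι]
  have hsec : toInfNbhd f n ≫ (infNbhdι f n ≫ g) = 𝟙 Y := by
    rw [← Category.assoc, htι, hf]
  -- affine
  have haff : IsAffineHom (infNbhdι f n ≫ g) := by
    constructor
    intro U hU
    apply Groth.Agent.Lib.Helper20.ThickAffine.isAffineOpen_of_preimage (toInfNbhd f n) hts (n + 1)
    · intro V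
      have h1 : (toInfNbhd f n).ker.ideal V ^ (n + 1) = ((toInfNbhd f n).ker ^ (n + 1)).ideal V :=
        rfl
      rw [h1, hker]; rfl
    · rw [← Scheme.Hom.comp_preimage, hsec]
      exact hU
  -- universally closed
  have huc : UniversallyClosed (infNbhdι f n ≫ g) := by
    have : Surjective (toInfNbhd f n) := ⟨hts⟩
    have : UniversallyClosed (toInfNbhd f n ≫ (infNbhdι f n ≫ g)) := by rw [hsec]; infer_instance
    exact UniversallyClosed.of_comp_surjective (toInfNbhd f n) (infNbhdι f n ≫ g)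
  have hint : IsIntegralHom (infNbhdι f n ≫ g) :=
    IsIntegralHom.iff_universallyClosed_and_isAffineHom.mpr ⟨huc, haff⟩
  rw [IsFinite.iff_isIntegralHom_and_locallyOfFiniteType]
  exact ⟨hint, inferInstance⟩

end Groth.Agent.Lib.Helper89.InfNbhdFinite
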