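import Mathlib.RingTheory.Flat.Equalizer
import Mathlib.RingTheory.TensorProduct.Pi

/-!
# Invariants of a finite family of algebra endomorphisms and flat base change
-/

set_option autoImplicit false
set_option linter.style.haveILetI false

open TensorProduct

namespace Groth.Agent.Lib.Helper89.InvBC

universe u v w

variable {R : Type u} {A : Type v} [CommRing R] [CommRing A] [Algebra R A] {G : Type w}

/-- the invariants of a family of algebra endomorphisms -/
def inv (ρ : G → (A →ₐ[R] A)) : Subalgebra R A :=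
  AlgHom.equalizer (AlgHom.pi (A := fun _ : G => A) ρ)
    (AlgHom.pi (A := fun _ : G => A) (fun _ => AlgHom.id R A))

lemma mem_inv (ρ : G → (A →ₐ[R] A)) (a : A) : a ∈ inv ρ ↔ ∀ g, ρ g a = a := by
  change (fun g => ρ g a) = (fun _ => a) ↔ _
  exact funext_iff

/-- the base change of a family of endomorphisms -/
noncomputable def bc (ρ : G → (A →ₐ[R] A)) (L : Type*) [CommRing L] [Algebra R L] :
    G → (L ⊗[R] A →ₐ[L] L ⊗[R] A) :=
  fun g => Algebra.TensorProduct.map (AlgHom.id L L) (ρ g)

lemma bc_tmul (ρ : G → (A →ₐ[R] A)) (L : Type*) [CommRing L] [Algebra R L] (g : G) (l : L)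
    (a : A) : bc ρ L g (l ⊗ₜ a) = l ⊗ₜ ρ g a := rfl

lemma equalizer_eq_inv_bc [Finite G] (ρ : G → (A →ₐ[R] A)) (L : Type*) [CommRing L]
    [Algebra R L] :
    AlgHom.equalizer
      (Algebra.TensorProduct.map (AlgHom.id L L) (AlgHom.pi (A := fun _ : G => A) ρ))
      (Algebra.TensorProduct.map (AlgHom.id L L)
        (AlgHom.pi (A := fun _ : G => A) (fun _ => AlgHom.id R A))) = inv (bc ρ L) := by
  classical
  haveI := Fintype.ofFinite G
  have key : ∀ (φ : G → (A →ₐ[R] A)) (t : L ⊗[R] A),
      Algebra.TensorProduct.piRight R L L (fun _ : G => A)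
        (Algebra.TensorProduct.map (AlgHom.id L L) (AlgHom.pi (A := fun _ : G => A) φ) t) =
      fun g => bc φ L g t := by
    intro φ t
    induction t using TensorProduct.induction_on with
    | zero => rw [map_zero, map_zero]; funext g; rw [map_zero]; rfl
    | tmul l a => rfl
    | add x y hx hy =>
      rw [map_add, map_add, hx, hy]
      funext g
      simp
  have hid : ∀ (g : G) (t : L ⊗[R] A), bc (fun _ : G => AlgHom.id R A) L g t = t := by
    intro g t
    change Algebra.TensorProduct.map (AlgHom.id L L) (AlgHom.id R A) t = t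
    rw [Algebra.TensorProduct.map_id]
    rfl
  ext t
  rw [AlgHom.mem_equalizer, mem_inv]
  constructor
  · intro h g
    have := congrArg (Algebra.TensorProduct.piRight R L L (fun _ : G => A)) h
    rw [key, key] at this
    have h2 := congrFun this g
    rw [hid] at h2
    exact h2
  · intro h
    apply (Algebra.TensorProduct.piRight R L L (fun _ : G => A)).injective
    rw [key, key]
    funext g
    rw [hid, h g]

/-- flat base change of invariants -/
noncomputable def invBCEquiv [Finite G] (ρ : G → (A →ₐ[R] A)) (L : Type*) [CommRing L]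
    [Algebra R L] [Module.Flat R L] : L ⊗[R] inv ρ ≃ₐ[L] inv (bc ρ L) :=
  (AlgHom.tensorEqualizerEquiv L L (AlgHom.pi (A := fun _ : G => A) ρ)
    (AlgHom.pi (A := fun _ : G => A) (fun _ => AlgHom.id R A))).trans
    (Subalgebra.equivOfEq _ _ (equalizer_eq_inv_bc ρ L))

lemma invBCEquiv_coe [Finite G] (ρ : G → (A →ₐ[R] A)) (L : Type*) [CommRing L]
    [Algebra R L] [Module.Flat R L] (x : L ⊗[R] inv ρ) :
    (invBCEquiv ρ L x : L ⊗[R] A) =
      Algebra.TensorProduct.map (AlgHom.id L L) (inv ρ).val x := by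
  exact AlgHom.coe_tensorEqualizer L L (AlgHom.pi (A := fun _ : G => A) ρ)
    (AlgHom.pi (A := fun _ : G => A) (fun _ => AlgHom.id R A)) x

/-- an invariant element of a flat base change comes from the invariants -/
lemma mem_range_of_mem_inv_bc [Finite G] (ρ : G → (A →ₐ[R] A)) (L : Type*) [CommRing L]
    [Algebra R L] [Module.Flat R L] (t : L ⊗[R] A) (ht : t ∈ inv (bc ρ L)) :
    ∃ x : L ⊗[R] inv ρ, Algebra.TensorProduct.map (AlgHom.id L L) (inv ρ).val x = t := by
  refine ⟨(invBCEquiv ρ L).symm ⟨t, ht⟩, ?_⟩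
  rw [← invBCEquiv_coe, AlgEquiv.apply_symm_apply]

/-- transport of invariants along an isomorphism -/
noncomputable def invCongr {A' : Type*} [CommRing A'] [Algebra R A'] (ρ : G → (A →ₐ[R] A))
    (ρ' : G → (A' →ₐ[R] A')) (e : A ≃ₐ[R] A') (h : ∀ g a, ρ' g (e a) = e (ρ g a)) :
    inv ρ ≃ₐ[R] inv ρ' :=
  AlgEquiv.ofAlgHom
    ((e.toAlgHom.comp (inv ρ).val).codRestrict (inv ρ') (fun x => by
      rw [mem_inv]
      intro g
      change ρ' g (e x.1) = e x.1
      rw [h, (mem_inv ρ x.1).mp x.2 g]))
    ((e.symm.toAlgHom.comp (inv ρ').val).codRestrict (inv ρ) (fun x => by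
      rw [mem_inv]
      intro g
      change ρ g (e.symm x.1) = e.symm x.1
      apply e.injective
      rw [← h, e.apply_symm_apply, (mem_inv ρ' x.1).mp x.2 g]))
    (by
      apply AlgHom.ext
      intro x
      apply Subtype.ext
      change e (e.symm x.1) = x.1
      exact e.apply_symm_apply _)
    (by
      apply AlgHom.ext
      intro x
      apply Subtype.ext
      change e.symm (e x.1) = x.1
      exact e.symm_apply_apply _)

lemma invCongr_coe {A' : Type*} [CommRing A'] [Algebra R A'] (ρ : G → (A →ₐ[R] A))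
    (ρ' : G → (A' →ₐ[R] A')) (e : A ≃ₐ[R] A') (h : ∀ g a, ρ' g (e a) = e (ρ g a))
    (x : inv ρ) : (invCongr ρ ρ' e h x : A') = e x.1 := rfl

end Groth.Agent.Lib.Helper89.InvBC
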