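import Mathlib.RingTheory.PowerSeries.Inverse
import Mathlib.RingTheory.PowerSeries.Exp
import Mathlib.NumberTheory.Bernoulli

/-!
# Low-order coefficients of products / inverses of power series
-/

namespace Groth.Agent.Lib.Helper89

open PowerSeries

section CommRing
variable {R : Type*} [CommRing R] (f g : PowerSeries R)

lemma coeff_zero_mul' : coeff 0 (f * g) = coeff 0 f * coeff 0 g := by
  simp [coeff_mul]

lemma coeff_one_mul' : coeff 1 (f * g) = coeff 0 f * coeff 1 g + coeff 1 f * coeff 0 g := by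
  rw [coeff_mul, Finset.Nat.sum_antidiagonal_eq_sum_range_succ_mk]
  simp [Finset.sum_range_succ]

lemma coeff_two_mul' : coeff 2 (f * g) =
    coeff 0 f * coeff 2 g + coeff 1 f * coeff 1 g + coeff 2 f * coeff 0 g := by
  rw [coeff_mul, Finset.Nat.sum_antidiagonal_eq_sum_range_succ_mk]
  simp [Finset.sum_range_succ]

lemma coeff_three_mul' : coeff 3 (f * g) =
    coeff 0 f * coeff 3 g + coeff 1 f * coeff 2 g + coeff 2 f * coeff 1 g + coeff 3 f * coeff 0 g := by
  rw [coeff_mul, Finset.Nat.sum_antidiagonal_eq_sum_range_succ_mk]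
  simp [Finset.sum_range_succ]

end CommRing

section Field
variable {k : Type*} [Field k] (f : PowerSeries k)

lemma coeff_zero_inv' (h0 : coeff 0 f = 1) : coeff 0 f⁻¹ = 1 := by
  have h : f * f⁻¹ = 1 := PowerSeries.mul_inv_cancel f (by
    rw [← coeff_zero_eq_constantCoeff_apply, h0]; exact one_ne_zero)
  have := congrArg (coeff 0) h
  rw [coeff_zero_mul', h0, one_mul] at this
  simpa using this

lemma coeff_one_inv' (h0 : coeff 0 f = 1) : coeff 1 f⁻¹ = - coeff 1 f := by
  have h : f * f⁻¹ = 1 := PowerSeries.mul_inv_cancel f (by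
    rw [← coeff_zero_eq_constantCoeff_apply, h0]; exact one_ne_zero)
  have := congrArg (coeff 1) h
  rw [coeff_one_mul', h0, coeff_zero_inv' f h0] at this
  simp at this
  linear_combination this

lemma coeff_two_inv' (h0 : coeff 0 f = 1) : coeff 2 f⁻¹ = (coeff 1 f) ^ 2 - coeff 2 f := by
  have h : f * f⁻¹ = 1 := PowerSeries.mul_inv_cancel f (by
    rw [← coeff_zero_eq_constantCoeff_apply, h0]; exact one_ne_zero)
  have := congrArg (coeff 2) h
  rw [coeff_two_mul', h0, coeff_zero_inv' f h0, coeff_one_inv' f h0] at this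
  simp at this
  linear_combination this

lemma coeff_three_inv' (h0 : coeff 0 f = 1) :
    coeff 3 f⁻¹ = - (coeff 1 f) ^ 3 + 2 * coeff 1 f * coeff 2 f - coeff 3 f := by
  have h : f * f⁻¹ = 1 := PowerSeries.mul_inv_cancel f (by
    rw [← coeff_zero_eq_constantCoeff_apply, h0]; exact one_ne_zero)
  have := congrArg (coeff 3) h
  rw [coeff_three_mul', h0, coeff_zero_inv' f h0, coeff_one_inv' f h0, coeff_two_inv' f h0] at this
  simp at this
  linear_combination this

end Field

/-! coefficients of the Bernoulli series -/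

lemma coeff_zero_bernoulli' : coeff 0 (bernoulli'PowerSeries ℚ) = 1 := by
  simp [bernoulli'PowerSeries]

lemma coeff_one_bernoulli' : coeff 1 (bernoulli'PowerSeries ℚ) = 1 / 2 := by
  simp [bernoulli'PowerSeries]

lemma coeff_two_bernoulli' : coeff 2 (bernoulli'PowerSeries ℚ) = 1 / 12 := by
  simp [bernoulli'PowerSeries, Nat.factorial]; norm_num

lemma coeff_three_bernoulli' : coeff 3 (bernoulli'PowerSeries ℚ) = 0 := by
  simp [bernoulli'PowerSeries]

end Groth.Agent.Lib.Helper89
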