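import Mathlib
import Groth.Prelude.Def_FEt
import Groth.Agent.S0243

set_option autoImplicit false
universe u

open CategoryTheory CategoryTheory.Limits AlgebraicGeometry TopologicalSpace Pi1

namespace Groth.Agent.Lib.Helper89.Lef

/-- In a Noetherian local ring, a prime `p` with `dim A/p ≥ 2` not containing `f ∈ m` is contained
in a non-maximal prime containing `f`. -/
theorem exists_prime_of_dim {A : Type u} [CommRing A] [IsNoetherianRing A] [IsLocalRing A]
    (f : A) (hf : f ∈ IsLocalRing.maximalIdeal A) (p : Ideal A) [hp : p.IsPrime]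
    (hdim : (2 : WithBot ℕ∞) ≤ ringKrullDim (A ⧸ p)) :
    ∃ q : Ideal A, q.IsPrime ∧ p ≤ q ∧ f ∈ q ∧ q ≠ IsLocalRing.maximalIdeal A := by
  haveI : Nontrivial (A ⧸ p) := Ideal.Quotient.nontrivial_iff.mpr hp.ne_top
  haveI : IsLocalRing (A ⧸ p) := .of_surjective' _ Ideal.Quotient.mk_surjective
  have hne : Ideal.span {Ideal.Quotient.mk p f} ≠ ⊤ := by
    rw [Ne, Ideal.span_singleton_eq_top]
    intro hu
    have : Ideal.Quotient.mk p f ∈ IsLocalRing.maximalIdeal (A ⧸ p) := by
      have hloc : IsLocalHom (Ideal.Quotient.mk p) :=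
        IsLocalHom.of_surjective _ Ideal.Quotient.mk_surjective
      rw [IsLocalRing.mem_maximalIdeal, mem_nonunits_iff] at hf ⊢
      intro h
      exact hf (hloc.map_nonunit f h)
    exact (IsLocalRing.mem_maximalIdeal _).mp this hu
  obtain ⟨M, hM, hdM⟩ := Ideal.exists_le_maximal _ hne
  obtain ⟨q', hq', -⟩ := Ideal.exists_minimalPrimes_le
    (I := Ideal.span {Ideal.Quotient.mk p f}) (J := M) hdM
  have hq'p : q'.IsPrime := hq'.1.1
  have hht : q'.height ≤ 1 :=
    Ideal.height_le_one_of_isPrincipal_of_mem_minimalPrimes _ q' hq'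
  refine ⟨q'.comap (Ideal.Quotient.mk p), inferInstance, ?_, ?_, ?_⟩
  · intro a ha
    rw [Ideal.mem_comap, Ideal.Quotient.eq_zero_iff_mem.mpr ha]
    exact q'.zero_mem
  · exact hq'.1.2 (Ideal.subset_span rfl)
  · intro heq
    have hmax : q' = IsLocalRing.maximalIdeal (A ⧸ p) := by
      refine le_antisymm (IsLocalRing.le_maximalIdeal hq'p.ne_top) ?_
      intro x hx
      obtain ⟨a, rfl⟩ := Ideal.Quotient.mk_surjective x
      have ha : a ∈ IsLocalRing.maximalIdeal A := by
        rw [IsLocalRing.mem_maximalIdeal, mem_nonunits_iff]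
        intro hu
        exact (IsLocalRing.mem_maximalIdeal _).mp hx (hu.map _)
      rw [← heq] at ha
      exact ha
    rw [hmax] at hht
    have h2 : (2 : WithBot ℕ∞) ≤ 1 := hdim.trans (by
      rw [← IsLocalRing.maximalIdeal_height_eq_ringKrullDim]
      exact_mod_cast hht)
    exact absurd h2 (by norm_num)

theorem mem_connectedComponent_of_specializes {T : Type*} [TopologicalSpace T] {x y : T}
    (h : x ⤳ y) : y ∈ connectedComponent x := by
  have h1 : IsPreconnected (closure ({x} : Set T)) := isPreconnected_singleton.closure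
  exact h1.subset_connectedComponent (subset_closure rfl) (specializes_iff_mem_closure.mp h)

section general
variable {X Z : Scheme.{u}} (U U' : X.Opens) (hU' : U' ≤ U) (i : Z ⟶ X) [IsClosedImmersion i]
  (u' : pullback U.ι i ⟶ (U' : Scheme.{u})) (hu' : u' ≫ U'.ι = pullback.fst U.ι i ≫ U.ι)

include hU' hu' in
theorem isClosedImmersion_u' : IsClosedImmersion u' := by
  have h1 : u' ≫ X.homOfLE hU' = pullback.fst U.ι i := by
    rw [← cancel_mono U.ι, Category.assoc, Scheme.homOfLE_ι, hu']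
  have hc : IsClosedImmersion (u' ≫ X.homOfLE hU') := by
    rw [h1]; infer_instance
  exact IsClosedImmersion.of_comp u' (X.homOfLE hU')

include hu' in
theorem exists_u'_eq (x : X) (hxU : x ∈ U) (hxi : x ∈ Set.range i) :
    ∃ (h : x ∈ U') (z : ↥(pullback U.ι i)), u' z = ⟨x, h⟩ := by
  obtain ⟨y, hy⟩ := hxi
  obtain ⟨z, hz1, hz2⟩ := Scheme.Pullback.exists_preimage_pullback (f := U.ι) (g := i)
    ⟨x, hxU⟩ y (by rw [hy]; rfl)
  have h2 : (U'.ι (u' z)) = x := by
    have : (u' ≫ U'.ι) z = (pullback.fst U.ι i ≫ U.ι) z := by rw [hu']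
    rw [Scheme.Hom.comp_apply, Scheme.Hom.comp_apply, hz1] at this
    exact this
  have hx' : x ∈ U' := by
    rw [← h2]
    exact (u' z).2
  exact ⟨hx', z, Subtype.ext h2⟩

end general

theorem restrict_faithful (A : Type u) [CommRing A] [IsNoetherianRing A] [IsLocalRing A] (f : A)
    (hf : f ∈ IsLocalRing.maximalIdeal A)
    (U' : (Spec (CommRingCat.of A)).Opens) (hU' : U' ≤ FEt.puncturedSpec A)
    (u' : pullback (FEt.puncturedSpec A).ι (Spec.map (CommRingCat.ofHom (Ideal.Quotient.mk (Ideal.span {f})))) ⟶ (U' : Scheme.{u}))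
    (hu' : u' ≫ U'.ι = (pullback.fst (FEt.puncturedSpec A).ι (Spec.map (CommRingCat.ofHom (Ideal.Quotient.mk (Ideal.span {f})))) ≫ (FEt.puncturedSpec A).ι))
    (hdim : ∀ p : PrimeSpectrum A, p.asIdeal ∈ minimalPrimes A → p ∈ U' → f ∉ p.asIdeal →
      (2 : WithBot ℕ∞) ≤ ringKrullDim (A ⧸ p.asIdeal)) :
    (FEt.restrict u').Faithful := by
  have hci : IsClosedImmersion (Spec.map (CommRingCat.ofHom (Ideal.Quotient.mk (Ideal.span {f})))) :=
    IsClosedImmersion.spec_of_surjective _ Ideal.Quotient.mk_surjective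
  have hcu : IsClosedImmersion u' := isClosedImmersion_u' _ _ hU' _ u' hu'
  apply Groth.Agent.S0243.result u'
  intro x
  -- the point x as a prime
  let x₀ : PrimeSpectrum A := x.1
  obtain ⟨p, hpmin, hpx⟩ := Ideal.exists_minimalPrimes_le (I := (⊥ : Ideal A)) (J := x₀.asIdeal) bot_le
  have hpp : p.IsPrime := hpmin.1.1
  let P0 : PrimeSpectrum A := ⟨p, hpp⟩
  have hP0x : P0 ⤳ x₀ := (PrimeSpectrum.le_iff_specializes P0 x₀).mp hpx
  have hP0U' : P0 ∈ U' := hP0x.mem_open U'.2 x.2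
  have hP0U : P0 ∈ FEt.puncturedSpec A := hU' hP0U'
  -- find the prime Q
  obtain ⟨Q, hPQ, hfQ, hQU⟩ : ∃ Q : PrimeSpectrum A, P0 ≤ Q ∧ f ∈ Q.asIdeal ∧
      Q ∈ FEt.puncturedSpec A := by
    by_cases hfp : f ∈ p
    · exact ⟨P0, le_rfl, hfp, hP0U⟩
    · obtain ⟨q, hq, hpq, hfq, hqm⟩ := exists_prime_of_dim f hf p (hdim P0 hpmin hP0U' hfp)
      refine ⟨⟨q, hq⟩, hpq, hfq, ?_⟩
      intro h
      apply hqm
      have : (⟨q, hq⟩ : PrimeSpectrum A) = IsLocalRing.closedPoint A := h
      exact congrArg PrimeSpectrum.asIdeal this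
  have hQi : Q ∈ Set.range (Spec.map (CommRingCat.ofHom (Ideal.Quotient.mk (Ideal.span {f})))) := by
    have hr : Set.range (PrimeSpectrum.comap (Ideal.Quotient.mk (Ideal.span {f}))) =
        PrimeSpectrum.zeroLocus (RingHom.ker (Ideal.Quotient.mk (Ideal.span {f}))) :=
      range_comap_of_surjective _ _ Ideal.Quotient.mk_surjective
    have hQ0 : Q ∈ Set.range (PrimeSpectrum.comap (Ideal.Quotient.mk (Ideal.span {f}))) := by
      rw [hr, Ideal.mk_ker, PrimeSpectrum.zeroLocus_span]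
      intro a ha
      rw [Set.mem_singleton_iff] at ha
      rw [ha]
      exact hfQ
    obtain ⟨y, hy⟩ := hQ0
    exact ⟨y, hy⟩
  obtain ⟨hQU', z, hz⟩ := exists_u'_eq _ U' _ u' hu' Q hQU hQi
  refine ⟨u' z, ?_, ⟨z, rfl⟩⟩
  rw [hz]
  let P0' : ↥(U' : Scheme.{u}) := ⟨P0, hP0U'⟩
  let Q' : ↥(U' : Scheme.{u}) := ⟨Q, hQU'⟩
  have h1 : P0' ⤳ x := (subtype_specializes_iff _ _).mpr hP0x
  have h2 : P0' ⤳ Q' :=
    (subtype_specializes_iff _ _).mpr ((PrimeSpectrum.le_iff_specializes P0 Q).mp hPQ)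
  have h3 : connectedComponent P0' = connectedComponent x :=
    connectedComponent_eq (mem_connectedComponent_of_specializes h1)
  have h4 : Q' ∈ connectedComponent P0' := mem_connectedComponent_of_specializes h2
  rw [h3] at h4
  exact h4

end Groth.Agent.Lib.Helper89.Lef
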