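import Mathlib
import Groth.Prelude.Def_Pi1
import Groth.Agent.Lib.Helper7.NormField

/-!
# The generic fibre of the normalization of an integral scheme in a finite extension of its
function field
-/

set_option autoImplicit false
set_option linter.style.haveILetI false
universe u

open CategoryTheory CategoryTheory.Limits AlgebraicGeometry
open Groth.Agent.Lib.Helper7.NormField

namespace Groth.Agent.Lib.Helper89.NGF

section Ring

open scoped nonZeroDivisors

lemma isPushout_of_isIntegral {A B K L : Type u} [CommRing A] [CommRing B] [IsDomain B] [Field K]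
    [Field L] [Algebra A K] [IsFractionRing A K] [Algebra B L] [IsFractionRing B L]
    (f : A →+* B) (φ : K →+* L) (hf : f.IsIntegral)
    (H : φ.comp (algebraMap A K) = (algebraMap B L).comp f) :
    IsPushout (CommRingCat.ofHom f) (CommRingCat.ofHom (algebraMap A K))
      (CommRingCat.ofHom (algebraMap B L)) (CommRingCat.ofHom φ) := by
  have hinj : Function.Injective f := by
    have h1 : Function.Injective (φ.comp (algebraMap A K)) :=
      φ.injective.comp (IsFractionRing.injective A K)
    rw [H] at h1
    exact Function.Injective.of_comp h1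
  algebraize [f]
  haveI : FaithfulSMul A B := (faithfulSMul_iff_algebraMap_injective A B).mpr hinj
  haveI : Algebra.IsIntegral A B := ⟨hf⟩
  haveI : Nontrivial A := RingHom.domain_nontrivial (algebraMap A K)
  haveI : Algebra.IsAlgebraic A B := inferInstance
  haveI h1 : IsLocalization (Algebra.algebraMapSubmonoid B A⁰) L := inferInstance
  haveI : IsLocalization (A⁰.map f) L := h1
  exact CommRingCat.isPushout_of_isLocalization f φ H A⁰

end Ring

section Scheme

variable (X : Scheme.{u}) [IsIntegral X] (L : Type u) [Field L] [Algebra X.functionField L]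

/-- the morphism `Spec L ⟶ X` -/
noncomputable abbrev qL : Spec (CommRingCat.of L) ⟶ X :=
  Spec.map (CommRingCat.ofHom (algebraMap X.functionField L)) ≫ X.fromSpecStalk (genericPoint X)

variable [QuasiCompact (qL X L)] [QuasiSeparated (qL X L)]

local notation "φ" => algebraMap X.functionField L

open IsLocalRing in
/-- the generic fibre of the normalization of `X` in `L` is `Spec L` -/
theorem isPullback_toNormalization [Algebra.IsAlgebraic X.functionField L] :
    IsPullback (qL X L).toNormalization
      (Spec.map (CommRingCat.ofHom (algebraMap X.functionField L)))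
      (qL X L).fromNormalization (X.fromSpecStalk (genericPoint X)) := by
  have hg' : (qL X L) = Spec.map (CommRingCat.ofHom φ) ≫ X.fromSpecStalk (genericPoint X) := rfl
  let p : Spec (CommRingCat.of L) := closedPoint L
  have hgp : (qL X L) p = genericPoint X := by
    rw [hg', Scheme.Hom.comp_apply]
    erw [Spec_closedPoint]
    exact Scheme.fromSpecStalk_closedPoint
  obtain ⟨_, ⟨U, hU, rfl⟩, hξU, -⟩ := X.isBasis_affineOpens.exists_subset_of_mem_open
    (Set.mem_univ (genericPoint X)) isOpen_univ
  have hneU : Nonempty U := ⟨⟨_, hξU⟩⟩
  let U' : (qL X L).normalization.Opens := (qL X L).fromNormalization ⁻¹ᵁ U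
  have hU' : IsAffineOpen U' := hU.preimage (qL X L).fromNormalization
  have hfp : (qL X L).fromNormalization ((qL X L).toNormalization p) = (qL X L) p := by
    rw [← Scheme.Hom.comp_apply, (qL X L).toNormalization_fromNormalization]
  have hpU' : (qL X L).toNormalization p ∈ U' := by
    show (qL X L).fromNormalization ((qL X L).toNormalization p) ∈ U
    rw [hfp, hgp]; exact hξU
  have hneU' : Nonempty U' := ⟨⟨_, hpU'⟩⟩
  have hgen : (qL X L).toNormalization p = genericPoint (qL X L).normalization :=
    toNormalization_eq_genericPoint (qL X L) (Field.toIsField L) p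
  have hgpU : (qL X L) p ∈ U := hgp ▸ hξU
  have hα : (qL X L).app U ≫ ev ((qL X L) ⁻¹ᵁ U) hgpU = X.germToFunctionField U ≫ CommRingCat.ofHom φ := by
    rw [← germ_stalkClosedPointTo_ev (qL X L) U hgpU, germ_stalkClosedPointTo_congr hg' U hgpU]
    exact Scheme.germ_stalkClosedPointTo_Spec_fromSpecStalk (CommRingCat.ofHom φ) U _
  have hβ : (qL X L).fromNormalization.app U ≫ (qL X L).normalization.presheaf.germ U' _ hpU' ≫
      Scheme.stalkClosedPointTo (qL X L).toNormalization = (qL X L).app U ≫ ev ((qL X L) ⁻¹ᵁ U) hgpU := by
    have h1 := Scheme.Hom.germ_stalkMap_assoc (qL X L).fromNormalization U ((qL X L).toNormalization p) hpU'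
      (Scheme.stalkClosedPointTo (qL X L).toNormalization)
    rw [← Scheme.stalkClosedPointTo_comp] at h1
    rw [← germ_stalkClosedPointTo_ev (qL X L) U hgpU]
    exact h1.symm.trans (germ_stalkClosedPointTo_congr (qL X L).toNormalization_fromNormalization U _)
  have hfrA : IsFractionRing Γ(X, U) X.functionField :=
    functionField_isFractionRing_of_isAffineOpen X U hU
  -- the map `B → L`
  let β : Γ((qL X L).normalization, U') ⟶ CommRingCat.of L :=
    (qL X L).normalization.presheaf.germ U' _ hpU' ≫ Scheme.stalkClosedPointTo (qL X L).toNormalization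
  have hcomm : (qL X L).fromNormalization.app U ≫ β = X.germToFunctionField U ≫ CommRingCat.ofHom φ :=
    hβ.trans hα
  have hF : IsField ((qL X L).normalization.presheaf.stalk ((qL X L).toNormalization p)) :=
    isField_stalk_of_eq_genericPoint _ hgen
  have hΨinj : Function.Injective (Scheme.stalkClosedPointTo (qL X L).toNormalization).hom := by
    letI := hF.toField
    exact RingHom.injective _
  have hrange := range_stalkClosedPointTo_toNormalization X L φ (qL X L) hg'
  have hΨsurj : Function.Surjective (Scheme.stalkClosedPointTo (qL X L).toNormalization).hom := by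
    intro z
    have hz : z ∈ Set.range (Scheme.stalkClosedPointTo (qL X L).toNormalization).hom := by
      rw [hrange]
      exact (Algebra.IsIntegral.isIntegral (R := X.functionField) z : IsIntegral X.functionField z)
    exact hz
  letI : Algebra Γ((qL X L).normalization, U') L := β.hom.toAlgebra
  have hβinj : Function.Injective β.hom := by
    have h1 : Function.Injective ((qL X L).normalization.presheaf.germ U' _ hpU').hom :=
      germ_injective_of_isIntegral _ _ _
    exact hΨinj.comp h1
  haveI : FaithfulSMul Γ((qL X L).normalization, U') L :=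
    (faithfulSMul_iff_algebraMap_injective _ _).mpr hβinj
  have hfrB : IsFractionRing Γ((qL X L).normalization, U') L := by
    apply IsFractionRing.of_field
    intro z
    obtain ⟨s, rfl⟩ := hΨsurj z
    obtain ⟨b, d, hd, hs⟩ := exists_germ_fraction U' hU' _ hgen hpU' s
    refine ⟨b, d, ?_⟩
    have hd' : (Scheme.stalkClosedPointTo (qL X L).toNormalization).hom
        (((qL X L).normalization.presheaf.germ U' _ hpU').hom d) ≠ 0 := by
      intro h
      exact hd (hΨinj (h.trans (map_zero _).symm))
    have hs' := congrArg (Scheme.stalkClosedPointTo (qL X L).toNormalization).hom hs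
    rw [map_mul] at hs'
    exact eq_div_of_mul_eq hd' hs'
  -- the pushout of rings
  have hpo := isPushout_of_isIntegral (A := Γ(X, U)) (B := Γ((qL X L).normalization, U'))
    (K := X.functionField) (L := L) ((qL X L).fromNormalization.app U).hom φ
    (IsIntegralHom.isIntegral_app (qL X L).fromNormalization U hU)
    (congr($(hcomm).hom)).symm
  have hleft := isPullback_SpecMap_of_isPushout _ _ _ _ hpo
  have hright : IsPullback (Spec.map ((qL X L).fromNormalization.app U)) hU'.fromSpec hU.fromSpec
      (qL X L).fromNormalization := by
    apply IsOpenImmersion.isPullback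
    · rw [Scheme.Hom.app_eq_appLE]
      exact (IsAffineOpen.SpecMap_appLE_fromSpec (qL X L).fromNormalization hU hU' le_rfl).symm
    · rw [IsAffineOpen.opensRange_fromSpec, IsAffineOpen.opensRange_fromSpec]
  have hpaste := hleft.paste_horiz hright.flip
  have e1 : Spec.map (CommRingCat.ofHom (algebraMap (↑Γ((qL X L).normalization, U')) L)) ≫
      hU'.fromSpec = (qL X L).toNormalization := by
    have h1 : CommRingCat.ofHom (algebraMap (↑Γ((qL X L).normalization, U')) L) = β := rfl
    rw [h1, Spec.map_comp, Category.assoc]
    have h2 : Spec.map ((qL X L).normalization.presheaf.germ U' _ hpU') ≫ hU'.fromSpec =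
        (qL X L).normalization.fromSpecStalk _ := hU'.fromSpecStalk_eq_fromSpecStalk hpU'
    rw [h2]
    exact Scheme.Spec_stalkClosedPointTo_fromSpecStalk _
  have e2 : Spec.map (CommRingCat.ofHom (algebraMap ↑Γ(X, U) ↑X.functionField)) ≫ hU.fromSpec =
      X.fromSpecStalk (genericPoint X) := hU.fromSpecStalk_eq_fromSpecStalk hξU
  rw [e1, e2] at hpaste
  exact hpaste

end Scheme

end Groth.Agent.Lib.Helper89.NGF
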