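import Mathlib
import Groth.Prelude.Def_Pi1
import Groth.Agent.Lib.Helper89.NormalAlg
import Groth.Agent.Lib.Helper89.FEtFF

/-!
# Finite étale covers of normal integral schemes
-/

set_option autoImplicit false
set_option linter.style.haveILetI false
universe u
open AlgebraicGeometry CategoryTheory CategoryTheory.Limits MorphismProperty

namespace Groth.Agent.Lib.Helper89.NormalFEt

/-- Sections of a normal integral scheme over a nonempty affine open form an integrally closed
domain. -/
theorem isIntegrallyClosed_of_isNormalScheme {X : Scheme.{u}} [IsIntegral X]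
    (hX : Pi1.IsNormalScheme X) {V : X.Opens} (hV : IsAffineOpen V) [Nonempty V] :
    IsIntegrallyClosed Γ(X, V) := by
  refine IsIntegrallyClosed.of_localization_maximal fun p _ hp => ?_
  let y : PrimeSpectrum Γ(X, V) := ⟨p, hp.isPrime⟩
  have hy : hV.fromSpec y ∈ V := by
    have := hV.range_fromSpec
    rw [← SetLike.mem_coe, ← this]
    exact Set.mem_range_self y
  letI : Algebra Γ(X, V) (X.presheaf.stalk (hV.fromSpec y)) :=
    TopCat.Presheaf.algebra_section_stalk X.presheaf ⟨hV.fromSpec y, hy⟩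
  haveI : IsLocalization.AtPrime (X.presheaf.stalk (hV.fromSpec y)) p :=
    hV.isLocalization_stalk' y hy
  haveI : IsIntegrallyClosed (X.presheaf.stalk (hV.fromSpec y)) := (hX _).2
  let e := IsLocalization.algEquiv p.primeCompl (X.presheaf.stalk (hV.fromSpec y))
    (Localization.AtPrime p)
  exact IsIntegrallyClosed.of_equiv e.toRingEquiv

/-- On an affine scheme, every clopen subset is the basic open set of an idempotent. -/
theorem exists_idem_of_isClopen {Z : Scheme.{u}} [IsAffine Z] (T : Set Z) (hT : IsClopen T) :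
    ∃ e : Γ(Z, ⊤), IsIdempotentElem e ∧ (Z.basicOpen e : Set Z) = T := by
  have hhomeo : IsHomeomorph Z.toSpecΓ.base := Z.toSpecΓ.homeomorph.isHomeomorph
  let h := Z.toSpecΓ.homeomorph
  have hT' : IsClopen (h.symm ⁻¹' T) := hT.preimage h.symm.continuous
  obtain ⟨e, he, hTe⟩ := PrimeSpectrum.isClopen_iff.mp hT'
  refine ⟨e, he, ?_⟩
  rw [← Scheme.toSpecΓ_preimage_basicOpen]
  ext z
  have h1 : z ∈ T ↔ h z ∈ h.symm ⁻¹' T := by simp
  rw [h1, hTe]
  rfl

/-- An idempotent section over `W` splits `W` into two disjoint opens. -/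
theorem basicOpen_idem_cover {Y : Scheme.{u}} {W : Y.Opens} (b : Γ(Y, W)) (y : Y) (hy : y ∈ W) :
    y ∈ Y.basicOpen b ∨ y ∈ Y.basicOpen (1 - b) := by
  rw [Scheme.mem_basicOpen _ _ y hy, Scheme.mem_basicOpen _ _ y hy]
  have : Y.presheaf.germ W y hy b + Y.presheaf.germ W y hy (1 - b) = 1 := by
    rw [← map_add]; simp
  exact IsLocalRing.isUnit_or_isUnit_of_add_one this

theorem basicOpen_idem_disjoint {Y : Scheme.{u}} {W : Y.Opens} (b : Γ(Y, W))
    (hb : IsIdempotentElem b) : Y.basicOpen b ⊓ Y.basicOpen (1 - b) = ⊥ := by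
  rw [← Scheme.basicOpen_mul]
  have : b * (1 - b) = 0 := by rw [mul_sub, mul_one, hb.eq, sub_self]
  rw [this, Scheme.basicOpen_zero]

section Generic

variable {X : Scheme.{u}} [IsIntegral X]

lemma genericPoint_mem (V : X.Opens) [h : Nonempty V] : genericPoint X ∈ V :=
  ((genericPoint_spec X).mem_open_set_iff V.isOpen).mpr (by simpa using h)

lemma top_le_preimage_fromSpecStalk (V : X.Opens) [Nonempty V] :
    (⊤ : (Spec (X.presheaf.stalk (genericPoint X))).Opens) ≤
      X.fromSpecStalk (genericPoint X) ⁻¹ᵁ V := by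
  intro z _
  have h1 : X.fromSpecStalk (genericPoint X) z ⤳ genericPoint X := by
    have : X.fromSpecStalk (genericPoint X) z ∈
        Set.range (X.fromSpecStalk (genericPoint X)) := Set.mem_range_self z
    rwa [Scheme.range_fromSpecStalk] at this
  exact h1.mem_open V.isOpen (genericPoint_mem V)

/-- The map on sections induced by `Spec K(X) ⟶ X` over `V` is the germ map, up to `ΓSpecIso`. -/
lemma fromSpecStalk_appLE_ΓSpecIso (V : X.Opens) [Nonempty V] :
    (X.fromSpecStalk (genericPoint X)).appLE V ⊤ (top_le_preimage_fromSpecStalk V) ≫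
      (Scheme.ΓSpecIso (X.presheaf.stalk (genericPoint X))).hom =
    X.presheaf.germ V (genericPoint X) (genericPoint_mem V) := by
  rw [Scheme.Hom.appLE, Scheme.fromSpecStalk_app (genericPoint_mem V)]
  simp only [Category.assoc, ← Functor.map_comp]
  have : ((homOfLE le_top).op ≫ (homOfLE (top_le_preimage_fromSpecStalk V)).op :
      Opposite.op (⊤ : (Spec (X.presheaf.stalk (genericPoint X))).Opens) ⟶ Opposite.op ⊤) =
      𝟙 _ := Subsingleton.elim _ _
  rw [this, CategoryTheory.Functor.map_id, Category.id_comp, Iso.inv_hom_id, Category.comp_id]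

end Generic

section Lift

variable {X : Scheme.{u}} [IsIntegral X]

/-- `Γ(X, V)` is integrally closed in `Γ(Spec K(X), ⊤)` for normal integral `X`. -/
lemma fromSpecStalk_appLE_integrallyClosed (hX : Pi1.IsNormalScheme X) {V : X.Opens}
    (hV : IsAffineOpen V) [Nonempty V]
    (k : Γ(Spec (X.presheaf.stalk (genericPoint X)), ⊤))
    (hk : ((X.fromSpecStalk (genericPoint X)).appLE V ⊤
      (top_le_preimage_fromSpecStalk V)).hom.IsIntegralElem k) :
    k ∈ ((X.fromSpecStalk (genericPoint X)).appLE V ⊤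
      (top_le_preimage_fromSpecStalk V)).hom.range := by
  set φ := (X.fromSpecStalk (genericPoint X)).appLE V ⊤ (top_le_preimage_fromSpecStalk V)
    with hφ
  set ψ := (Scheme.ΓSpecIso (X.presheaf.stalk (genericPoint X))) with hψ
  have hcomp : φ ≫ ψ.hom = X.germToFunctionField V := fromSpecStalk_appLE_ΓSpecIso V
  haveI := isIntegrallyClosed_of_isNormalScheme hX hV
  haveI := functionField_isFractionRing_of_isAffineOpen X V hV
  obtain ⟨P, hP, hPk⟩ := hk
  have hint : IsIntegral Γ(X, V) (ψ.hom.hom k : X.functionField) := by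
    refine ⟨P, hP, ?_⟩
    have h1 := congrArg ψ.hom.hom hPk
    rw [Polynomial.hom_eval₂, map_zero] at h1
    have h2 : ψ.hom.hom.comp φ.hom = algebraMap Γ(X, V) X.functionField := by
      rw [RingHom.algebraMap_toAlgebra, ← hcomp]
      rfl
    rw [h2] at h1
    exact h1
  obtain ⟨a, ha⟩ := (IsIntegrallyClosed.isIntegral_iff (R := Γ(X, V))
    (K := X.functionField)).mp hint
  refine ⟨a, ?_⟩
  have hinj : Function.Injective ψ.hom.hom :=
    (ConcreteCategory.bijective_of_isIso ψ.hom).1
  apply hinj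
  rw [← ha, RingHom.algebraMap_toAlgebra, ← hcomp]
  rfl

lemma fromSpecStalk_appLE_injective {V : X.Opens} [Nonempty V] :
    Function.Injective ((X.fromSpecStalk (genericPoint X)).appLE V ⊤
      (top_le_preimage_fromSpecStalk V)).hom := by
  have hcomp := fromSpecStalk_appLE_ΓSpecIso V
  have h1 : Function.Injective (X.presheaf.germ V (genericPoint X) (genericPoint_mem V)).hom :=
    germ_injective_of_isIntegral X _ _
  rw [← hcomp] at h1
  exact Function.Injective.of_comp (f := (Scheme.ΓSpecIso _).hom.hom) h1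

end Lift

section Main

variable {X : Scheme.{u}} [IsIntegral X]

/-- Local form of the main lemma: over an affine open `V` of a normal integral scheme, every
idempotent on the generic fibre of an affine étale `Y ⟶ X` extends to an idempotent over `p⁻¹ V`. -/
theorem exists_idem_lift (hX : Pi1.IsNormalScheme X) {Y Z : Scheme.{u}}
    (p : Y ⟶ X) [IsAffineHom p] [Etale p]
    (j : Z ⟶ Y) (p' : Z ⟶ Spec (X.presheaf.stalk (genericPoint X)))
    (sq : IsPullback j p' p (X.fromSpecStalk (genericPoint X)))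
    {V : X.Opens} (hV : IsAffineOpen V) [Nonempty V]
    (e : Γ(Z, ⊤)) (he : IsIdempotentElem e) :
    ∃ b : Γ(Y, p ⁻¹ᵁ V), IsIdempotentElem b ∧ j ⁻¹ᵁ (Y.basicOpen b) = Z.basicOpen e := by
  have hUST := top_le_preimage_fromSpecStalk V
  have hUSX : p ⁻¹ᵁ V ≤ p ⁻¹ᵁ V := le_rfl
  have hW : IsAffineOpen (p ⁻¹ᵁ V) := hV.preimage p
  have hiso := isIso_pushoutSection_of_isAffineOpen sq hUST hUSX rfl hV (isAffineOpen_top _) hW
  have hpo := (isIso_pushoutSection_iff sq hUST hUSX rfl).mp hiso
  have hUY : j ⁻¹ᵁ (p ⁻¹ᵁ V) ⊓ p' ⁻¹ᵁ ⊤ = ⊤ := by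
    rw [eq_top_iff]
    intro z _
    refine ⟨?_, trivial⟩
    change p (j z) ∈ V
    rw [← Scheme.Hom.comp_apply, sq.w, Scheme.Hom.comp_apply]
    exact hUST trivial
  have hfet : (p.appLE V (p ⁻¹ᵁ V) hUSX).hom.Etale :=
    HasRingHomProperty.appLE (P := @Etale) p inferInstance ⟨V, hV⟩ ⟨p ⁻¹ᵁ V, hW⟩ hUSX
  set e' : Γ(Z, j ⁻¹ᵁ (p ⁻¹ᵁ V) ⊓ p' ⁻¹ᵁ ⊤) := Z.presheaf.map (homOfLE le_top).op e with he'
  have he'idem : IsIdempotentElem e' := he.map _
  obtain ⟨b, hb, hbe⟩ := NormalAlg.exists_idem_lift_of_isPushout _ _ _ _ hpo hfet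
    (fromSpecStalk_appLE_integrallyClosed hX hV) fromSpecStalk_appLE_injective e' he'idem
  refine ⟨b, hb, ?_⟩
  rw [Scheme.preimage_basicOpen]
  have h1 : Z.basicOpen e' = Z.basicOpen e := by
    rw [he', Scheme.basicOpen_res, hUY, top_inf_eq]
  rw [← h1, ← hbe, Scheme.Hom.appLE]
  change _ = Z.basicOpen (Z.presheaf.map _ (j.app (p ⁻¹ᵁ V) b))
  rw [Scheme.basicOpen_res, hUY, top_inf_eq]

end Main

section Global

variable {X : Scheme.{u}} [IsIntegral X]

/-- Points of the generic fibre are dense in an étale `X`-scheme. -/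
lemma exists_generic_mem_of_isOpen {Y Z : Scheme.{u}}
    (p : Y ⟶ X) [Etale p]
    (j : Z ⟶ Y) (p' : Z ⟶ Spec (X.presheaf.stalk (genericPoint X)))
    (sq : IsPullback j p' p (X.fromSpecStalk (genericPoint X)))
    (O : Set Y) (hO : IsOpen O) (hne : O.Nonempty) : ∃ z : Z, j z ∈ O := by
  have hopen : IsOpen (p.base '' O) := p.isOpenMap O hO
  have hne' : (p.base '' O).Nonempty := hne.image _
  have hη : genericPoint X ∈ p.base '' O :=
    ((genericPoint_spec X).mem_open_set_iff hopen).mpr (by simpa using hne')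
  obtain ⟨y, hyO, hy⟩ := hη
  obtain ⟨z, hz1, -⟩ := Scheme.exists_preimage_of_isPullback sq y
    (IsLocalRing.closedPoint (X.presheaf.stalk (genericPoint X)))
    (by rw [Scheme.fromSpecStalk_closedPoint]; exact hy)
  exact ⟨z, by rw [hz1]; exact hyO⟩

/-- Main lemma: clopen subsets of the generic fibre of a finite étale cover of a normal
integral scheme extend to clopen subsets of the cover. -/
theorem exists_isClopen_of_generic (hX : Pi1.IsNormalScheme X) {Y Z : Scheme.{u}}
    (p : Y ⟶ X) [IsAffineHom p] [Etale p]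
    (j : Z ⟶ Y) (p' : Z ⟶ Spec (X.presheaf.stalk (genericPoint X)))
    (sq : IsPullback j p' p (X.fromSpecStalk (genericPoint X)))
    (T : Set Z) (hT : IsClopen T) : ∃ C : Set Y, IsClopen C ∧ j.base ⁻¹' C = T := by
  have : IsAffineHom p' := MorphismProperty.of_isPullback (P := @IsAffineHom) sq inferInstance
  have : IsAffine Z := isAffine_of_isAffineHom p'
  obtain ⟨e, he, heT⟩ := exists_idem_of_isClopen T hT
  have hdisj : ∀ y : Y, y ∈ closure (j.base '' T) → y ∈ closure (j.base '' Tᶜ) → False := by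
    intro y hy1 hy2
    obtain ⟨_, ⟨V, hV : IsAffineOpen V, rfl⟩, hyV, -⟩ :=
      X.isBasis_affineOpens.exists_subset_of_mem_open (Set.mem_univ (p y)) isOpen_univ
    haveI : Nonempty V := ⟨⟨p y, hyV⟩⟩
    obtain ⟨b, hb, hbe⟩ := exists_idem_lift hX p j p' sq hV e he
    have hpre : ∀ z : Z, j z ∈ Y.basicOpen b ↔ z ∈ T := by
      intro z
      rw [← heT]
      change z ∈ j ⁻¹ᵁ (Y.basicOpen b) ↔ _
      rw [hbe]
      rfl
    have hyW : y ∈ p ⁻¹ᵁ V := hyV
    rcases basicOpen_idem_cover b y hyW with h | h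
    · obtain ⟨_, ⟨hz1, ⟨z, hzT, rfl⟩⟩⟩ := mem_closure_iff.mp hy2 _ (Y.basicOpen b).isOpen h
      exact hzT ((hpre z).mp hz1)
    · obtain ⟨_, ⟨hz1, ⟨z, hzT, rfl⟩⟩⟩ := mem_closure_iff.mp hy1 _ (Y.basicOpen (1 - b)).isOpen h
      have hz2 : j z ∈ Y.basicOpen b := (hpre z).mpr hzT
      have : j z ∈ Y.basicOpen b ⊓ Y.basicOpen (1 - b) := ⟨hz2, hz1⟩
      rw [basicOpen_idem_disjoint b hb] at this
      exact this
  have hunion : ∀ y : Y, y ∈ closure (j.base '' T) ∨ y ∈ closure (j.base '' Tᶜ) := by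
    intro y
    have h1 : y ∈ closure (Set.range j.base) := by
      rw [mem_closure_iff]
      intro O hO hyO
      obtain ⟨z, hz⟩ := exists_generic_mem_of_isOpen p j p' sq O hO ⟨y, hyO⟩
      exact ⟨j z, hz, Set.mem_range_self z⟩
    rw [← Set.image_univ, ← Set.union_compl_self T, Set.image_union, closure_union] at h1
    exact h1
  refine ⟨closure (j.base '' T), ⟨isClosed_closure, ?_⟩, ?_⟩
  · have : closure (j.base '' T) = (closure (j.base '' Tᶜ))ᶜ := by
      ext y
      constructor
      · intro h1 h2; exact hdisj y h1 h2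
      · intro h; exact (hunion y).resolve_right h
    rw [this]
    exact isClosed_closure.isOpen_compl
  · ext z
    constructor
    · intro hz
      by_contra hzT
      exact hdisj (j z) hz (subset_closure ⟨z, hzT, rfl⟩)
    · intro hz
      exact subset_closure ⟨z, hz, rfl⟩

end Global

section Restrict

open Groth.Agent.Lib.Helper89.FEtFF

variable {X : Scheme.{u}} [IsIntegral X]

theorem clopenInj_fromSpecStalk :
    ClopenInj (X.fromSpecStalk (genericPoint X)) := by
  intro W W' p p' g' sq hp1 hp2 R hR hpre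
  by_contra hne
  have hne' : (Rᶜ).Nonempty := by
    rw [Set.nonempty_compl]; exact hne
  obtain ⟨z, hz⟩ := exists_generic_mem_of_isOpen p g' p' sq Rᶜ hR.compl.isOpen hne'
  have : z ∈ g'.base ⁻¹' R := by rw [hpre]; trivial
  exact hz this

theorem clopenSurj_fromSpecStalk (hX : Pi1.IsNormalScheme X) :
    ClopenSurj (X.fromSpecStalk (genericPoint X)) := by
  intro W W' p p' g' sq hp1 hp2 T hT
  exact exists_isClopen_of_generic hX p g' p' sq T hT

/-- S0245. -/
theorem restrict_genericPoint_full_faithful (hX : Pi1.IsNormalScheme X) :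
    (FEt.restrict (X.fromSpecStalk (genericPoint X))).Full ∧
    (FEt.restrict (X.fromSpecStalk (genericPoint X))).Faithful :=
  full_faithful_of_clopen _ clopenInj_fromSpecStalk (clopenSurj_fromSpecStalk hX)

end Restrict

end Groth.Agent.Lib.Helper89.NormalFEt
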