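import Mathlib
import Groth.Prelude.Def_Pi1
import Groth.Agent.Lib.Helper89.NormalFEt

/-!
# A normal integral scheme is its own normalization in its function field; a formal criterion for
`normalizationDesc` to be an isomorphism
-/

set_option autoImplicit false
set_option linter.style.haveILetI false
universe u

open CategoryTheory CategoryTheory.Limits AlgebraicGeometry
open Groth.Agent.Lib.Helper89.NormalFEt

namespace Groth.Agent.Lib.Helper89.NGF

section Formal

theorem isIso_normalizationDesc {W Z Y X : Scheme.{u}} (j : Z ⟶ Y) [QuasiCompact j]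
    [QuasiSeparated j] [IsIso j.fromNormalization] (p : Y ⟶ X) [IsIntegralHom p] (q : W ⟶ X)
    [QuasiCompact q] [QuasiSeparated q] (θ : W ≅ Z) (H : q = (θ.hom ≫ j) ≫ p) :
    IsIso (q.normalizationDesc (θ.hom ≫ j) p H) := by
  obtain ⟨δ, hδ⟩ : ∃ δ, δ = q.normalizationDesc (θ.hom ≫ j) p H := ⟨_, rfl⟩
  haveI : IsIntegralHom δ := hδ ▸ inferInstance
  rw [← hδ]
  have h1 : q.toNormalization ≫ δ = θ.hom ≫ j :=
    hδ ▸ q.toNormalization_normalizationDesc _ _ H
  have h2 : δ ≫ p = q.fromNormalization := hδ ▸ q.normalizationDesc_comp _ _ H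
  have Hj : j = (θ.inv ≫ q.toNormalization) ≫ δ := by
    rw [Category.assoc, h1, Iso.inv_hom_id_assoc]
  let γ := j.normalizationDesc (θ.inv ≫ q.toNormalization) δ Hj
  have h3 : j.toNormalization ≫ γ = θ.inv ≫ q.toNormalization :=
    j.toNormalization_normalizationDesc _ _ Hj
  have h4 : γ ≫ δ = j.fromNormalization := j.normalizationDesc_comp _ _ Hj
  have h5 : j ≫ inv j.fromNormalization = j.toNormalization := by
    rw [IsIso.comp_inv_eq, j.toNormalization_fromNormalization]
  refine ⟨inv j.fromNormalization ≫ γ, ?_, ?_⟩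
  · apply Scheme.Hom.normalization.hom_ext q _ _ q.fromNormalization
    · rw [Category.comp_id, reassoc_of% h1, reassoc_of% h5, h3, Iso.hom_inv_id_assoc]
    · rw [← h2]
      simp only [Category.assoc]
      rw [reassoc_of% h4, IsIso.inv_hom_id_assoc]
    · simp
  · rw [Category.assoc, h4, IsIso.inv_hom_id]

end Formal

section Normal

variable {X : Scheme.{u}} [IsIntegral X]

instance quasiCompact_fromSpecStalk_genericPoint :
    QuasiCompact (X.fromSpecStalk (genericPoint X)) := by
  constructor
  intro U _ _
  exact (Set.toFinite _).isCompact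

instance quasiSeparated_fromSpecStalk_genericPoint :
    QuasiSeparated (X.fromSpecStalk (genericPoint X)) := inferInstance

theorem isIso_fromNormalization_fromSpecStalk (hX : Pi1.IsNormalScheme X) :
    IsIso (X.fromSpecStalk (genericPoint X)).fromNormalization := by
  change MorphismProperty.isomorphisms _ _
  apply IsZariskiLocalAtTarget.of_forall_exists_morphismRestrict
    (P := MorphismProperty.isomorphisms _) fun x ↦ ?_
  obtain ⟨_, ⟨U, hU, rfl⟩, hxU, -⟩ := X.isBasis_affineOpens.exists_subset_of_mem_open
    (Set.mem_univ x) isOpen_univ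
  haveI : Nonempty U := ⟨⟨x, hxU⟩⟩
  refine ⟨U, hxU, (isIso_morphismRestrict_iff_isIso_app _ hU).mpr ?_⟩
  rw [Scheme.Hom.fromNormalization_app _ hU]
  letI := ((X.fromSpecStalk (genericPoint X)).app U).hom.toAlgebra
  suffices h : IsIso (CommRingCat.ofHom (algebraMap Γ(X, U)
      (integralClosure Γ(X, U) Γ(Spec (X.presheaf.stalk (genericPoint X)),
        X.fromSpecStalk (genericPoint X) ⁻¹ᵁ U)))) from inferInstance
  rw [ConcreteCategory.isIso_iff_bijective]
  -- the restriction iso
  have hle := top_le_preimage_fromSpecStalk U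
  have he : X.fromSpecStalk (genericPoint X) ⁻¹ᵁ U = ⊤ := top_le_iff.mp hle
  let r := (Spec (X.presheaf.stalk (genericPoint X))).presheaf.map (homOfLE hle).op
  have hr : IsIso r := by
    have : (homOfLE hle).op = (eqToHom he.symm).op := Subsingleton.elim _ _
    show IsIso ((Spec (X.presheaf.stalk (genericPoint X))).presheaf.map (homOfLE hle).op)
    rw [this]
    infer_instance
  have hrinj : Function.Injective r.hom := (ConcreteCategory.bijective_of_isIso r).1
  have happLE : (X.fromSpecStalk (genericPoint X)).appLE U ⊤ hle =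
      (X.fromSpecStalk (genericPoint X)).app U ≫ r := rfl
  have hinj : Function.Injective ((X.fromSpecStalk (genericPoint X)).app U).hom := by
    have h1 := fromSpecStalk_appLE_injective (X := X) (V := U)
    rw [happLE] at h1
    have h2 : Function.Injective (r.hom ∘ ((X.fromSpecStalk (genericPoint X)).app U).hom) := h1
    exact Function.Injective.of_comp h2
  constructor
  · intro a b hab
    apply hinj
    exact congrArg Subtype.val hab
  · rintro ⟨c, hc⟩
    have hc' : ((X.fromSpecStalk (genericPoint X)).appLE U ⊤ hle).hom.IsIntegralElem (r.hom c) := by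
      obtain ⟨P, hP, hPc⟩ := hc
      refine ⟨P, hP, ?_⟩
      have h1 := congrArg r.hom hPc
      rw [Polynomial.hom_eval₂, map_zero] at h1
      exact h1
    obtain ⟨a, ha⟩ := fromSpecStalk_appLE_integrallyClosed hX hU _ hc'
    refine ⟨a, Subtype.ext ?_⟩
    apply hrinj
    exact ha

end Normal

end Groth.Agent.Lib.Helper89.NGF
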