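import Mathlib
import Groth.Prelude.Def_Pi1
import Groth.Prelude.Def_FEt
import Groth.Agent.Lib.Helper89.NGF1
import Groth.Agent.Lib.Helper89.NGF2

set_option autoImplicit false
set_option linter.style.haveILetI false
universe u

open CategoryTheory CategoryTheory.Limits AlgebraicGeometry

namespace Groth.Agent.Lib.Helper89.NGF

variable {X : Scheme.{u}} [IsIntegral X] (L : Type u) [Field L] [Algebra X.functionField L]
  [FiniteDimensional X.functionField L] [QuasiCompact (qL X L)] [QuasiSeparated (qL X L)]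

theorem essImage_of_finite_etale (Y₀ : FEt.Cat (Spec X.functionField))
    (e : Y₀.left ≅ Spec (CommRingCat.of L))
    (he : e.hom ≫ Spec.map (CommRingCat.ofHom (algebraMap X.functionField L)) = Y₀.hom)
    (hEt : Etale (qL X L).fromNormalization) (hFin : IsFinite (qL X L).fromNormalization) :
    (FEt.restrict (X.fromSpecStalk (genericPoint X))).essImage Y₀ := by
  have hpb := isPullback_toNormalization X L
  let Y : FEt.Cat X := MorphismProperty.Over.mk ⊤ (qL X L).fromNormalization ⟨hFin, hEt⟩
  refine ⟨Y, ⟨?_⟩⟩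
  have he' : e.inv ≫ Y₀.hom = Spec.map (CommRingCat.ofHom (algebraMap X.functionField L)) := by
    rw [← he, Iso.inv_hom_id_assoc]
  refine MorphismProperty.Over.isoMk (hpb.isoPullback.symm ≪≫ e.symm) ?_
  show (hpb.isoPullback.symm ≪≫ e.symm).hom ≫ Y₀.hom = pullback.snd _ _
  rw [Iso.trans_hom, Iso.symm_hom, Iso.symm_hom, Category.assoc, he', hpb.isoPullback_inv_snd]

theorem finite_etale_of_essImage (hX : Pi1.IsNormalScheme X) (Y₀ : FEt.Cat (Spec X.functionField))
    (e : Y₀.left ≅ Spec (CommRingCat.of L))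
    (he : e.hom ≫ Spec.map (CommRingCat.ofHom (algebraMap X.functionField L)) = Y₀.hom)
    (h : (FEt.restrict (X.fromSpecStalk (genericPoint X))).essImage Y₀) :
    Etale (qL X L).fromNormalization ∧ IsFinite (qL X L).fromNormalization := by
  obtain ⟨Y, ⟨φi⟩⟩ := h
  have hp1 : IsFinite Y.hom := Y.prop.1
  have hp2 : Etale Y.hom := Y.prop.2
  have he' : e.inv ≫ Y₀.hom = Spec.map (CommRingCat.ofHom (algebraMap X.functionField L)) := by
    rw [← he, Iso.inv_hom_id_assoc]
  haveI := isIso_fromNormalization_fromSpecStalk hX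
  haveI : IsIso (pullback.snd (X.fromSpecStalk (genericPoint X)) Y.hom).fromNormalization := by
    rw [← Scheme.Hom.normalizationPullback_snd]
    infer_instance
  let ψ : Y₀.left ≅ pullback Y.hom (X.fromSpecStalk (genericPoint X)) :=
    (MorphismProperty.Over.forget _ _ _ ⋙ Over.forget _).mapIso φi.symm
  have hψ : ψ.hom ≫ pullback.snd Y.hom (X.fromSpecStalk (genericPoint X)) = Y₀.hom :=
    MorphismProperty.Over.w φi.inv
  let θ : Spec (CommRingCat.of L) ≅ pullback (X.fromSpecStalk (genericPoint X)) Y.hom :=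
    e.symm ≪≫ ψ ≪≫ pullbackSymmetry _ _
  have H : qL X L = (θ.hom ≫ pullback.snd (X.fromSpecStalk (genericPoint X)) Y.hom) ≫ Y.hom := by
    simp only [θ, Iso.trans_hom, Iso.symm_hom, Category.assoc, pullbackSymmetry_hom_comp_snd]
    rw [pullback.condition, reassoc_of% hψ, reassoc_of% he']
  have hiso := isIso_normalizationDesc
    (pullback.snd (X.fromSpecStalk (genericPoint X)) Y.hom) Y.hom (qL X L) θ H
  have hcomp := (qL X L).normalizationDesc_comp _ _ H
  rw [← hcomp]
  exact ⟨inferInstance, inferInstance⟩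

end Groth.Agent.Lib.Helper89.NGF
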