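import Groth.Agent.Lib.Helper89.NormalFEt

/-!
# Restriction of finite étale covers of a normal integral scheme to a nonempty open is fully
faithful
-/

set_option autoImplicit false
set_option linter.style.haveILetI false
universe u
open AlgebraicGeometry CategoryTheory CategoryTheory.Limits MorphismProperty

namespace Groth.Agent.Lib.Helper89.NormalFEt

open Groth.Agent.Lib.Helper89.FEtFF

variable {X : Scheme.{u}} [IsIntegral X]

lemma genericPoint_mem_of_nonempty (U : X.Opens) (hU : (U : Set X).Nonempty) :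
    genericPoint X ∈ U :=
  ((genericPoint_spec X).mem_open_set_iff U.isOpen).mpr (by simpa using hU)

/-- Every nonempty open of an étale `X`-scheme has a point over a given nonempty open `U`,
coming from any pullback along `U.ι`. -/
lemma exists_mem_of_isOpen_of_isPullback (U : X.Opens) (hU : (U : Set X).Nonempty)
    {W W' : Scheme.{u}} (p : W ⟶ X) [Etale p] (p' : W' ⟶ U) (g' : W' ⟶ W)
    (sq : IsPullback g' p' p U.ι) (O : Set W) (hO : IsOpen O) (hne : O.Nonempty) :
    ∃ w' : W', g' w' ∈ O := by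
  have hopen : IsOpen (p.base '' O) := p.isOpenMap O hO
  have hne' : (p.base '' O).Nonempty := hne.image _
  have hη : genericPoint X ∈ p.base '' O :=
    ((genericPoint_spec X).mem_open_set_iff hopen).mpr (by simpa using hne')
  obtain ⟨w, hwO, hw⟩ := hη
  obtain ⟨w', hw1, -⟩ := Scheme.exists_preimage_of_isPullback sq w
    ⟨genericPoint X, genericPoint_mem_of_nonempty U hU⟩ hw
  exact ⟨w', by rw [hw1]; exact hwO⟩

theorem clopenInj_opens_ι (U : X.Opens) (hU : (U : Set X).Nonempty) : ClopenInj U.ι := by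
  intro W W' p p' g' sq hp1 hp2 R hR hpre
  by_contra hne
  have hne' : (Rᶜ).Nonempty := by
    rw [Set.nonempty_compl]; exact hne
  obtain ⟨z, hz⟩ := exists_mem_of_isOpen_of_isPullback U hU p p' g' sq Rᶜ hR.compl.isOpen hne'
  have : z ∈ g'.base ⁻¹' R := by rw [hpre]; trivial
  exact hz this

theorem clopenSurj_opens_ι (hX : Pi1.IsNormalScheme X) (U : X.Opens)
    (hU : (U : Set X).Nonempty) : ClopenSurj U.ι := by
  intro W W' p p' g' sq hp1 hp2 T hT
  have hηU := genericPoint_mem_of_nonempty U hU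
  have hg'o : IsOpenImmersion g' :=
    MorphismProperty.of_isPullback (P := @IsOpenImmersion) sq.flip inferInstance
  have hg'inj : Function.Injective g'.base := g'.isOpenEmbedding.injective
  -- the generic fibre
  obtain ⟨j, hj⟩ : ∃ j : pullback p (X.fromSpecStalk (genericPoint X)) ⟶ W,
    j = pullback.fst _ _ := ⟨_, rfl⟩
  obtain ⟨q, hq⟩ : ∃ q : pullback p (X.fromSpecStalk (genericPoint X)) ⟶ _,
    q = pullback.snd _ _ := ⟨_, rfl⟩
  have sqZ : IsPullback j q p (X.fromSpecStalk (genericPoint X)) := by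
    subst hj hq; exact IsPullback.of_hasPullback _ _
  -- every point of the generic fibre lies in the range of `g'`
  have hrange : ∀ z, ∃ w' : W', g' w' = j z := by
    intro z
    have h1 : p (j z) ∈ U := by
      rw [← Scheme.Hom.comp_apply, sqZ.w, Scheme.Hom.comp_apply]
      have h2 : X.fromSpecStalk (genericPoint X) (q z) ⤳ genericPoint X := by
        have : X.fromSpecStalk (genericPoint X) (q z) ∈
            Set.range (X.fromSpecStalk (genericPoint X)) := Set.mem_range_self _
        rwa [Scheme.range_fromSpecStalk] at this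
      exact h2.mem_open U.isOpen hηU
    obtain ⟨w', hw1, -⟩ := Scheme.exists_preimage_of_isPullback sq (j z) ⟨p (j z), h1⟩ rfl
    exact ⟨w', hw1⟩
  have hTη : IsClopen (j.base ⁻¹' (g'.base '' T)) := by
    refine ⟨?_, (g'.isOpenEmbedding.isOpenMap T hT.isOpen).preimage j.continuous⟩
    have : (j.base ⁻¹' (g'.base '' T))ᶜ = j.base ⁻¹' (g'.base '' Tᶜ) := by
      ext z
      obtain ⟨w', hw'⟩ := hrange z
      simp only [Set.mem_compl_iff, Set.mem_preimage, Set.mem_image]
      constructor
      · intro h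
        refine ⟨w', fun hT' => h ⟨w', hT', hw'⟩, hw'⟩
      · rintro ⟨w'', hw''T, hw''⟩ ⟨w''', hw'''T, hw'''⟩
        have : w'' = w''' := hg'inj (hw''.trans hw'''.symm)
        exact hw''T (this ▸ hw'''T)
    rw [← isOpen_compl_iff, this]
    exact (g'.isOpenEmbedding.isOpenMap _ hT.compl.isOpen).preimage j.continuous
  obtain ⟨C, hC, hCT⟩ := exists_isClopen_of_generic hX p j q sqZ _ hTη
  refine ⟨C, hC, ?_⟩
  have hpreC : IsClopen (g'.base ⁻¹' C) := hC.preimage g'.continuous
  by_contra hne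
  have hD : ((g'.base ⁻¹' C ∩ Tᶜ) ∪ ((g'.base ⁻¹' C)ᶜ ∩ T)).Nonempty := by
    by_contra hempty
    rw [Set.not_nonempty_iff_eq_empty] at hempty
    apply hne
    ext d
    have hd : d ∉ (g'.base ⁻¹' C ∩ Tᶜ) ∪ ((g'.base ⁻¹' C)ᶜ ∩ T) := by
      rw [hempty]; exact Set.notMem_empty d
    simp only [Set.mem_union, Set.mem_inter_iff, Set.mem_compl_iff, not_or, not_and,
      not_not] at hd
    exact ⟨hd.1, fun h => by_contra fun h' => hd.2 h' h⟩
  have hDo : IsOpen ((g'.base ⁻¹' C ∩ Tᶜ) ∪ ((g'.base ⁻¹' C)ᶜ ∩ T)) :=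
    (hpreC.isOpen.inter hT.compl.isOpen).union (hpreC.compl.isOpen.inter hT.isOpen)
  obtain ⟨z, hz⟩ := exists_generic_mem_of_isOpen p j q sqZ _
    (g'.isOpenEmbedding.isOpenMap _ hDo) (hD.image _)
  obtain ⟨d, hdD, hdz⟩ := hz
  have h1 : g' d ∈ C ↔ d ∈ T := by
    rw [hdz]
    have : j z ∈ C ↔ z ∈ j.base ⁻¹' C := Iff.rfl
    rw [this, hCT]
    simp only [Set.mem_preimage, Set.mem_image]
    constructor
    · rintro ⟨d', hd'T, hd'⟩
      have : d' = d := hg'inj (hd'.trans hdz.symm)
      exact this ▸ hd'T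
    · intro hdT
      exact ⟨d, hdT, hdz⟩
  rcases hdD with ⟨h2, h3⟩ | ⟨h2, h3⟩
  · exact h3 (h1.mp h2)
  · exact h2 (h1.mpr h3)

/-- S0244. -/
theorem restrict_open_full_faithful (hX : Pi1.IsNormalScheme X) (U : X.Opens)
    (hU : (U : Set X).Nonempty) : (FEt.restrict U.ι).Full ∧ (FEt.restrict U.ι).Faithful :=
  full_faithful_of_clopen _ (clopenInj_opens_ι U hU) (clopenSurj_opens_ι hX U hU)

end Groth.Agent.Lib.Helper89.NormalFEt
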