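import Groth.Agent.Lib.Helper89.NormalFEt
import Groth.Agent.Lib.Helper89.FEtField
import Groth.Agent.Lib.Helper51.EtaleReduced

/-!
# A connected finite étale cover of a normal integral scheme is integral and normal
-/

set_option autoImplicit false
set_option linter.style.haveILetI false
universe u
open AlgebraicGeometry CategoryTheory CategoryTheory.Limits MorphismProperty

namespace Groth.Agent.Lib.Helper89.NormalFEt

variable {X : Scheme.{u}} [IsIntegral X]

/-- A connected finite étale cover of a normal integral scheme is integral. -/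
theorem isIntegral_of_connected (hX : Pi1.IsNormalScheme X) {Y : Scheme.{u}} (p : Y ⟶ X)
    [IsFinite p] [Etale p] [ConnectedSpace Y] : IsIntegral Y := by
  obtain ⟨j, hj⟩ : ∃ j : pullback p (X.fromSpecStalk (genericPoint X)) ⟶ Y,
    j = pullback.fst _ _ := ⟨_, rfl⟩
  obtain ⟨q, hq⟩ : ∃ q : pullback p (X.fromSpecStalk (genericPoint X)) ⟶ _,
    q = pullback.snd _ _ := ⟨_, rfl⟩
  have sqZ : IsPullback j q p (X.fromSpecStalk (genericPoint X)) := by
    subst hj hq; exact IsPullback.of_hasPullback _ _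
  have hqfin : IsFinite q := MorphismProperty.of_isPullback (P := @IsFinite) sqZ inferInstance
  have hdisc : DiscreteTopology ↥(pullback p (X.fromSpecStalk (genericPoint X))) :=
    FEtField.discreteTopology_of_isFinite (X.presheaf.stalk (genericPoint X)) q
  obtain ⟨z₀, -⟩ := exists_generic_mem_of_isOpen p j q sqZ Set.univ isOpen_univ Set.univ_nonempty
  have hsub : ∀ z, z = z₀ := by
    intro z
    obtain ⟨C, hC, hCT⟩ := exists_isClopen_of_generic hX p j q sqZ {z₀} (isClopen_discrete _)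
    rcases isClopen_iff.mp hC with h | h
    · have : z₀ ∈ j.base ⁻¹' C := by rw [hCT]; rfl
      rw [h] at this
      exact absurd this (Set.notMem_empty _)
    · have : z ∈ j.base ⁻¹' C := by rw [h]; trivial
      rw [hCT] at this
      exact this
  have hξ : ∀ O : Set Y, IsOpen O → O.Nonempty → j z₀ ∈ O := by
    intro O hO hne
    obtain ⟨z, hz⟩ := exists_generic_mem_of_isOpen p j q sqZ O hO hne
    rwa [hsub z] at hz
  haveI : IrreducibleSpace Y :=
    { isPreirreducible_univ := by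
        intro u v hu hv hu' hv'
        refine ⟨j z₀, Set.mem_univ _, hξ u hu ?_, hξ v hv ?_⟩
        · obtain ⟨y, -, hy⟩ := hu'; exact ⟨y, hy⟩
        · obtain ⟨y, -, hy⟩ := hv'; exact ⟨y, hy⟩
      toNonempty := ⟨j z₀⟩ }
  haveI : IsReduced Y := Groth.Agent.Lib.Helper51.isReduced_of_etale p
  exact isIntegral_of_irreducibleSpace_of_isReduced Y

/-- A finite étale cover of a normal integral scheme which is integral, is normal. -/
theorem isNormalScheme_of_isIntegral (hX : Pi1.IsNormalScheme X) {Y : Scheme.{u}} (p : Y ⟶ X)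
    [IsFinite p] [Etale p] [IsIntegral Y] : Pi1.IsNormalScheme Y := by
  intro y
  refine ⟨inferInstance, ?_⟩
  obtain ⟨_, ⟨V, hV : IsAffineOpen V, rfl⟩, hyV, -⟩ :=
    X.isBasis_affineOpens.exists_subset_of_mem_open (Set.mem_univ (p y)) isOpen_univ
  haveI : Nonempty V := ⟨⟨p y, hyV⟩⟩
  have hW : IsAffineOpen (p ⁻¹ᵁ V) := hV.preimage p
  have hyW : y ∈ p ⁻¹ᵁ V := hyV
  haveI : Nonempty (p ⁻¹ᵁ V) := ⟨⟨y, hyW⟩⟩
  have hfet : (p.appLE V (p ⁻¹ᵁ V) le_rfl).hom.Etale :=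
    HasRingHomProperty.appLE (P := @Etale) p inferInstance ⟨V, hV⟩ ⟨p ⁻¹ᵁ V, hW⟩ le_rfl
  have hffin : (p.appLE V (p ⁻¹ᵁ V) le_rfl).hom.Finite := by
    rw [← Scheme.Hom.app_eq_appLE]
    exact IsFinite.finite_app p V hV
  letI : Algebra Γ(X, V) Γ(Y, p ⁻¹ᵁ V) := (p.appLE V (p ⁻¹ᵁ V) le_rfl).hom.toAlgebra
  haveI : Algebra.Etale Γ(X, V) Γ(Y, p ⁻¹ᵁ V) := hfet
  haveI : Module.Finite Γ(X, V) Γ(Y, p ⁻¹ᵁ V) := hffin
  haveI : IsIntegrallyClosed Γ(X, V) := isIntegrallyClosed_of_isNormalScheme hX hV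
  haveI : Algebra.Smooth Γ(X, V) Γ(Y, p ⁻¹ᵁ V) := inferInstance
  haveI : Module.Flat Γ(X, V) Γ(Y, p ⁻¹ᵁ V) := inferInstance
  haveI : IsIntegrallyClosed Γ(Y, p ⁻¹ᵁ V) :=
    NormalAlg.isIntegrallyClosed_of_smooth_of_isAlgebraic Γ(X, V) Γ(Y, p ⁻¹ᵁ V)
  letI : Algebra Γ(Y, p ⁻¹ᵁ V) (Y.presheaf.stalk y) :=
    TopCat.Presheaf.algebra_section_stalk Y.presheaf ⟨y, hyW⟩
  haveI : IsLocalization.AtPrime (Y.presheaf.stalk y) (hW.primeIdealOf ⟨y, hyW⟩).asIdeal :=
    hW.isLocalization_stalk ⟨y, hyW⟩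
  exact isIntegrallyClosed_of_isLocalization (R := Γ(Y, p ⁻¹ᵁ V)) (Y.presheaf.stalk y)
    (hW.primeIdealOf ⟨y, hyW⟩).asIdeal.primeCompl
    (Ideal.primeCompl_le_nonZeroDivisors _)

end Groth.Agent.Lib.Helper89.NormalFEt
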