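import Mathlib

set_option autoImplicit false
universe u

open TensorProduct

namespace Groth.Agent.Lib.Helper89.Pi0

variable (k : Type u) [Field k] (A : Type u) [CommRing A] [Algebra k A]

/-- a finite separable field extension of `k` with a `k`-algebra map to `A` -/
structure SepPt where
  L : Type u
  [field : Field L]
  [alg : Algebra k L]
  [fin : FiniteDimensional k L]
  [sep : Algebra.IsSeparable k L]
  φ : L →ₐ[k] A

attribute [instance] SepPt.field SepPt.alg SepPt.fin SepPt.sep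

variable {k A}

lemma SepPt.injective [Nontrivial A] (P : SepPt k A) : Function.Injective P.φ :=
  P.φ.toRingHom.injective

lemma SepPt.finrank_range [Nontrivial A] (P : SepPt k A) :
    Module.finrank k P.φ.range = Module.finrank k P.L :=
  (AlgEquiv.ofInjective P.φ P.injective).toLinearEquiv.finrank_eq.symm

instance (P : SepPt k A) : Algebra.Etale k P.L := by
  haveI : Algebra.FormallyEtale k P.L := Algebra.FormallyEtale.of_isSeparable k P.L
  haveI : Algebra.FinitePresentation k P.L :=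
    Algebra.FinitePresentation.of_finiteType.mp inferInstance
  exact {}

/-- a map from an étale algebra to a connected ring factors through a finite separable field -/
theorem exists_sepPt_of_etale [Nontrivial A]
    (hid : ∀ e : A, IsIdempotentElem e → e = 0 ∨ e = 1)
    (T : Type u) [CommRing T] [Algebra k T] [Algebra.Etale k T] (ψ : T →ₐ[k] A) :
    ∃ P : SepPt k A, ψ.range ≤ P.φ.range := by
  classical
  obtain ⟨I, _, Ai, _, _, e, hAi⟩ := (Algebra.Etale.iff_exists_algEquiv_prod k T).mp inferInstance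
  haveI : Fintype I := Fintype.ofFinite I
  let ψ' : (Π i, Ai i) →ₐ[k] A := ψ.comp e.symm.toAlgHom
  let ε : I → A := fun i => ψ' (Pi.single i 1)
  have hε : ∀ i, ε i = 0 ∨ ε i = 1 := fun i => by
    apply hid
    show ψ' (Pi.single i 1) * ψ' (Pi.single i 1) = ψ' (Pi.single i 1)
    rw [← map_mul, ← Pi.single_mul, mul_one]
  have hsum : ∑ i, ε i = 1 := by
    show ∑ i, ψ' (Pi.single i 1) = 1
    rw [← map_sum, Finset.univ_sum_single]
    exact map_one ψ'
  obtain ⟨i₀, hi₀⟩ : ∃ i₀, ε i₀ = 1 := by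
    by_contra hcon
    push Not at hcon
    have : ∀ i, ε i = 0 := fun i => (hε i).resolve_right (hcon i)
    rw [Finset.sum_eq_zero (fun i _ => this i)] at hsum
    exact zero_ne_one hsum
  have hsingle : ∀ t' : Π i, Ai i, t' * Pi.single i₀ 1 = Pi.single i₀ (t' i₀) := by
    intro t'
    ext j
    by_cases hj : j = i₀
    · subst hj; simp
    · simp [hj]
  have hψ' : ∀ t' : Π i, Ai i, ψ' t' = ψ' (Pi.single i₀ (t' i₀)) := by
    intro t'
    rw [← hsingle, map_mul]
    show _ = _ * ε i₀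
    rw [hi₀, mul_one]
  let φ : Ai i₀ →ₐ[k] A :=
    { toFun := fun a => ψ' (Pi.single i₀ a)
      map_one' := hi₀
      map_mul' := fun a b => by rw [Pi.single_mul, map_mul]
      map_zero' := by rw [Pi.single_zero, map_zero]
      map_add' := fun a b => by rw [Pi.single_add, map_add]
      commutes' := fun c => by
        have : Pi.single i₀ (algebraMap k (Ai i₀) c) =
            algebraMap k (Π i, Ai i) c * Pi.single i₀ 1 := by
          rw [hsingle]; rfl
        show ψ' _ = _
        rw [this, map_mul, AlgHom.commutes]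
        show _ * ε i₀ = _
        rw [hi₀, mul_one] }
  haveI := (hAi i₀).1
  haveI := (hAi i₀).2
  refine ⟨⟨Ai i₀, φ⟩, ?_⟩
  rintro _ ⟨t, rfl⟩
  refine ⟨(e t) i₀, ?_⟩
  show ψ' (Pi.single i₀ ((e t) i₀)) = ψ t
  rw [← hψ']
  show ψ (e.symm (e t)) = ψ t
  rw [AlgEquiv.symm_apply_apply]

/-- compositum -/
theorem exists_sepPt_sup [Nontrivial A]
    (hid : ∀ e : A, IsIdempotentElem e → e = 0 ∨ e = 1) (P₁ P₂ : SepPt k A) :
    ∃ P : SepPt k A, P₁.φ.range ⊔ P₂.φ.range ≤ P.φ.range := by
  haveI : Algebra.Etale k (P₁.L ⊗[k] P₂.L) := Algebra.Etale.comp k P₁.L _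
  obtain ⟨P, hP⟩ := exists_sepPt_of_etale hid (P₁.L ⊗[k] P₂.L)
    (Algebra.TensorProduct.productMap P₁.φ P₂.φ)
  exact ⟨P, by rwa [Algebra.TensorProduct.productMap_range] at hP⟩

/-- a maximal separable point -/
theorem exists_max_sepPt [Nontrivial A]
    (hid : ∀ e : A, IsIdempotentElem e → e = 0 ∨ e = 1)
    (K : Type u) [Field K] [Algebra k K] [FiniteDimensional k K] (ρ : A →ₐ[k] K) :
    ∃ P₀ : SepPt k A, ∀ P : SepPt k A, P.φ.range ≤ P₀.φ.range := by
  have hbound : ∀ P : SepPt k A, Module.finrank k P.L ≤ Module.finrank k K := fun P =>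
    LinearMap.finrank_le_finrank_of_injective (f := (ρ.comp P.φ).toLinearMap)
      (ρ.comp P.φ).toRingHom.injective
  let S : Set ℕ := {d | ∃ P : SepPt k A, Module.finrank k P.L = d}
  have hne : S.Nonempty := ⟨_, ⟨⟨k, Algebra.ofId k A⟩, rfl⟩⟩
  have hbdd : BddAbove S := ⟨Module.finrank k K, by rintro _ ⟨P, rfl⟩; exact hbound P⟩
  obtain ⟨P₀, hP₀⟩ := Nat.sSup_mem hne hbdd
  refine ⟨P₀, fun P => ?_⟩
  obtain ⟨P', hP'⟩ := exists_sepPt_sup hid P₀ P
  have h1 : P₀.φ.range ≤ P'.φ.range := le_sup_left.trans hP'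
  have h2 : P.φ.range ≤ P'.φ.range := le_sup_right.trans hP'
  have hle : Module.finrank k P'.L ≤ Module.finrank k P₀.L := by
    rw [hP₀]; exact le_csSup hbdd ⟨P', rfl⟩
  haveI : FiniteDimensional k (Subalgebra.toSubmodule P'.φ.range) :=
    Module.Finite.of_surjective (AlgEquiv.ofInjective P'.φ P'.injective).toLinearMap
      (AlgEquiv.ofInjective P'.φ P'.injective).surjective
  have heq : Subalgebra.toSubmodule P₀.φ.range = Subalgebra.toSubmodule P'.φ.range := by
    apply Submodule.eq_of_le_of_finrank_le h1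
    show Module.finrank k P'.φ.range ≤ Module.finrank k P₀.φ.range
    rw [P'.finrank_range, P₀.finrank_range]; exact hle
  have : P₀.φ.range = P'.φ.range := Subalgebra.toSubmodule_injective heq
  rw [this]; exact h2

/-- the universal property of a maximal separable point -/
theorem exists_universal [Nontrivial A]
    (hid : ∀ e : A, IsIdempotentElem e → e = 0 ∨ e = 1)
    (K : Type u) [Field K] [Algebra k K] [FiniteDimensional k K] (ρ : A →ₐ[k] K) :
    ∃ P₀ : SepPt k A, ∀ (T : Type u) [CommRing T] [Algebra k T] [Algebra.Etale k T]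
      (ψ : T →ₐ[k] A), ∃! χ : T →ₐ[k] P₀.L, P₀.φ.comp χ = ψ := by
  obtain ⟨P₀, hP₀⟩ := exists_max_sepPt hid K ρ
  refine ⟨P₀, fun T _ _ _ ψ => ?_⟩
  obtain ⟨P, hP⟩ := exists_sepPt_of_etale hid T ψ
  have hr : ∀ t, ψ t ∈ P₀.φ.range := fun t => hP₀ P (hP ⟨t, rfl⟩)
  let E := AlgEquiv.ofInjective P₀.φ P₀.injective
  refine ⟨E.symm.toAlgHom.comp (ψ.codRestrict P₀.φ.range hr), ?_, ?_⟩
  · ext t
    show P₀.φ (E.symm ⟨ψ t, hr t⟩) = ψ t
    have : (E (E.symm ⟨ψ t, hr t⟩) : A) = ψ t := by rw [AlgEquiv.apply_symm_apply]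
    exact this
  · intro χ' hχ'
    ext t
    apply P₀.injective
    have h1 : P₀.φ (χ' t) = ψ t := congr($hχ' t)
    rw [h1]
    show ψ t = P₀.φ (E.symm ⟨ψ t, hr t⟩)
    have : (E (E.symm ⟨ψ t, hr t⟩) : A) = ψ t := by rw [AlgEquiv.apply_symm_apply]
    exact this.symm

end Groth.Agent.Lib.Helper89.Pi0
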