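import Mathlib
import Groth.Agent.Lib.Helper89.Pi0A
import Groth.Agent.Lib.Helper22.ConnIdem

set_option autoImplicit false
set_option linter.style.haveILetI false
universe u

open CategoryTheory CategoryTheory.Limits AlgebraicGeometry

namespace Groth.Agent.Lib.Helper89.Pi0

variable {C : Scheme.{u}}

/-- the ring map corresponding to a morphism to an affine scheme -/
noncomputable def γ {R : CommRingCat.{u}} (g : C ⟶ Spec R) : R ⟶ Γ(C, ⊤) :=
  (Scheme.ΓSpecIso R).inv ≫ g.appTop

lemma toSpecΓ_γ {R : CommRingCat.{u}} (g : C ⟶ Spec R) : C.toSpecΓ ≫ Spec.map (γ g) = g := by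
  rw [γ, Spec.map_comp, ← Scheme.toSpecΓ_naturality_assoc, toSpecΓ_SpecMap_ΓSpecIso_inv,
    Category.comp_id]

lemma γ_toSpecΓ {R : CommRingCat.{u}} (ψ : R ⟶ Γ(C, ⊤)) : γ (C.toSpecΓ ≫ Spec.map ψ) = ψ := by
  rw [γ, Scheme.Hom.comp_appTop, Scheme.toSpecΓ_appTop, ← Category.assoc,
    ← Scheme.ΓSpecIso_inv_naturality, Category.assoc, Iso.inv_hom_id, Category.comp_id]

lemma γ_comp {R S : CommRingCat.{u}} (g : C ⟶ Spec S) (b : R ⟶ S) :
    γ (g ≫ Spec.map b) = b ≫ γ g := by
  conv_lhs => rw [← toSpecΓ_γ g, Category.assoc, ← Spec.map_comp, γ_toSpecΓ]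

theorem quasiFinite_of_etale {R A : Type u} [CommRing R] [CommRing A] {f : R →+* A}
    (hf : f.Etale) : f.QuasiFinite := by
  algebraize [f]
  have : Algebra.Etale R A := hf
  rw [RingHom.QuasiFinite]
  infer_instance

theorem locallyQuasiFinite_of_etale {X Y : Scheme.{u}} (f : X ⟶ Y)
    [Etale f] : LocallyQuasiFinite f where
  quasiFinite_appLE {U} hU {V} hV e :=
    quasiFinite_of_etale (HasRingHomProperty.appLE @Etale f inferInstance ⟨U, hU⟩ ⟨V, hV⟩ e)

/-- A scheme etale over the spectrum of a field is discrete. -/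
theorem discreteTopology_of_etale_spec_field {F : Scheme.{u}} {κ : Type u} [Field κ]
    (g : F ⟶ Spec (CommRingCat.of κ)) [Etale g] : DiscreteTopology F := by
  haveI := locallyQuasiFinite_of_etale g
  have hdisc := g.isDiscrete_preimage_singleton
    (show ↥(Spec (CommRingCat.of κ)) from IsLocalRing.closedPoint κ)
  have huniv : g ⁻¹' {show ↥(Spec (CommRingCat.of κ)) from IsLocalRing.closedPoint κ} =
      Set.univ := by
    ext x
    simp only [Set.mem_preimage, Set.mem_univ, iff_true]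
    exact Subsingleton.elim (α := PrimeSpectrum κ) _ _
  rw [huniv] at hdisc
  exact isDiscrete_univ_iff.mp hdisc

/-- in a discrete scheme every singleton is an affine open. -/
theorem isAffineOpen_singleton_of_discrete {X : Scheme.{u}} [DiscreteTopology X] (u : X) :
    IsAffineOpen (⟨{u}, isOpen_discrete _⟩ : X.Opens) := by
  obtain ⟨W, hW1, hW2, hW3⟩ := exists_isAffineOpen_mem_and_subset
    (x := u) (U := (⟨{u}, isOpen_discrete _⟩ : X.Opens)) rfl
  have : W = (⟨{u}, isOpen_discrete _⟩ : X.Opens) := by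
    apply TopologicalSpace.Opens.ext
    apply Set.Subset.antisymm hW3
    rintro x (rfl : x = u)
    exact hW2
  rw [← this]; exact hW1

variable {k : Type u} [Field k]

/-- a `k`-point with values in a finite extension -/
theorem exists_rho (fC : C ⟶ Spec (CommRingCat.of k)) [LocallyOfFiniteType fC] [Nonempty C] :
    letI := (γ fC).hom.toAlgebra
    ∃ (K : Type u) (_ : Field K) (_ : Algebra k K) (_ : FiniteDimensional k K),
      Nonempty (Γ(C, ⊤) →ₐ[k] K) := by
  letI := (γ fC).hom.toAlgebra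
  obtain ⟨x⟩ := ‹Nonempty C›
  obtain ⟨W, hW, hxW, -⟩ := exists_isAffineOpen_mem_and_subset (x := x) (U := ⊤) trivial
  let res : Γ(C, ⊤) ⟶ Γ(C, W) := C.presheaf.map (homOfLE (le_top : W ≤ ⊤)).op
  let c : CommRingCat.of k ⟶ Γ(C, W) := γ fC ≫ res
  have hc : c.hom.FiniteType := by
    have h1 : (fC.appLE ⊤ W le_top).hom.FiniteType :=
      HasRingHomProperty.appLE @LocallyOfFiniteType fC inferInstance
        ⟨⊤, isAffineOpen_top _⟩ ⟨W, hW⟩ le_top
    have h2 : ((Scheme.ΓSpecIso (CommRingCat.of k)).inv).hom.FiniteType :=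
      RingHom.FiniteType.of_surjective _
        (ConcreteCategory.bijective_of_isIso (Scheme.ΓSpecIso (CommRingCat.of k)).inv).2
    have : c = (Scheme.ΓSpecIso (CommRingCat.of k)).inv ≫ fC.appLE ⊤ W le_top := by
      simp only [c, γ, res, Scheme.Hom.appLE, Category.assoc]
      rfl
    rw [this]
    exact h1.comp h2
  letI : Algebra k Γ(C, W) := c.hom.toAlgebra
  haveI : Algebra.FiniteType k Γ(C, W) := hc
  haveI : Nonempty W := ⟨⟨x, hxW⟩⟩
  obtain ⟨m, hm⟩ := Ideal.exists_maximal Γ(C, W)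
  letI : Field (Γ(C, W) ⧸ m) := Ideal.Quotient.field m
  haveI : Algebra.FiniteType k (Γ(C, W) ⧸ m) :=
    Algebra.FiniteType.of_surjective (Ideal.Quotient.mkₐ k m) (Ideal.Quotient.mkₐ_surjective k m)
  haveI : Module.Finite k (Γ(C, W) ⧸ m) := finite_of_finite_type_of_isJacobsonRing k _
  refine ⟨Γ(C, W) ⧸ m, inferInstance, inferInstance, inferInstance, ⟨?_⟩⟩
  exact (Ideal.Quotient.mkₐ k m).comp { res.hom with commutes' := fun r => rfl }

end Groth.Agent.Lib.Helper89.Pi0
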