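import Mathlib
import Groth.Agent.Lib.Helper89.Pi0B

set_option autoImplicit false
set_option linter.style.haveILetI false
universe u

open CategoryTheory CategoryTheory.Limits AlgebraicGeometry

namespace Groth.Agent.Lib.Helper89.Pi0

variable {k : Type u} [Field k] {C : Scheme.{u}}

instance subsingleton_spec_field (L : Type u) [Field L] :
    Subsingleton ↥(Spec (CommRingCat.of L)) :=
  inferInstanceAs (Subsingleton (PrimeSpectrum L))

/-- the `π₀` of a connected scheme locally of finite type over a field -/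
theorem exists_pi0_connected (fC : C ⟶ Spec (CommRingCat.of k)) [LocallyOfFiniteType fC]
    [ConnectedSpace C] :
    ∃ (P : Scheme.{u}) (g : P ⟶ Spec (CommRingCat.of k)) (q : C ⟶ P), Etale g ∧ q ≫ g = fC ∧
      Flat q ∧ Subsingleton P ∧
      ∀ (Y : Scheme.{u}) (gY : Y ⟶ Spec (CommRingCat.of k)) (h : C ⟶ Y), Etale gY →
        h ≫ gY = fC → ∃ t : P ⟶ Y, t ≫ gY = g ∧ q ≫ t = h := by
  set a := γ fC with ha
  letI : Algebra k Γ(C, ⊤) := a.hom.toAlgebra
  have hid : ∀ e : Γ(C, ⊤), IsIdempotentElem e → e = 0 ∨ e = 1 :=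
    Groth.Agent.Lib.Helper22.ConnIdem.idem_of_connected C
  obtain ⟨K, _, _, _, ⟨ρ⟩⟩ := exists_rho fC
  haveI : Nonempty (⊤ : C.Opens) := by
    obtain ⟨x⟩ := (inferInstance : Nonempty C)
    exact ⟨⟨x, trivial⟩⟩
  haveI : Nontrivial Γ(C, ⊤) := Scheme.component_nontrivial C ⊤
  obtain ⟨P₀, hP₀⟩ := exists_universal (k := k) (A := Γ(C, ⊤)) hid K ρ
  let φc : CommRingCat.of P₀.L ⟶ Γ(C, ⊤) := CommRingCat.ofHom P₀.φ.toRingHom
  let gC : Spec (CommRingCat.of P₀.L) ⟶ Spec (CommRingCat.of k) :=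
    Spec.map (CommRingCat.ofHom (algebraMap k P₀.L))
  let qC : C ⟶ Spec (CommRingCat.of P₀.L) := C.toSpecΓ ≫ Spec.map φc
  have hφa : CommRingCat.ofHom (algebraMap k P₀.L) ≫ φc = a := by
    ext c
    exact P₀.φ.commutes c
  refine ⟨Spec (CommRingCat.of P₀.L), gC, qC, ?_, ?_, inferInstance, inferInstance, ?_⟩
  · rw [HasRingHomProperty.Spec_iff (P := @Etale)]
    show (algebraMap k P₀.L).Etale
    rw [RingHom.etale_algebraMap]
    infer_instance
  · show (C.toSpecΓ ≫ Spec.map φc) ≫ Spec.map _ = fC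
    rw [Category.assoc, ← Spec.map_comp, hφa, ha, toSpecΓ_γ]
  · intro Y gY h hgY hh
    haveI := hgY
    haveI : DiscreteTopology Y := discreteTopology_of_etale_spec_field gY
    obtain ⟨x⟩ := (inferInstance : Nonempty C)
    let y : Y := h x
    let V : Y.Opens := ⟨{y}, isOpen_discrete _⟩
    have hV : IsAffineOpen V := isAffineOpen_singleton_of_discrete y
    -- the image of `h` is `{y}`
    have himg : ∀ x' : C, h x' = y := by
      have hcl : IsClopen (h ⁻¹' {y}) := (isClopen_discrete {y}).preimage h.continuous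
      have := hcl.eq_univ ⟨x, rfl⟩
      intro x'
      have hx' : x' ∈ h ⁻¹' {y} := by rw [this]; trivial
      exact hx'
    have hrange : Set.range h ⊆ Set.range hV.fromSpec := by
      rw [hV.range_fromSpec]
      rintro _ ⟨x', rfl⟩
      exact himg x'
    let h'' : C ⟶ Spec Γ(Y, V) := IsOpenImmersion.lift hV.fromSpec h hrange
    have hh'' : h'' ≫ hV.fromSpec = h := IsOpenImmersion.lift_fac _ _ _
    let b : CommRingCat.of k ⟶ Γ(Y, V) := Spec.preimage (hV.fromSpec ≫ gY)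
    have hb : Spec.map b = hV.fromSpec ≫ gY := Spec.map_preimage _
    have hbet : b.hom.Etale := by
      rw [← HasRingHomProperty.Spec_iff (P := @Etale), hb]
      infer_instance
    let ψ : Γ(Y, V) ⟶ Γ(C, ⊤) := γ h''
    have hψ : C.toSpecΓ ≫ Spec.map ψ = h'' := toSpecΓ_γ h''
    have hbψ : b ≫ ψ = a := by
      rw [← γ_comp, hb, ← Category.assoc, hh'', hh]
    letI : Algebra k Γ(Y, V) := b.hom.toAlgebra
    haveI : Algebra.Etale k Γ(Y, V) := hbet
    let ψₐ : Γ(Y, V) →ₐ[k] Γ(C, ⊤) :=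
      { ψ.hom with commutes' := fun c => congr(($hbψ).hom c) }
    obtain ⟨χ, hχ, -⟩ := hP₀ Γ(Y, V) ψₐ
    let χc : Γ(Y, V) ⟶ CommRingCat.of P₀.L := CommRingCat.ofHom χ.toRingHom
    have hχφ : χc ≫ φc = ψ := by
      ext t
      exact congr($hχ t)
    have hbχ : b ≫ χc = CommRingCat.ofHom (algebraMap k P₀.L) := by
      ext c
      exact χ.commutes c
    refine ⟨Spec.map χc ≫ hV.fromSpec, ?_, ?_⟩
    · rw [Category.assoc, ← hb, ← Spec.map_comp, hbχ]
    · show (C.toSpecΓ ≫ Spec.map φc) ≫ Spec.map χc ≫ hV.fromSpec = h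
      rw [Category.assoc, ← Spec.map_comp_assoc, hχφ, ← Category.assoc, hψ, hh'']

end Groth.Agent.Lib.Helper89.Pi0
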