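import Mathlib
import Groth.Agent.Lib.Helper89.Pi0C
import Groth.Agent.S2277

set_option autoImplicit false
set_option linter.style.haveILetI false
universe u

open CategoryTheory CategoryTheory.Limits AlgebraicGeometry

namespace Groth.Agent.Lib.Helper89.Pi0

/-- Connected components of a locally noetherian scheme are open. -/
theorem isOpen_connectedComponent' (X : Scheme.{u}) [IsLocallyNoetherian X] (x : X) :
    IsOpen (connectedComponent x) := by
  haveI : LocallyConnectedSpace X := by
    apply Groth.Agent.S2277.result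
    intro y
    obtain ⟨W, hW, hyW, -⟩ := exists_isAffineOpen_mem_and_subset (U := ⊤) (x := y) (by simp)
    refine ⟨(W : Set X), W.isOpen.mem_nhds hyW, ?_⟩
    haveI : IsNoetherianRing Γ(X, W) := IsLocallyNoetherian.component_noetherian ⟨W, hW⟩
    exact noetherianSpace_of_isAffineOpen W hW
  exact _root_.isOpen_connectedComponent

variable (k : Type u) [Field k]

theorem exists_pi0 (X : Scheme.{u}) (f : X ⟶ Spec (CommRingCat.of k)) [LocallyOfFiniteType f] :
    ∃ (P : Scheme.{u}) (g : P ⟶ Spec (CommRingCat.of k)) (q : X ⟶ P), Etale g ∧ q ≫ g = f ∧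
      (∀ (Y : Scheme.{u}) (gY : Y ⟶ Spec (CommRingCat.of k)) (h : X ⟶ Y), Etale gY → h ≫ gY = f →
        ∃! t : P ⟶ Y, t ≫ gY = g ∧ q ≫ t = h) ∧
      Flat q ∧ Surjective q ∧
      ∀ x : ↥X, (fun x' : ↥X => q x') ⁻¹' {q x} = connectedComponent x := by
  haveI : IsLocallyNoetherian X := LocallyOfFiniteType.isLocallyNoetherian f
  have hopen : ∀ x : X, IsOpen (connectedComponent x) := isOpen_connectedComponent' X
  let σ := _root_.ConnectedComponents X
  let U : σ → X.Opens := fun c => ⟨ConnectedComponents.mk ⁻¹' {c}, by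
    obtain ⟨x, rfl⟩ := ConnectedComponents.surjective_coe c
    rw [connectedComponents_preimage_singleton]; exact hopen x⟩
  have hmemU : ∀ (c : σ) (x : X), x ∈ U c ↔ ConnectedComponents.mk x = c := fun c x => Iff.rfl
  haveI hconn : ∀ c, ConnectedSpace ↥(U c : Scheme.{u}) := fun c => by
    obtain ⟨x, rfl⟩ := ConnectedComponents.surjective_coe c
    have : ((U (ConnectedComponents.mk x) : X.Opens) : Set X) = connectedComponent x :=
      connectedComponents_preimage_singleton
    have h2 : _root_.IsConnected ((U (ConnectedComponents.mk x) : X.Opens) : Set X) := by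
      rw [this]; exact isConnected_connectedComponent
    exact isConnected_iff_connectedSpace.mp h2
  choose P g q hg hqg hflat hsub huniv using
    fun c => exists_pi0_connected (k := k) ((U c).ι ≫ f)
  -- `X` is the coproduct of its components
  have hcov : TopologicalSpace.IsOpenCover U := by
    apply TopologicalSpace.IsOpenCover.mk
    rw [eq_top_iff]
    intro x _
    rw [TopologicalSpace.Opens.mem_iSup]
    exact ⟨ConnectedComponents.mk x, rfl⟩
  have hdisj : ∀ c c' : σ, c ≠ c' → Disjoint (U c) (U c') := by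
    intro c c' hcc'
    rw [disjoint_iff]
    ext x
    simp only [TopologicalSpace.Opens.coe_inf, Set.mem_inter_iff, SetLike.mem_coe,
      TopologicalSpace.Opens.coe_bot, Set.mem_empty_iff_false, iff_false, not_and]
    intro h1 h2
    exact hcc' (((hmemU c x).1 h1).symm.trans ((hmemU c' x).1 h2))
  obtain ⟨hX⟩ := nonempty_isColimit_cofanMk_of (fun c => (U c).ι)
    (by simpa only [Scheme.Opens.opensRange_ι] using hcov.iSup_eq_top)
    (by
      intro c c' hcc'
      simp only [Function.onFun, Scheme.Opens.opensRange_ι]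
      exact hdisj c c' hcc')
  let qq : X ⟶ ∐ P := hX.desc (Cofan.mk (∐ P) (fun c => q c ≫ Sigma.ι P c))
  have hqq : ∀ c, (U c).ι ≫ qq = q c ≫ Sigma.ι P c := fun c =>
    hX.fac (Cofan.mk (∐ P) (fun c => q c ≫ Sigma.ι P c)) ⟨c⟩
  let gg : ∐ P ⟶ Spec (CommRingCat.of k) := Sigma.desc g
  have hgg : ∀ c, Sigma.ι P c ≫ gg = g c := fun c => Sigma.ι_desc _ _
  have hXext : ∀ {Z : Scheme.{u}} (a b : X ⟶ Z), (∀ c, (U c).ι ≫ a = (U c).ι ≫ b) → a = b :=
    fun a b hab => hX.hom_ext (fun ⟨c⟩ => hab c)
  have hflatqq : Flat qq := by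
    rw [IsZariskiLocalAtSource.iff_of_openCover (P := @Flat) (X.openCoverOfIsOpenCover U hcov)]
    intro c
    show Flat ((U c).ι ≫ qq)
    rw [hqq]
    haveI := hflat c
    infer_instance
  have hsurjqq : Surjective qq := by
    constructor
    intro p
    obtain ⟨c, p', rfl⟩ := (sigmaOpenCover P).exists_eq p
    obtain ⟨x, hx⟩ := ConnectedComponents.surjective_coe c
    let xc : ↥(U c : Scheme.{u}) := ⟨x, hx⟩
    refine ⟨x, ?_⟩
    have h1 : qq x = ((U c).ι ≫ qq) xc := rfl
    rw [h1, hqq]
    haveI := hsub c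
    show Sigma.ι P c (q c xc) = Sigma.ι P c p'
    rw [Subsingleton.elim (q c xc) p']
  refine ⟨∐ P, gg, qq, ?_, ?_, ?_, hflatqq, hsurjqq, ?_⟩
  · exact IsZariskiLocalAtSource.sigmaDesc hg
  · apply hXext
    intro c
    rw [reassoc_of% hqq, hgg, hqg]
  · intro Y gY h hgY hh
    choose t ht1 ht2 using fun c => huniv c Y gY ((U c).ι ≫ h) hgY (by rw [Category.assoc, hh])
    refine ⟨Sigma.desc t, ⟨?_, ?_⟩, ?_⟩
    · apply Sigma.hom_ext
      intro c
      rw [Sigma.ι_desc_assoc, ht1, hgg]
    · apply hXext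
      intro c
      rw [reassoc_of% hqq, Sigma.ι_desc, ht2]
    · rintro t' ⟨-, ht'⟩
      haveI : Epi qq := Flat.epi_of_flat_of_surjective qq
      rw [← cancel_epi qq, ht']
      apply hXext
      intro c
      rw [reassoc_of% hqq, Sigma.ι_desc, ht2]
  · intro x
    ext x'
    simp only [Set.mem_preimage, Set.mem_singleton_iff]
    rw [← ConnectedComponents.coe_eq_coe', eq_comm (a := qq x')]
    let c := ConnectedComponents.mk x
    let c' := ConnectedComponents.mk x'
    let xc : ↥(U c : Scheme.{u}) := ⟨x, rfl⟩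
    let xc' : ↥(U c' : Scheme.{u}) := ⟨x', rfl⟩
    have h1 : qq x = Sigma.ι P c (q c xc) := by
      have : qq x = ((U c).ι ≫ qq) xc := rfl
      rw [this, hqq]; rfl
    have h2 : qq x' = Sigma.ι P c' (q c' xc') := by
      have : qq x' = ((U c').ι ≫ qq) xc' := rfl
      rw [this, hqq]; rfl
    constructor
    · intro heq
      by_contra hne
      have hd := disjoint_opensRange_sigmaι P c c' (fun h => hne h.symm)
      rw [h1, h2] at heq
      have m1 : Sigma.ι P c (q c xc) ∈ (Sigma.ι P c).opensRange := ⟨_, rfl⟩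
      have m2 : Sigma.ι P c (q c xc) ∈ (Sigma.ι P c').opensRange := ⟨_, heq.symm⟩
      have := (disjoint_iff.mp hd).le ⟨m1, m2⟩
      exact this
    · intro hcc
      have hcc' : c' = c := hcc
      rw [h1, h2]
      have key : ∀ (d d' : σ) (a : ↥(U d : Scheme.{u})) (b : ↥(U d' : Scheme.{u})), d' = d →
          Sigma.ι P d (q d a) = Sigma.ι P d' (q d' b) := by
        intro d d' a b hdd
        subst hdd
        haveI := hsub d'
        rw [Subsingleton.elim (q d' a) (q d' b)]
      exact key c c' xc xc' hcc'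

end Groth.Agent.Lib.Helper89.Pi0
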