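import Groth.Agent.S0239
import Groth.Agent.S0243
import Groth.Agent.S0268

set_option autoImplicit false
universe u

namespace Groth.Agent.Lib.Helper89.ProperLocal

open AlgebraicGeometry CategoryTheory CategoryTheory.Limits

/-- Every nonempty closed subset of the spectrum of a local ring contains the closed point. -/
lemma closedPoint_mem_of_isClosed (A : Type u) [CommRing A] [IsLocalRing A]
    {Z : Set (PrimeSpectrum A)} (hZ : IsClosed Z) (hne : Z.Nonempty) :
    IsLocalRing.closedPoint A ∈ Z := by
  obtain ⟨p, hp⟩ := hne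
  exact (IsLocalRing.specializes_closedPoint p).mem_closed hZ hp

/-- For `X` universally closed over a local ring, every connected component of `X` meets the closed
fibre. -/
lemma connectedComponent_inter_range_nonempty (A : Type u) [CommRing A] [IsLocalRing A]
    {X : Scheme.{u}} (f : X ⟶ Spec (CommRingCat.of A)) [UniversallyClosed f] (x : X) :
    (connectedComponent x ∩ Set.range (pullback.fst f
      (Spec.map (CommRingCat.ofHom (IsLocalRing.residue A)))).base).Nonempty := by
  have hcl : IsClosed (f.base '' connectedComponent x) :=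
    f.isClosedMap _ isClosed_connectedComponent
  have hne : (f.base '' connectedComponent x).Nonempty :=
    ⟨f.base x, x, mem_connectedComponent, rfl⟩
  obtain ⟨y, hy, hfy⟩ := closedPoint_mem_of_isClosed A hcl hne
  refine ⟨y, hy, ?_⟩
  rw [Scheme.Pullback.range_fst]
  refine ⟨IsLocalRing.closedPoint (IsLocalRing.ResidueField A), ?_⟩
  rw [hfy]
  exact IsLocalRing.PrimeSpectrum.comap_residue A _

theorem full_faithful (A : Type u) [CommRing A]
    [IsLocalRing A] [HenselianRing A (IsLocalRing.maximalIdeal A)]
    {X : Scheme.{u}} (f : X ⟶ Spec (CommRingCat.of A)) [IsProper f]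
    (ξ : Spec (CommRingCat.of (AlgebraicClosure (IsLocalRing.ResidueField A))) ⟶ Spec (CommRingCat.of A))
    (hξ : ξ = Spec.map (CommRingCat.ofHom ((algebraMap (IsLocalRing.ResidueField A)
      (AlgebraicClosure (IsLocalRing.ResidueField A))).comp (IsLocalRing.residue A))))
    [ConnectedSpace ↥(pullback f ξ)] :
    (FEt.restrict f).Full ∧ (FEt.restrict f).Faithful := by
  classical
  let k := IsLocalRing.ResidueField A
  let q : Spec (CommRingCat.of k) ⟶ Spec (CommRingCat.of A) :=
    Spec.map (CommRingCat.ofHom (IsLocalRing.residue A))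
  let g : Spec (CommRingCat.of (AlgebraicClosure k)) ⟶ Spec (CommRingCat.of k) :=
    Spec.map (CommRingCat.ofHom (algebraMap k (AlgebraicClosure k)))
  have hξ' : ξ = g ≫ q := by
    rw [hξ, ← Spec.map_comp]; rfl
  subst hξ'
  have : IsClosedImmersion q :=
    IsClosedImmersion.spec_of_surjective _ (Ideal.Quotient.mk_surjective (I := IsLocalRing.maximalIdeal A))
  let iX : pullback f q ⟶ X := pullback.fst f q
  have : IsClosedImmersion iX := inferInstanceAs (IsClosedImmersion (pullback.fst f q))
  let f₀ : pullback f q ⟶ Spec (CommRingCat.of k) := pullback.snd f q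
  have hE : (FEt.restrict q).IsEquivalence :=
    Groth.Agent.S0239.result A (IsLocalRing.maximalIdeal A)
  have : CompactSpace ↥(pullback f q) := QuasiCompact.compactSpace_of_compactSpace f₀
  have : QuasiSeparatedSpace ↥(pullback f q) := quasiSeparatedSpace_of_quasiSeparated f₀
  have : ConnectedSpace ↥(pullback f₀ g) := by
    let e : pullback f₀ g ≅ pullback f (g ≫ q) := pullbackLeftPullbackSndIso f q g
    exact (e.inv.homeomorph).surjective.connectedSpace e.inv.continuous
  obtain ⟨hF₀full, hF₀faith⟩ := Groth.Agent.S0268.result k f₀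
  have hH : (FEt.restrict iX).Faithful :=
    Groth.Agent.S0243.result iX (connectedComponent_inter_range_nonempty A f)
  have hcond : iX ≫ f = f₀ ≫ q := pullback.condition
  let α : FEt.restrict (f₀ ≫ q) ≅ FEt.restrict f ⋙ FEt.restrict iX :=
    MorphismProperty.Over.pullbackComp iX f (f₀ ≫ q) hcond.symm
  let β : FEt.restrict (f₀ ≫ q) ≅ FEt.restrict q ⋙ FEt.restrict f₀ :=
    MorphismProperty.Over.pullbackComp f₀ q
  have : (FEt.restrict q ⋙ FEt.restrict f₀).Full := inferInstance
  have : (FEt.restrict q ⋙ FEt.restrict f₀).Faithful := inferInstance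
  have : (FEt.restrict f ⋙ FEt.restrict iX).Full := Functor.Full.of_iso (β.symm ≪≫ α)
  have : (FEt.restrict f ⋙ FEt.restrict iX).Faithful := Functor.Faithful.of_iso (β.symm ≪≫ α)
  exact ⟨Functor.Full.of_comp_faithful (FEt.restrict f) (FEt.restrict iX),
    Functor.Faithful.of_comp (FEt.restrict f) (FEt.restrict iX)⟩

end Groth.Agent.Lib.Helper89.ProperLocal
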