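import Mathlib
import Groth.Prelude.Def_SGA1

set_option autoImplicit false
set_option linter.style.haveILetI false
universe u

open CategoryTheory CategoryTheory.Limits AlgebraicGeometry

namespace Groth.Agent.Lib.Helper89.QFH

variable {P : Scheme.{u}} {ι : Type u} [Finite ι] {X : ι → Scheme.{u}} (f : ∀ i, X i ⟶ P)

/-- a finite, jointly surjective family of universally closed morphisms is universally submersive -/
theorem univSubmersive_sigmaDesc [∀ i, UniversallyClosed (f i)]
    (hsurj : ∀ p : P, ∃ (i : ι) (x : X i), f i x = p) :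
    SGA1.UnivSubmersive (Sigma.desc f) := by
  intro W T π₁ t c' hpb
  show Topology.IsQuotientMap c'
  -- the pieces
  let a : ∀ i, pullback (f i) t ⟶ X i := fun i => pullback.fst (f i) t
  let b : ∀ i, pullback (f i) t ⟶ T := fun i => pullback.snd (f i) t
  have hcond : ∀ i, b i ≫ t = (a i ≫ Sigma.ι X i) ≫ Sigma.desc f := fun i => by
    rw [Category.assoc, Sigma.ι_desc]; exact pullback.condition.symm
  let j : ∀ i, pullback (f i) t ⟶ W := fun i => hpb.lift (b i) (a i ≫ Sigma.ι X i) (hcond i)
  have hj1 : ∀ i, j i ≫ c' = b i := fun i => hpb.lift_fst _ _ _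
  have hj2 : ∀ i, j i ≫ π₁ = a i ≫ Sigma.ι X i := fun i => hpb.lift_snd _ _ _
  have hjpb : ∀ i, IsPullback (j i) (a i) π₁ (Sigma.ι X i) := fun i => by
    refine IsPullback.of_right ?_ (hj2 i) hpb
    rw [hj1, Sigma.ι_desc]
    exact (IsPullback.of_hasPullback (f i) t).flip
  -- the pieces cover `W`
  have hcov : ∀ w : W, ∃ (i : ι) (w' : ↥(pullback (f i) t)), j i w' = w := by
    intro w
    obtain ⟨i, x, hx⟩ := (sigmaOpenCover X).exists_eq (π₁ w)
    obtain ⟨z, hz1, hz2⟩ := Scheme.Pullback.exists_preimage_pullback (f := π₁) (g := Sigma.ι X i)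
      w x hx.symm
    refine ⟨i, (hjpb i).isoPullback.inv z, ?_⟩
    rw [← Scheme.Hom.comp_apply, (hjpb i).isoPullback_inv_fst, hz1]
  -- closedness
  have hclosed : IsClosedMap c' := by
    intro Z hZ
    have himg : c' '' Z = ⋃ i, (b i) '' ((j i) ⁻¹' Z) := by
      ext y
      simp only [Set.mem_image, Set.mem_iUnion, Set.mem_preimage]
      constructor
      · rintro ⟨w, hw, rfl⟩
        obtain ⟨i, w', rfl⟩ := hcov w
        refine ⟨i, w', hw, ?_⟩
        rw [← hj1 i, Scheme.Hom.comp_apply]
      · rintro ⟨i, w', hw', rfl⟩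
        refine ⟨j i w', hw', ?_⟩
        rw [← hj1 i, Scheme.Hom.comp_apply]
    rw [himg]
    refine isClosed_iUnion_of_finite fun i => ?_
    haveI : UniversallyClosed (b i) :=
      MorphismProperty.pullback_snd (P := @UniversallyClosed) _ _ inferInstance
    exact (b i).isClosedMap _ (hZ.preimage (j i).continuous)
  have hsurjc : Function.Surjective c' := by
    intro y
    obtain ⟨i, x, hx⟩ := hsurj (t y)
    obtain ⟨z, hz1, hz2⟩ := Scheme.Pullback.exists_preimage_pullback (f := f i) (g := t) x y hx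
    refine ⟨j i z, ?_⟩
    rw [← Scheme.Hom.comp_apply, hj1 i]
    exact hz2
  exact hclosed.isQuotientMap c'.continuous hsurjc

end Groth.Agent.Lib.Helper89.QFH
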