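import Mathlib
import Groth.Agent.Lib.Helper89.QFH1

set_option autoImplicit false
set_option linter.style.haveILetI false
universe w u

open CategoryTheory CategoryTheory.Limits AlgebraicGeometry

namespace Groth.Agent.Lib.Helper89.QFH

theorem qfh_invariants {X S : Scheme.{u}} (q : X ⟶ S) [IsFinite q] [Surjective q]
    {G : Type u} [Group G] [Finite G] (ρ : G →* Aut X) (hρ : ∀ g : G, (ρ g).hom ≫ q = q)
    (htrans : ∀ (Ω : Type u) [Field Ω] [IsAlgClosed Ω] (τ₁ τ₂ : Spec (CommRingCat.of Ω) ⟶ X),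
      τ₁ ≫ q = τ₂ ≫ q → ∃ g : G, τ₁ ≫ (ρ g).hom = τ₂)
    (F : Scheme.{u}ᵒᵖ ⥤ Type w)
    (hF : ∀ ⦃T : Scheme.{u}⦄ (E : PreZeroHypercover.{u} T), Finite E.I₀ →
      (∀ i, LocallyOfFiniteType (E.f i)) → (∀ i, QuasiCompact (E.f i)) →
      (∀ i, LocallyQuasiFinite (E.f i)) → SGA1.UnivSubmersive (Sigma.desc E.f) →
      Presieve.IsSheafFor F E.presieve₀) :
    Function.Injective (F.map q.op) ∧
      Set.range (F.map q.op) = {f : F.obj (Opposite.op X) | ∀ g : G, F.map (ρ g).hom.op f = f} := by
  -- the cover `{q}`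
  let E₁ : PreZeroHypercover.{u} S := ⟨PUnit.{u + 1}, fun _ => X, fun _ => q⟩
  have hE₁ : Presieve.IsSheafFor F E₁.presieve₀ := by
    refine hF E₁ (inferInstanceAs (Finite PUnit)) (fun _ => inferInstanceAs (LocallyOfFiniteType q))
      (fun _ => inferInstanceAs (QuasiCompact q)) (fun _ => inferInstanceAs (LocallyQuasiFinite q)) ?_
    haveI : ∀ i : PUnit.{u + 1}, UniversallyClosed (E₁.f i) :=
      fun _ => inferInstanceAs (UniversallyClosed q)
    refine univSubmersive_sigmaDesc E₁.f (fun p => ?_)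
    obtain ⟨x, hx⟩ := Surjective.surj (f := q) p
    exact ⟨PUnit.unit, x, hx⟩
  -- the cover of `X ×_S X` by the graphs
  let γ : G → (X ⟶ pullback q q) := fun g => pullback.lift (𝟙 X) (ρ g).hom (by rw [Category.id_comp, hρ])
  have hγ1 : ∀ g, γ g ≫ pullback.fst q q = 𝟙 X := fun g => pullback.lift_fst _ _ _
  have hγ2 : ∀ g, γ g ≫ pullback.snd q q = (ρ g).hom := fun g => pullback.lift_snd _ _ _
  haveI hγci : ∀ g, IsClosedImmersion (γ g) := fun g => by
    haveI : IsClosedImmersion (γ g ≫ pullback.fst q q) := by rw [hγ1]; infer_instance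
    exact IsClosedImmersion.of_comp (γ g) (pullback.fst q q)
  let E₂ : PreZeroHypercover.{u} (pullback q q) := ⟨G, fun _ => X, γ⟩
  have hE₂ : Presieve.IsSheafFor F E₂.presieve₀ := by
    refine hF E₂ (inferInstanceAs (Finite G)) (fun g => inferInstanceAs (LocallyOfFiniteType (γ g)))
      (fun g => inferInstanceAs (QuasiCompact (γ g)))
      (fun g => inferInstanceAs (LocallyQuasiFinite (γ g))) ?_
    haveI : ∀ g : G, UniversallyClosed (E₂.f g) :=
      fun g => inferInstanceAs (UniversallyClosed (γ g))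
    refine univSubmersive_sigmaDesc E₂.f (fun p => ?_)
    -- a geometric point at `p`
    let Ω := AlgebraicClosure ((pullback q q).residueField p)
    obtain ⟨τ, hτp⟩ : ∃ τ : Spec (CommRingCat.of Ω) ⟶ pullback q q, ∀ z, τ z = p := by
      refine ⟨Spec.map (CommRingCat.ofHom (algebraMap ((pullback q q).residueField p) Ω)) ≫
        (pullback q q).fromSpecResidueField p, fun z => ?_⟩
      have : (Spec.map (CommRingCat.ofHom (algebraMap ((pullback q q).residueField p) Ω)) ≫
          (pullback q q).fromSpecResidueField p) z ∈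
          Set.range ((pullback q q).fromSpecResidueField p) := ⟨_, rfl⟩
      rw [Scheme.range_fromSpecResidueField] at this
      exact this
    obtain ⟨g, hg⟩ := htrans Ω (τ ≫ pullback.fst q q) (τ ≫ pullback.snd q q)
      (by rw [Category.assoc, Category.assoc, pullback.condition])
    have hτγ : τ = (τ ≫ pullback.fst q q) ≫ γ g := by
      apply pullback.hom_ext
      · rw [Category.assoc, hγ1, Category.comp_id]
      · rw [Category.assoc, hγ2, hg]
    let z₀ : ↥(Spec (CommRingCat.of Ω)) := IsLocalRing.closedPoint Ω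
    refine ⟨g, (τ ≫ pullback.fst q q) z₀, ?_⟩
    show γ g ((τ ≫ pullback.fst q q) z₀) = p
    rw [← Scheme.Hom.comp_apply, ← hτγ, hτp]
  refine ⟨?_, ?_⟩
  · -- injectivity
    intro t₁ t₂ h
    apply hE₁.isSeparatedFor.ext
    rintro Y f ⟨i⟩
    exact h
  · ext x
    simp only [Set.mem_range, Set.mem_setOf_eq]
    constructor
    · rintro ⟨t, rfl⟩ g
      rw [← FunctorToTypes.map_comp_apply, ← op_comp, hρ]
    · intro hx
      -- `pr₁^* x = pr₂^* x`
      have heq : F.map (pullback.fst q q).op x = F.map (pullback.snd q q).op x := by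
        apply hE₂.isSeparatedFor.ext
        rintro Y f ⟨g⟩
        show F.map (γ g).op _ = F.map (γ g).op _
        rw [← FunctorToTypes.map_comp_apply, ← FunctorToTypes.map_comp_apply, ← op_comp, ← op_comp,
          hγ1, hγ2, hx g]
        simp
      have hsh := (Presieve.isSheafFor_arrows_iff (P := F) (X := fun _ : PUnit.{u + 1} => X)
        (π := fun _ => q)).mp hE₁
      obtain ⟨t, ht, -⟩ := hsh (fun _ => x) (by
        intro i j Z gi gj hgg
        obtain ⟨l, h1, h2⟩ : ∃ l : Z ⟶ pullback q q,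
            l ≫ pullback.fst q q = gi ∧ l ≫ pullback.snd q q = gj :=
          ⟨pullback.lift gi gj hgg, pullback.lift_fst _ _ _, pullback.lift_snd _ _ _⟩
        show F.map gi.op x = F.map gj.op x
        rw [← h1, ← h2, op_comp, op_comp, FunctorToTypes.map_comp_apply,
          FunctorToTypes.map_comp_apply, heq])
      exact ⟨t, ht PUnit.unit⟩

end Groth.Agent.Lib.Helper89.QFH
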