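import Mathlib
import Groth.Prelude.Def_FEt
import Groth.Agent.Lib.Helper89.Rad4

set_option autoImplicit false
set_option linter.style.haveILetI false
universe u

open CategoryTheory CategoryTheory.Limits AlgebraicGeometry

namespace Groth.Agent.Lib.Helper89.Rad

variable (k : Type u) [Field k] (p : ℕ) [Fact p.Prime] [CharP k p]

/-- `Spec k^perf ⟶ Spec k` -/
noncomputable abbrev φP : Spec (CommRingCat.of (PerfectClosure k p)) ⟶ Spec (CommRingCat.of k) :=
  Spec.map (CommRingCat.ofHom (PerfectClosure.of k p))

instance flat_φP : Flat (φP k p) := by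
  rw [HasRingHomProperty.Spec_iff (P := @Flat)]
  show (PerfectClosure.of k p).Flat
  letI := (PerfectClosure.of k p).toAlgebra
  show Module.Flat k (PerfectClosure k p)
  infer_instance

instance surjective_φP : Surjective (φP k p) := by
  constructor
  intro x
  refine ⟨(⟨⊥, Ideal.isPrime_bot⟩ : PrimeSpectrum (PerfectClosure k p)), ?_⟩
  exact Subsingleton.elim (α := PrimeSpectrum k) _ _

lemma ringHom_ext_of_comp_of {K : Type u} [Field K] (ψ₁ ψ₂ : PerfectClosure k p →+* K)
    (h : ψ₁.comp (PerfectClosure.of k p) = ψ₂.comp (PerfectClosure.of k p)) : ψ₁ = ψ₂ := by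
  haveI : CharP K p := charP_of_injective_ringHom ψ₁.injective p
  ext r
  obtain ⟨⟨n, x⟩, rfl⟩ := PerfectClosure.mk_surjective k p r
  apply iterateFrobenius_inj K p n
  rw [coe_iterateFrobenius, ← RingHom.map_iterate_frobenius, ← RingHom.map_iterate_frobenius,
    PerfectClosure.iterate_frobenius_mk]
  exact congr($h x)

instance universallyInjective_φP : UniversallyInjective (φP k p) := by
  apply ((tfae_universallyInjective (φP k p)).out 0 1).mpr
  intro K _ g₁ g₂ hg
  dsimp only at hg
  obtain ⟨ψ₁, rfl⟩ := Spec.map_surjective g₁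
  obtain ⟨ψ₂, rfl⟩ := Spec.map_surjective g₂
  rw [← Spec.map_comp, ← Spec.map_comp] at hg
  have h1 := Spec.map_injective hg
  have h2 : ψ₁.hom = ψ₂.hom := by
    apply ringHom_ext_of_comp_of
    exact congr(($h1).hom)
  rw [CommRingCat.hom_ext h2]

theorem isEquivalence_restrict_perfectClosure {X : Scheme.{u}} (f : X ⟶ Spec (CommRingCat.of k)) :
    (FEt.restrict (pullback.fst f (φP k p))).IsEquivalence := by
  haveI : Flat (pullback.fst f (φP k p)) :=
    MorphismProperty.pullback_fst (P := @Flat) _ _ inferInstance
  haveI : Surjective (pullback.fst f (φP k p)) :=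
    MorphismProperty.pullback_fst (P := @Surjective) _ _ inferInstance
  haveI : QuasiCompact (pullback.fst f (φP k p)) :=
    MorphismProperty.pullback_fst (P := @QuasiCompact) _ _ inferInstance
  haveI : UniversallyInjective (pullback.fst f (φP k p)) :=
    MorphismProperty.pullback_fst (P := @UniversallyInjective) _ _ inferInstance
  exact isEquivalence_restrict _

end Groth.Agent.Lib.Helper89.Rad
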