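import Groth.Prelude.Def_SchFin2
import Mathlib.Algebra.Algebra.Epi

/-!
# Degree-zero cohomology of the standard complex on a finite ringed poset

`H φ M 0` is identified with compatible families (sections), and the consequences of the
schematic condition in degree zero are drawn: restriction maps are ring epimorphisms.
-/

set_option autoImplicit false

open TensorProduct

namespace Groth.Agent.Lib.Helper89.SchFinLib

open _root_.SchFin

universe u

variable {X : RSpace.{u}} {U : Set X.pt}

lemma fin1 (i j : Fin (0 + 1)) : i = j := Fin.ext (by omega)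

/-- the 0-chain at a point -/
def chainPt (q : U) : Chain U 0 :=
  OrderEmbedding.ofMapLEIff (fun _ => q) (fun a b => by
    simp only [le_refl, true_iff]; exact le_of_eq (fin1 a b))

@[simp] lemma chainPt_apply (q : U) (i : Fin 1) : chainPt q i = q := rfl

lemma chain_zero_eq (σ : Chain U 0) : σ = chainPt (σ (Fin.last 0)) := by
  apply DFunLike.ext
  intro i
  rw [chainPt_apply, fin1 i (Fin.last 0)]

/-- the 1-chain at a strict pair -/
def chainPair (q q' : U) (h : q < q') : Chain U 1 :=
  OrderEmbedding.ofStrictMono (fun i : Fin 2 => if i = 0 then q else q') (by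
    intro i j hij
    have hi : i = 0 := Fin.ext (by have := Fin.lt_def.mp hij; have := j.isLt; simp; omega)
    have hj : j = 1 := Fin.ext (by have := Fin.lt_def.mp hij; have := j.isLt; simp; omega)
    subst hi; subst hj
    simpa using h)

lemma chainPair_zero (q q' : U) (h : q < q') : chainPair q q' h 0 = q := rfl
lemma chainPair_one (q q' : U) (h : q < q') : chainPair q q' h 1 = q' := rfl

lemma chainPair_face_zero (q q' : U) (h : q < q') :
    (chainPair q q' h).face 0 = chainPt q' := by
  apply DFunLike.ext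
  intro i
  rw [Chain.face_apply, chainPt_apply, fin1 i 0]
  rfl

lemma chainPair_face_one (q q' : U) (h : q < q') :
    (chainPair q q' h).face 1 = chainPt q := by
  apply DFunLike.ext
  intro i
  rw [Chain.face_apply, chainPt_apply, fin1 i 0]
  rfl

section H0

variable {R : Type u} [CommRing R] (φ : Coef X U R) (M : OMod X)

/-- the family of values of a 0-cochain -/
def secOf (c : Cochain φ M 0) : (q : U) → M.carrier q.1 := fun q => c (chainPt q)

/-- the 0-cochain of a family -/
def cochOf (s : (q : U) → M.carrier q.1) : Cochain φ M 0 := fun σ => s (σ (Fin.last 0))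

lemma secOf_cochOf (s : (q : U) → M.carrier q.1) : secOf φ M (cochOf φ M s) = s := rfl

lemma res_cochain_congr (c : Cochain φ M 0) {σ σ' : Chain U 0} (e : σ = σ') {p : X.pt}
    (h : (σ (Fin.last 0)).1 ≤ p) (h' : (σ' (Fin.last 0)).1 ≤ p) :
    M.res h (c σ) = M.res h' (c σ') := by
  subst e; rfl

lemma cochain_congr (c : Cochain φ M 0) {σ σ' : Chain U 0} (e : σ = σ') : HEq (c σ) (c σ') := by
  subst e; rfl

lemma cochOf_secOf (c : Cochain φ M 0) : cochOf φ M (secOf φ M c) = c := by
  funext σ
  exact eq_of_heq (cochain_congr φ M c (chain_zero_eq σ).symm)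

lemma diff_zero_apply (c : Cochain φ M 0) (τ : Chain U 1) :
    diff φ M 0 c τ = c.faceVal τ 0 - c.faceVal τ 1 := by
  show (∑ j : Fin 2, ((-1 : ℤ) ^ (j : ℕ)) • c.faceVal τ j) = _
  rw [Fin.sum_univ_two]
  simp [sub_eq_add_neg]

lemma cochOf_mem_cocycles (s : (q : U) → M.carrier q.1) (hs : s ∈ M.sect U) :
    cochOf φ M s ∈ cocycles φ M 0 := by
  change diff φ M 0 (cochOf φ M s) = 0
  funext τ
  rw [diff_zero_apply]
  have h0 : (cochOf φ M s).faceVal τ 0 = s (τ (Fin.last 1)) := hs _ _ (Chain.face_last_le 0 τ)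
  have h1 : (cochOf φ M s).faceVal τ 1 = s (τ (Fin.last 1)) := hs _ _ (Chain.face_last_le 1 τ)
  rw [h0, h1, sub_self]
  rfl

lemma secOf_mem_sect (c : Cochain φ M 0) (hc : c ∈ cocycles φ M 0) :
    secOf φ M c ∈ M.sect U := by
  intro q q' h
  by_cases e : q = q'
  · subst e; exact M.res_self _ _
  · have hlt : q < q' := lt_of_le_of_ne h e
    have h0 : diff φ M 0 c (chainPair q q' hlt) = 0 := by
      have : diff φ M 0 c = 0 := hc
      rw [this]; rfl
    rw [diff_zero_apply] at h0
    have e0 : c.faceVal (chainPair q q' hlt) 0 = secOf φ M c q' :=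
      (res_cochain_congr φ M c (chainPair_face_zero q q' hlt) _ (le_refl q'.1)).trans
        (M.res_self _ _)
    have e1 : c.faceVal (chainPair q q' hlt) 1 = M.res h (secOf φ M c q) :=
      res_cochain_congr φ M c (chainPair_face_one q q' hlt) _ h
    have h0' : secOf φ M c q' - M.res h (secOf φ M c q) = 0 := by
      rw [← e0, ← e1]; exact h0
    exact (sub_eq_zero.mp h0').symm

lemma mk0_bijective : Function.Bijective (H.mk φ M 0) := by
  constructor
  · intro a b hab
    have h1 : (Submodule.Quotient.mk a :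
        ↥(cocycles φ M 0) ⧸ (cobdry φ M 0).comap (cocycles φ M 0).subtype) =
        Submodule.Quotient.mk b := hab
    rw [Submodule.Quotient.eq] at h1
    have h2 : (a - b).1 ∈ (⊥ : Submodule R (Cochain φ M 0)) := h1
    rw [Submodule.mem_bot] at h2
    exact sub_eq_zero.mp (Subtype.ext h2)
  · exact Submodule.mkQ_surjective _

/-- cocycles in degree zero are the degree-zero cohomology -/
noncomputable def h0Equiv : ↥(cocycles φ M 0) ≃ₗ[R] H φ M 0 :=
  LinearEquiv.ofBijective (H.mk φ M 0) (mk0_bijective φ M)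

/-- the value of a degree-zero class at a point -/
noncomputable def valH (h : H φ M 0) (q : U) : M.carrier q.1 :=
  secOf φ M ((h0Equiv φ M).symm h).1 q

lemma valH_mk (c : ↥(cocycles φ M 0)) (q : U) : valH φ M (H.mk φ M 0 c) q = secOf φ M c.1 q := by
  unfold valH
  have : (h0Equiv φ M).symm (H.mk φ M 0 c) = c := (h0Equiv φ M).symm_apply_apply c
  rw [this]

lemma valH_add (h h' : H φ M 0) (q : U) : valH φ M (h + h') q = valH φ M h q + valH φ M h' q := by
  unfold valH
  rw [map_add]
  rfl

lemma valH_zero (q : U) : valH φ M (0 : H φ M 0) q = 0 := by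
  unfold valH
  rw [map_zero]
  rfl

lemma valH_smul (a : R) (h : H φ M 0) (q : U) :
    valH φ M (a • h) q = φ.map q a • valH φ M h q := by
  unfold valH
  rw [map_smul]
  rfl

lemma valH_compat (h : H φ M 0) (q q' : U) (hq : q.1 ≤ q'.1) :
    M.res hq (valH φ M h q) = valH φ M h q' :=
  secOf_mem_sect φ M _ ((h0Equiv φ M).symm h).2 q q' hq

lemma valH_mem_sect (h : H φ M 0) : valH φ M h ∈ M.sect U :=
  fun q q' hq => valH_compat φ M h q q' hq

lemma valH_ext {h h' : H φ M 0} (e : ∀ q, valH φ M h q = valH φ M h' q) : h = h' := by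
  apply (h0Equiv φ M).symm.injective
  apply Subtype.ext
  rw [← cochOf_secOf φ M ((h0Equiv φ M).symm h).1, ← cochOf_secOf φ M ((h0Equiv φ M).symm h').1]
  congr 1
  funext q
  exact e q

lemma exists_valH_eq (s : (q : U) → M.carrier q.1) (hs : s ∈ M.sect U) :
    ∃ h : H φ M 0, ∀ q, valH φ M h q = s q :=
  ⟨H.mk φ M 0 ⟨cochOf φ M s, cochOf_mem_cocycles φ M s hs⟩, fun q => by rw [valH_mk]; rfl⟩

lemma chainPt_incl {U' : Set X.pt} (hle : U' ⊆ U) (q : U') :
    (chainPt q).incl hle = chainPt (⟨q.1, hle q.2⟩ : U) := by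
  apply DFunLike.ext
  intro i
  rfl

variable {φ} in
lemma valH_resH {U' : Set X.pt} {R' : Type u} [CommRing R'] {φ' : Coef X U' R'}
    (s : Coef.Sub φ φ') (h : H φ M 0) (q : U') :
    valH φ' M (resH M s 0 h) q = valH φ M h ⟨q.1, s.le q.2⟩ := by
  obtain ⟨c, rfl⟩ := (mk0_bijective φ M).2 h
  have e : resH M s 0 (H.mk φ M 0 c) =
      H.mk φ' M 0 ⟨resCochain M s 0 c.1, by
        change diff φ' M 0 (resCochain M s 0 c.1) = 0
        rw [diff_resCochain, show diff φ M 0 c.1 = 0 from c.2, map_zero]⟩ := rfl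
  rw [e, valH_mk, valH_mk]
  exact eq_of_heq (cochain_congr φ M c.1 (chainPt_incl s.le q))

end H0

section Schematic

variable (X : RSpace.{u})

/-- sections of the rings from a degree-zero class -/
noncomputable def secRing {U : Set X.pt} {R : Type u} [CommRing R] (φ : Coef X U R) :
    H φ X.str 0 →+ X.sectRing U where
  toFun h := ⟨fun q => valH φ X.str h q, fun q q' hq => valH_compat φ X.str h q q' hq⟩
  map_zero' := Subtype.ext (funext fun q => valH_zero φ X.str q)
  map_add' h h' := Subtype.ext (funext fun q => valH_add φ X.str h h' q)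

lemma secRing_apply {U : Set X.pt} {R : Type u} [CommRing R] (φ : Coef X U R) (h : H φ X.str 0)
    (q : U) : (secRing X φ h).1 q = valH φ X.str h q := rfl

lemma secRing_bijective {U : Set X.pt} {R : Type u} [CommRing R] (φ : Coef X U R) :
    Function.Bijective (secRing X φ) := by
  constructor
  · intro h h' e
    apply valH_ext
    intro q
    have := congrArg (fun t : X.sectRing U => t.1 q) e
    exact this
  · intro s
    obtain ⟨h, hh⟩ := exists_valH_eq φ X.str (fun q => s.1 q) (fun q q' hq => s.2 q q' hq)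
    exact ⟨h, Subtype.ext (funext fun q => hh q)⟩

/-- evaluation of a degree-zero class at a minimum of the set is bijective -/
lemma valH_min_bijective {U : Set X.pt} {R : Type u} [CommRing R] (φ : Coef X U R) (M : OMod X)
    (y : U) (hmin : ∀ q : U, y.1 ≤ q.1) :
    Function.Bijective (fun h : H φ M 0 => valH φ M h y) := by
  constructor
  · intro h h' e
    apply valH_ext
    intro q
    rw [← valH_compat φ M h y q (hmin q), ← valH_compat φ M h' y q (hmin q)]
    exact congrArg _ e
  · intro c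
    obtain ⟨h, hh⟩ := exists_valH_eq φ M (fun q => M.res (hmin q) c)
      (fun q q' hq => M.res_comp _ _ c)
    exact ⟨h, (hh y).trans (M.res_self _ _)⟩

/-- The schematic condition in degree zero: for `x ≤ x'` and `x ≤ y` the sections of the rings over
the points above both `x'` and `y` are the tensor product of the rings of `x'` and `y` over the ring
of `x`. -/
theorem schematic_deg0 (hX : X.IsSchematic) {x x' y : X.pt} (hx : x ≤ x') (hy : x ≤ y)
    (V : Set X.pt) (hV : ∀ q, q ∈ V ↔ x' ≤ q ∧ y ≤ q) :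
    letI : Algebra (X.ring x) (X.ring x') := (X.res hx).toAlgebra
    letI : Algebra (X.ring x) (X.ring y) := (X.res hy).toAlgebra
    ∃ θ : X.ring x' ⊗[X.ring x] X.ring y →+ X.sectRing V,
      Function.Bijective θ ∧ ∀ (b : X.ring x') (c : X.ring y) (q : V),
        (θ (b ⊗ₜ c)).1 q = X.res ((hV q.1).mp q.2).1 b * X.res ((hV q.1).mp q.2).2 c := by
  obtain rfl : V = (Hom.id X).wedge x' y := Set.ext fun q => hV q
  let alg1 : Algebra (X.ring x) (X.ring x') := (X.res hx).toAlgebra
  let alg2 : Algebra (X.ring x) (X.ring y) := (X.res hy).toAlgebra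
  set f := Hom.id X with hf
  set φ₁ := Coef.ofLE x (f.wedge x y) (f.wedge_subset_up x y) with hφ₁
  set φ₂ := Coef.ofLE x' (f.wedge x' y) (f.wedge_subset_up x' y) with hφ₂
  have hBC := (hX.2.2 0 x x' hx y y (le_refl y)).1
  let modN : Module (X.ring x) (H φ₂ X.str 0) := Module.compHom _ (X.res hx)
  have tower : IsScalarTower (X.ring x) (X.ring x') (H φ₂ X.str 0) :=
    IsScalarTower.of_algebraMap_smul fun _ _ => rfl
  let fL : H φ₁ X.str 0 →ₗ[X.ring x] H φ₂ X.str 0 :=
    { toFun := resH X.str (f.subSrc hx y) 0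
      map_add' := (resH X.str (f.subSrc hx y) 0).map_add
      map_smul' := (resH X.str (f.subSrc hx y) 0).map_smulₛₗ }
  have hBC' : IsBaseChange (X.ring x') fL := hBC
  let e := hBC'.equiv
  have he : ∀ (b : X.ring x') (m : H φ₁ X.str 0), e (b ⊗ₜ m) = b • fL m := hBC'.equiv_tmul
  -- evaluation at y
  have ymem : y ∈ f.wedge x y := ⟨hy, le_refl y⟩
  let ev : H φ₁ X.str 0 →ₗ[X.ring x] X.ring y :=
    { toFun := fun h => valH φ₁ X.str h ⟨y, ymem⟩
      map_add' := fun h h' => valH_add φ₁ X.str h h' _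
      map_smul' := fun a h => by rw [valH_smul]; rfl }
  have hev : Function.Bijective ev :=
    valH_min_bijective X φ₁ X.str ⟨y, ymem⟩ (fun q => q.2.2)
  let evE : H φ₁ X.str 0 ≃ₗ[X.ring x] X.ring y := LinearEquiv.ofBijective ev hev
  let θ₀ : X.ring x' ⊗[X.ring x] X.ring y ≃ₗ[X.ring x] X.ring x' ⊗[X.ring x] H φ₁ X.str 0 :=
    LinearEquiv.lTensor (X.ring x') evE.symm
  refine ⟨(secRing X φ₂).comp (e.toLinearMap.toAddMonoidHom.comp θ₀.toLinearMap.toAddMonoidHom), ?_, ?_⟩
  · exact (secRing_bijective X φ₂).comp (e.bijective.comp θ₀.bijective)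
  · intro b c q
    have h1 : ((secRing X φ₂).comp (e.toLinearMap.toAddMonoidHom.comp θ₀.toLinearMap.toAddMonoidHom)) (b ⊗ₜ c) =
        secRing X φ₂ (b • fL (evE.symm c)) := by
      change secRing X φ₂ (e (θ₀ (b ⊗ₜ c))) = _
      have : θ₀ (b ⊗ₜ c) = b ⊗ₜ evE.symm c := LinearEquiv.lTensor_tmul _ _ _ _
      rw [this, he]
    rw [h1, secRing_apply, valH_smul]
    have h2 : valH φ₂ X.str (fL (evE.symm c)) q =
        valH φ₁ X.str (evE.symm c) ⟨q.1, (f.subSrc hx y).le q.2⟩ :=
      valH_resH X.str (f.subSrc hx y) (evE.symm c) q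
    rw [h2]
    have h3 : valH φ₁ X.str (evE.symm c) ⟨q.1, (f.subSrc hx y).le q.2⟩ =
        X.str.res (show y ≤ q.1 from q.2.2) (valH φ₁ X.str (evE.symm c) ⟨y, ymem⟩) :=
      (valH_compat φ₁ X.str (evE.symm c) ⟨y, ymem⟩ ⟨q.1, (f.subSrc hx y).le q.2⟩ q.2.2).symm
    rw [h3]
    have h4 : valH φ₁ X.str (evE.symm c) ⟨y, ymem⟩ = c := evE.apply_symm_apply c
    rw [h4]
    rfl

/-- In a schematic finite space the restriction maps are ring epimorphisms. -/
theorem isEpi_res (hX : X.IsSchematic) {x y : X.pt} (h : x ≤ y) :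
    letI : Algebra (X.ring x) (X.ring y) := (X.res h).toAlgebra
    Algebra.IsEpi (X.ring x) (X.ring y) := by
  let alg : Algebra (X.ring x) (X.ring y) := (X.res h).toAlgebra
  obtain ⟨θ, hθ, hθf⟩ := schematic_deg0 X hX h h (X.up y)
    (fun q => ⟨fun hq => ⟨hq, hq⟩, fun hq => hq.1⟩)
  refine ⟨?_⟩
  have ymem : y ∈ X.up y := le_refl y
  have key : ∀ t : X.ring y ⊗[X.ring x] X.ring y,
      (θ t).1 ⟨y, ymem⟩ = lift (LinearMap.mul (X.ring x) (X.ring y)) t := by
    intro t
    induction t using TensorProduct.induction_on with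
    | zero => rw [map_zero, map_zero]; rfl
    | tmul b c =>
      rw [hθf b c ⟨y, ymem⟩, X.res_self, X.res_self]
      rfl
    | add s t hs ht =>
      rw [map_add, map_add, ← hs, ← ht]; rfl
  rw [injective_iff_map_eq_zero]
  intro t ht
  apply hθ.1
  rw [map_zero]
  apply Subtype.ext
  funext q
  have hq : y ≤ q.1 := q.2
  have := (θ t).2 ⟨y, ymem⟩ q hq
  rw [← this, key, ht, map_zero]
  rfl

/-- restriction maps in a schematic space are flat -/
theorem flat_res (hX : X.IsSchematic) {x y : X.pt} (h : x ≤ y) : (X.res h).Flat :=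
  hX.1.2 x y h

end Schematic

end Groth.Agent.Lib.Helper89.SchFinLib
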