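import Groth.Agent.Lib.Helper89.SplitCover
import Mathlib.CategoryTheory.Extensive

/-!
# Multiplicativity of the rank in towers over a finite étale base (helper89)

* `finrank_eq_zero_of_isEmpty`.
* `finrank_comp` : `φ` finite étale of constant rank `b`, `g` finite flat of constant rank `a`
  ⇒ `g ≫ φ` has constant rank `a * b`.
-/

open AlgebraicGeometry CategoryTheory CategoryTheory.Limits

universe u

namespace Groth.Agent.Lib.Helper89.SplitMul

open Groth.Agent.Lib.Helper89.SplitCover

theorem finrank_eq_zero_of_isEmpty {Y S : Scheme.{u}} [IsEmpty Y] (f : Y ⟶ S) [IsFinite f] [Flat f]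
    (s : S) : f.finrank s = 0 := by
  by_contra h
  have h1 : 1 ≤ f.finrank s := Nat.one_le_iff_ne_zero.mpr h
  have : Surjective (pullback.snd f (S.fromSpecResidueField s)) := by
    rw [← Scheme.Hom.one_le_finrank_iff_surjective]
    intro pt
    show 1 ≤ (pullback.snd f (S.fromSpecResidueField s)).finrank pt
    rw [Scheme.Hom.finrank_pullback_snd, Scheme.fromSpecResidueField_apply]
    exact h1
  obtain ⟨w, _⟩ := (pullback.snd f (S.fromSpecResidueField s)).surjective
    (⟨⊥, Ideal.isPrime_bot⟩ : PrimeSpectrum (S.residueField s))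
  exact IsEmpty.false ((pullback.fst f (S.fromSpecResidueField s)) w)

set_option maxHeartbeats 800000 in
/-- Multiplicativity of the rank in a tower `Y ⟶ X ⟶ S` with `X ⟶ S` finite étale. -/
theorem finrank_comp (b : ℕ) : ∀ {X S : Scheme.{u}} (φ : X ⟶ S) [IsFinite φ] [Etale φ],
    (∀ s, φ.finrank s = b) → ∀ {Y : Scheme.{u}} (g : Y ⟶ X) [IsFinite g] [Flat g] (a : ℕ),
    (∀ x, g.finrank x = a) → ∀ s, (g ≫ φ).finrank s = a * b := by
  induction b with
  | zero =>
    intro X S φ _ _ h Y g _ _ a ha s
    have hX : IsEmpty X := ⟨fun x => by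
      have := Scheme.Hom.one_le_finrank_map φ x
      rw [h] at this
      exact absurd this (by norm_num)⟩
    have hY : IsEmpty Y := ⟨fun y => hX.false (g y)⟩
    rw [finrank_eq_zero_of_isEmpty, Nat.mul_zero]
  | succ b ih =>
    intro X S φ _ _ h Y g _ _ a ha s
    have hφsurj : Surjective φ :=
      (Scheme.Hom.one_le_finrank_iff_surjective φ).mp (fun s => by
        show 1 ≤ φ.finrank s
        rw [h]; omega)
    obtain ⟨x, rfl⟩ := φ.surjective s
    rw [← Scheme.Hom.finrank_pullback_snd (g ≫ φ) φ x]
    -- the map `Y ×_S X ⟶ X ×_S X`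
    let m : pullback (g ≫ φ) φ ⟶ pullback φ φ :=
      pullback.map (g ≫ φ) φ φ φ g (𝟙 X) (𝟙 S) (by simp) (by simp)
    have hm1 : m ≫ pullback.fst φ φ = pullback.fst (g ≫ φ) φ ≫ g := pullback.lift_fst _ _ _
    have hm2 : m ≫ pullback.snd φ φ = pullback.snd (g ≫ φ) φ :=
      (pullback.lift_snd _ _ _).trans (Category.comp_id _)
    have sqL : IsPullback m (pullback.fst (g ≫ φ) φ) (pullback.fst φ φ) g := by
      refine IsPullback.of_right ?_ hm1 (IsPullback.of_hasPullback φ φ).flip
      rw [hm2]
      exact (IsPullback.of_hasPullback (g ≫ φ) φ).flip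
    have hmfin : IsFinite m := MorphismProperty.of_isPullback (P := @IsFinite) sqL.flip inferInstance
    have hmflat : Flat m := MorphismProperty.of_isPullback (P := @Flat) sqL.flip inferInstance
    -- decomposition of `X ×_S X`
    obtain ⟨hc⟩ := nonempty_isColimit_binaryCofanMk_of_isCompl (pullback.diagonal φ)
      (offDiag φ).ι (by rw [Scheme.Opens.opensRange_ι]; exact isCompl_diag_offDiag φ)
    have hvk := FinitaryExtensive.vanKampen _ hc
    have hc' : Nonempty (IsColimit (BinaryCofan.mk (pullback.fst m (pullback.diagonal φ))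
        (pullback.fst m (offDiag φ).ι))) :=
      ((BinaryCofan.isVanKampen_iff _).mp hvk
        (BinaryCofan.mk (pullback.fst m (pullback.diagonal φ)) (pullback.fst m (offDiag φ).ι))
        (pullback.snd m (pullback.diagonal φ)) (pullback.snd m (offDiag φ).ι) m
        pullback.condition.symm pullback.condition.symm).mpr
        ⟨IsPullback.of_hasPullback _ _, IsPullback.of_hasPullback _ _⟩
    obtain ⟨hc'⟩ := hc'
    rw [SplitRank.finrank_of_isColimit _ _ hc' (pullback.snd (g ≫ φ) φ) x]
    -- first summand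
    have sq1 : IsPullback (pullback.snd m (pullback.diagonal φ))
        (pullback.fst m (pullback.diagonal φ) ≫ pullback.fst (g ≫ φ) φ)
        (pullback.diagonal φ ≫ pullback.fst φ φ) g :=
      (IsPullback.of_hasPullback m (pullback.diagonal φ)).flip.paste_vert sqL
    have hiso1 : IsIso (pullback.diagonal φ ≫ pullback.fst φ φ) := by
      rw [pullback.diagonal_fst]; infer_instance
    have hiso2 : IsIso (pullback.fst m (pullback.diagonal φ) ≫ pullback.fst (g ≫ φ) φ) :=
      sq1.isIso_snd_of_isIso
    have e1 : pullback.fst m (pullback.diagonal φ) ≫ pullback.snd (g ≫ φ) φ =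
        (pullback.fst m (pullback.diagonal φ) ≫ pullback.fst (g ≫ φ) φ) ≫ g := by
      rw [← sq1.w, pullback.diagonal_fst, Category.comp_id, ← hm2, ← Category.assoc,
        pullback.condition, Category.assoc, pullback.diagonal_snd, Category.comp_id]
    have t1 : (pullback.fst m (pullback.diagonal φ) ≫ pullback.snd (g ≫ φ) φ).finrank x = a := by
      rw [e1, Scheme.Hom.finrank_comp_left_of_isIso, ha]
    -- second summand
    have sq2 : IsPullback (pullback.snd m (offDiag φ).ι)
        (pullback.fst m (offDiag φ).ι ≫ pullback.fst (g ≫ φ) φ)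
        ((offDiag φ).ι ≫ pullback.fst φ φ) g :=
      (IsPullback.of_hasPullback m (offDiag φ).ι).flip.paste_vert sqL
    have e2 : pullback.fst m (offDiag φ).ι ≫ pullback.snd (g ≫ φ) φ =
        pullback.snd m (offDiag φ).ι ≫ offDiagHom φ := by
      unfold offDiagHom
      rw [← hm2, ← Category.assoc, pullback.condition, Category.assoc]
    have hrank : ∀ x, (offDiagHom φ).finrank x = b := fun x => by
      have := finrank_offDiagHom φ x
      rw [h] at this
      omega
    have hg' : ∀ x', (pullback.snd m (offDiag φ).ι).finrank x' = a := fun x' => by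
      rw [Scheme.Hom.finrank_of_isPullback _ _ _ _ sq2.flip x', ha]
    have t2 : (pullback.fst m (offDiag φ).ι ≫ pullback.snd (g ≫ φ) φ).finrank x = a * b := by
      rw [e2]
      exact ih (offDiagHom φ) hrank (pullback.snd m (offDiag φ).ι) a hg' x
    rw [t1, t2]
    ring

/-- The inductive step of the trivialisation, as a standalone statement. -/
theorem isTrivialisedBy_step {X S Y : Scheme.{u}} (φ : X ⟶ S) [IsFinite φ] [Etale φ] (n : ℕ)
    (ψ' : Y ⟶ X) (t' : Fin n → (Y ⟶ (offDiag φ).toScheme))
    (H' : IsTrivialisedBy (offDiagHom φ) ψ' n t') :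
    IsTrivialisedBy φ (ψ' ≫ φ) (n + 1)
      (Fin.cons ψ' (fun i => t' i ≫ (offDiag φ).ι ≫ pullback.fst φ φ)) := by
  have hcomp' : ∀ i, t' i ≫ (offDiag φ).ι ≫ pullback.snd φ φ = ψ' := H'.comp
  refine ⟨?_, ?_, ?_⟩
  · intro i
    refine Fin.cases ?_ (fun i => ?_) i
    · rw [Fin.cons_zero]
    · rw [Fin.cons_succ, Category.assoc, Category.assoc, pullback.condition, ← hcomp' i]
      simp only [Category.assoc]
  · intro K _ y i k
    have key : ∀ k : Fin n, y ≫ ψ' ≠ y ≫ t' k ≫ (offDiag φ).ι ≫ pullback.fst φ φ := by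
      intro k hk
      let b : Spec (CommRingCat.of K) ⟶ pullback φ φ := y ≫ t' k ≫ (offDiag φ).ι
      have hb : b ≫ pullback.fst φ φ = b ≫ pullback.snd φ φ := by
        simp only [b, Category.assoc]
        rw [← hk, hcomp' k]
      have hb2 := eq_diag_of φ b hb
      let s : Spec (CommRingCat.of K) := (⟨⊥, Ideal.isPrime_bot⟩ : PrimeSpectrum K)
      have h1 : b s ∈ offDiag φ := by
        simp only [b, Scheme.Hom.comp_apply]
        exact ι_mem_offDiag φ _
      have h2 : b s ∈ Set.range (pullback.diagonal φ) := by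
        rw [hb2, Scheme.Hom.comp_apply]
        exact ⟨_, rfl⟩
      exact (mem_offDiag φ _).mp h1 h2
    refine Fin.cases ?_ (fun i => ?_) i <;> refine Fin.cases ?_ (fun k => ?_) k
    · intro _; rfl
    · intro hh
      rw [Fin.cons_zero, Fin.cons_succ] at hh
      exact (key k hh).elim
    · intro hh
      rw [Fin.cons_zero, Fin.cons_succ] at hh
      exact (key i hh.symm).elim
    · intro hh
      rw [Fin.cons_succ, Fin.cons_succ] at hh
      have h1 : y ≫ t' i ≫ (offDiag φ).ι = y ≫ t' k ≫ (offDiag φ).ι := by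
        apply pullback.hom_ext
        · simpa only [Category.assoc] using hh
        · simp only [Category.assoc]
          rw [hcomp' i, hcomp' k]
      have h2 : y ≫ t' i = y ≫ t' k := by
        rw [← cancel_mono (offDiag φ).ι]
        simpa only [Category.assoc] using h1
      rw [H'.inj K y i k h2]
  · intro K _ x y hxy
    let s : Spec (CommRingCat.of K) := (⟨⊥, Ideal.isPrime_bot⟩ : PrimeSpectrum K)
    let b : Spec (CommRingCat.of K) ⟶ pullback φ φ :=
      pullback.lift x (y ≫ ψ') (by rw [hxy, Category.assoc])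
    have hb1 : b ≫ pullback.fst φ φ = x := pullback.lift_fst _ _ _
    have hb2 : b ≫ pullback.snd φ φ = y ≫ ψ' := pullback.lift_snd _ _ _
    by_cases hmem : b s ∈ Set.range (pullback.diagonal φ)
    · refine ⟨0, ?_⟩
      rw [Fin.cons_zero]
      have hsub : Set.range b ⊆ Set.range (pullback.diagonal φ) :=
        range_subset_of_mem b _ s hmem
      let c := IsOpenImmersion.lift (pullback.diagonal φ) b hsub
      have hc : c ≫ pullback.diagonal φ = b := IsOpenImmersion.lift_fac _ _ _
      have e1 : x = c := by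
        rw [← hb1, ← hc, Category.assoc, pullback.diagonal_fst, Category.comp_id]
      have e2 : y ≫ ψ' = c := by
        rw [← hb2, ← hc, Category.assoc, pullback.diagonal_snd, Category.comp_id]
      rw [e1, e2]
    · have hsub : Set.range b ⊆ Set.range (offDiag φ).ι := by
        rw [Scheme.Opens.range_ι]
        exact range_subset_of_mem b _ s ((mem_offDiag φ _).mpr hmem)
      let c := IsOpenImmersion.lift (offDiag φ).ι b hsub
      have hc : c ≫ (offDiag φ).ι = b := IsOpenImmersion.lift_fac _ _ _
      have hc2 : c ≫ offDiagHom φ = y ≫ ψ' := by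
        unfold offDiagHom
        rw [← Category.assoc, hc, hb2]
      obtain ⟨i, hi⟩ := H'.surj K c y hc2
      refine ⟨i.succ, ?_⟩
      rw [Fin.cons_succ, ← hb1, ← hc, hi]
      simp only [Category.assoc]

/-- A finite étale morphism of constant rank `n` is trivialised by a finite étale surjective
morphism of constant rank `n!`. -/
theorem exists_trivialisation_factorial (n : ℕ) :
    ∀ {X S : Scheme.{u}} (φ : X ⟶ S) [IsFinite φ] [Etale φ], (∀ s, φ.finrank s = n) →
    ∃ (Y : Scheme.{u}) (ψ : Y ⟶ S) (t : Fin n → (Y ⟶ X)) (_ : IsFinite ψ) (_ : Etale ψ),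
      Surjective ψ ∧ (∀ s, ψ.finrank s = n.factorial) ∧ IsTrivialisedBy φ ψ n t := by
  induction n with
  | zero =>
    intro X S φ _ _ h
    have hX : IsEmpty X := ⟨fun x => by
      have := Scheme.Hom.one_le_finrank_map φ x
      rw [h] at this
      exact absurd this (by norm_num)⟩
    refine ⟨S, 𝟙 S, Fin.elim0, inferInstance, inferInstance, inferInstance, fun s => ?_,
      ⟨fun i => i.elim0, fun _ _ _ i => i.elim0, fun K _ x y _ => ?_⟩⟩
    · rw [Scheme.Hom.finrank_eq_one_of_isIso]; rfl
    · exact (hX.false (x (⟨⊥, Ideal.isPrime_bot⟩ : PrimeSpectrum K))).elim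
  | succ n ih =>
    intro X S φ _ _ h
    have hrank : ∀ x, (offDiagHom φ).finrank x = n := fun x => by
      have := finrank_offDiagHom φ x
      rw [h] at this
      omega
    obtain ⟨Y, ψ', t', hfin, het, hsurj, hfact, H'⟩ := ih (offDiagHom φ) hrank
    have hφsurj : Surjective φ :=
      (Scheme.Hom.one_le_finrank_iff_surjective φ).mp (fun s => by
        show 1 ≤ φ.finrank s
        rw [h]; omega)
    refine ⟨Y, ψ' ≫ φ, Fin.cons ψ' (fun i => t' i ≫ (offDiag φ).ι ≫ pullback.fst φ φ),
      inferInstance, inferInstance, inferInstance, fun s => ?_, isTrivialisedBy_step φ n ψ' t' H'⟩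
    rw [finrank_comp (n + 1) φ h ψ' n.factorial hfact s, Nat.factorial_succ, Nat.mul_comm]

end Groth.Agent.Lib.Helper89.SplitMul
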