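import Mathlib.AlgebraicGeometry.Morphisms.FlatRank
import Mathlib.AlgebraicGeometry.Morphisms.Etale
import Mathlib.AlgebraicGeometry.Limits

/-!
# Additivity of the rank of finite flat morphisms on disjoint unions (helper89)

* `finrank_fromSpec` : `f.finrank (hV.fromSpec p) = (f.app V).hom.finrank p` for `V` affine open.
* `finrank_coprodDesc` : `(coprod.desc f g).finrank y = f.finrank y + g.finrank y`.
* `finrank_of_isColimit` : the same for an arbitrary binary coproduct cocone.
-/

open AlgebraicGeometry CategoryTheory CategoryTheory.Limits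

universe u

namespace Groth.Agent.Lib.Helper89.SplitRank

variable {X Y : Scheme.{u}}

theorem flat_app (f : X ⟶ Y) [IsAffineHom f] [Flat f] {V : Y.Opens} (hV : IsAffineOpen V) :
    (f.app V).hom.Flat := by
  rw [Scheme.Hom.app_eq_appLE]
  exact f.flat_appLE hV (hV.preimage f) le_rfl

/-- The degree of a finite flat morphism at a point of an affine open `V`. -/
theorem finrank_fromSpec (f : X ⟶ Y) [IsFinite f] [Flat f] {V : Y.Opens}
    (hV : IsAffineOpen V) (p : PrimeSpectrum Γ(Y, V)) :
    f.finrank (hV.fromSpec p) = (f.app V).hom.finrank p := by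
  have hV' : IsAffineOpen (f ⁻¹ᵁ V) := hV.preimage f
  have hpb : IsPullback (Spec.map (f.appLE V (f ⁻¹ᵁ V) le_rfl)) hV'.fromSpec hV.fromSpec f := by
    apply IsOpenImmersion.isPullback
    · exact (IsAffineOpen.SpecMap_appLE_fromSpec f hV hV' le_rfl).symm
    · rw [hV.opensRange_fromSpec, hV'.opensRange_fromSpec]
  have h1 := Scheme.Hom.finrank_of_isPullback _ _ _ _ hpb.flip p
  rw [← h1, ← Scheme.Hom.app_eq_appLE]
  rw [Scheme.Hom.finrank_SpecMap_eq_finrank (f.finite_app V hV) (flat_app f hV)]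

/-- Ring level: the rank of a product algebra is the sum of the ranks. -/
theorem ringHom_finrank_prod {R A B : Type u} [CommRing R] [CommRing A] [CommRing B]
    (φ : R →+* A) (ψ : R →+* B) (hφ : φ.Finite) (hφ' : φ.Flat) (hψ : ψ.Finite) (hψ' : ψ.Flat)
    (p : PrimeSpectrum R) :
    (φ.prod ψ).finrank p = φ.finrank p + ψ.finrank p := by
  algebraize [φ, ψ]
  have h : (φ.prod ψ).toAlgebra = Prod.algebra R A B := Algebra.algebra_ext _ _ (fun r => rfl)
  unfold RingHom.finrank
  rw [h]
  have := Module.rankAtStalk_prod (R := R) A B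
  exact congrFun this p

set_option backward.isDefEq.respectTransparency false in
/-- The rank of `U ⨿ V ⟶ Y` is the sum of the ranks. -/
theorem finrank_coprodDesc {U V Y : Scheme.{u}} (f : U ⟶ Y) (g : V ⟶ Y) [IsFinite f] [Flat f]
    [IsFinite g] [Flat g] [Flat (coprod.desc f g)] (y : Y) :
    (coprod.desc f g).finrank y = f.finrank y + g.finrank y := by
  obtain ⟨_, ⟨W, hW : IsAffineOpen W, rfl⟩, hyW, -⟩ :=
    (Y.isBasis_affineOpens).exists_subset_of_mem_open (Set.mem_univ y) isOpen_univ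
  obtain ⟨p, rfl⟩ : ∃ p, hW.fromSpec p = y :=
    ⟨hW.primeIdealOf ⟨y, hyW⟩, hW.fromSpec_primeIdealOf ⟨y, hyW⟩⟩
  rw [finrank_fromSpec _ hW, finrank_fromSpec _ hW, finrank_fromSpec _ hW]
  let e : Γ(U ⨿ V, coprod.desc f g ⁻¹ᵁ W) ≅ Γ(U, f ⁻¹ᵁ W) ⨯ Γ(V, g ⁻¹ᵁ W) :=
    Scheme.coprodPresheafObjIso _ ≪≫ Limits.prod.mapIso
      (U.presheaf.mapIso (eqToIso (by simp [← Scheme.Hom.comp_preimage])).op)
      (V.presheaf.mapIso (eqToIso (by simp [← Scheme.Hom.comp_preimage])).op)
  let e' := ((Limits.limit.isLimit _).conePointUniqueUpToIso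
    (CommRingCat.prodFanIsLimit Γ(U, f ⁻¹ᵁ W) Γ(V, g ⁻¹ᵁ W)))
  have h1 : (coprod.desc f g).app W ≫ e.hom ≫ Limits.prod.fst = f.app W := by
    simp [e, Scheme.Hom.app_eq_appLE, Scheme.Hom.appLE_comp_appLE]
  have h2 : (coprod.desc f g).app W ≫ e.hom ≫ Limits.prod.snd = g.app W := by
    simp [e, Scheme.Hom.app_eq_appLE, Scheme.Hom.appLE_comp_appLE]
  have hbij : Function.Bijective (e.hom ≫ e'.hom).hom :=
    ConcreteCategory.bijective_of_isIso (e.hom ≫ e'.hom)
  rw [← RingHom.finrank_comp_left_of_bijective _ _ hbij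
    ((coprod.desc f g).finite_app W hW) (flat_app _ hW)]
  have h3 : (e.hom ≫ e'.hom).hom.comp ((coprod.desc f g).app W).hom =
      (f.app W).hom.prod (g.app W).hom := by
    have hf1 : e'.hom ≫ CommRingCat.ofHom (RingHom.fst _ _) = Limits.prod.fst :=
      IsLimit.conePointUniqueUpToIso_hom_comp _ _ (⟨WalkingPair.left⟩ : Discrete WalkingPair)
    have hf2 : e'.hom ≫ CommRingCat.ofHom (RingHom.snd _ _) = Limits.prod.snd :=
      IsLimit.conePointUniqueUpToIso_hom_comp _ _ (⟨WalkingPair.right⟩ : Discrete WalkingPair)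
    refine RingHom.ext fun x => Prod.ext ?_ ?_
    · have := congr(($h1).hom x)
      rw [← hf1] at this
      exact this
    · have := congr(($h2).hom x)
      rw [← hf2] at this
      exact this
  rw [h3]
  exact ringHom_finrank_prod _ _ (f.finite_app W hW) (flat_app f hW) (g.finite_app W hW)
    (flat_app g hW) p

/-- Properties local at the source pass to `coprod.desc`. -/
theorem coprodDesc_of_local {P : MorphismProperty Scheme.{u}} [IsZariskiLocalAtSource P]
    {U V Y : Scheme.{u}} (f : U ⟶ Y) (g : V ⟶ Y) (hf : P f) (hg : P g) :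
    P (coprod.desc f g) := by
  rw [IsZariskiLocalAtSource.iff_of_openCover (P := P) (coprodOpenCover.{_, u} U V)]
  rintro (⟨⟩ | ⟨⟩)
  · change P (coprod.inl ≫ coprod.desc f g)
    rw [coprod.inl_desc]; exact hf
  · change P (coprod.inr ≫ coprod.desc f g)
    rw [coprod.inr_desc]; exact hg

set_option backward.isDefEq.respectTransparency.types false in
/-- Rank additivity for an arbitrary binary coproduct decomposition of the source. -/
theorem finrank_of_isColimit {A B X Y : Scheme.{u}} (iA : A ⟶ X) (iB : B ⟶ X)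
    (hc : IsColimit (BinaryCofan.mk iA iB)) (f : X ⟶ Y) [IsFinite f] [Flat f]
    [IsFinite (iA ≫ f)] [Flat (iA ≫ f)] [IsFinite (iB ≫ f)] [Flat (iB ≫ f)] (y : Y) :
    f.finrank y = (iA ≫ f).finrank y + (iB ≫ f).finrank y := by
  let e : A ⨿ B ≅ X := (colimit.isColimit (pair A B)).coconePointUniqueUpToIso hc
  have h1 : coprod.inl ≫ e.hom = iA :=
    IsColimit.comp_coconePointUniqueUpToIso_hom (colimit.isColimit (pair A B)) hc
      (⟨WalkingPair.left⟩ : Discrete WalkingPair)
  have h2 : coprod.inr ≫ e.hom = iB :=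
    IsColimit.comp_coconePointUniqueUpToIso_hom (colimit.isColimit (pair A B)) hc
      (⟨WalkingPair.right⟩ : Discrete WalkingPair)
  have h3 : e.hom ≫ f = coprod.desc (iA ≫ f) (iB ≫ f) := by
    apply coprod.hom_ext
    · rw [coprod.inl_desc, ← Category.assoc, h1]
    · rw [coprod.inr_desc, ← Category.assoc, h2]
  have : Flat (coprod.desc (iA ≫ f) (iB ≫ f)) :=
    coprodDesc_of_local (P := @Flat) _ _ inferInstance inferInstance
  rw [← finrank_coprodDesc, ← h3, Scheme.Hom.finrank_comp_left_of_isIso]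

end Groth.Agent.Lib.Helper89.SplitRank
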