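import Mathlib
import Groth.Agent.Lib.Helper89.SplitRank
import Groth.Agent.Lib.Helper89.SplitMul

/-!
# Counting sections of a finite étale morphism of constant rank (helper89)
-/

open AlgebraicGeometry CategoryTheory CategoryTheory.Limits TopologicalSpace

universe u

namespace Groth.Agent.Lib.Helper89.Sec

theorem isOpenImmersion_section {P T : Scheme.{u}} (p : P ⟶ T) [Etale p] (σ : T ⟶ P)
    (hσ : σ ≫ p = 𝟙 T) : IsOpenImmersion σ := by
  have h1 : Etale (σ ≫ p) := by rw [hσ]; infer_instance
  have h2 : Etale σ := Etale.of_comp σ p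
  have h3 : Mono σ := mono_of_mono_fac hσ
  exact IsOpenImmersion.of_flat_of_mono σ

theorem isClosed_range_section {P T : Scheme.{u}} (p : P ⟶ T) [IsSeparated p] (σ : T ⟶ P)
    (hσ : σ ≫ p = 𝟙 T) : IsClosed (Set.range σ) := by
  have h1 : IsClosedImmersion (σ ≫ p) := by rw [hσ]; infer_instance
  have h2 : IsClosedImmersion σ := IsClosedImmersion.of_comp σ p
  exact σ.isClosedEmbedding.isClosed_range

theorem count_sections : ∀ (k n : ℕ) {P T : Scheme.{u}} [Nonempty T] (p : P ⟶ T) [IsFinite p]
    [Etale p], (∀ t, p.finrank t = n) → ∀ (σ : Fin k → (T ⟶ P)), (∀ i, σ i ≫ p = 𝟙 T) →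
    (∀ i j, i ≠ j → Disjoint (Set.range (σ i)) (Set.range (σ j))) →
    k ≤ n ∧ (k = n → ⋃ i, Set.range (σ i) = Set.univ) := by
  intro k
  induction k with
  | zero =>
    intro n P T _ p _ _ hrank σ hσ hdisj
    refine ⟨Nat.zero_le _, fun h0 => ?_⟩
    have hP : IsEmpty P := ⟨fun x => by
      have := Scheme.Hom.one_le_finrank_map p x
      rw [hrank, ← h0] at this
      exact absurd this (by norm_num)⟩
    ext x
    exact (hP.false x).elim
  | succ k ih =>
    intro n P T _ p _ _ hrank σ hσ hdisj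
    have hopen : IsOpenImmersion (σ 0) := isOpenImmersion_section p (σ 0) (hσ 0)
    have hclosed : IsClosed (Set.range (σ 0)) := isClosed_range_section p (σ 0) (hσ 0)
    let C : P.Opens := ⟨(Set.range (σ 0))ᶜ, hclosed.isOpen_compl⟩
    have hCclosed : IsClosed (C : Set P) := (σ 0).isOpenEmbedding.isOpen_range.isClosed_compl
    have hCci : IsClosedImmersion C.ι := IsClosedImmersion.of_isPreimmersion _ (by
      rw [Scheme.Opens.range_ι]; exact hCclosed)
    have hcompl : IsCompl (σ 0).opensRange C.ι.opensRange := by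
      rw [Scheme.Opens.opensRange_ι]
      constructor
      · rw [disjoint_iff]
        ext z
        simp only [Opens.coe_inf, Scheme.Hom.coe_opensRange, Opens.coe_bot, Set.mem_inter_iff,
          Set.mem_empty_iff_false, iff_false, not_and]
        intro h1 h2
        exact h2 h1
      · rw [codisjoint_iff]
        ext z
        simp only [Opens.coe_sup, Scheme.Hom.coe_opensRange, Opens.coe_top, Set.mem_union,
          Set.mem_univ, iff_true]
        exact Classical.em _
    obtain ⟨hc⟩ := nonempty_isColimit_binaryCofanMk_of_isCompl (σ 0) C.ι hcompl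
    have hf1 : IsFinite (σ 0 ≫ p) := by rw [hσ 0]; infer_instance
    have hf2 : Flat (σ 0 ≫ p) := by rw [hσ 0]; infer_instance
    have hrankadd : ∀ t, p.finrank t = 1 + (C.ι ≫ p).finrank t := by
      intro t
      rw [SplitRank.finrank_of_isColimit (σ 0) C.ι hc p t]
      congr 1
      have : (σ 0 ≫ p).finrank = 1 := by
        rw [hσ 0]; exact Scheme.Hom.finrank_eq_one_of_isIso (𝟙 T)
      rw [this]; rfl
    have hrankC : ∀ t, (C.ι ≫ p).finrank t = n - 1 := by
      intro t
      have := hrankadd t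
      rw [hrank] at this
      omega
    have hn1 : 1 ≤ n := by
      obtain ⟨t⟩ := (inferInstance : Nonempty T)
      have := hrankadd t
      rw [hrank] at this
      omega
    -- lifted sections
    have hsub : ∀ i : Fin k, Set.range (σ i.succ) ⊆ Set.range C.ι := by
      intro i
      rw [Scheme.Opens.range_ι]
      intro z hz hz0
      exact Set.disjoint_left.mp (hdisj i.succ 0 (Fin.succ_ne_zero i)) hz hz0
    let σ' : Fin k → (T ⟶ (C : Scheme.{u})) := fun i =>
      IsOpenImmersion.lift C.ι (σ i.succ) (hsub i)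
    have hσ'ι : ∀ i, σ' i ≫ C.ι = σ i.succ := fun i => IsOpenImmersion.lift_fac _ _ _
    have hσ' : ∀ i, σ' i ≫ (C.ι ≫ p) = 𝟙 T := fun i => by
      rw [← Category.assoc, hσ'ι, hσ]
    have hdisj' : ∀ i j, i ≠ j → Disjoint (Set.range (σ' i)) (Set.range (σ' j)) := by
      intro i j hij
      rw [Set.disjoint_left]
      rintro z ⟨a, rfl⟩ ⟨b, hb⟩
      have h1 : σ i.succ a = σ j.succ b := by
        rw [← hσ'ι i, ← hσ'ι j, Scheme.Hom.comp_apply, Scheme.Hom.comp_apply, hb]
      exact Set.disjoint_left.mp (hdisj i.succ j.succ (fun h => hij (Fin.succ_injective _ h)))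
        ⟨a, rfl⟩ ⟨b, h1.symm⟩
    obtain ⟨ih1, ih2⟩ := ih (n - 1) (C.ι ≫ p) hrankC σ' hσ' hdisj'
    refine ⟨by omega, fun hkn => ?_⟩
    have hk : k = n - 1 := by omega
    have hU := ih2 hk
    ext z
    simp only [Set.mem_iUnion, Set.mem_univ, iff_true]
    by_cases hz : z ∈ Set.range (σ 0)
    · exact ⟨0, hz⟩
    · have hzC : z ∈ Set.range C.ι := by rw [Scheme.Opens.range_ι]; exact hz
      obtain ⟨c, rfl⟩ := hzC
      have : c ∈ ⋃ i, Set.range (σ' i) := by rw [hU]; trivial
      obtain ⟨i, a, ha⟩ := Set.mem_iUnion.mp this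
      refine ⟨i.succ, a, ?_⟩
      rw [← hσ'ι i, Scheme.Hom.comp_apply, ha]

end Groth.Agent.Lib.Helper89.Sec
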