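import Groth.Agent.Lib.Helper89.Sec1
import Groth.Agent.Lib.QCoh.Helper74_LocFreeDeg

/-!
# Morphisms from a connected scheme into a finite étale cover of degree `n` (helper89)
-/

open AlgebraicGeometry CategoryTheory CategoryTheory.Limits TopologicalSpace

universe u

namespace Groth.Agent.Lib.Helper89.Sec

theorem finrank_eq_of_isFinLocFreeOfRank {X Y : Scheme.{u}} (f : X ⟶ Y) [IsFinite f] [Flat f]
    (n : ℕ)
    (hdeg : FlatMod.IsFinLocFreeOfRank n
      ((Scheme.Modules.pushforward f).obj (Coh.structureModule X))) (y : Y) :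
    f.finrank y = n := by
  have hE : FlatMod.IsFinLocFree ((Scheme.Modules.pushforward f).obj (Coh.structureModule X)) :=
    fun x => by
      obtain ⟨U, hx, h⟩ := hdeg x
      exact ⟨U, n, hx, h⟩
  have h := (Groth.Agent.Lib.QCoh.isFinLocFreeOfRank_iff_rankAtStalk hE n).mp hdeg
  obtain ⟨V, hV, hyV, -⟩ := exists_isAffineOpen_mem_and_subset (U := ⊤) (x := y) (by simp)
  have hy : hV.fromSpec (hV.primeIdealOf ⟨y, hyV⟩) = y := hV.fromSpec_primeIdealOf ⟨y, hyV⟩
  rw [← hy, Groth.Agent.Lib.QCoh.finrank_fromSpec_eq_rankAtStalk f hV, h V hV]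

variable {X Y X' : Scheme.{u}} (f : X ⟶ Y) (φ : X' ⟶ Y)

/-- the section of the base change attached to a morphism over `Y` -/
noncomputable def sec (t : Over.mk φ ⟶ Over.mk f) : X' ⟶ pullback f φ :=
  pullback.lift t.left (𝟙 X') (by
    have := Over.w t
    simp only [Over.mk_left, Over.mk_hom] at this
    rw [this, Category.id_comp])

lemma sec_snd (t : Over.mk φ ⟶ Over.mk f) : sec f φ t ≫ pullback.snd f φ = 𝟙 X' :=
  pullback.lift_snd _ _ _

lemma sec_fst (t : Over.mk φ ⟶ Over.mk f) : sec f φ t ≫ pullback.fst f φ = t.left :=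
  pullback.lift_fst _ _ _

lemma sec_injective : Function.Injective (sec f φ) := by
  intro t t' h
  apply Over.OverMorphism.ext
  rw [← sec_fst f φ t, ← sec_fst f φ t', h]

theorem disjoint_sec [IsFinite f] [Etale f] [ConnectedSpace X'] (t t' : Over.mk φ ⟶ Over.mk f)
    (hne : t ≠ t') : Disjoint (Set.range (sec f φ t)) (Set.range (sec f φ t')) := by
  rw [Set.disjoint_left]
  rintro z ⟨a, rfl⟩ ⟨b, hb⟩
  apply hne
  apply sec_injective f φ
  have ho : IsOpenImmersion (sec f φ t') :=
    isOpenImmersion_section (pullback.snd f φ) _ (sec_snd f φ t')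
  have hc : IsClosed (Set.range (sec f φ t')) :=
    isClosed_range_section (pullback.snd f φ) _ (sec_snd f φ t')
  let E : Set X' := (sec f φ t) ⁻¹' Set.range (sec f φ t')
  have hE : IsClopen E := ⟨hc.preimage (sec f φ t).continuous,
    (sec f φ t').isOpenEmbedding.isOpen_range.preimage (sec f φ t).continuous⟩
  have hEu : E = Set.univ := hE.eq_univ ⟨a, b, hb⟩
  have hsub : Set.range (sec f φ t) ⊆ Set.range (sec f φ t') := by
    rintro _ ⟨c, rfl⟩
    have : c ∈ E := by rw [hEu]; trivial
    exact this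
  have hl := IsOpenImmersion.lift_fac (sec f φ t') (sec f φ t) hsub
  have h1 : IsOpenImmersion.lift (sec f φ t') (sec f φ t) hsub = 𝟙 X' := by
    have := congrArg (· ≫ pullback.snd f φ) hl
    simp only [Category.assoc, sec_snd, Category.comp_id] at this
    exact this
  rw [h1, Category.id_comp] at hl
  exact hl.symm

theorem main [IsFinite f] [Etale f] (n : ℕ) (hrank : ∀ y, f.finrank y = n)
    [Nonempty X'] [ConnectedSpace X'] :
    Finite (Over.mk φ ⟶ Over.mk f) ∧ Nat.card (Over.mk φ ⟶ Over.mk f) ≤ n ∧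
      (Nat.card (Over.mk φ ⟶ Over.mk f) = n ↔
        ∃ e : pullback f φ ≅ ∐ fun _ : Fin n => X',
          e.hom ≫ Sigma.desc (fun _ : Fin n => 𝟙 X') = pullback.snd f φ) := by
  have hrankp : ∀ t, (pullback.snd f φ).finrank t = n := fun t => by
    rw [Scheme.Hom.finrank_pullback_snd, hrank]
  have hcount : ∀ (k : ℕ) (ι : Fin k → (Over.mk φ ⟶ Over.mk f)), Function.Injective ι →
      k ≤ n ∧ (k = n → ⋃ i, Set.range (sec f φ (ι i)) = Set.univ) := by
    intro k ι hι
    exact count_sections k n (pullback.snd f φ) hrankp (fun i => sec f φ (ι i))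
      (fun i => sec_snd f φ (ι i))
      (fun i j hij => disjoint_sec f φ _ _ (fun h => hij (hι h)))
  have hfin : Finite (Over.mk φ ⟶ Over.mk f) := by
    by_contra h
    haveI : Infinite (Over.mk φ ⟶ Over.mk f) := not_finite_iff_infinite.mp h
    let e := Infinite.natEmbedding (Over.mk φ ⟶ Over.mk f)
    have := (hcount (n + 1) (fun i => e i.1)
      (fun i j hij => Fin.ext (e.injective hij))).1
    omega
  have hle : Nat.card (Over.mk φ ⟶ Over.mk f) ≤ n := by
    let e := Finite.equivFin (Over.mk φ ⟶ Over.mk f)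
    exact (hcount _ (fun i => e.symm i) e.symm.injective).1
  refine ⟨hfin, hle, ⟨fun hcard => ?_, ?_⟩⟩
  · subst hcard
    let e := Finite.equivFin (Over.mk φ ⟶ Over.mk f)
    have hU := (hcount _ (fun i => e.symm i) e.symm.injective).2 rfl
    let h : (∐ fun _ : Fin (Nat.card (Over.mk φ ⟶ Over.mk f)) => X') ⟶ pullback f φ :=
      Sigma.desc fun i => sec f φ (e.symm i)
    have hoi : ∀ i, IsOpenImmersion (sec f φ (e.symm i)) := fun i =>
      isOpenImmersion_section (pullback.snd f φ) _ (sec_snd f φ _)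
    have hopen : IsOpenImmersion h := by
      apply isOpenImmersion_sigmaDesc
      intro i j hij
      exact disjoint_sec f φ _ _ (fun h => hij (e.symm.injective h))
    have hiso : IsIso h := by
      apply isIso_of_isOpenImmersion_of_opensRange_eq_top
      rw [eq_top_iff]
      intro z _
      have : z ∈ ⋃ i, Set.range (sec f φ (e.symm i)) := by rw [hU]; trivial
      obtain ⟨i, a, ha⟩ := Set.mem_iUnion.mp this
      refine ⟨Sigma.ι (fun _ => X') i a, ?_⟩
      rw [← Scheme.Hom.comp_apply]
      simp only [h, Sigma.ι_desc]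
      exact ha
    refine ⟨(asIso h).symm, ?_⟩
    simp only [Iso.symm_hom, asIso_inv, IsIso.inv_comp_eq]
    apply Sigma.hom_ext
    intro i
    simp only [h, Sigma.ι_desc, Sigma.ι_desc_assoc, sec_snd]
  · rintro ⟨e, he⟩
    have he' : e.inv ≫ pullback.snd f φ = Sigma.desc (fun _ : Fin n => 𝟙 X') := by
      rw [← he, Iso.inv_hom_id_assoc]
    let t : Fin n → (Over.mk φ ⟶ Over.mk f) := fun i =>
      Over.homMk (Sigma.ι (fun _ : Fin n => X') i ≫ e.inv ≫ pullback.fst f φ) (by
        simp only [Over.mk_left, Over.mk_hom, Category.assoc]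
        rw [pullback.condition, reassoc_of% he', Sigma.ι_desc_assoc, Category.id_comp])
    have hsec : ∀ i, sec f φ (t i) = Sigma.ι (fun _ : Fin n => X') i ≫ e.inv := by
      intro i
      apply pullback.hom_ext
      · rw [sec_fst]; simp [t]
      · rw [sec_snd, Category.assoc, he', Sigma.ι_desc]
    have htinj : Function.Injective t := by
      intro i j hij
      have h1 : Sigma.ι (fun _ : Fin n => X') i ≫ e.inv = Sigma.ι (fun _ : Fin n => X') j ≫ e.inv := by
        rw [← hsec, ← hsec, hij]
      have h2 : Sigma.ι (fun _ : Fin n => X') i = Sigma.ι (fun _ : Fin n => X') j := by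
        rwa [cancel_mono] at h1
      by_contra hne
      obtain ⟨x'⟩ := (inferInstance : Nonempty X')
      have h3 := disjoint_opensRange_sigmaι (fun _ : Fin n => X') i j hne
      rw [disjoint_iff, eq_bot_iff] at h3
      exact h3 ⟨⟨x', rfl⟩, ⟨x', by rw [h2]⟩⟩
    have := Nat.card_le_card_of_injective t htinj
    rw [Nat.card_fin] at this
    omega

end Groth.Agent.Lib.Helper89.Sec
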