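import Mathlib
import Groth.Prelude.Def_SGA1
import Groth.Agent.Lib.Helper89.EtaleDescent2
import Groth.Agent.Lib.Helper89.EtaleDescent3

/-!
# Descent of properties of morphisms along universally submersive morphisms

* `universallyClosed_of_univSubmersive`
* `isSeparated_of_univSubmersive`
* `quasiCompact_of_surjective`
* `isFinite_of_etale_of_univSubmersive`
-/

set_option autoImplicit false
universe u
open CategoryTheory CategoryTheory.Limits AlgebraicGeometry MorphismProperty

namespace Groth.Agent.Lib.Helper89.SubmDescent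

open Groth.Agent.Lib.Helper89.EtaleDescent Topology

lemma isQuotientMap_snd {S S' T : Scheme.{u}} (g : S' ⟶ S) (hg : SGA1.UnivSubmersive g)
    (t : T ⟶ S) : IsQuotientMap (pullback.snd g t).base :=
  hg _ _ _ (IsPullback.of_hasPullback g t).flip

lemma isQuotientMap_fst {S S' T : Scheme.{u}} (g : S' ⟶ S) (hg : SGA1.UnivSubmersive g)
    (t : T ⟶ S) : IsQuotientMap (pullback.fst t g).base :=
  hg _ _ _ (IsPullback.of_hasPullback t g)

/-- Universal closedness descends along universally submersive morphisms. -/
theorem universallyClosed_of_univSubmersive' {X S S' : Scheme.{u}} (g : S' ⟶ S)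
    (hg : SGA1.UnivSubmersive g) (f : X ⟶ S) [UniversallyClosed (pullback.fst g f)] :
    UniversallyClosed f := by
  refine ⟨universally_mk' _ _ fun {T} t _ s hs ↦ ?_⟩
  let p := pullback.fst (pullback.fst g t) (pullback.fst g f)
  let r : pullback (pullback.fst g t) (pullback.fst g f) ⟶ pullback t f :=
    pullback.map _ _ _ _ (pullback.snd _ _) (pullback.snd _ _) g pullback.condition
      pullback.condition
  have : IsClosed ((pullback.snd g t).base ⁻¹' ((pullback.fst t f).base '' s)) := by
    rw [← Scheme.image_preimage_eq_of_isPullback (isPullback_map_snd_snd ..)]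
    exact p.isClosedMap _ (hs.preimage r.continuous)
  exact (isQuotientMap_snd g hg t).isClosed_preimage.mp this

theorem universallyClosed_of_univSubmersive {X S S' : Scheme.{u}} (g : S' ⟶ S)
    (hg : SGA1.UnivSubmersive g) (f : X ⟶ S) [UniversallyClosed (pullback.snd f g)] :
    UniversallyClosed f := by
  have : UniversallyClosed (pullback.fst g f) := by
    rw [← pullbackSymmetry_hom_comp_snd]
    infer_instance
  exact universallyClosed_of_univSubmersive' g hg f

/-- Separatedness descends along universally submersive morphisms. -/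
theorem isSeparated_of_univSubmersive {X S S' : Scheme.{u}} (g : S' ⟶ S)
    (hg : SGA1.UnivSubmersive g) (f : X ⟶ S) [IsSeparated (pullback.snd f g)] :
    IsSeparated f := by
  obtain ⟨p, hp⟩ : ∃ p : pullback f g ⟶ X, p = pullback.fst f g := ⟨_, rfl⟩
  obtain ⟨f', hf'⟩ : ∃ f' : pullback f g ⟶ S', f' = pullback.snd f g := ⟨_, rfl⟩
  have hsq : IsPullback p f' f g := by subst hp hf'; exact IsPullback.of_hasPullback f g
  have hf's : IsSeparated f' := by subst hf'; infer_instance
  obtain ⟨q, hq⟩ : ∃ q : pullback (pullback.snd f f) p ⟶ pullback f f,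
    q = pullback.fst _ _ := ⟨_, rfl⟩
  obtain ⟨a₂, ha₂⟩ : ∃ a₂ : pullback (pullback.snd f f) p ⟶ pullback f g,
    a₂ = pullback.snd _ _ := ⟨_, rfl⟩
  have hW : IsPullback q a₂ (pullback.snd f f) p := by
    subst hq ha₂; exact IsPullback.of_hasPullback _ _
  have hp_subm : SGA1.UnivSubmersive p := hp ▸ univSubmersive_fst g hg f
  have hqq : IsQuotientMap q.base := hq ▸ isQuotientMap_fst p hp_subm (pullback.snd f f)
  -- `a₂` is a base change of `f'`
  have h1 : IsPullback (q ≫ pullback.fst f f) a₂ f (p ≫ f) :=
    hW.paste_horiz (IsPullback.of_hasPullback f f)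
  rw [hsq.w] at h1
  obtain ⟨a₁, ha₁_fst, ha₁_snd⟩ : ∃ a₁ : pullback (pullback.snd f f) p ⟶ pullback f g,
      a₁ ≫ p = q ≫ pullback.fst f f ∧ a₁ ≫ f' = a₂ ≫ f' :=
    ⟨hsq.lift (q ≫ pullback.fst f f) (a₂ ≫ f') (by simpa only [Category.assoc] using h1.w),
      hsq.lift_fst _ _ _, hsq.lift_snd _ _ _⟩
  rw [← ha₁_fst] at h1
  have h2 : IsPullback a₁ a₂ f' f' := IsPullback.of_right h1 ha₁_snd hsq
  have ha₂s : IsSeparated a₂ := MorphismProperty.of_isPullback h2 hf's
  -- the base change of the diagonal
  obtain ⟨s, hs⟩ : ∃ s : pullback q (pullback.diagonal f) ⟶ pullback (pullback.snd f f) p,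
    s = pullback.fst _ _ := ⟨_, rfl⟩
  have hP : IsPullback s (pullback.snd q (pullback.diagonal f)) q (pullback.diagonal f) := by
    subst hs; exact IsPullback.of_hasPullback _ _
  have h3 := hP.paste_horiz hW.flip
  rw [pullback.diagonal_snd] at h3
  have hiso : IsIso (s ≫ a₂) := h3.isIso_fst_of_isIso
  have hsc : IsClosedImmersion s := IsClosedImmersion.of_comp s a₂
  have hrange : Set.range s.base = q.base ⁻¹' Set.range (pullback.diagonal f).base := by
    subst hs; exact Scheme.Pullback.range_fst _ _
  have hcl : IsClosed (Set.range (pullback.diagonal f).base) := by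
    rw [← hqq.isClosed_preimage, ← hrange]
    exact s.isClosedEmbedding.isClosed_range
  exact ⟨IsClosedImmersion.of_isPreimmersion _ hcl⟩

/-- Quasi-compactness descends along surjective quasi-compact morphisms. -/
theorem quasiCompact_of_surjective {X S S' : Scheme.{u}} (g : S' ⟶ S) [QuasiCompact g]
    (hgs : Function.Surjective g.base) (f : X ⟶ S) [QuasiCompact (pullback.snd f g)] :
    QuasiCompact f := by
  refine ⟨fun U hU hUc ↦ ?_⟩
  have h1 : IsCompact ((pullback.snd f g).base ⁻¹' (g.base ⁻¹' U)) :=
    QuasiCompact.isCompact_preimage _ (hU.preimage g.continuous)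
      (QuasiCompact.isCompact_preimage _ hU hUc)
  have h2 : (pullback.fst f g).base '' ((pullback.snd f g).base ⁻¹' (g.base ⁻¹' U)) =
      f.base ⁻¹' U := by
    ext x
    constructor
    · rintro ⟨z, hz, rfl⟩
      change f.base ((pullback.fst f g).base z) ∈ U
      rw [← Scheme.Hom.comp_apply, pullback.condition, Scheme.Hom.comp_apply]
      exact hz
    · intro hx
      obtain ⟨y, hy⟩ := hgs (f.base x)
      obtain ⟨z, hz1, hz2⟩ := Scheme.Pullback.exists_preimage_pullback x y hy.symm
      refine ⟨z, ?_, hz1⟩
      change g.base ((pullback.snd f g).base z) ∈ U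
      rw [hz2, hy]
      exact hx
  rw [← h2]
  exact h1.image (pullback.fst f g).continuous

/-- SGA1 IX / Rydh: an étale morphism whose base change along a quasi-compact universally
submersive morphism is finite, is finite. -/
theorem isFinite_of_etale_of_univSubmersive {X S S' : Scheme.{u}} (g : S' ⟶ S)
    [QuasiCompact g] (hg : SGA1.UnivSubmersive g) (f : X ⟶ S) [Etale f]
    [IsFinite (pullback.snd f g)] : IsFinite f := by
  have hgs : Function.Surjective g.base := (hg _ _ _ (IsPullback.id_vert g)).surjective
  have : UniversallyClosed f := universallyClosed_of_univSubmersive g hg f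
  have : IsSeparated f := isSeparated_of_univSubmersive g hg f
  have : QuasiCompact f := quasiCompact_of_surjective g hgs f
  have : LocallyQuasiFinite f := locallyQuasiFinite_of_etale f
  have : IsProper f := {}
  exact IsFinite.of_isProper_of_locallyQuasiFinite f

end Groth.Agent.Lib.Helper89.SubmDescent
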