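import Groth.Agent.Lib.Helper89.ThickFEt

/-!
# Topological invariance of finite étale covers: models and transition maps

For `f : T ⟶ S` a surjective closed immersion and `w : W ⟶ T` finite étale, a `Model f w` is a
finite étale `q : Z ⟶ S` together with a pullback square exhibiting `w` as the base change of `q`.
Models are unique up to unique isomorphism, and compatible with base change.
-/

set_option autoImplicit false
set_option linter.style.haveILetI false
universe u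
open AlgebraicGeometry CategoryTheory CategoryTheory.Limits MorphismProperty

namespace Groth.Agent.Lib.Helper89.ThickFEt

/-- A finite étale `S`-scheme whose base change along `f` is `w`. -/
structure Model {S T W : Scheme.{u}} (f : T ⟶ S) (w : W ⟶ T) where
  Z : Scheme.{u}
  q : Z ⟶ S
  a : W ⟶ Z
  fin : IsFinite q
  et : Etale q
  sq : IsPullback a w q f

namespace Model

variable {S T W : Scheme.{u}} {f : T ⟶ S} {w : W ⟶ T}

lemma surjective_a [Surjective f] (M : Model f w) : Surjective M.a :=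
  MorphismProperty.of_isPullback M.sq.flip inferInstance

theorem hom_unique [Surjective f] (M₁ M₂ : Model f w) (ψ ψ' : M₁.Z ⟶ M₂.Z)
    (h1 : ψ ≫ M₂.q = M₁.q) (h2 : M₁.a ≫ ψ = M₂.a)
    (h1' : ψ' ≫ M₂.q = M₁.q) (h2' : M₁.a ≫ ψ' = M₂.a) : ψ = ψ' := by
  haveI := M₁.surjective_a
  haveI := M₂.et
  exact eq_of_surjective_comp_eq M₁.a ψ ψ' M₂.q (h1.trans h1'.symm) (h2.trans h2'.symm)

theorem exists_hom [IsClosedImmersion f] [Surjective f] (M₁ M₂ : Model f w) :
    ∃ ψ : M₁.Z ⟶ M₂.Z, ψ ≫ M₂.q = M₁.q ∧ M₁.a ≫ ψ = M₂.a := by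
  haveI := M₁.fin
  haveI := M₁.et
  haveI := M₂.fin
  haveI := M₂.et
  obtain ⟨ψ, h1, h2⟩ := FEtFF.exists_descent f (clopenInj_of_thickening f)
    (clopenSurj_of_thickening f) M₁.q M₂.q (M₁.sq.isoPullback.inv ≫ M₂.sq.isoPullback.hom)
    (by rw [Category.assoc, M₂.sq.isoPullback_hom_snd, M₁.sq.isoPullback_inv_snd])
  refine ⟨ψ, h1, ?_⟩
  rw [← M₁.sq.isoPullback_hom_fst, Category.assoc, h2, Category.assoc, Iso.hom_inv_id_assoc,
    M₂.sq.isoPullback_hom_fst]

theorem exists_iso [IsClosedImmersion f] [Surjective f] (M₁ M₂ : Model f w) :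
    ∃ ψ : M₁.Z ⟶ M₂.Z, IsIso ψ ∧ ψ ≫ M₂.q = M₁.q ∧ M₁.a ≫ ψ = M₂.a := by
  obtain ⟨ψ, h1, h2⟩ := exists_hom M₁ M₂
  obtain ⟨ψ', h1', h2'⟩ := exists_hom M₂ M₁
  refine ⟨ψ, ⟨ψ', ?_, ?_⟩, h1, h2⟩
  · exact hom_unique M₁ M₁ _ _ (by rw [Category.assoc, h1', h1])
      (by rw [← Category.assoc, h2, h2']) (Category.id_comp _) (Category.comp_id _)
  · exact hom_unique M₂ M₂ _ _ (by rw [Category.assoc, h1, h1'])
      (by rw [← Category.assoc, h2', h2]) (Category.id_comp _) (Category.comp_id _)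

end Model

section Transition

variable {SU TU WU SV TV WV : Scheme.{u}} {fU : TU ⟶ SU} {wU : WU ⟶ TU}
  {fV : TV ⟶ SV} {wV : WV ⟶ TV} {jS : SU ⟶ SV} {jT : TU ⟶ TV} {jW : WU ⟶ WV}

theorem transition_unique [Surjective fU] (MU : Model fU wU) (MV : Model fV wV)
    (t t' : MU.Z ⟶ MV.Z) (h1 : t ≫ MV.q = MU.q ≫ jS) (h2 : MU.a ≫ t = jW ≫ MV.a)
    (h1' : t' ≫ MV.q = MU.q ≫ jS) (h2' : MU.a ≫ t' = jW ≫ MV.a) : t = t' := by
  haveI := MU.surjective_a
  haveI := MV.et
  exact eq_of_surjective_comp_eq MU.a t t' MV.q (h1.trans h1'.symm) (h2.trans h2'.symm)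

theorem exists_transition [IsClosedImmersion fU] [Surjective fU]
    (sqT : IsPullback jT fU fV jS) (sqW : IsPullback jW wU wV jT)
    (MU : Model fU wU) (MV : Model fV wV) :
    ∃ t : MU.Z ⟶ MV.Z, t ≫ MV.q = MU.q ≫ jS ∧ MU.a ≫ t = jW ≫ MV.a ∧
      IsPullback t MU.q MV.q jS := by
  haveI := MV.fin
  haveI := MV.et
  -- the base change of `MV` along `jS`
  have hcomm : (jW ≫ MV.a) ≫ MV.q = (wU ≫ fU) ≫ jS := by
    rw [Category.assoc, MV.sq.w, ← Category.assoc, sqW.w, Category.assoc, sqT.w, Category.assoc]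
  let aP : WU ⟶ pullback MV.q jS := pullback.lift (jW ≫ MV.a) (wU ≫ fU) hcomm
  have haP1 : aP ≫ pullback.fst MV.q jS = jW ≫ MV.a := pullback.lift_fst _ _ _
  have haP2 : aP ≫ pullback.snd MV.q jS = wU ≫ fU := pullback.lift_snd _ _ _
  have big : IsPullback (jW ≫ MV.a) wU MV.q (jT ≫ fV) := sqW.paste_horiz MV.sq
  have big' : IsPullback (aP ≫ pullback.fst MV.q jS) wU MV.q (fU ≫ jS) := by
    rw [haP1, ← sqT.w]; exact big
  have sqP : IsPullback aP wU (pullback.snd MV.q jS) fU :=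
    IsPullback.of_right big' haP2 (IsPullback.of_hasPullback MV.q jS)
  let MP : Model fU wU :=
    { Z := pullback MV.q jS
      q := pullback.snd MV.q jS
      a := aP
      fin := inferInstance
      et := inferInstance
      sq := sqP }
  obtain ⟨ψ, hψ, h1, h2⟩ := Model.exists_iso MU MP
  change ψ ≫ pullback.snd MV.q jS = MU.q at h1
  change MU.a ≫ ψ = aP at h2
  refine ⟨ψ ≫ pullback.fst MV.q jS, ?_, ?_, ?_⟩
  · rw [Category.assoc, pullback.condition, ← Category.assoc, h1]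
  · rw [← Category.assoc, h2, haP1]
  · exact IsPullback.of_iso_pullback
      ⟨by rw [Category.assoc, pullback.condition, ← Category.assoc, h1]⟩ (asIso ψ) rfl h1

end Transition

end Groth.Agent.Lib.Helper89.ThickFEt
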