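import Groth.Agent.Lib.Helper89.ThickFEt2
import Mathlib.AlgebraicGeometry.RelativeGluing

/-!
# Topological invariance of finite étale covers: gluing the local models

For `i : X ⟶ X'` a surjective closed immersion and `p : Y ⟶ X` finite étale, we choose for every
affine open `U'` of `X'` a model over `U'` of the restriction of `Y` (affine case, henselian pairs),
glue them along the unique transition maps using Mathlib's `RelativeGluingData` over the directed
cover of `X'` by all affine opens, and identify the base change of the result with `Y`.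

Main result: `exists_global_model`.
-/

set_option autoImplicit false
set_option linter.style.haveILetI false
universe u
open AlgebraicGeometry CategoryTheory CategoryTheory.Limits MorphismProperty

namespace Groth.Agent.Lib.Helper89.ThickFEt

/-- The transition maps of a pulled back locally directed cover are base changes of the
original transition maps. -/
lemma isPullback_trans_pullbackHom {X Y : Scheme.{u}} (𝒰 : X.OpenCover) [Category 𝒰.I₀]
    [𝒰.LocallyDirected] (f : Y ⟶ X) {i j : 𝒰.I₀} (h : i ⟶ j) :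
    IsPullback (Scheme.Cover.trans (𝒰.pullback₁ f) h) (𝒰.pullbackHom f i) (𝒰.pullbackHom f j)
      (𝒰.trans h) := by
  have h1 : Scheme.Cover.trans (𝒰.pullback₁ f) h ≫ pullback.fst f (𝒰.f j) =
      pullback.fst f (𝒰.f i) := by
    change pullback.map f (𝒰.f i) f (𝒰.f j) (𝟙 _) (𝒰.trans h) (𝟙 _) (by simp) (by simp) ≫ _ = _
    rw [pullback.lift_fst, Category.comp_id]
  have h2 : Scheme.Cover.trans (𝒰.pullback₁ f) h ≫ pullback.snd f (𝒰.f j) =
      pullback.snd f (𝒰.f i) ≫ 𝒰.trans h := by
    change pullback.map f (𝒰.f i) f (𝒰.f j) (𝟙 _) (𝒰.trans h) (𝟙 _) (by simp) (by simp) ≫ _ = _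
    rw [pullback.lift_snd]
  refine IsPullback.of_right ?_ h2 (IsPullback.of_hasPullback f (𝒰.f j))
  rw [h1, 𝒰.trans_map h]
  exact IsPullback.of_hasPullback f (𝒰.f i)

section Glue

variable {X X' Y : Scheme.{u}} (i : X ⟶ X') (p : Y ⟶ X)

/-- The index category: affine opens of `X'`. -/
abbrev Idx (X' : Scheme.{u}) : Type u := X'.directedAffineCover.I₀

/-- The cover of `X` by the preimages of the affine opens of `X'`. -/
noncomputable abbrev cX : X.OpenCover := X'.directedAffineCover.pullback₁ i

/-- The cover of `Y` by the preimages of the affine opens of `X'`. -/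
noncomputable abbrev cY : Y.OpenCover := (cX i).pullback₁ p

/-- The affine open `U'` as a scheme. -/
abbrev SU (U' : Idx X') : Scheme.{u} := X'.directedAffineCover.X U'

/-- The inclusion of `U'`. -/
abbrev ιS (U' : Idx X') : SU U' ⟶ X' := X'.directedAffineCover.f U'

/-- Transition maps. -/
noncomputable abbrev trS {U' V' : Idx X'} (h : U' ⟶ V') : SU U' ⟶ SU V' := X'.directedAffineCover.trans h

/-- The preimage of `U'` in `X`. -/
noncomputable def TU (U' : Idx X') : Scheme.{u} := pullback i (ιS U')

noncomputable def ιT (U' : Idx X') : TU i U' ⟶ X := pullback.fst i (ιS U')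

noncomputable def fU (U' : Idx X') : TU i U' ⟶ SU U' := pullback.snd i (ιS U')

noncomputable def trT {U' V' : Idx X'} (h : U' ⟶ V') : TU i U' ⟶ TU i V' :=
  Scheme.Cover.trans (cX i) h

/-- The preimage of `U'` in `Y`. -/
noncomputable def WU (U' : Idx X') : Scheme.{u} := pullback p (ιT i U')

noncomputable def ιW (U' : Idx X') : WU i p U' ⟶ Y := pullback.fst p (ιT i U')

noncomputable def wU (U' : Idx X') : WU i p U' ⟶ TU i U' := pullback.snd p (ιT i U')

noncomputable def trW {U' V' : Idx X'} (h : U' ⟶ V') : WU i p U' ⟶ WU i p V' :=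
  Scheme.Cover.trans (cY i p) h

lemma sqT_base (U' : Idx X') : IsPullback (ιT i U') (fU i U') i (ιS U') :=
  IsPullback.of_hasPullback i (ιS U')

lemma sqW_base (U' : Idx X') : IsPullback (ιW i p U') (wU i p U') p (ιT i U') :=
  IsPullback.of_hasPullback p (ιT i U')

lemma trS_id (U' : Idx X') : trS (𝟙 U') = 𝟙 _ := Scheme.Cover.trans_id X'.directedAffineCover U'

lemma trS_comp {U' V' W' : Idx X'} (h : U' ⟶ V') (h' : V' ⟶ W') :
    trS (h ≫ h') = trS h ≫ trS h' := Scheme.Cover.trans_comp X'.directedAffineCover h h'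

lemma trW_id (U' : Idx X') : trW i p (𝟙 U') = 𝟙 _ := Scheme.Cover.trans_id (cY i p) U'

lemma trW_comp {U' V' W' : Idx X'} (h : U' ⟶ V') (h' : V' ⟶ W') :
    trW i p (h ≫ h') = trW i p h ≫ trW i p h' := Scheme.Cover.trans_comp (cY i p) h h'

lemma trW_ι {U' V' : Idx X'} (h : U' ⟶ V') : trW i p h ≫ ιW i p V' = ιW i p U' :=
  Scheme.Cover.trans_map (cY i p) h

lemma sqT_trans {U' V' : Idx X'} (h : U' ⟶ V') :
    IsPullback (trT i h) (fU i U') (fU i V') (trS h) :=
  isPullback_trans_pullbackHom X'.directedAffineCover i h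

lemma sqW_trans {U' V' : Idx X'} (h : U' ⟶ V') :
    IsPullback (trW i p h) (wU i p U') (wU i p V') (trT i h) :=
  @isPullback_trans_pullbackHom _ _ (cX i) inferInstance inferInstance p U' V' h

lemma homW_ext {Z : Scheme.{u}} (a b : Y ⟶ Z)
    (h : ∀ U' : Idx X', ιW i p U' ≫ a = ιW i p U' ≫ b) : a = b :=
  Scheme.Cover.hom_ext (cY i p) _ _ h

/-- Gluing morphisms out of `Y`. -/
noncomputable def glueW {Z : Scheme.{u}} (g : ∀ U' : Idx X', WU i p U' ⟶ Z)
    (h : ∀ {U' V' : Idx X'} (hUV : U' ⟶ V'), trW i p hUV ≫ g V' = g U') : Y ⟶ Z :=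
  Scheme.OpenCover.glueMorphismsOfLocallyDirected (cY i p) g h

lemma ι_glueW {Z : Scheme.{u}} (g : ∀ U' : Idx X', WU i p U' ⟶ Z)
    (h : ∀ {U' V' : Idx X'} (hUV : U' ⟶ V'), trW i p hUV ≫ g V' = g U') (U' : Idx X') :
    ιW i p U' ≫ glueW i p g h = g U' :=
  Scheme.OpenCover.map_glueMorphismsOfLocallyDirected (cY i p) g h U'

instance [IsClosedImmersion i] (U' : Idx X') : IsClosedImmersion (fU i U') :=
  inferInstanceAs (IsClosedImmersion (pullback.snd i _))

instance [Surjective i] (U' : Idx X') : Surjective (fU i U') :=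
  inferInstanceAs (Surjective (pullback.snd i _))

instance [IsFinite p] (U' : Idx X') : IsFinite (wU i p U') :=
  inferInstanceAs (IsFinite (pullback.snd p _))

instance [Etale p] (U' : Idx X') : Etale (wU i p U') :=
  inferInstanceAs (Etale (pullback.snd p _))

/-- A compatible family of local models. -/
structure Datum where
  M : ∀ U' : Idx X', Model (fU i U') (wU i p U')
  tr : ∀ {U' V' : Idx X'} (_ : U' ⟶ V'), (M U').Z ⟶ (M V').Z
  tr_q : ∀ {U' V' : Idx X'} (h : U' ⟶ V'), tr h ≫ (M V').q = (M U').q ≫ trS h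
  tr_a : ∀ {U' V' : Idx X'} (h : U' ⟶ V'), (M U').a ≫ tr h = trW i p h ≫ (M V').a
  tr_sq : ∀ {U' V' : Idx X'} (h : U' ⟶ V'), IsPullback (tr h) (M U').q (M V').q (trS h)

theorem nonempty_datum [IsClosedImmersion i] [Surjective i] [IsFinite p] [Etale p] :
    Nonempty (Datum i p) := by
  have hM : ∀ U' : Idx X', Nonempty (Model (fU i U') (wU i p U')) := by
    intro U'
    haveI : IsAffine (SU U') := U'.2
    obtain ⟨Z, q, a, h1, h2, h3⟩ := exists_model_of_isAffine (fU i U') (wU i p U')
    exact ⟨⟨Z, q, a, h1, h2, h3⟩⟩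
  let M := fun U' => (hM U').some
  have htr : ∀ {U' V' : Idx X'} (h : U' ⟶ V'),
      ∃ t : (M U').Z ⟶ (M V').Z, t ≫ (M V').q = (M U').q ≫ trS h ∧
        (M U').a ≫ t = trW i p h ≫ (M V').a ∧
        IsPullback t (M U').q (M V').q (trS h) := fun {U' V'} h =>
    exists_transition (sqT_trans i h) (sqW_trans i p h) (M U') (M V')
  choose tr h1 h2 h3 using @htr
  exact ⟨⟨M, @tr, @h1, @h2, @h3⟩⟩

namespace Datum

variable {i p} (D : Datum i p)

theorem tr_id [Surjective i] (U' : Idx X') : D.tr (𝟙 U') = 𝟙 _ :=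
  transition_unique (jS := trS (𝟙 U')) (jW := trW i p (𝟙 U')) (D.M U') (D.M U') _ _
    (D.tr_q _) (D.tr_a _)
    (by rw [trS_id]; simp) (by rw [trW_id]; simp)

theorem tr_comp [Surjective i] {U' V' W' : Idx X'} (h : U' ⟶ V')
    (h' : V' ⟶ W') : D.tr (h ≫ h') = D.tr h ≫ D.tr h' :=
  transition_unique (jS := trS (h ≫ h')) (jW := trW i p (h ≫ h')) (D.M U') (D.M W') _ _
    (D.tr_q _) (D.tr_a _)
    (by rw [trS_comp, Category.assoc, D.tr_q, ← Category.assoc, D.tr_q, Category.assoc])
    (by rw [trW_comp, ← Category.assoc, D.tr_a, Category.assoc, D.tr_a, Category.assoc])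

variable [Surjective i]

/-- The functor of local models. -/
noncomputable def functor : Idx X' ⥤ Scheme.{u} where
  obj U' := (D.M U').Z
  map h := D.tr h
  map_id := D.tr_id
  map_comp := D.tr_comp

/-- The structure maps of the local models. -/
noncomputable def natTrans :
    D.functor ⟶ X'.directedAffineCover.functorOfLocallyDirected where
  app U' := (D.M U').q
  naturality _ _ h := D.tr_q h

/-- The relative gluing datum of the local models. -/
noncomputable def gluingData :
    Scheme.Cover.RelativeGluingData X'.directedAffineCover where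
  functor := D.functor
  natTrans := D.natTrans
  equifibered := fun _ _ h => D.tr_sq h

/-- The glued scheme. -/
noncomputable abbrev G : Scheme.{u} := D.gluingData.glued

/-- The structure map of the glued scheme. -/
noncomputable abbrev g : D.G ⟶ X' := D.gluingData.toBase

/-- The inclusion of a local model into the glued scheme. -/
noncomputable abbrev ιG (U' : Idx X') : (D.M U').Z ⟶ D.G := colimit.ι D.gluingData.functor U'

lemma isPullback_ι (U' : Idx X') : IsPullback (D.M U').q (D.ιG U') (ιS U') D.g :=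
  D.gluingData.isPullback_natTrans_ι_toBase U'

lemma prop_g {P : MorphismProperty Scheme.{u}} [IsZariskiLocalAtTarget P]
    (hP : ∀ U' : Idx X', P (D.M U').q) : P D.g := by
  refine IsZariskiLocalAtTarget.of_openCover (P := P) X'.directedAffineCover fun U' => ?_
  have sq := (D.isPullback_ι U').flip
  have h1 : sq.isoPullback.hom ≫ X'.directedAffineCover.pullbackHom D.g U' = (D.M U').q :=
    sq.isoPullback_hom_snd
  have := hP U'
  rw [← h1] at this
  exact (P.cancel_left_of_respectsIso sq.isoPullback.hom _).mp this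

set_option backward.isDefEq.respectTransparency.types false in
instance : IsFinite D.g := D.prop_g (P := @IsFinite) fun U' => (D.M U').fin

set_option backward.isDefEq.respectTransparency.types false in
instance : Etale D.g := D.prop_g (P := @Etale) fun U' => (D.M U').et

lemma tr_ιG {U' V' : Idx X'} (h : U' ⟶ V') : D.tr h ≫ D.ιG V' = D.ιG U' :=
  colimit.w D.gluingData.functor h

lemma compat_A {U' V' : Idx X'} (h : U' ⟶ V') :
    trW i p h ≫ (D.M V').a ≫ D.ιG V' = (D.M U').a ≫ D.ιG U' := by
  rw [← Category.assoc, ← D.tr_a, Category.assoc, D.tr_ιG]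

/-- The map from `Y` to the glued scheme. -/
noncomputable def A : Y ⟶ D.G :=
  glueW i p (fun U' => (D.M U').a ≫ D.ιG U') D.compat_A

lemma ι_A (U' : Idx X') : ιW i p U' ≫ D.A = (D.M U').a ≫ D.ιG U' :=
  ι_glueW i p (fun U' => (D.M U').a ≫ D.ιG U') D.compat_A U'

lemma ι_g (U' : Idx X') : D.ιG U' ≫ D.g = (D.M U').q ≫ ιS U' :=
  D.gluingData.ι_toBase U'

lemma A_g : D.A ≫ D.g = p ≫ i := by
  refine homW_ext i p _ _ fun U' => ?_
  rw [← Category.assoc, D.ι_A, Category.assoc, D.ι_g, ← Category.assoc, (D.M U').sq.w,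
    ← Category.assoc, (sqW_base i p U').w, Category.assoc, Category.assoc, (sqT_base i U').w]

lemma sqStar (U' : Idx X') :
    IsPullback (D.M U').a (ιW i p U' ≫ p) (D.ιG U' ≫ D.g) i := by
  rw [D.ι_g, (sqW_base i p U').w]
  exact (D.M U').sq.paste_vert (sqT_base i U').flip

lemma sqCover (U' : Idx X') : IsPullback (ιW i p U') (D.M U').a D.A (D.ιG U') := by
  refine (IsPullback.of_right ?_ (D.ι_A U').symm (D.isPullback_ι U')).flip
  rw [(D.M U').sq.w, D.A_g]
  exact (sqW_base i p U').flip.paste_horiz (sqT_base i U').flip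

lemma sqLocal (U' : Idx X') :
    IsPullback (pullback.snd D.A (D.ιG U')) (pullback.fst D.A (D.ιG U') ≫ p)
      (D.ιG U' ≫ D.g) i := by
  refine IsPullback.of_iso (D.sqStar U') (D.sqCover U').isoPullback (Iso.refl _) (Iso.refl _)
    (Iso.refl _) ?_ ?_ ?_ ?_
  · rw [Iso.refl_hom, Category.comp_id]
    exact ((D.sqCover U').isoPullback_hom_snd).symm
  · rw [Iso.refl_hom, Category.comp_id, ← Category.assoc]
    congr 1
    exact ((D.sqCover U').isoPullback_hom_fst).symm
  · simp
  · simp

theorem isPullback_A : IsPullback D.A p D.g i :=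
  Scheme.isPullback_of_openCover D.A p D.g i D.gluingData.cover fun U' => D.sqLocal U'

end Datum

/-- Finite étale covers lift along a surjective closed immersion (square form). -/
theorem exists_global_model [IsClosedImmersion i] [Surjective i] [IsFinite p] [Etale p] :
    ∃ (G : Scheme.{u}) (g : G ⟶ X') (A : Y ⟶ G), IsFinite g ∧ Etale g ∧ IsPullback A p g i := by
  obtain ⟨D⟩ := nonempty_datum i p
  exact ⟨D.G, D.g, D.A, inferInstance, inferInstance, D.isPullback_A⟩

end Glue

end Groth.Agent.Lib.Helper89.ThickFEt
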