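import Groth.Agent.Lib.Helper89.BernoulliSign
import Groth.Agent.S17713

/-!
# Eventual sign of the Todd-product coefficient
-/

set_option autoImplicit false

namespace Groth.Agent.Lib.Helper89.ToddSign

open Groth.Agent.Lib.Helper89.BernoulliSign Polynomial

theorem neg_of_leading (n d : ℕ) (s : ℤ) (P : Polynomial ℚ) (hn : 2 ≤ n)
    (hP : P.natDegree ≤ n - 2) (hd : 1 ≤ d)
    (hsign : bernoulli' n < 0 ∨ (bernoulli' n = 0 ∧
      (2 * (s : ℚ) - d - n - 1) / 2 * bernoulli' (n - 1) < 0 ∧ 3 ≤ n)) :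
    ∃ P₀ : ℕ, ∀ p : ℕ, P₀ ≤ p →
      bernoulli' n * ((d : ℚ) * p) ^ n / (Nat.factorial n : ℚ) +
        (2 * (s : ℚ) - d - n - 1) / 2 * bernoulli' (n - 1) * ((d : ℚ) * p) ^ (n - 1) /
          (Nat.factorial (n - 1) : ℚ) + P.eval (p : ℚ) < 0 := by
  have hdq : (0 : ℚ) < d := by exact_mod_cast hd
  rcases hsign with hB | ⟨hB0, hB1, hn3⟩
  · set c : ℚ := bernoulli' n * (d : ℚ) ^ n / (Nat.factorial n : ℚ) with hc
    have hcneg : c < 0 := by
      rw [hc]
      apply div_neg_of_neg_of_pos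
      · exact mul_neg_of_neg_of_pos hB (pow_pos hdq n)
      · exact_mod_cast Nat.factorial_pos n
    set c₂ : ℚ := (2 * (s : ℚ) - d - n - 1) / 2 * bernoulli' (n - 1) * (d : ℚ) ^ (n - 1) /
      (Nat.factorial (n - 1) : ℚ) with hc₂
    let Q : Polynomial ℚ := C c₂ * X ^ (n - 1) + P
    have hQ : Q.natDegree < n := by
      have h1 : (C c₂ * X ^ (n - 1) : Polynomial ℚ).natDegree ≤ n - 1 :=
        natDegree_C_mul_X_pow_le c₂ (n - 1)
      have h2 := natDegree_add_le (C c₂ * X ^ (n - 1)) P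
      have h3 : Q.natDegree ≤ max (n - 1) (n - 2) := h2.trans (max_le_max h1 hP)
      have h4 : max (n - 1) (n - 2) < n := by
        rw [max_lt_iff]; omega
      exact lt_of_le_of_lt h3 h4
    obtain ⟨P₀, hP₀⟩ := eventually_neg c hcneg n (by omega) Q hQ
    refine ⟨P₀, fun p hp => ?_⟩
    have h := hP₀ p hp
    have e : c * (p : ℚ) ^ n + Q.eval (p : ℚ) =
        bernoulli' n * ((d : ℚ) * p) ^ n / (Nat.factorial n : ℚ) +
        (2 * (s : ℚ) - d - n - 1) / 2 * bernoulli' (n - 1) * ((d : ℚ) * p) ^ (n - 1) /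
          (Nat.factorial (n - 1) : ℚ) + P.eval (p : ℚ) := by
      change c * (p : ℚ) ^ n + (C c₂ * X ^ (n - 1) + P).eval (p : ℚ) = _
      rw [eval_add, eval_mul, eval_C, eval_pow, eval_X, hc, hc₂, mul_pow, mul_pow]
      ring
    rw [← e]
    exact h
  · set c : ℚ := (2 * (s : ℚ) - d - n - 1) / 2 * bernoulli' (n - 1) * (d : ℚ) ^ (n - 1) /
      (Nat.factorial (n - 1) : ℚ) with hc
    have hcneg : c < 0 := by
      rw [hc]
      apply div_neg_of_neg_of_pos
      · exact mul_neg_of_neg_of_pos hB1 (pow_pos hdq (n - 1))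
      · exact_mod_cast Nat.factorial_pos (n - 1)
    have hQ : P.natDegree < n - 1 := by omega
    obtain ⟨P₀, hP₀⟩ := eventually_neg c hcneg (n - 1) (by omega) P hQ
    refine ⟨P₀, fun p hp => ?_⟩
    have h := hP₀ p hp
    have e : c * (p : ℚ) ^ (n - 1) + P.eval (p : ℚ) =
        bernoulli' n * ((d : ℚ) * p) ^ n / (Nat.factorial n : ℚ) +
        (2 * (s : ℚ) - d - n - 1) / 2 * bernoulli' (n - 1) * ((d : ℚ) * p) ^ (n - 1) /
          (Nat.factorial (n - 1) : ℚ) + P.eval (p : ℚ) := by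
      rw [hB0, hc, mul_pow]
      ring
    rw [← e]
    exact h

end Groth.Agent.Lib.Helper89.ToddSign
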