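import Mathlib
import Groth.Prelude.Def_TwC

/-!
# Sheets of a locally constant scheme and clopen quasi-compact neighbourhoods (helper89)
-/

open AlgebraicGeometry CategoryTheory CategoryTheory.Limits TopologicalSpace

universe u

namespace Groth.Agent.Lib.Helper89.TwC1

lemma exists_component {I : Type u} {T : Scheme.{u}} (x : ↥(∐ fun _ : I => T)) :
    ∃ (i : I) (y : T), Sigma.ι (fun _ : I => T) i y = x := by
  obtain ⟨i, y, h⟩ := (sigmaOpenCover (fun _ : I => T)).exists_eq x
  exact ⟨i, y, h⟩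

/-- the range of a coproduct inclusion is closed -/
lemma isClosed_range_sigmaι {I : Type u} (T : Scheme.{u}) (i : I) :
    IsClosed (Set.range (Sigma.ι (fun _ : I => T) i)) := by
  rw [← isOpen_compl_iff]
  have : (Set.range (Sigma.ι (fun _ : I => T) i))ᶜ =
      ⋃ j ∈ {j : I | j ≠ i}, Set.range (Sigma.ι (fun _ : I => T) j) := by
    ext x
    simp only [Set.mem_compl_iff, Set.mem_iUnion, Set.mem_setOf_eq, exists_prop]
    constructor
    · intro hx
      obtain ⟨j, y, rfl⟩ := exists_component x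
      refine ⟨j, ?_, y, rfl⟩
      rintro rfl
      exact hx ⟨y, rfl⟩
    · rintro ⟨j, hj, y, rfl⟩ ⟨z, hz⟩
      have h1 := disjoint_opensRange_sigmaι (fun _ : I => T) j i hj
      rw [disjoint_iff, eq_bot_iff] at h1
      exact h1 ⟨⟨y, rfl⟩, ⟨z, hz⟩⟩
  rw [this]
  exact isOpen_biUnion fun j _ => (Sigma.ι (fun _ : I => T) j).isOpenEmbedding.isOpen_range

/-- a sheet through a point of the base change -/
theorem exists_sheet {S S' : Scheme.{u}} (R : Over S) (f : S' ⟶ S) (U : S'.Opens)
    (hU : IsClosed (U : Set S')) (I : Type u) (e : Red.bc (U.ι ≫ f) R ≅ TwC.const U I)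
    (x' : ↥(pullback R.hom f)) (hx' : (pullback.snd R.hom f) x' ∈ U) :
    ∃ c : (U : Scheme.{u}) ⟶ pullback R.hom f, IsOpenImmersion c ∧
      IsClosed (Set.range c) ∧ c ≫ pullback.snd R.hom f = U.ι ∧ x' ∈ Set.range c := by
  let b := pullback.fst (pullback.snd R.hom f) U.ι
  let φ := pullbackLeftPullbackSndIso R.hom f U.ι
  let k : (TwC.const (U : Scheme.{u}) I).left ⟶ pullback R.hom f := e.inv.left ≫ φ.inv ≫ b
  let k' : pullback (pullback.snd R.hom f) U.ι ⟶ (TwC.const (U : Scheme.{u}) I).left :=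
    φ.hom ≫ e.hom.left
  have hkk : k' ≫ k = b := by
    have h1 : e.hom.left ≫ e.inv.left = 𝟙 _ := by
      rw [← Over.comp_left, e.hom_inv_id]; rfl
    simp only [k, k', Category.assoc]
    rw [reassoc_of% h1, Iso.hom_inv_id_assoc]
  have hbrange : Set.range b = (pullback.snd R.hom f) ⁻¹' (U : Set S') := by
    have := Scheme.Pullback.range_fst (pullback.snd R.hom f) U.ι
    rw [this]
    congr 1
    exact Scheme.Opens.range_ι U
  obtain ⟨y, hy⟩ : x' ∈ Set.range b := by rw [hbrange]; exact hx'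
  obtain ⟨m, u, hu⟩ := exists_component (k' y)
  refine ⟨Sigma.ι (fun _ : I => (U : Scheme.{u})) m ≫ k, ?_, ?_, ?_, ?_⟩
  · infer_instance
  · -- closed range
    have hb : IsClosed (Set.range b) := by
      rw [hbrange]; exact hU.preimage (pullback.snd R.hom f).continuous
    have hbci : IsClosedImmersion b := IsClosedImmersion.of_isPreimmersion b hb
    have hq : IsIso (e.inv.left ≫ φ.inv) := inferInstance
    have : Set.range (Sigma.ι (fun _ : I => (U : Scheme.{u})) m ≫ k) =
        b '' ((e.inv.left ≫ φ.inv) '' Set.range (Sigma.ι (fun _ : I => (U : Scheme.{u})) m)) := by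
      ext z
      simp only [Set.mem_range, Set.mem_image, k]
      constructor
      · rintro ⟨w, rfl⟩
        exact ⟨_, ⟨_, ⟨w, rfl⟩, rfl⟩, by simp [Scheme.Hom.comp_apply]⟩
      · rintro ⟨_, ⟨_, ⟨w, rfl⟩, rfl⟩, rfl⟩
        exact ⟨w, by simp [Scheme.Hom.comp_apply]⟩
    rw [this]
    apply b.isClosedEmbedding.isClosedMap
    apply (e.inv.left ≫ φ.inv).isClosedMap
    exact isClosed_range_sigmaι _ m
  · have h1 : e.inv.left ≫ pullback.snd R.hom (U.ι ≫ f) = Sigma.desc fun _ : I => 𝟙 (U : Scheme.{u}) :=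
      Over.w e.inv
    simp only [k, b, Category.assoc]
    rw [pullback.condition, pullbackLeftPullbackSndIso_inv_snd_snd_assoc, reassoc_of% h1,
      Sigma.ι_desc_assoc, Category.id_comp]
  · refine ⟨u, ?_⟩
    rw [Scheme.Hom.comp_apply, hu, ← Scheme.Hom.comp_apply, hkk]
    exact hy

end Groth.Agent.Lib.Helper89.TwC1
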