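import Groth.Agent.Lib.Helper89.TwC9

/-!
# Structure theorem for quasi-isotrivial twisted constant schemes over an irreducible
geometrically unibranch base (helper89)
-/

open AlgebraicGeometry CategoryTheory CategoryTheory.Limits TopologicalSpace

universe u

namespace Groth.Agent.Lib.Helper89.TwC8

open Groth.Agent.Lib.Helper89 Groth.Agent.Lib.Helper89.TwC1

variable {S : Scheme.{u}} [IrreducibleSpace S]
  (hS : ∀ s : S, CAlg2.IsGeomUnibranch (S.presheaf.stalk s))
  (X : Over S) (hX : TwC.IsTwConst TwC.Topology.etale X)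

include hS hX in
theorem part2 (l : X.left) (hl : X.hom l = genericPoint S) :
    ∃ U : X.left.Opens, (U : Set X.left) = closure ({l} : Set X.left) ∧
      IsClosed (U : Set X.left) ∧ IsFinite (U.ι ≫ X.hom) ∧ Etale (U.ι ≫ X.hom) ∧
      Surjective (U.ι ≫ X.hom) := by
  obtain ⟨hsep, het, -⟩ := Groth.Agent.S19144.result X hX
  obtain ⟨hcomp1, hcomp2⟩ := component_data X.hom hS
  obtain ⟨Z, ⟨hZ, hlZ⟩, -⟩ := hcomp1 l
  obtain ⟨hZo, ξ, hξZ, hξη, hgen, huniq, hcl⟩ := hcomp2 Z hZ
  have hlξ : l = ξ := huniq l hlZ hl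
  let U : X.left.Opens := ⟨Z, hZo⟩
  have hZcl : IsClosed Z := isClosed_of_mem_irreducibleComponents Z hZ
  haveI : IsClosedImmersion U.ι := IsClosedImmersion.of_isPreimmersion _ (by
    rw [Scheme.Opens.range_ι]; exact hZcl)
  have hfin : IsFinite (U.ι ≫ X.hom) := by
    apply finite_of_clopen_irr hS X hX U.ι
    refine Set.Finite.subset (Set.finite_singleton (⟨l, hlZ⟩ : ↥U)) ?_
    intro u hu
    have hu' : (U.ι ≫ X.hom) u = genericPoint S := hu
    rw [Scheme.Hom.comp_apply] at hu'
    rw [Set.mem_singleton_iff]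
    apply Subtype.ext
    show U.ι u = l
    rw [hlξ]
    exact huniq (U.ι u) u.2 hu'
  refine ⟨U, by rw [hlξ]; exact hcl.symm, hZcl, hfin, inferInstance, ⟨fun s => ?_⟩⟩
  have hclosed : IsClosed (Set.range (U.ι ≫ X.hom)) := (U.ι ≫ X.hom).isClosedMap.isClosed_range
  have hηmem : genericPoint S ∈ Set.range (U.ι ≫ X.hom) :=
    ⟨⟨l, hlZ⟩, by rw [Scheme.Hom.comp_apply]; exact hl⟩
  have h1 : closure {genericPoint S} ⊆ Set.range (U.ι ≫ X.hom) :=
    hclosed.closure_subset_iff.mpr (Set.singleton_subset_iff.mpr hηmem)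
  rw [genericPoint_closure] at h1
  exact h1 (Set.mem_univ s)

include hS hX in
theorem structure_thm :
    (∀ x : X.left, ∃! l : X.left, X.hom.base l = genericPoint S ∧
      x ∈ closure ({l} : Set X.left)) ∧
    (∀ l : X.left, X.hom.base l = genericPoint S →
      ∃ U : X.left.Opens, (U : Set X.left) = closure ({l} : Set X.left) ∧
        IsClosed (U : Set X.left) ∧
        IsFinite (U.ι ≫ X.hom) ∧ Etale (U.ι ≫ X.hom) ∧ Surjective (U.ι ≫ X.hom)) ∧
    (∀ σ₁ σ₂ : S ⟶ X.left, σ₁ ≫ X.hom = 𝟙 S → σ₂ ≫ X.hom = 𝟙 S →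
      S.fromSpecResidueField (genericPoint S) ≫ σ₁ =
        S.fromSpecResidueField (genericPoint S) ≫ σ₂ → σ₁ = σ₂) ∧
    (∀ τ : Spec (S.residueField (genericPoint S)) ⟶ X.left,
      τ ≫ X.hom = S.fromSpecResidueField (genericPoint S) →
      ∃ σ : S ⟶ X.left, σ ≫ X.hom = 𝟙 S ∧ S.fromSpecResidueField (genericPoint S) ≫ σ = τ) := by
  obtain ⟨hsep, het, -⟩ := Groth.Agent.S19144.result X hX
  obtain ⟨hcomp1, hcomp2⟩ := component_data X.hom hS
  haveI : ConnectedSpace S := inferInstance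
  let pt : Spec (S.residueField (genericPoint S)) := IsLocalRing.closedPoint _
  refine ⟨?_, part2 hS X hX, ?_, ?_⟩
  · intro x
    obtain ⟨Z, ⟨hZ, hxZ⟩, hZu⟩ := hcomp1 x
    obtain ⟨hZo, ξ, hξZ, hξη, hgen, huniq, hcl⟩ := hcomp2 Z hZ
    refine ⟨ξ, ⟨hξη, specializes_iff_mem_closure.mp (hgen x hxZ)⟩, ?_⟩
    rintro l' ⟨hl'η, hxl'⟩
    obtain ⟨Z', ⟨hZ', hl'Z'⟩, -⟩ := hcomp1 l'
    have hZ'cl : IsClosed Z' := isClosed_of_mem_irreducibleComponents Z' hZ'
    have hxZ' : x ∈ Z' :=
      hZ'cl.closure_subset_iff.mpr (Set.singleton_subset_iff.mpr hl'Z') hxl'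
    have hZZ : Z' = Z := hZu Z' ⟨hZ', hxZ'⟩
    subst hZZ
    exact huniq l' hl'Z' hl'η
  · intro σ₁ σ₂ h1 h2 h
    apply section_unique X.hom σ₁ σ₂ h1 h2 (genericPoint S) (genericPoint S)
    have e1 : (S.fromSpecResidueField (genericPoint S) ≫ σ₁) pt =
        (S.fromSpecResidueField (genericPoint S) ≫ σ₂) pt := by rw [h]
    rw [Scheme.Hom.comp_apply, Scheme.Hom.comp_apply, Scheme.fromSpecResidueField_apply] at e1
    exact e1
  · intro τ hτ
    have hl : X.hom (τ pt) = genericPoint S := by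
      rw [← Scheme.Hom.comp_apply, hτ, Scheme.fromSpecResidueField_apply]
    obtain ⟨U, hUcl, hUclosed, hfin, het', hsurj⟩ := part2 hS X hX (τ pt) hl
    have hτrange : Set.range τ ⊆ Set.range U.ι := by
      rintro _ ⟨a, rfl⟩
      rw [Scheme.Opens.range_ι, hUcl, show a = pt from Subsingleton.elim _ _]
      exact subset_closure rfl
    let τU : Spec (S.residueField (genericPoint S)) ⟶ U := IsOpenImmersion.lift U.ι τ hτrange
    have hτU : τU ≫ U.ι = τ := IsOpenImmersion.lift_fac _ _ _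
    have hτUq : τU ≫ (U.ι ≫ X.hom) = S.fromSpecResidueField (genericPoint S) := by
      rw [← Category.assoc, hτU, hτ]
    let τ' : Spec (S.residueField (genericPoint S)) ⟶
        pullback (U.ι ≫ X.hom) (S.fromSpecResidueField (genericPoint S)) :=
      pullback.lift τU (𝟙 _) (by rw [hτUq, Category.id_comp])
    have hτ'snd : τ' ≫ pullback.snd (U.ι ≫ X.hom) (S.fromSpecResidueField (genericPoint S)) = 𝟙 _ :=
      pullback.lift_snd _ _ _
    have hτ'fst : τ' ≫ pullback.fst (U.ι ≫ X.hom) (S.fromSpecResidueField (genericPoint S)) = τU :=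
      pullback.lift_fst _ _ _
    have ho : IsOpenImmersion τ' := Sec.isOpenImmersion_section _ τ' hτ'snd
    haveI := Pi0.locallyQuasiFinite_of_etale X.hom
    have hinj : Function.Injective
        (pullback.fst (U.ι ≫ X.hom) (S.fromSpecResidueField (genericPoint S))) :=
      (pullback.fst (U.ι ≫ X.hom) (S.fromSpecResidueField (genericPoint S))).injective
    have hiso : IsIso τ' := by
      apply isIso_of_isOpenImmersion_of_opensRange_eq_top
      rw [eq_top_iff]
      intro w _
      refine ⟨pt, hinj ?_⟩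
      have hw : (U.ι ≫ X.hom)
          (pullback.fst (U.ι ≫ X.hom) (S.fromSpecResidueField (genericPoint S)) w) =
          genericPoint S := by
        rw [← Scheme.Hom.comp_apply, pullback.condition, Scheme.Hom.comp_apply,
          Scheme.fromSpecResidueField_apply]
      rw [Scheme.Hom.comp_apply] at hw
      have hu1 : τ pt ⤳ U.ι (pullback.fst (U.ι ≫ X.hom)
          (S.fromSpecResidueField (genericPoint S)) w) := by
        apply specializes_iff_mem_closure.mpr
        rw [← hUcl]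
        exact (pullback.fst (U.ι ≫ X.hom) (S.fromSpecResidueField (genericPoint S)) w).2
      have hu2 := Groth.Agent.Lib.Helper7.GUSch.eq_of_specializes_of_fibre X.hom (genericPoint S)
        (τ pt) _ hu1 hl hw
      apply U.ι.isOpenEmbedding.injective
      rw [← hu2]
      have e2 : (pullback.fst (U.ι ≫ X.hom) (S.fromSpecResidueField (genericPoint S))) (τ' pt) =
          τU pt := by
        rw [← Scheme.Hom.comp_apply, hτ'fst]
      rw [e2, ← Scheme.Hom.comp_apply, hτU]
    have hisoη : IsIso (pullback.snd (U.ι ≫ X.hom) (S.fromSpecResidueField (genericPoint S))) := by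
      have : IsIso (τ' ≫ pullback.snd (U.ι ≫ X.hom) (S.fromSpecResidueField (genericPoint S))) := by
        rw [hτ'snd]; infer_instance
      exact IsIso.of_isIso_comp_left τ' _
    have hrankη : (U.ι ≫ X.hom).finrank (genericPoint S) = 1 := by
      have h1 := Scheme.Hom.finrank_pullback_snd (U.ι ≫ X.hom)
        (S.fromSpecResidueField (genericPoint S)) pt
      rw [Scheme.fromSpecResidueField_apply] at h1
      rw [← h1, Scheme.Hom.finrank_eq_one_of_isIso]
      rfl
    have hrank : (U.ι ≫ X.hom).finrank = 1 := by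
      ext s
      have hlc := Scheme.Hom.isLocallyConstant_finrank (U.ι ≫ X.hom)
      rw [hlc.apply_eq_of_preconnectedSpace s (genericPoint S), hrankη]
      rfl
    have hq : IsIso (U.ι ≫ X.hom) := (Scheme.Hom.isIso_iff_finrank_eq (U.ι ≫ X.hom)).mpr hrank
    refine ⟨inv (U.ι ≫ X.hom) ≫ U.ι, ?_, ?_⟩
    · rw [Category.assoc, IsIso.inv_hom_id]
    · rw [← hτU, ← Category.assoc]
      congr 1
      rw [IsIso.comp_inv_eq, hτUq]

end Groth.Agent.Lib.Helper89.TwC8
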