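import Groth.Agent.Lib.Helper89.TwC1

/-!
# Clopen neighbourhoods quasi-compact over the base in an isotrivial twisted constant scheme
(helper89)
-/

open AlgebraicGeometry CategoryTheory CategoryTheory.Limits TopologicalSpace

universe u

namespace Groth.Agent.Lib.Helper89.TwC1

theorem exists_clopen_quasiCompact {S S' : Scheme.{u}} (R : Over S) (f : S' ⟶ S)
    [IsFinite f] [Etale f] [Surjective f]
    (hloc : ∀ s' : S', ∃ U : S'.Opens, s' ∈ U ∧ IsClosed (U : Set S') ∧
      ∃ I : Type u, Nonempty (Red.bc (U.ι ≫ f) R ≅ TwC.const U I))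
    (x : R.left) :
    ∃ W : R.left.Opens, x ∈ W ∧ IsClosed (W : Set R.left) ∧ QuasiCompact (W.ι ≫ R.hom) := by
  let π := pullback.fst R.hom f
  let p := pullback.snd R.hom f
  have hπfin : IsFinite π := inferInstance
  have hπet : Etale π := inferInstance
  have hπsurj : Surjective π := inferInstance
  have hF : (π ⁻¹' {x}).Finite := π.finite_preimage_singleton x
  have hsheet : ∀ x' : ↥(pullback R.hom f), ∃ (U : S'.Opens)
      (c : (U : Scheme.{u}) ⟶ pullback R.hom f), IsClosed (U : Set S') ∧ IsOpenImmersion c ∧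
        IsClosed (Set.range c) ∧ c ≫ p = U.ι ∧ x' ∈ Set.range c := by
    intro x'
    obtain ⟨U, hxU, hUc, I, ⟨e⟩⟩ := hloc (p x')
    obtain ⟨c, h1, h2, h3, h4⟩ := exists_sheet R f U hUc I e x' hxU
    exact ⟨U, c, hUc, h1, h2, h3, h4⟩
  choose U c hUc hc1 hc2 hc3 hc4 using hsheet
  let C : Set ↥(pullback R.hom f) := ⋃ x' ∈ π ⁻¹' {x}, Set.range (c x')
  have hCclosed : IsClosed C := hF.isClosed_biUnion fun x' _ => hc2 x'
  have hCopen : IsOpen C := isOpen_biUnion fun x' _ => (c x').isOpenEmbedding.isOpen_range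
  let Wset : Set R.left := (π '' Cᶜ)ᶜ
  have hWopen : IsOpen Wset := (π.isClosedMap _ hCopen.isClosed_compl).isOpen_compl
  have hWclosed : IsClosed Wset := (π.isOpenMap _ hCclosed.isOpen_compl).isClosed_compl
  have hpc : ∀ (x' : ↥(pullback R.hom f)) (u : ↥(U x')), p (c x' u) = (U x').ι u := by
    intro x' u
    rw [← Scheme.Hom.comp_apply, hc3]
  have hcond : ∀ y : ↥(pullback R.hom f), R.hom (π y) = f (p y) := by
    intro y
    rw [← Scheme.Hom.comp_apply, ← Scheme.Hom.comp_apply, pullback.condition]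
  refine ⟨⟨Wset, hWopen⟩, ?_, hWclosed, ?_⟩
  · rintro ⟨y, hy, hyx⟩
    exact hy (Set.mem_biUnion (show y ∈ π ⁻¹' {x} from hyx) (hc4 y))
  · rw [quasiCompact_iff_forall_isAffineOpen]
    intro V hV
    let W : R.left.Opens := ⟨Wset, hWopen⟩
    have hfV : IsCompact ((f ⁻¹ᵁ V : S'.Opens) : Set S') := (hV.preimage f).isCompact
    -- the compact pieces
    let Kx : ↥(pullback R.hom f) → Set ↥(pullback R.hom f) := fun x' =>
      (c x') '' ((U x').ι ⁻¹' ((f ⁻¹ᵁ V : S'.Opens) : Set S'))
    have hKx : ∀ x', IsCompact (Kx x') := by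
      intro x'
      apply IsCompact.image _ (c x').continuous
      have hce : Topology.IsClosedEmbedding (U x').ι :=
        ⟨(U x').ι.isEmbedding, by
          rw [Scheme.Opens.range_ι]; exact hUc x'⟩
      exact hce.isCompact_preimage hfV
    have hK : IsCompact (⋃ x' ∈ π ⁻¹' {x}, Kx x') := hF.isCompact_biUnion fun x' _ => hKx x'
    let K' : Set ↥(pullback R.hom f) := π ⁻¹' Wset ∩ ⋃ x' ∈ π ⁻¹' {x}, Kx x'
    have hK' : IsCompact K' := hK.inter_left (hWclosed.preimage π.continuous)
    have himg : W.ι '' (((W.ι ≫ R.hom) ⁻¹ᵁ V : W.toScheme.Opens) : Set W.toScheme) = π '' K' := by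
      ext z
      constructor
      · rintro ⟨w, hw, rfl⟩
        obtain ⟨y, hy⟩ := π.surjective (W.ι w)
        have hzW : W.ι w ∈ Wset := by
          have := Set.mem_range_self (f := W.ι) w
          rw [Scheme.Opens.range_ι] at this
          exact this
        have hyC : y ∈ C := by
          by_contra hyC
          exact (hy ▸ hzW) ⟨y, hyC, rfl⟩
        refine ⟨y, ⟨?_, ?_⟩, hy⟩
        · show π y ∈ Wset
          rw [hy]; exact hzW
        · obtain ⟨x', hx', u, hu⟩ := Set.mem_iUnion₂.mp hyC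
          refine Set.mem_iUnion₂.mpr ⟨x', hx', u, ?_, hu⟩
          show f ((U x').ι u) ∈ V
          rw [← hpc, hu, ← hcond, hy]
          have : (W.ι ≫ R.hom) w ∈ V := hw
          rwa [Scheme.Hom.comp_apply] at this
      · rintro ⟨y, ⟨hyW, hyK⟩, rfl⟩
        have hyW' : π y ∈ Set.range W.ι := by
          rw [Scheme.Opens.range_ι]; exact hyW
        obtain ⟨w, hw⟩ := hyW'
        refine ⟨w, ?_, hw⟩
        show (W.ι ≫ R.hom) w ∈ V
        rw [Scheme.Hom.comp_apply, hw, hcond]
        obtain ⟨x', hx', u, hu1, hu2⟩ := Set.mem_iUnion₂.mp hyK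
        rw [← hu2, hpc]
        exact hu1
    rw [W.ι.isOpenEmbedding.isInducing.isCompact_iff, himg]
    exact hK'.image π.continuous

end Groth.Agent.Lib.Helper89.TwC1
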