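import Groth.Agent.Lib.Helper89.TwC1

/-!
# Base change of a constant scheme is constant (helper89)
-/

open AlgebraicGeometry CategoryTheory CategoryTheory.Limits TopologicalSpace

universe u

namespace Groth.Agent.Lib.Helper89.TwC1

variable {T T' : Scheme.{u}} (I : Type u)

/-- structure map of the constant scheme -/
noncomputable abbrev dd (T : Scheme.{u}) (I : Type u) : (∐ fun _ : I => T) ⟶ T :=
  Sigma.desc fun _ : I => 𝟙 T

lemma ι_dd (i : I) : Sigma.ι (fun _ : I => T) i ≫ dd T I = 𝟙 T := by simp [dd]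

lemma dd_ι_apply (i : I) (y : T) : (dd T I) (Sigma.ι (fun _ : I => T) i y) = y := by
  rw [← Scheme.Hom.comp_apply, ι_dd]; rfl

lemma sigmaι_injective_index (i j : I) (y y' : T)
    (h : Sigma.ι (fun _ : I => T) i y = Sigma.ι (fun _ : I => T) j y') : i = j := by
  by_contra hij
  have h1 := disjoint_opensRange_sigmaι (fun _ : I => T) i j hij
  rw [disjoint_iff, eq_bot_iff] at h1
  exact h1 ⟨⟨y, rfl⟩, ⟨y', h.symm⟩⟩

/-- the `i`-th section of the base-changed constant scheme -/
noncomputable def ψι (g : T' ⟶ T) (i : I) : T' ⟶ pullback (dd T I) g :=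
  pullback.lift (g ≫ Sigma.ι (fun _ : I => T) i) (𝟙 T') (by
    rw [Category.assoc, ι_dd, Category.comp_id, Category.id_comp])

lemma ψι_fst (g : T' ⟶ T) (i : I) :
    ψι I g i ≫ pullback.fst (dd T I) g = g ≫ Sigma.ι (fun _ : I => T) i := pullback.lift_fst _ _ _

lemma ψι_snd (g : T' ⟶ T) (i : I) : ψι I g i ≫ pullback.snd (dd T I) g = 𝟙 T' :=
  pullback.lift_snd _ _ _

lemma isPullback_ψι (g : T' ⟶ T) (i : I) :
    IsPullback (ψι I g i) g (pullback.fst (dd T I) g) (Sigma.ι (fun _ : I => T) i) := by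
  refine IsPullback.of_right ?_ (ψι_fst I g i) (IsPullback.of_hasPullback (dd T I) g).flip
  rw [ψι_snd, ι_dd]
  exact IsPullback.of_id_fst

instance (g : T' ⟶ T) (i : I) : IsOpenImmersion (ψι I g i) :=
  MorphismProperty.of_isPullback (isPullback_ψι I g i).flip inferInstance

lemma range_ψι (g : T' ⟶ T) (i : I) :
    Set.range (ψι I g i) =
      (pullback.fst (dd T I) g) ⁻¹' Set.range (Sigma.ι (fun _ : I => T) i) := by
  have h := isPullback_ψι I g i
  have h1 : ψι I g i = h.isoPullback.hom ≫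
      pullback.fst (pullback.fst (dd T I) g) (Sigma.ι (fun _ : I => T) i) := by
    rw [IsPullback.isoPullback_hom_fst]
  rw [← Scheme.Pullback.range_fst, h1]
  ext w
  simp only [Set.mem_range, Scheme.Hom.comp_apply]
  constructor
  · rintro ⟨t, rfl⟩
    exact ⟨_, rfl⟩
  · rintro ⟨v, rfl⟩
    obtain ⟨t, rfl⟩ := h.isoPullback.hom.surjective v
    exact ⟨t, rfl⟩

/-- comparison map from the constant scheme to the base change -/
noncomputable def ψ (g : T' ⟶ T) : (∐ fun _ : I => T') ⟶ pullback (dd T I) g :=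
  Sigma.desc fun i => ψι I g i

lemma ψ_snd (g : T' ⟶ T) : ψ I g ≫ pullback.snd (dd T I) g = dd T' I := by
  apply Sigma.hom_ext
  intro i
  simp only [ψ, Sigma.ι_desc_assoc, ψι_snd, dd, Sigma.ι_desc]

open scoped Function in
instance isIso_ψ (g : T' ⟶ T) : IsIso (ψ I g) := by
  have h1 : IsOpenImmersion (ψ I g) := by
    apply isOpenImmersion_sigmaDesc
    intro i j hij
    rw [Function.onFun, Set.disjoint_iff]
    rintro w ⟨⟨t, ht⟩, ⟨t', ht'⟩⟩
    apply hij
    have e1 : (pullback.fst (dd T I) g) w = Sigma.ι (fun _ : I => T) i (g t) := by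
      rw [← ht, ← Scheme.Hom.comp_apply, ψι_fst, Scheme.Hom.comp_apply]
    have e2 : (pullback.fst (dd T I) g) w = Sigma.ι (fun _ : I => T) j (g t') := by
      rw [← ht', ← Scheme.Hom.comp_apply, ψι_fst, Scheme.Hom.comp_apply]
    exact sigmaι_injective_index I i j _ _ (e1.symm.trans e2)
  apply isIso_of_isOpenImmersion_of_opensRange_eq_top
  rw [eq_top_iff]
  intro w _
  obtain ⟨i, y, hy⟩ := exists_component ((pullback.fst (dd T I) g) w)
  have hw : w ∈ Set.range (ψι I g i) := by
    rw [range_ψι]; exact ⟨y, hy⟩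
  obtain ⟨t, rfl⟩ := hw
  refine ⟨Sigma.ι (fun _ : I => T') i t, ?_⟩
  rw [← Scheme.Hom.comp_apply]
  simp only [ψ, Sigma.ι_desc]

/-- base change of a constant scheme is constant -/
noncomputable def constBC (g : T' ⟶ T) :
    (Over.pullback g).obj (TwC.const T I) ≅ TwC.const T' I :=
  (Over.isoMk (asIso (ψ I g)) (by
    simp only [asIso_hom]
    exact ψ_snd I g)).symm

/-- a trivialisation can be restricted along any morphism -/
noncomputable def trivBC {S : Scheme.{u}} (P : Over S) (f : T ⟶ S) (g : T' ⟶ T)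
    (e : Red.bc f P ≅ TwC.const T I) : Red.bc (g ≫ f) P ≅ TwC.const T' I :=
  (Over.pullbackComp g f).app P ≪≫ (Over.pullback g).mapIso e ≪≫ constBC I g

end Groth.Agent.Lib.Helper89.TwC1
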