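import Groth.Agent.Lib.Helper89.TwC3

/-!
# Clopen subschemes of a constant scheme over a connected base (helper89)
-/

open AlgebraicGeometry CategoryTheory CategoryTheory.Limits TopologicalSpace

universe u

namespace Groth.Agent.Lib.Helper89.TwC1

variable {T W : Scheme.{u}} {I : Type u}

/-- over a connected base, a clopen subscheme of a constant scheme is a union of sheets -/
theorem exists_sheets [ConnectedSpace T] (c : W ⟶ ∐ fun _ : I => T) [IsOpenImmersion c]
    (hc : IsClosed (Set.range c)) :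
    ∃ J : Set I, ∀ (i : I) (t : T), Sigma.ι (fun _ : I => T) i t ∈ Set.range c ↔ i ∈ J := by
  refine ⟨{i | ∃ t : T, Sigma.ι (fun _ : I => T) i t ∈ Set.range c}, fun i t => ⟨fun h => ⟨t, h⟩, ?_⟩⟩
  rintro ⟨t₀, ht₀⟩
  let A : Set T := (Sigma.ι (fun _ : I => T) i) ⁻¹' Set.range c
  have hA : IsClopen A :=
    ⟨hc.preimage (Sigma.ι (fun _ : I => T) i).continuous,
      c.isOpenEmbedding.isOpen_range.preimage (Sigma.ι (fun _ : I => T) i).continuous⟩
  have : A = Set.univ := hA.eq_univ ⟨t₀, ht₀⟩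
  have ht : t ∈ A := by rw [this]; trivial
  exact ht

theorem fibre_finite_iff (c : W ⟶ ∐ fun _ : I => T) [IsOpenImmersion c] (J : Set I)
    (hJ : ∀ (i : I) (t : T), Sigma.ι (fun _ : I => T) i t ∈ Set.range c ↔ i ∈ J) (t : T) :
    ((c ≫ dd T I) ⁻¹' {t}).Finite ↔ J.Finite := by
  have hinj : Function.Injective c := c.isOpenEmbedding.injective
  have himg : c '' ((c ≫ dd T I) ⁻¹' {t}) = (fun i => Sigma.ι (fun _ : I => T) i t) '' J := by
    ext w
    constructor
    · rintro ⟨v, hv, rfl⟩
      obtain ⟨i, y, hy⟩ := exists_component (c v)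
      have hv' : (dd T I) (c v) = t := by
        have : (c ≫ dd T I) v = t := hv
        rwa [Scheme.Hom.comp_apply] at this
      rw [← hy, dd_ι_apply] at hv'
      subst hv'
      exact ⟨i, (hJ i y).mp ⟨v, hy.symm⟩, hy⟩
    · rintro ⟨i, hi, rfl⟩
      obtain ⟨v, hv⟩ := (hJ i t).mpr hi
      refine ⟨v, ?_, hv⟩
      show (c ≫ dd T I) v = t
      rw [Scheme.Hom.comp_apply, hv, dd_ι_apply]
  have hinj2 : Set.InjOn (fun i => Sigma.ι (fun _ : I => T) i t) J := by
    intro i _ j _ hij
    exact sigmaι_injective_index I i j t t hij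
  rw [← Set.finite_image_iff hinj.injOn, himg, Set.finite_image_iff hinj2]

theorem quasiCompact_of_finite (c : W ⟶ ∐ fun _ : I => T) [IsOpenImmersion c] (J : Set I)
    (hJ : ∀ (i : I) (t : T), Sigma.ι (fun _ : I => T) i t ∈ Set.range c ↔ i ∈ J)
    (hfin : J.Finite) : QuasiCompact (c ≫ dd T I) := by
  rw [quasiCompact_iff_forall_isAffineOpen]
  intro V hV
  have himg : c '' (((c ≫ dd T I) ⁻¹ᵁ V : W.Opens) : Set W) =
      ⋃ i ∈ J, (Sigma.ι (fun _ : I => T) i) '' (V : Set T) := by
    ext w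
    constructor
    · rintro ⟨v, hv, rfl⟩
      obtain ⟨i, y, hy⟩ := exists_component (c v)
      have hv' : (dd T I) (c v) ∈ V := by
        have : (c ≫ dd T I) v ∈ V := hv
        rwa [Scheme.Hom.comp_apply] at this
      rw [← hy, dd_ι_apply] at hv'
      exact Set.mem_iUnion₂.mpr ⟨i, (hJ i y).mp ⟨v, hy.symm⟩, y, hv', hy⟩
    · intro hw
      obtain ⟨i, hi, y, hy, rfl⟩ := Set.mem_iUnion₂.mp hw
      obtain ⟨v, hv⟩ := (hJ i y).mpr hi
      refine ⟨v, ?_, hv⟩
      show (c ≫ dd T I) v ∈ V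
      rw [Scheme.Hom.comp_apply, hv, dd_ι_apply]
      exact hy
  rw [c.isOpenEmbedding.isInducing.isCompact_iff, himg]
  exact hfin.isCompact_biUnion fun i _ => hV.isCompact.image (Sigma.ι (fun _ : I => T) i).continuous

/-- the base change of a clopen subscheme of a trivialised scheme, inside the constant scheme -/
theorem exists_clopen_in_const {S T Z : Scheme.{u}} (R : Over S) (z : Z ⟶ R.left)
    [IsClosedImmersion z] [IsOpenImmersion z] (t : T ⟶ S) (I : Type u)
    (e : Red.bc t R ≅ TwC.const T I) :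
    ∃ c : pullback (z ≫ R.hom) t ⟶ ∐ fun _ : I => T, IsClosedImmersion c ∧ IsOpenImmersion c ∧
      c ≫ dd T I = pullback.snd (z ≫ R.hom) t := by
  let z' : pullback (z ≫ R.hom) t ⟶ pullback R.hom t :=
    pullback.lift (pullback.fst (z ≫ R.hom) t ≫ z) (pullback.snd (z ≫ R.hom) t)
      (by rw [Category.assoc]; exact pullback.condition)
  have hz'1 : z' ≫ pullback.fst R.hom t = pullback.fst (z ≫ R.hom) t ≫ z := pullback.lift_fst _ _ _
  have hz'2 : z' ≫ pullback.snd R.hom t = pullback.snd (z ≫ R.hom) t := pullback.lift_snd _ _ _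
  have sqtop : IsPullback (pullback.fst (z ≫ R.hom) t) z' z (pullback.fst R.hom t) := by
    refine IsPullback.of_bot ?_ hz'1.symm (IsPullback.of_hasPullback R.hom t)
    rw [hz'2]
    exact IsPullback.of_hasPullback (z ≫ R.hom) t
  have hz'c : IsClosedImmersion z' := MorphismProperty.of_isPullback sqtop inferInstance
  have hz'o : IsOpenImmersion z' := MorphismProperty.of_isPullback sqtop inferInstance
  have : IsIso e.hom.left := (CategoryTheory.Over.forget _).map_isIso e.hom
  refine ⟨z' ≫ e.hom.left, inferInstance, inferInstance, ?_⟩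
  have := Over.w e.hom
  rw [Category.assoc]
  erw [this]
  exact hz'2

end Groth.Agent.Lib.Helper89.TwC1
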