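import Groth.Agent.Lib.Helper89.TwC4
import Groth.Agent.Lib.Helper25.TwConst
import Groth.Agent.Lib.Helper40.FpqcCov
import Groth.Agent.S5266
import Groth.Agent.S0084
import Groth.Agent.S2277
import Groth.Agent.Lib.Helper89.Pi0B

/-!
# A clopen subscheme of a quasi-isotrivial twisted constant scheme with one finite fibre is finite
(helper89)
-/

open AlgebraicGeometry CategoryTheory CategoryTheory.Limits TopologicalSpace

universe u

namespace Groth.Agent.Lib.Helper89.TwC1

theorem descendsAlong_isFinite_fppf :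
    MorphismProperty.DescendsAlong @IsFinite
      (@Surjective ⊓ @Flat ⊓ @LocallyOfFinitePresentation : MorphismProperty Scheme.{u}) := by
  haveI := Groth.Agent.S0084.result.{u}
  constructor
  intro A X Y Z fst snd f g sq hf hfst
  obtain ⟨⟨h1, h2⟩, h3⟩ := hf
  have hq : Groth.Agent.Lib.Helper40.FpqcCov.IsQCov f :=
    Groth.Agent.Lib.Helper40.FpqcCov.IsQCov.of_fppf f
  exact hq.descends @IsFinite sq hfst

theorem exists_local_triv {S : Scheme.{u}} [IsLocallyNoetherian S] (P : Over S)
    (hP : TwC.IsTwConst TwC.Topology.etale P) (s : S) :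
    ∃ (T : Scheme.{u}) (f₀ : T ⟶ S) (I : Type u) (_ : Red.bc f₀ P ≅ TwC.const T I),
      Etale f₀ ∧ QuasiCompact f₀ ∧ ConnectedSpace T ∧ s ∈ Set.range f₀ := by
  obtain ⟨S', f, hf, ⟨s', rfl⟩, I, ⟨e⟩⟩ := hP s
  haveI : IsLocallyNoetherian S' := LocallyOfFiniteType.isLocallyNoetherian f
  haveI : LocallyConnectedSpace S' := by
    apply Groth.Agent.S2277.result
    intro y
    obtain ⟨W, hW, hyW, -⟩ := exists_isAffineOpen_mem_and_subset (U := ⊤) (x := y) (by simp)
    refine ⟨(W : Set S'), W.isOpen.mem_nhds hyW, ?_⟩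
    haveI : IsNoetherianRing Γ(S', W) := IsLocallyNoetherian.component_noetherian ⟨W, hW⟩
    exact noetherianSpace_of_isAffineOpen W hW
  obtain ⟨W, hW, hs'W, -⟩ := exists_isAffineOpen_mem_and_subset (U := ⊤) (x := s') (by simp)
  let C : S'.Opens := ⟨connectedComponentIn (W : Set S') s', W.isOpen.connectedComponentIn⟩
  have hCconn : _root_.IsConnected (C : Set S') := isConnected_connectedComponentIn_iff.mpr hs'W
  have hCW : (C : Set S') ⊆ W := connectedComponentIn_subset _ _
  have hs'C : s' ∈ C := mem_connectedComponentIn hs'W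
  have hCcompact : IsCompact (C : Set S') := by
    haveI : IsNoetherianRing Γ(S', W) := IsLocallyNoetherian.component_noetherian ⟨W, hW⟩
    haveI : NoetherianSpace ↥W := noetherianSpace_of_isAffineOpen W hW
    have : (C : Set S') = Subtype.val '' ((Subtype.val : ↥W → S') ⁻¹' (C : Set S')) := by
      ext x
      constructor
      · intro hx
        exact ⟨⟨x, hCW hx⟩, hx, rfl⟩
      · rintro ⟨y, hy, rfl⟩
        exact hy
    rw [this]
    exact (NoetherianSpace.isCompact _).image continuous_subtype_val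
  haveI : CompactSpace ↥(C : Scheme.{u}) := isCompact_iff_compactSpace.mp hCcompact
  refine ⟨C, C.ι ≫ f, I, trivBC I P f C.ι e, inferInstance, inferInstance,
    isConnected_iff_connectedSpace.mp hCconn, ⟨⟨s', hs'C⟩, ?_⟩⟩
  rw [Scheme.Hom.comp_apply]
  rfl

theorem finite_of_clopen {S : Scheme.{u}} [IsLocallyNoetherian S] [ConnectedSpace S]
    (P : Over S) (hP : TwC.IsTwConst TwC.Topology.etale P)
    {Z : Scheme.{u}} (z : Z ⟶ P.left) [IsOpenImmersion z] [IsClosedImmersion z]
    (hs : ∃ s : S, Set.Finite ((z ≫ P.hom).base ⁻¹' {s})) :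
    IsFinite (z ≫ P.hom) := by
  choose T f₀ I e₀ hét hqc hconn hrange using exists_local_triv P hP
  have hc : ∀ s, ∃ c : pullback (z ≫ P.hom) (f₀ s) ⟶ ∐ fun _ : I s => T s,
      IsClosedImmersion c ∧ IsOpenImmersion c ∧
        c ≫ dd (T s) (I s) = pullback.snd (z ≫ P.hom) (f₀ s) :=
    fun s => exists_clopen_in_const P z (f₀ s) (I s) (e₀ s)
  choose c hc1 hc2 hc3 using hc
  have hJ : ∀ s, ∃ J : Set (I s), ∀ (i : I s) (t : T s),
      Sigma.ι (fun _ : I s => T s) i t ∈ Set.range (c s) ↔ i ∈ J := fun s => by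
    haveI := hconn s
    haveI := hc2 s
    haveI := hc1 s
    exact exists_sheets (c s) (c s).isClosedEmbedding.isClosed_range
  choose J hJ using hJ
  have hkey : ∀ s, ∀ t ∈ Set.range (f₀ s),
      ((z ≫ P.hom).base ⁻¹' {t}).Finite ↔ (J s).Finite := by
    rintro s t ⟨t', ht'⟩
    haveI := hc2 s
    haveI := hét s
    haveI := hqc s
    rw [← fibre_finite_iff (c s) (J s) (hJ s) t', hc3 s]
    constructor
    · intro hfin
      have hsub : (pullback.snd (z ≫ P.hom) (f₀ s)) ⁻¹' {t'} ⊆
          (pullback.fst (z ≫ P.hom) (f₀ s)) ⁻¹' ((z ≫ P.hom).base ⁻¹' {t}) := by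
        intro w hw
        have hw' : (pullback.snd (z ≫ P.hom) (f₀ s)) w = t' := hw
        show (z ≫ P.hom) ((pullback.fst (z ≫ P.hom) (f₀ s)) w) = t
        rw [← Scheme.Hom.comp_apply, pullback.condition, Scheme.Hom.comp_apply, hw', ht']
      refine Set.Finite.subset (Set.Finite.preimage' hfin fun y _ => ?_) hsub
      haveI := Groth.Agent.Lib.Helper89.Pi0.locallyQuasiFinite_of_etale
        (pullback.fst (z ≫ P.hom) (f₀ s))
      exact (pullback.fst (z ≫ P.hom) (f₀ s)).finite_preimage_singleton y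
    · intro hfin
      refine Set.Finite.subset (hfin.image (pullback.fst (z ≫ P.hom) (f₀ s))) ?_
      intro y hy
      have hy' : (z ≫ P.hom) y = t := hy
      obtain ⟨w, hw1, hw2⟩ := Scheme.Pullback.exists_preimage_pullback y t' (by rw [hy', ht'])
      exact ⟨w, hw2, hw1⟩
  let A : Set S := {t | ((z ≫ P.hom).base ⁻¹' {t}).Finite}
  have hopenrange : ∀ s, IsOpen (Set.range (f₀ s)) := fun s => by
    haveI := hét s
    exact (f₀ s).isOpenMap.isOpen_range
  have hAopen : IsOpen A := by
    rw [isOpen_iff_forall_mem_open]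
    intro s hsA
    refine ⟨Set.range (f₀ s), ?_, hopenrange s, hrange s⟩
    intro t ht
    exact (hkey s t ht).mpr ((hkey s s (hrange s)).mp hsA)
  have hAclosed : IsClosed A := by
    rw [← isOpen_compl_iff, isOpen_iff_forall_mem_open]
    intro s hsA
    refine ⟨Set.range (f₀ s), ?_, hopenrange s, hrange s⟩
    intro t ht htA
    exact hsA ((hkey s s (hrange s)).mpr ((hkey s t ht).mp htA))
  have hAuniv : A = Set.univ := IsClopen.eq_univ ⟨hAclosed, hAopen⟩ hs
  have hJfin : ∀ s, (J s).Finite := fun s => by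
    have hsA : s ∈ A := by rw [hAuniv]; trivial
    exact (hkey s s (hrange s)).mp hsA
  haveI := descendsAlong_isFinite_fppf.{u}
  apply Groth.Agent.Lib.Helper25.TwConst.of_etale_family @IsFinite (z ≫ P.hom)
  intro s
  refine ⟨T s, f₀ s, hét s, hrange s, ?_⟩
  haveI := hc1 s
  haveI := hc2 s
  haveI : QuasiCompact (c s ≫ Groth.Agent.S5266.dd (T s) (I s)) :=
    quasiCompact_of_finite (c s) (J s) (hJ s) (hJfin s)
  have := Groth.Agent.S5266.finite_dd_comp (c s)
  rw [← hc3 s]
  exact this

end Groth.Agent.Lib.Helper89.TwC1
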