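import Mathlib
import Groth.Agent.Lib.Helper7.GUSchIrr
import Groth.Agent.Lib.Helper69.GUTransport

/-!
# Local irreducibility of schemes étale over a locally noetherian geometrically unibranch base
(helper89)
-/

open AlgebraicGeometry CategoryTheory CategoryTheory.Limits TopologicalSpace

universe u

namespace Groth.Agent.Lib.Helper89.TwC6

/-- In a noetherian ring, if the localisation at `p` has prime nilradical then so has some
localisation away from an element outside `p`. -/
theorem exists_isPrime_nilradical_away {A : Type u} [CommRing A] [IsNoetherianRing A]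
    (p : Ideal A) [p.IsPrime] (Ap : Type u) [CommRing Ap] [Algebra A Ap]
    [IsLocalization.AtPrime Ap p] (hprime : (nilradical Ap).IsPrime) :
    ∃ h : A, h ∉ p ∧ (nilradical (Localization.Away h)).IsPrime := by
  classical
  let P : Ideal A := (nilradical Ap).comap (algebraMap A Ap)
  have hPprime : P.IsPrime := Ideal.comap_isPrime _ _
  have hPp : P ≤ p := by
    intro a ha
    have h1 : algebraMap A Ap a ∈ nilradical Ap := ha
    by_contra hap
    have h2 : IsUnit (algebraMap A Ap a) :=
      IsLocalization.map_units Ap (⟨a, hap⟩ : p.primeCompl)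
    have h3 : IsNilpotent (algebraMap A Ap a) := mem_nilradical.mp h1
    haveI : Nontrivial Ap := by
      haveI := IsLocalization.AtPrime.isLocalRing Ap p
      infer_instance
    exact h3.not_isUnit h2
  have hex : ∀ a ∈ P, ∃ u : A, u ∉ p ∧ ∃ n : ℕ, u * a ^ n = 0 := by
    intro a ha
    have h1 : IsNilpotent (algebraMap A Ap a) := mem_nilradical.mp ha
    obtain ⟨n, hn⟩ := h1
    rw [← map_pow] at hn
    obtain ⟨u, hu⟩ := (IsLocalization.map_eq_zero_iff p.primeCompl Ap (a ^ n)).mp hn
    exact ⟨u.1, u.2, n, hu⟩
  obtain ⟨s, hs⟩ := (IsNoetherian.noetherian P : P.FG)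
  have hsP : ∀ a ∈ s, a ∈ P := fun a ha => hs ▸ Ideal.subset_span ha
  choose! u hu1 hu2 using hex
  let h : A := ∏ a ∈ s, u a
  have hh : h ∉ p := by
    intro hmem
    obtain ⟨a, ha, hua⟩ := (Ideal.IsPrime.prod_mem_iff).mp hmem
    exact hu1 a (hsP a ha) hua
  refine ⟨h, hh, ?_⟩
  let φ := algebraMap A (Localization.Away h)
  have hdisj : Disjoint (Submonoid.powers h : Set A) (P : Set A) := by
    rw [Set.disjoint_left]
    rintro _ ⟨k, rfl⟩ hk
    exact hh (hPp (hPprime.mem_of_pow_mem k hk))
  have hmapprime : (P.map φ).IsPrime :=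
    IsLocalization.isPrime_of_isPrime_disjoint (Submonoid.powers h) (Localization.Away h) P
      hPprime hdisj
  have heq : nilradical (Localization.Away h) = P.map φ := by
    apply le_antisymm
    · exact nilradical_le_prime _
    · rw [← hs, Ideal.map_span, Ideal.span_le]
      rintro _ ⟨a, ha, rfl⟩
      obtain ⟨n, hn⟩ := hu2 a (hsP a ha)
      have hunit : IsUnit (φ (u a)) := by
        have h1 : IsUnit (φ h) := IsLocalization.Away.algebraMap_isUnit h
        have h2 : φ h = φ (u a) * φ (∏ b ∈ s.erase a, u b) := by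
          rw [← map_mul, Finset.mul_prod_erase s u ha]
        rw [h2] at h1
        exact isUnit_of_mul_isUnit_left h1
      have h3 : φ (u a) * φ a ^ n = 0 := by
        rw [← map_pow, ← map_mul, hn, map_zero]
      have h4 : φ a ^ n = 0 := (hunit.mul_right_eq_zero).mp h3
      exact mem_nilradical.mpr ⟨n, h4⟩
  rw [heq]
  exact hmapprime

variable {S : Scheme.{u}}

/-- a point with unibranch local ring in a locally noetherian scheme has an irreducible open
neighbourhood -/
theorem exists_irreducible_nhd [IsLocallyNoetherian S] (s : S)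
    (hs : (nilradical (S.presheaf.stalk s)).IsPrime) :
    ∃ V : S.Opens, s ∈ V ∧ IsIrreducible (V : Set S) := by
  obtain ⟨W, hW, hsW, -⟩ := exists_isAffineOpen_mem_and_subset (U := ⊤) (x := s) (by simp)
  haveI : IsNoetherianRing Γ(S, W) := IsLocallyNoetherian.component_noetherian ⟨W, hW⟩
  set p := (hW.primeIdealOf ⟨s, hsW⟩).asIdeal with hp
  letI alg : Algebra Γ(S, W) (S.presheaf.stalk s) := S.presheaf.algebra_section_stalk ⟨s, hsW⟩
  haveI : IsLocalization.AtPrime (S.presheaf.stalk s) p := hW.isLocalization_stalk ⟨s, hsW⟩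
  obtain ⟨h, hh, hprime⟩ := exists_isPrime_nilradical_away p (S.presheaf.stalk s) hs
  have hsh : s ∈ S.basicOpen h := by
    rw [S.mem_basicOpen h s hsW, ← Groth.Agent.Lib.Helper7.GUSch.notMem_primeIdealOf_iff s hW hsW]
    exact hh
  refine ⟨S.basicOpen h, hsh, ?_⟩
  haveI : IsLocalization.Away h Γ(S, S.basicOpen h) := hW.isLocalization_basicOpen h
  let eq : Localization.Away h ≃ₐ[Γ(S, W)] Γ(S, S.basicOpen h) :=
    IsLocalization.algEquiv (Submonoid.powers h) _ _
  have hprime' : (nilradical Γ(S, S.basicOpen h)).IsPrime := by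
    have h2 : nilradical Γ(S, S.basicOpen h) =
        (nilradical (Localization.Away h)).comap eq.symm.toRingEquiv.toRingHom := by
      ext x
      change IsNilpotent x ↔ IsNilpotent (eq.symm x)
      exact (IsNilpotent.map_iff eq.symm.injective).symm
    rw [h2]
    exact Ideal.comap_isPrime _ _
  exact Groth.Agent.Lib.Helper7.GUSch.isIrreducible_of_isPrime_nilradical (hW.basicOpen h) hprime'

end Groth.Agent.Lib.Helper89.TwC6
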