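import Groth.Agent.Lib.Helper89.TwC5
import Groth.Agent.Lib.Helper89.TwC6
import Groth.Agent.Lib.Helper89.Pi0D
import Groth.Agent.S19144

/-!
# Connected components of a quasi-isotrivial twisted constant scheme over a geometrically
unibranch locally noetherian base are open and finite (helper89)
-/

open AlgebraicGeometry CategoryTheory CategoryTheory.Limits TopologicalSpace

universe u

namespace Groth.Agent.Lib.Helper89.TwC1

open Groth.Agent.Lib.Helper89

theorem exists_generic_nhd {X S : Scheme.{u}} [IsLocallyNoetherian S] (f : X ⟶ S) [Etale f]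
    (hS : ∀ s : S, CAlg2.IsGeomUnibranch (S.presheaf.stalk s)) (z : X) :
    ∃ N : X.Opens, z ∈ N ∧ ∃ ξ ∈ N, ∀ w ∈ N, ξ ⤳ w := by
  have hnil : (nilradical (S.presheaf.stalk (f z))).IsPrime := by
    have h1 : IsDomain (CAlg2.red (S.presheaf.stalk (f z))) := (hS (f z)).1.1
    exact (Ideal.Quotient.isDomain_iff_prime _).mp h1
  obtain ⟨V, hzV, hVirr⟩ := TwC6.exists_irreducible_nhd (f z) hnil
  haveI : IrreducibleSpace ↥(V : Scheme.{u}) := Subtype.irreducibleSpace hVirr
  have hV' : ∀ y : ↥(V : Scheme.{u}),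
      CAlg2.IsGeomUnibranch ((V : Scheme.{u}).presheaf.stalk y) := fun y =>
    Groth.Agent.Lib.Helper69.GUTransport.isGeomUnibranch_of_ringEquiv
      (V.stalkIso y).symm.commRingCatIsoToRingEquiv (hS y.1)
  haveI : Etale (f ∣_ V) := inferInstance
  obtain ⟨N', hzN', ξ', hξN', -, hgen⟩ :=
    Groth.Agent.Lib.Helper7.GUSch.local_irreducible (f ∣_ V) hV' (⟨z, hzV⟩ : ↥(f ⁻¹ᵁ V))
  refine ⟨(f ⁻¹ᵁ V).ι ''ᵁ N', ⟨_, hzN', rfl⟩, (f ⁻¹ᵁ V).ι ξ', ⟨_, hξN', rfl⟩, ?_⟩
  rintro _ ⟨w, hw, rfl⟩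
  exact (hgen w hw).map (f ⁻¹ᵁ V).ι.continuous

theorem connectedComponent_subset_closure {X : Type*} [TopologicalSpace X] [T0Space X]
    (hloc : ∀ z : X, ∃ N : Set X, IsOpen N ∧ z ∈ N ∧ ∃ ξ ∈ N, ∀ w ∈ N, ξ ⤳ w) (x : X) :
    ∃ ξ₀, ξ₀ ⤳ x ∧ connectedComponent x ⊆ closure {ξ₀} := by
  choose N hNo hzN ξ hξN hgen using hloc
  refine ⟨ξ x, hgen x x (hzN x), ?_⟩
  have hBopen : IsOpen (closure {ξ x}) := by
    rw [isOpen_iff_forall_mem_open]
    intro w hw
    have hw' : ξ x ⤳ w := specializes_iff_mem_closure.mpr hw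
    have h1 : ξ x ∈ N w := hw'.mem_open (hNo w) (hzN w)
    have h2 : ξ w ⤳ ξ x := hgen w _ h1
    have h3 : ξ w ∈ N x := h2.mem_open (hNo x) (hξN x)
    have h4 : ξ x ⤳ ξ w := hgen x _ h3
    have h5 : ξ x = ξ w := (h4.antisymm h2).eq
    refine ⟨N w, ?_, hNo w, hzN w⟩
    intro v hv
    rw [h5]
    exact specializes_iff_mem_closure.mp (hgen w v hv)
  have hBclopen : IsClopen (closure {ξ x}) := ⟨isClosed_closure, hBopen⟩
  exact hBclopen.connectedComponent_subset (specializes_iff_mem_closure.mp (hgen x x (hzN x)))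

/-- version of `finite_of_clopen` without connectedness of the base -/
theorem clopen_and_finite {S : Scheme.{u}} [IsLocallyNoetherian S]
    (P : Over S) (hP : TwC.IsTwConst TwC.Topology.etale P)
    {Z : Scheme.{u}} (z : Z ⟶ P.left) [IsOpenImmersion z] [IsClosedImmersion z] :
    IsClopen {t : S | ((z ≫ P.hom).base ⁻¹' {t}).Finite} ∧
      ((∀ t : S, ((z ≫ P.hom).base ⁻¹' {t}).Finite) → IsFinite (z ≫ P.hom)) := by
  choose T f₀ I e₀ hét hqc hconn hrange using exists_local_triv P hP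
  have hc : ∀ s, ∃ c : pullback (z ≫ P.hom) (f₀ s) ⟶ ∐ fun _ : I s => T s,
      IsClosedImmersion c ∧ IsOpenImmersion c ∧
        c ≫ dd (T s) (I s) = pullback.snd (z ≫ P.hom) (f₀ s) :=
    fun s => exists_clopen_in_const P z (f₀ s) (I s) (e₀ s)
  choose c hc1 hc2 hc3 using hc
  have hJ : ∀ s, ∃ J : Set (I s), ∀ (i : I s) (t : T s),
      Sigma.ι (fun _ : I s => T s) i t ∈ Set.range (c s) ↔ i ∈ J := fun s => by
    haveI := hconn s
    haveI := hc2 s
    haveI := hc1 s
    exact exists_sheets (c s) (c s).isClosedEmbedding.isClosed_range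
  choose J hJ using hJ
  have hkey : ∀ s, ∀ t ∈ Set.range (f₀ s),
      ((z ≫ P.hom).base ⁻¹' {t}).Finite ↔ (J s).Finite := by
    rintro s t ⟨t', ht'⟩
    haveI := hc2 s
    haveI := hét s
    haveI := hqc s
    rw [← fibre_finite_iff (c s) (J s) (hJ s) t', hc3 s]
    constructor
    · intro hfin
      have hsub : (pullback.snd (z ≫ P.hom) (f₀ s)) ⁻¹' {t'} ⊆
          (pullback.fst (z ≫ P.hom) (f₀ s)) ⁻¹' ((z ≫ P.hom).base ⁻¹' {t}) := by
        intro w hw
        have hw' : (pullback.snd (z ≫ P.hom) (f₀ s)) w = t' := hw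
        show (z ≫ P.hom) ((pullback.fst (z ≫ P.hom) (f₀ s)) w) = t
        rw [← Scheme.Hom.comp_apply, pullback.condition, Scheme.Hom.comp_apply, hw', ht']
      refine Set.Finite.subset (Set.Finite.preimage' hfin fun y _ => ?_) hsub
      haveI := Groth.Agent.Lib.Helper89.Pi0.locallyQuasiFinite_of_etale
        (pullback.fst (z ≫ P.hom) (f₀ s))
      exact (pullback.fst (z ≫ P.hom) (f₀ s)).finite_preimage_singleton y
    · intro hfin
      refine Set.Finite.subset (hfin.image (pullback.fst (z ≫ P.hom) (f₀ s))) ?_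
      intro y hy
      have hy' : (z ≫ P.hom) y = t := hy
      obtain ⟨w, hw1, hw2⟩ := Scheme.Pullback.exists_preimage_pullback y t' (by rw [hy', ht'])
      exact ⟨w, hw2, hw1⟩
  have hopenrange : ∀ s, IsOpen (Set.range (f₀ s)) := fun s => by
    haveI := hét s
    exact (f₀ s).isOpenMap.isOpen_range
  have hAopen : IsOpen {t : S | ((z ≫ P.hom).base ⁻¹' {t}).Finite} := by
    rw [isOpen_iff_forall_mem_open]
    intro s hsA
    refine ⟨Set.range (f₀ s), ?_, hopenrange s, hrange s⟩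
    intro t ht
    exact (hkey s t ht).mpr ((hkey s s (hrange s)).mp hsA)
  have hAclosed : IsClosed {t : S | ((z ≫ P.hom).base ⁻¹' {t}).Finite} := by
    rw [← isOpen_compl_iff, isOpen_iff_forall_mem_open]
    intro s hsA
    refine ⟨Set.range (f₀ s), ?_, hopenrange s, hrange s⟩
    intro t ht htA
    exact hsA ((hkey s s (hrange s)).mpr ((hkey s t ht).mp htA))
  refine ⟨⟨hAclosed, hAopen⟩, fun hall => ?_⟩
  have hJfin : ∀ s, (J s).Finite := fun s => (hkey s s (hrange s)).mp (hall s)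
  haveI := descendsAlong_isFinite_fppf.{u}
  apply Groth.Agent.Lib.Helper25.TwConst.of_etale_family @IsFinite (z ≫ P.hom)
  intro s
  refine ⟨T s, f₀ s, hét s, hrange s, ?_⟩
  haveI := hc1 s
  haveI := hc2 s
  haveI : QuasiCompact (c s ≫ Groth.Agent.S5266.dd (T s) (I s)) :=
    quasiCompact_of_finite (c s) (J s) (hJ s) (hJfin s)
  have := Groth.Agent.S5266.finite_dd_comp (c s)
  rw [← hc3 s]
  exact this

theorem connectedComponent_finite {S : Scheme.{u}} [IsLocallyNoetherian S]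
    (hS : ∀ s : S, CAlg2.IsGeomUnibranch (S.presheaf.stalk s))
    (P : Over S) (hP : TwC.IsTwConst TwC.Topology.etale P) (x : P.left) :
    ∃ U : P.left.Opens, (U : Set P.left) = connectedComponent x ∧ IsFinite (U.ι ≫ P.hom) := by
  haveI hPet : Etale P.hom := (Groth.Agent.S19144.result P hP).2.1
  haveI : IsLocallyNoetherian P.left := LocallyOfFiniteType.isLocallyNoetherian P.hom
  have hopen : IsOpen (connectedComponent x) := Pi0.isOpen_connectedComponent' P.left x
  let U : P.left.Opens := ⟨connectedComponent x, hopen⟩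
  refine ⟨U, rfl, ?_⟩
  haveI : IsClosedImmersion U.ι := IsClosedImmersion.of_isPreimmersion _ (by
    rw [Scheme.Opens.range_ι]; exact isClosed_connectedComponent)
  obtain ⟨hAclopen, hfin⟩ := clopen_and_finite P hP U.ι
  apply hfin
  obtain ⟨ξ₀, hξx, hsub⟩ := connectedComponent_subset_closure (X := P.left) (fun z => by
    obtain ⟨N, h1, ξ, h2, h3⟩ := exists_generic_nhd P.hom hS z
    exact ⟨N, N.isOpen, h1, ξ, h2, h3⟩) x
  have hξ₀U : ξ₀ ∈ connectedComponent x := hξx.mem_open hopen mem_connectedComponent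
  haveI := Groth.Agent.Lib.Helper89.Pi0.locallyQuasiFinite_of_etale P.hom
  have hη : ((U.ι ≫ P.hom).base ⁻¹' {P.hom ξ₀}).Finite := by
    refine Set.Finite.subset (Set.finite_singleton (⟨ξ₀, hξ₀U⟩ : ↥U)) ?_
    intro u hu
    have hu' : (U.ι ≫ P.hom) u = P.hom ξ₀ := hu
    rw [Scheme.Hom.comp_apply] at hu'
    have h1 : ξ₀ ⤳ U.ι u := specializes_iff_mem_closure.mpr (hsub u.2)
    have h2 : ξ₀ = U.ι u :=
      Groth.Agent.Lib.Helper7.GUSch.eq_of_specializes_of_fibre P.hom (P.hom ξ₀) ξ₀ (U.ι u) h1 rfl hu'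
    rw [Set.mem_singleton_iff]
    exact Subtype.ext h2.symm
  have himg : _root_.IsPreconnected (P.hom '' connectedComponent x) :=
    isPreconnected_connectedComponent.image _ P.hom.continuous.continuousOn
  have hsubA : P.hom '' connectedComponent x ⊆
      {t : S | ((U.ι ≫ P.hom).base ⁻¹' {t}).Finite} :=
    himg.subset_isClopen hAclopen ⟨P.hom ξ₀, ⟨ξ₀, hξ₀U, rfl⟩, hη⟩
  intro t
  by_cases ht : t ∈ P.hom '' connectedComponent x
  · exact hsubA ht
  · convert Set.finite_empty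
    rw [Set.eq_empty_iff_forall_notMem]
    intro u hu
    have hu' : (U.ι ≫ P.hom) u = t := hu
    rw [Scheme.Hom.comp_apply] at hu'
    exact ht ⟨U.ι u, u.2, hu'⟩

end Groth.Agent.Lib.Helper89.TwC1
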