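import Groth.Agent.Lib.Helper89.TwC7
import Groth.Agent.Lib.Helper89.Sec1

/-!
# Twisted constant schemes over an irreducible geometrically unibranch base: finiteness of
clopen pieces with finite generic fibre (helper89)
-/

open AlgebraicGeometry CategoryTheory CategoryTheory.Limits TopologicalSpace

universe u

namespace Groth.Agent.Lib.Helper89.TwC8

open Groth.Agent.Lib.Helper89 Groth.Agent.Lib.Helper89.TwC1

/-- two sections of an étale separated morphism over a connected base which meet are equal -/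
theorem section_unique {P T : Scheme.{u}} [ConnectedSpace T] (p : P ⟶ T) [Etale p] [IsSeparated p]
    (σ σ' : T ⟶ P) (hσ : σ ≫ p = 𝟙 T) (hσ' : σ' ≫ p = 𝟙 T) (a b : T) (hab : σ a = σ' b) :
    σ = σ' := by
  have ho : IsOpenImmersion σ' := Sec.isOpenImmersion_section p σ' hσ'
  have hc : IsClosed (Set.range σ') := Sec.isClosed_range_section p σ' hσ'
  let E : Set T := σ ⁻¹' Set.range σ'
  have hE : IsClopen E := ⟨hc.preimage σ.continuous,
    σ'.isOpenEmbedding.isOpen_range.preimage σ.continuous⟩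
  have hEu : E = Set.univ := hE.eq_univ ⟨a, b, hab.symm⟩
  have hsub : Set.range σ ⊆ Set.range σ' := by
    rintro _ ⟨c, rfl⟩
    have : c ∈ E := by rw [hEu]; trivial
    exact this
  have hl := IsOpenImmersion.lift_fac σ' σ hsub
  have h1 : IsOpenImmersion.lift σ' σ hsub = 𝟙 T := by
    have := congrArg (· ≫ p) hl
    simp only [Category.assoc, hσ, hσ', Category.comp_id] at this
    exact this
  rw [h1, Category.id_comp] at hl
  exact hl.symm

/-- finiteness of the fibres of the base change of a morphism `W ⟶ V ⟶ S` with `W ⟶ V` étale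
between affines and `V ⟶ S` an open immersion -/
theorem finite_fibre_fst {S W V Z' : Scheme.{u}} (a : W ⟶ V) [Etale a] [QuasiCompact a] (j : V ⟶ S)
    [IsOpenImmersion j] (g : Z' ⟶ S) (y : Z') :
    ((pullback.fst g (a ≫ j)) ⁻¹' {y}).Finite := by
  let φ := pullbackLeftPullbackSndIso g j a
  have hφ : φ.hom ≫ pullback.fst g (a ≫ j) =
      pullback.fst (pullback.snd g j) a ≫ pullback.fst g j := pullbackLeftPullbackSndIso_hom_fst g j a
  have h1 : ((pullback.fst (pullback.snd g j) a ≫ pullback.fst g j) ⁻¹' {y}).Finite := by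
    have h2 : ((pullback.fst g j) ⁻¹' {y}).Finite := by
      apply Set.Subsingleton.finite
      intro u hu v hv
      exact (pullback.fst g j).isOpenEmbedding.injective (hu.trans hv.symm)
    have h3 : (pullback.fst (pullback.snd g j) a ≫ pullback.fst g j) ⁻¹' {y} =
        (pullback.fst (pullback.snd g j) a) ⁻¹' ((pullback.fst g j) ⁻¹' {y}) := by
      ext w
      simp only [Set.mem_preimage, Set.mem_singleton_iff, Scheme.Hom.comp_apply]
    rw [h3]
    refine Set.Finite.preimage' h2 fun v _ => ?_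
    haveI := Pi0.locallyQuasiFinite_of_etale (pullback.fst (pullback.snd g j) a)
    exact (pullback.fst (pullback.snd g j) a).finite_preimage_singleton v
  have h4 : (pullback.fst g (a ≫ j)) ⁻¹' {y} =
      φ.hom '' ((pullback.fst (pullback.snd g j) a ≫ pullback.fst g j) ⁻¹' {y}) := by
    ext w
    constructor
    · intro hw
      refine ⟨φ.inv w, ?_, ?_⟩
      · show (pullback.fst (pullback.snd g j) a ≫ pullback.fst g j) (φ.inv w) = y
        rw [← hφ, ← Scheme.Hom.comp_apply, Iso.inv_hom_id_assoc]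
        exact hw
      · rw [← Scheme.Hom.comp_apply, Iso.inv_hom_id]; rfl
    · rintro ⟨v, hv, rfl⟩
      show (pullback.fst g (a ≫ j)) (φ.hom v) = y
      rw [← Scheme.Hom.comp_apply, hφ]
      exact hv
  rw [h4]
  exact h1.image _

theorem exists_local_triv_irr {S : Scheme.{u}} [IrreducibleSpace S]
    (hS : ∀ s : S, CAlg2.IsGeomUnibranch (S.presheaf.stalk s))
    (P : Over S) (hP : TwC.IsTwConst TwC.Topology.etale P) (s : S) :
    ∃ (T : Scheme.{u}) (f₀ : T ⟶ S) (I : Type u) (_ : Red.bc f₀ P ≅ TwC.const T I),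
      Etale f₀ ∧ ConnectedSpace T ∧ s ∈ Set.range f₀ ∧
        ∀ {Z' : Scheme.{u}} (g : Z' ⟶ S) (y : Z'), ((pullback.fst g f₀) ⁻¹' {y}).Finite := by
  obtain ⟨S', f, hf, ⟨s', rfl⟩, I, ⟨e⟩⟩ := hP s
  obtain ⟨V, hV, hsV, -⟩ := exists_isAffineOpen_mem_and_subset (U := ⊤) (x := f s') (by simp)
  obtain ⟨N, hs'N, ξ, hξN, -, hgen⟩ := Groth.Agent.Lib.Helper7.GUSch.local_irreducible f hS s'
  obtain ⟨W, hW, hs'W, hWsub⟩ := exists_isAffineOpen_mem_and_subset (U := N ⊓ f ⁻¹ᵁ V) (x := s')
    ⟨hs'N, hsV⟩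
  have hWN : ∀ w ∈ W, w ∈ N := fun w hw => (hWsub hw).1
  have hWV : ∀ w ∈ W, f w ∈ V := fun w hw => (hWsub hw).2
  have hξW : ξ ∈ W := (hgen s' hs'N).mem_open W.isOpen hs'W
  have hWirr : IsIrreducible (W : Set S') := by
    refine ⟨⟨ξ, hξW⟩, ?_⟩
    have h1 : IsPreirreducible (closure ({ξ} : Set S')) := isIrreducible_singleton.closure.2
    exact h1.open_subset W.isOpen
      (fun w hw => specializes_iff_mem_closure.mp (hgen w (hWN w hw)))
  have hWconn : ConnectedSpace ↥(W : Scheme.{u}) :=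
    isConnected_iff_connectedSpace.mp hWirr.isConnected
  have hrange : Set.range (W.ι ≫ f) ⊆ Set.range V.ι := by
    rintro _ ⟨w, rfl⟩
    rw [Scheme.Opens.range_ι, Scheme.Hom.comp_apply]
    exact hWV _ w.2
  let a : (W : Scheme.{u}) ⟶ V := IsOpenImmersion.lift V.ι (W.ι ≫ f) hrange
  have ha : a ≫ V.ι = W.ι ≫ f := IsOpenImmersion.lift_fac _ _ _
  haveI : IsAffine (W : Scheme.{u}) := hW
  haveI : IsAffine (V : Scheme.{u}) := hV
  have haet : Etale a := by
    have : Etale (a ≫ V.ι) := by rw [ha]; infer_instance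
    exact MorphismProperty.of_postcomp (W := @Etale) (W' := @Etale) a V.ι inferInstance this
  refine ⟨W, W.ι ≫ f, I, trivBC I P f W.ι e, inferInstance, hWconn, ⟨⟨s', hs'W⟩, ?_⟩, ?_⟩
  · rw [Scheme.Hom.comp_apply]; rfl
  · intro Z' g y
    rw [← ha]
    exact finite_fibre_fst a V.ι g y

end Groth.Agent.Lib.Helper89.TwC8
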