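import Groth.Agent.Lib.Helper89.TwC8

/-!
# Structure of quasi-isotrivial twisted constant schemes over an irreducible geometrically
unibranch base (helper89)
-/

open AlgebraicGeometry CategoryTheory CategoryTheory.Limits TopologicalSpace

universe u

namespace Groth.Agent.Lib.Helper89.TwC8

open Groth.Agent.Lib.Helper89 Groth.Agent.Lib.Helper89.TwC1

/-- a clopen subscheme with finite generic fibre is finite over the base -/
theorem finite_of_clopen_irr {S : Scheme.{u}} [IrreducibleSpace S]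
    (hS : ∀ s : S, CAlg2.IsGeomUnibranch (S.presheaf.stalk s))
    (P : Over S) (hP : TwC.IsTwConst TwC.Topology.etale P)
    {Z : Scheme.{u}} (z : Z ⟶ P.left) [IsOpenImmersion z] [IsClosedImmersion z]
    (hη : ((z ≫ P.hom).base ⁻¹' {genericPoint S}).Finite) :
    IsFinite (z ≫ P.hom) := by
  choose T f₀ I e₀ hét hconn hrange hff using exists_local_triv_irr hS P hP
  have hc : ∀ s, ∃ c : pullback (z ≫ P.hom) (f₀ s) ⟶ ∐ fun _ : I s => T s,
      IsClosedImmersion c ∧ IsOpenImmersion c ∧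
        c ≫ dd (T s) (I s) = pullback.snd (z ≫ P.hom) (f₀ s) :=
    fun s => exists_clopen_in_const P z (f₀ s) (I s) (e₀ s)
  choose c hc1 hc2 hc3 using hc
  have hJ : ∀ s, ∃ J : Set (I s), ∀ (i : I s) (t : T s),
      Sigma.ι (fun _ : I s => T s) i t ∈ Set.range (c s) ↔ i ∈ J := fun s => by
    haveI := hconn s
    haveI := hc2 s
    haveI := hc1 s
    exact exists_sheets (c s) (c s).isClosedEmbedding.isClosed_range
  choose J hJ using hJ
  have hopenrange : ∀ s, IsOpen (Set.range (f₀ s)) := fun s => by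
    haveI := hét s
    exact (f₀ s).isOpenMap.isOpen_range
  have hηrange : ∀ s, genericPoint S ∈ Set.range (f₀ s) := fun s =>
    ((genericPoint_spec S).mem_open_set_iff (hopenrange s)).mpr
      ⟨s, Set.mem_univ _, hrange s⟩
  have hJfin : ∀ s, (J s).Finite := by
    intro s
    obtain ⟨t', ht'⟩ := hηrange s
    haveI := hc2 s
    rw [← fibre_finite_iff (c s) (J s) (hJ s) t', hc3 s]
    have hsub : (pullback.snd (z ≫ P.hom) (f₀ s)) ⁻¹' {t'} ⊆
        (pullback.fst (z ≫ P.hom) (f₀ s)) ⁻¹' ((z ≫ P.hom).base ⁻¹' {genericPoint S}) := by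
      intro w hw
      have hw' : (pullback.snd (z ≫ P.hom) (f₀ s)) w = t' := hw
      show (z ≫ P.hom) ((pullback.fst (z ≫ P.hom) (f₀ s)) w) = genericPoint S
      rw [← Scheme.Hom.comp_apply, pullback.condition, Scheme.Hom.comp_apply, hw', ht']
    exact Set.Finite.subset (Set.Finite.preimage' hη fun y _ => hff s (z ≫ P.hom) y) hsub
  haveI := descendsAlong_isFinite_fppf.{u}
  apply Groth.Agent.Lib.Helper25.TwConst.of_etale_family @IsFinite (z ≫ P.hom)
  intro s
  refine ⟨T s, f₀ s, hét s, hrange s, ?_⟩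
  haveI := hc1 s
  haveI := hc2 s
  haveI : QuasiCompact (c s ≫ Groth.Agent.S5266.dd (T s) (I s)) :=
    quasiCompact_of_finite (c s) (J s) (hJ s) (hJfin s)
  have := Groth.Agent.S5266.finite_dd_comp (c s)
  rw [← hc3 s]
  exact this

/-- the irreducible components of a scheme étale over an irreducible geometrically unibranch base -/
theorem component_data {X S : Scheme.{u}} [IrreducibleSpace S] (f : X ⟶ S) [Etale f]
    (hS : ∀ s : S, CAlg2.IsGeomUnibranch (S.presheaf.stalk s)) :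
    (∀ x : X, ∃! Z, Z ∈ irreducibleComponents X ∧ x ∈ Z) ∧
    ∀ Z ∈ irreducibleComponents X, IsOpen Z ∧ ∃ ξ ∈ Z, f ξ = genericPoint S ∧
      (∀ w ∈ Z, ξ ⤳ w) ∧ (∀ l ∈ Z, f l = genericPoint S → l = ξ) ∧ closure {ξ} = Z := by
  obtain ⟨h1, h2⟩ := Groth.Agent.Lib.Helper7.GUSch.components_of_etale f hS
  refine ⟨h1, fun Z hZ => ?_⟩
  obtain ⟨hZo, l₀, ⟨hl₀Z, hl₀η⟩, hl₀u⟩ := h2 Z hZ
  have hZirr : IsIrreducible Z := hZ.1
  have hZcl : IsClosed Z := isClosed_of_mem_irreducibleComponents Z hZ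
  obtain ⟨ξ, hξN, hξη, hgen⟩ :=
    Groth.Agent.Lib.Helper7.GUSch.exists_generic_of_isIrreducible f ⟨Z, hZo⟩ hZirr
  refine ⟨hZo, ξ, hξN, hξη, hgen, ?_, ?_⟩
  · intro l hl hlη
    rw [hl₀u l ⟨hl, hlη⟩, hl₀u ξ ⟨hξN, hξη⟩]
  · apply Set.Subset.antisymm
    · exact hZcl.closure_subset_iff.mpr (Set.singleton_subset_iff.mpr hξN)
    · intro w hw
      exact specializes_iff_mem_closure.mp (hgen w hw)

end Groth.Agent.Lib.Helper89.TwC8
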